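import Mathlib.RepresentationTheory.Character
import Mathlib.Analysis.Complex.Basic
import Mathlib.GroupTheory.Index
import Cfsg.Prelude.Def_Characters
import Cfsg.Prelude.Def_OddOrderChar

/-!
Functions induced from a normal subgroup: values, degree, complex conjugation, kernel,
Frobenius reciprocity, inner product with the principal character of `K`.
-/

set_option autoImplicit false

open scoped ComplexConjugate
open Cfsg

namespace Cfsg.Agent.OddOrderCharacters.InducedNormal

variable {L : Type*} [Group L] [Fintype L]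

omit [Fintype L] in
theorem extendByZero_mem (K : Subgroup L) (θ : K → ℂ) {g : L} (hg : g ∈ K) :
    extendByZero K θ g = θ ⟨g, hg⟩ := by
  have h : Function.extend (Subtype.val : K → L) θ 0 ((⟨g, hg⟩ : K) : L) = θ ⟨g, hg⟩ :=
    Subtype.val_injective.extend_apply θ 0 ⟨g, hg⟩
  exact h

omit [Fintype L] in
theorem extendByZero_not_mem (K : Subgroup L) (θ : K → ℂ) {g : L} (hg : g ∉ K) :
    extendByZero K θ g = 0 := by
  have h : Function.extend (Subtype.val : K → L) θ 0 g = (0 : L → ℂ) g := by
    refine Function.extend_apply' θ (0 : L → ℂ) g ?_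
    rintro ⟨a, rfl⟩
    exact hg a.2
  exact h

theorem indFun_def (K : Subgroup L) (θ : K → ℂ) (g : L) :
    indFun K θ g = (Nat.card K : ℂ)⁻¹ * ∑ x : L, extendByZero K θ (x⁻¹ * g * x) := rfl

/-- An induced function vanishes off the normal subgroup. -/
theorem indFun_of_not_mem (K : Subgroup L) [hK : K.Normal] (θ : K → ℂ) {g : L} (hg : g ∉ K) :
    indFun K θ g = 0 := by
  rw [indFun_def, Finset.sum_eq_zero, mul_zero]
  intro x _
  refine extendByZero_not_mem K θ ?_
  intro h
  apply hg
  have := hK.conj_mem _ h x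
  simpa [mul_assoc] using this

omit [Fintype L] in
/-- The conjugate `x⁻¹ * g * x` as an element of the normal subgroup. -/
theorem conj_mem' (K : Subgroup L) [hK : K.Normal] {g : L} (hg : g ∈ K) (x : L) :
    x⁻¹ * g * x ∈ K := by
  have := hK.conj_mem _ hg x⁻¹
  simpa using this

theorem indFun_mem (K : Subgroup L) [hK : K.Normal] (θ : K → ℂ) {g : L} (hg : g ∈ K) :
    indFun K θ g = (Nat.card K : ℂ)⁻¹ * ∑ x : L, θ ⟨x⁻¹ * g * x, conj_mem' K hg x⟩ := by
  rw [indFun_def]
  congr 1
  exact Finset.sum_congr rfl fun x _ => extendByZero_mem K θ (conj_mem' K hg x)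

theorem card_ne_zero (K : Subgroup L) : (Nat.card K : ℂ) ≠ 0 :=
  Nat.cast_ne_zero.mpr Nat.card_pos.ne'

theorem card_inv_mul_card (K : Subgroup L) :
    (Nat.card K : ℂ)⁻¹ * (Fintype.card L : ℂ) = (K.index : ℂ) := by
  have h : (Nat.card K : ℂ) * (K.index : ℂ) = (Fintype.card L : ℂ) := by
    rw [← Nat.card_eq_fintype_card, ← K.card_mul_index]; push_cast; ring
  rw [← h, ← mul_assoc, inv_mul_cancel₀ (card_ne_zero K), one_mul]

/-- The degree of an induced function. -/
theorem indFun_one (K : Subgroup L) (θ : K → ℂ) :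
    indFun K θ 1 = (K.index : ℂ) * θ 1 := by
  rw [indFun_def]
  have h : ∀ x : L, extendByZero K θ (x⁻¹ * 1 * x) = θ 1 := by
    intro x
    have h1 : x⁻¹ * 1 * x = 1 := by group
    rw [h1]
    exact extendByZero_mem K θ K.one_mem
  rw [Finset.sum_congr rfl fun x _ => h x, Finset.sum_const, Finset.card_univ, nsmul_eq_mul,
    ← mul_assoc, card_inv_mul_card]

/-- Induction commutes with complex conjugation. -/
theorem conjFun_indFun (K : Subgroup L) (θ : K → ℂ) :
    conjFun (indFun K θ) = indFun K (conjFun θ) := by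
  funext g
  show (starRingEnd ℂ) (indFun K θ g) = _
  rw [indFun_def, indFun_def, map_mul, map_inv₀, map_sum]
  congr 1
  · simp
  · refine Finset.sum_congr rfl fun x _ => ?_
    by_cases h : x⁻¹ * g * x ∈ K
    · rw [extendByZero_mem K θ h, extendByZero_mem K _ h]; rfl
    · rw [extendByZero_not_mem K θ h, extendByZero_not_mem K _ h, map_zero]

/-- The kernel of a function induced from a normal subgroup. -/
theorem indFun_ker (K A : Subgroup L) [hK : K.Normal] [hA : A.Normal] (θ : K → ℂ)
    (h : ∀ a : K, (a : L) ∈ A → θ a = θ 1) {a : L} (ha : a ∈ A) (haK : a ∈ K) :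
    indFun K θ a = indFun K θ 1 := by
  rw [indFun_mem K θ haK, indFun_one]
  have h' : ∀ x : L, θ ⟨x⁻¹ * a * x, conj_mem' K haK x⟩ = θ 1 :=
    fun x => h _ (conj_mem' A ha x)
  rw [Finset.sum_congr rfl fun x _ => h' x, Finset.sum_const, Finset.card_univ, nsmul_eq_mul,
    ← mul_assoc, card_inv_mul_card]

/-- An induced function is a class function. -/
theorem indFun_isClassFunction (K : Subgroup L) (θ : K → ℂ) : IsClassFunction L (indFun K θ) := by
  intro g h
  rw [indFun_def, indFun_def]
  congr 1
  refine Finset.sum_bij' (fun x _ => h⁻¹ * x) (fun x _ => h * x) ?_ ?_ ?_ ?_ ?_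
  · intros; exact Finset.mem_univ _
  · intros; exact Finset.mem_univ _
  · intros; group
  · intros; group
  · intro x _
    congr 1
    group

/-- Sum over `L` of an induced function against a function `F`: unfolding to `K`. -/
theorem sum_indFun_mul (K : Subgroup L) [Fintype K] (θ : K → ℂ) (F : L → ℂ)
    (hF : IsClassFunction L F) :
    ∑ g : L, indFun K θ g * F g =
      (Nat.card K : ℂ)⁻¹ * (Fintype.card L : ℂ) * ∑ k : K, θ k * F k := by
  have h1 : ∀ g : L, indFun K θ g * F g =
      (Nat.card K : ℂ)⁻¹ * ∑ x : L, extendByZero K θ (x⁻¹ * g * x) * F g := by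
    intro g
    rw [indFun_def, mul_assoc, Finset.sum_mul]
  rw [Finset.sum_congr rfl fun g _ => h1 g, ← Finset.mul_sum, Finset.sum_comm, mul_assoc]
  congr 1
  have h2 : ∀ x : L, ∑ g : L, extendByZero K θ (x⁻¹ * g * x) * F g =
      ∑ g : L, extendByZero K θ g * F g := by
    intro x
    refine Finset.sum_bij' (fun g _ => x⁻¹ * g * x) (fun g _ => x * g * x⁻¹) ?_ ?_ ?_ ?_ ?_
    · intros; exact Finset.mem_univ _
    · intros; exact Finset.mem_univ _
    · intros; group
    · intros; group
    · intro g _
      congr 1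
      have := hF (x⁻¹ * g * x) x
      rw [← this]
      congr 1
      group
  rw [Finset.sum_congr rfl fun x _ => h2 x, Finset.sum_const, Finset.card_univ, nsmul_eq_mul]
  congr 1
  symm
  have h3 : ∀ k : K, θ k * F k = extendByZero K θ (k : L) * F k := by
    intro k
    rw [extendByZero_mem K θ k.2]
  rw [Finset.sum_congr rfl fun k _ => h3 k]
  classical
  have h4 : ∑ g : L, extendByZero K θ g * F g =
      ∑ g ∈ (Finset.univ : Finset L).filter (· ∈ K), extendByZero K θ g * F g := by
    rw [Finset.sum_filter]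
    refine Finset.sum_congr rfl fun g _ => ?_
    split_ifs with h
    · rfl
    · rw [extendByZero_not_mem K θ h, zero_mul]
  rw [h4]
  refine (Finset.sum_subtype _ (p := (· ∈ K)) ?_ (fun g => extendByZero K θ g * F g)).symm
  intro x
  simp

/-- Frobenius reciprocity. -/
theorem frobenius (K : Subgroup L) [Fintype K] (θ : K → ℂ) (χ : L → ℂ)
    (hχ : IsClassFunction L χ) :
    classInner (indFun K θ) χ = classInner θ (fun k : K => χ k) := by
  have hF : IsClassFunction L (fun g => conj (χ g)) := fun g h => by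
    show conj (χ (h * g * h⁻¹)) = conj (χ g)
    rw [hχ g h]
  have := sum_indFun_mul K θ (fun g => conj (χ g)) hF
  show (Nat.card L : ℂ)⁻¹ * ∑ g : L, indFun K θ g * conj (χ g) =
    (Nat.card K : ℂ)⁻¹ * ∑ k : K, θ k * conj (χ k)
  rw [this, Nat.card_eq_fintype_card (α := L)]
  have h0 : (Fintype.card L : ℂ) ≠ 0 := Nat.cast_ne_zero.mpr Fintype.card_ne_zero
  field_simp

end Cfsg.Agent.OddOrderCharacters.InducedNormal
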