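import Mathlib
import Cfsg.Prelude.Def_Characters
import Cfsg.Prelude.Def_OddOrderChar
import Cfsg.Agent.Characters.Core

/-!
# Coherence of sets of irreducible characters: extension of a map, the pivot criterion

Everything here is for a finite set `S` of irreducible characters of a finite group `L`.
-/

set_option autoImplicit false
set_option linter.unusedSectionVars false
set_option linter.unusedDecidableInType false

open scoped ComplexConjugate
open Cfsg Cfsg.Agent.Characters.Core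

namespace Cfsg.Agent.OddOrderCharacters.PivotCoherence

universe u v

section zspan

variable {X : Type u}

theorem mem_zspan {S : Set (X → ℂ)} {χ : X → ℂ} (h : χ ∈ S) : χ ∈ zspan S :=
  Submodule.subset_span h

theorem zspan_mono {S T : Set (X → ℂ)} (h : S ⊆ T) : zspan S ⊆ zspan T :=
  Submodule.span_mono h

theorem zspanOn_mono {S T : Set (X → ℂ)} (h : S ⊆ T) (A : Set X) : zspanOn S A ⊆ zspanOn T A :=
  fun _ hα => ⟨zspan_mono h hα.1, hα.2⟩

theorem mem_zspan_add {S : Set (X → ℂ)} {α β : X → ℂ} (hα : α ∈ zspan S) (hβ : β ∈ zspan S) :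
    α + β ∈ zspan S := Submodule.add_mem _ hα hβ

theorem mem_zspan_sub {S : Set (X → ℂ)} {α β : X → ℂ} (hα : α ∈ zspan S) (hβ : β ∈ zspan S) :
    α - β ∈ zspan S := Submodule.sub_mem _ hα hβ

theorem mem_zspan_zsmul {S : Set (X → ℂ)} {α : X → ℂ} (n : ℤ) (hα : α ∈ zspan S) :
    n • α ∈ zspan S := Submodule.smul_mem _ n hα

theorem mem_zspan_nsmul {S : Set (X → ℂ)} {α : X → ℂ} (n : ℕ) (hα : α ∈ zspan S) :
    n • α ∈ zspan S := by
  have := mem_zspan_zsmul (n : ℤ) hα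
  rwa [natCast_zsmul] at this

theorem mem_zspanOn_compl_one {S : Set (X → ℂ)} [One X] {α : X → ℂ} :
    α ∈ zspanOn S ({1}ᶜ : Set X) ↔ α ∈ zspan S ∧ α 1 = 0 := by
  constructor
  · rintro ⟨h1, h2⟩
    exact ⟨h1, h2 1 (by simp)⟩
  · rintro ⟨h1, h2⟩
    refine ⟨h1, fun x hx => ?_⟩
    have : x = 1 := by simpa using hx
    rw [this]; exact h2

/-- Expansion of an element of the integer span of a finite set. -/
theorem exists_coeff (S : Finset (X → ℂ)) {α : X → ℂ} (hα : α ∈ zspan (S : Set (X → ℂ))) :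
    ∃ a : (X → ℂ) → ℤ, α = ∑ ξ ∈ S, a ξ • ξ := by
  have h : α ∈ Submodule.span ℤ (S : Set (X → ℂ)) := hα
  rw [Submodule.mem_span_finset] at h
  obtain ⟨f, -, hf⟩ := h
  exact ⟨f, hf.symm⟩

theorem sum_mem_zspan (S : Finset (X → ℂ)) (a : (X → ℂ) → ℤ) :
    ∑ ξ ∈ S, a ξ • ξ ∈ zspan (S : Set (X → ℂ)) :=
  Submodule.sum_mem _ fun ξ hξ => Submodule.smul_mem _ _ (Submodule.subset_span hξ)

end zspan

section gen

variable {G : Type v} [Group G]

theorem isGeneralized_zero : IsGeneralizedCharacter G (0 : G → ℂ) :=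
  ⟨0, 0, isCharacter_zero, isCharacter_zero, by simp⟩

theorem isGeneralized_of_isCharacter {χ : G → ℂ} (h : IsCharacter G χ) :
    IsGeneralizedCharacter G χ :=
  ⟨χ, 0, h, isCharacter_zero, by simp⟩

theorem isGeneralized_add {α β : G → ℂ} (hα : IsGeneralizedCharacter G α)
    (hβ : IsGeneralizedCharacter G β) : IsGeneralizedCharacter G (α + β) := by
  obtain ⟨a, b, ha, hb, rfl⟩ := hα
  obtain ⟨c, d, hc, hd, rfl⟩ := hβ
  exact ⟨a + c, b + d, isCharacter_add ha hc, isCharacter_add hb hd, by abel⟩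

theorem isGeneralized_neg {α : G → ℂ} (hα : IsGeneralizedCharacter G α) :
    IsGeneralizedCharacter G (-α) := by
  obtain ⟨a, b, ha, hb, rfl⟩ := hα
  exact ⟨b, a, hb, ha, by abel⟩

theorem isGeneralized_sub {α β : G → ℂ} (hα : IsGeneralizedCharacter G α)
    (hβ : IsGeneralizedCharacter G β) : IsGeneralizedCharacter G (α - β) := by
  rw [sub_eq_add_neg]
  exact isGeneralized_add hα (isGeneralized_neg hβ)

theorem isGeneralized_nsmul {α : G → ℂ} (n : ℕ) (hα : IsGeneralizedCharacter G α) :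
    IsGeneralizedCharacter G (n • α) := by
  obtain ⟨a, b, ha, hb, rfl⟩ := hα
  exact ⟨n • a, n • b, isCharacter_nsmul n ha, isCharacter_nsmul n hb, by rw [smul_sub]⟩

theorem isGeneralized_zsmul {α : G → ℂ} (n : ℤ) (hα : IsGeneralizedCharacter G α) :
    IsGeneralizedCharacter G (n • α) := by
  obtain ⟨m, rfl | rfl⟩ := n.eq_nat_or_neg
  · rw [natCast_zsmul]; exact isGeneralized_nsmul m hα
  · rw [neg_smul, natCast_zsmul]; exact isGeneralized_neg (isGeneralized_nsmul m hα)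

theorem isGeneralized_sum {ι : Type*} (s : Finset ι) {f : ι → G → ℂ}
    (hf : ∀ i ∈ s, IsGeneralizedCharacter G (f i)) : IsGeneralizedCharacter G (∑ i ∈ s, f i) := by
  classical
  induction s using Finset.induction_on with
  | empty => simpa using isGeneralized_zero
  | insert a s has ih =>
    rw [Finset.sum_insert has]
    exact isGeneralized_add (hf a (Finset.mem_insert_self a s))
      (ih fun i hi => hf i (Finset.mem_insert_of_mem hi))

theorem isGeneralized_of_mem_zspan {S : Set (G → ℂ)} (hS : ∀ ξ ∈ S, IsGeneralizedCharacter G ξ)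
    {α : G → ℂ} (hα : α ∈ zspan S) : IsGeneralizedCharacter G α := by
  refine Submodule.span_induction (p := fun α _ => IsGeneralizedCharacter G α)
    (fun ξ hξ => hS ξ hξ) isGeneralized_zero (fun a b _ _ ha hb => isGeneralized_add ha hb)
    (fun n a _ ha => isGeneralized_zsmul n ha) hα

theorem isGeneralized_apply_one {α : G → ℂ} (hα : IsGeneralizedCharacter G α) :
    ∃ n : ℤ, α 1 = n := by
  obtain ⟨a, b, ha, hb, rfl⟩ := hα
  obtain ⟨n1, h1⟩ := isCharacter_apply_one ha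
  obtain ⟨n2, h2⟩ := isCharacter_apply_one hb
  exact ⟨n1 - n2, by simp [h1, h2]⟩

theorem isGeneralized_isClassFunction {α : G → ℂ} (hα : IsGeneralizedCharacter G α) :
    IsClassFunction G α := by
  obtain ⟨a, b, ha, hb, rfl⟩ := hα
  intro g h
  simp only [Pi.sub_apply]
  rw [isCharacter_isClassFunction ha g h, isCharacter_isClassFunction hb g h]

end gen

section ext

variable {L : Type u} [Group L] [Fintype L] {G : Type v} [Group G] [Fintype G]

theorem classInner_zsmul_left (n : ℤ) (φ ψ : G → ℂ) :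
    classInner (n • φ) ψ = (n : ℂ) * classInner φ ψ := by
  have : n • φ = (n : ℂ) • φ := by
    ext g; simp
  rw [this, classInner_smul_left]

theorem classInner_zsmul_right (n : ℤ) (φ ψ : G → ℂ) :
    classInner φ (n • ψ) = (n : ℂ) * classInner φ ψ := by
  have : n • ψ = (n : ℂ) • ψ := by
    ext g; simp
  rw [this, classInner_smul_right]
  simp

/-- The coefficients of an integer combination of irreducible characters. -/
theorem classInner_sum_irr (S : Finset (L → ℂ)) (hirr : ∀ ξ ∈ S, IsIrrCharacter L ξ)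
    (a : (L → ℂ) → ℤ) {ξ : L → ℂ} (hξ : ξ ∈ S) :
    classInner (∑ η ∈ S, a η • η) ξ = a ξ := by
  classical
  rw [classInner_sum_left]
  rw [Finset.sum_eq_single ξ]
  · rw [classInner_zsmul_left, classInner_irr_self (hirr ξ hξ), mul_one]
  · intro η hη hne
    rw [classInner_zsmul_left, classInner_irr_ne (hirr η hη) (hirr ξ hξ) hne, mul_zero]
  · intro h; exact absurd hξ h

open Classical in
/-- Inner product of two integer combinations of an orthonormal family. -/
theorem classInner_sum_sum (S : Finset (L → ℂ)) (f : (L → ℂ) → (G → ℂ))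
    (horth : ∀ ξ ∈ S, ∀ η ∈ S, classInner (f ξ) (f η) = if ξ = η then 1 else 0)
    (a b : (L → ℂ) → ℤ) :
    classInner (∑ ξ ∈ S, a ξ • f ξ) (∑ ξ ∈ S, b ξ • f ξ) = ∑ ξ ∈ S, (a ξ : ℂ) * (b ξ : ℂ) := by
  rw [classInner_sum_left]
  refine Finset.sum_congr rfl fun ξ hξ => ?_
  rw [classInner_zsmul_left, classInner_sum_right]
  congr 1
  rw [Finset.sum_eq_single ξ]
  · rw [classInner_zsmul_right, horth ξ hξ ξ hξ, if_pos rfl, mul_one]
  · intro η hη hne
    rw [classInner_zsmul_right, horth ξ hξ η hη, if_neg (Ne.symm hne), mul_zero]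
  · intro h; exact absurd hξ h

/-- The linear extension of a map defined on a finite set of irreducible characters. -/
noncomputable def extend (S : Finset (L → ℂ)) (f : (L → ℂ) → (G → ℂ)) (α : L → ℂ) : G → ℂ :=
  ∑ ξ ∈ S, classInner α ξ • f ξ

theorem extend_sum (S : Finset (L → ℂ)) (hirr : ∀ ξ ∈ S, IsIrrCharacter L ξ)
    (f : (L → ℂ) → (G → ℂ)) (a : (L → ℂ) → ℤ) :
    extend S f (∑ ξ ∈ S, a ξ • ξ) = ∑ ξ ∈ S, a ξ • f ξ := by
  show ∑ ξ ∈ S, classInner (∑ η ∈ S, a η • η) ξ • f ξ = _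
  refine Finset.sum_congr rfl fun ξ hξ => ?_
  rw [classInner_sum_irr S hirr a hξ]
  ext g; simp

theorem extend_apply_mem (S : Finset (L → ℂ)) (hirr : ∀ ξ ∈ S, IsIrrCharacter L ξ)
    (f : (L → ℂ) → (G → ℂ)) {ξ : L → ℂ} (hξ : ξ ∈ S) : extend S f ξ = f ξ := by
  classical
  show ∑ η ∈ S, classInner ξ η • f η = _
  rw [Finset.sum_eq_single ξ]
  · rw [classInner_irr_self (hirr ξ hξ), one_smul]
  · intro η hη hne
    rw [classInner_irr_ne (hirr ξ hξ) (hirr η hη) (Ne.symm hne), zero_smul]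
  · intro h; exact absurd hξ h

open Classical in
/-- A map from a finite set of irreducible characters to an orthonormal set of generalized
characters extends to a linear isometry on the integer span. -/
theorem isLinearIsometryOn_extend (S : Finset (L → ℂ)) (hirr : ∀ ξ ∈ S, IsIrrCharacter L ξ)
    (f : (L → ℂ) → (G → ℂ)) (hgen : ∀ ξ ∈ S, IsGeneralizedCharacter G (f ξ))
    (horth : ∀ ξ ∈ S, ∀ η ∈ S, classInner (f ξ) (f η) = if ξ = η then 1 else 0) :
    IsLinearIsometryOn (zspan (S : Set (L → ℂ))) (extend S f) := by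
  refine ⟨?_, ?_, ?_, ?_⟩
  · intro α _ β _
    show ∑ ξ ∈ S, classInner (α + β) ξ • f ξ =
      ∑ ξ ∈ S, classInner α ξ • f ξ + ∑ ξ ∈ S, classInner β ξ • f ξ
    rw [← Finset.sum_add_distrib]
    refine Finset.sum_congr rfl fun ξ _ => ?_
    rw [classInner_add_left, add_smul]
  · intro α _ n
    show ∑ ξ ∈ S, classInner (n • α) ξ • f ξ = n • ∑ ξ ∈ S, classInner α ξ • f ξ
    rw [Finset.smul_sum]
    refine Finset.sum_congr rfl fun ξ _ => ?_
    rw [classInner_zsmul_left]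
    ext g; simp [mul_assoc]
  · intro α hα β hβ
    obtain ⟨a, rfl⟩ := exists_coeff S hα
    obtain ⟨b, rfl⟩ := exists_coeff S hβ
    rw [extend_sum S hirr, extend_sum S hirr, classInner_sum_sum S f horth,
      classInner_sum_sum S (fun ξ => ξ) (fun ξ hξ η hη => classInner_irr (hirr ξ hξ) (hirr η hη))]
  · intro α hα
    obtain ⟨a, rfl⟩ := exists_coeff S hα
    rw [extend_sum S hirr]
    exact isGeneralized_sum S fun ξ hξ => isGeneralized_zsmul _ (hgen ξ hξ)

/-- A character of norm-one type: generalized characters have integral inner products. -/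
theorem classInner_isInt {α β : G → ℂ} (hα : IsGeneralizedCharacter G α)
    (hβ : IsGeneralizedCharacter G β) : ∃ n : ℤ, classInner α β = n := by
  obtain ⟨a, b, ha, hb, rfl⟩ := hα
  obtain ⟨c, d, hc, hd, rfl⟩ := hβ
  obtain ⟨n1, h1⟩ := classInner_isNat ha hc
  obtain ⟨n2, h2⟩ := classInner_isNat ha hd
  obtain ⟨n3, h3⟩ := classInner_isNat hb hc
  obtain ⟨n4, h4⟩ := classInner_isNat hb hd
  refine ⟨(n1 - n3) - (n2 - n4), ?_⟩
  rw [classInner_sub_right, classInner_sub_left, classInner_sub_left, h1, h2, h3, h4]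
  push_cast; ring

/-- The pivot criterion for coherence (with a pivot of minimal degree, dividing all degrees). -/
theorem isCoherent_of_pivot (τ : (L → ℂ) →ₗ[ℂ] (G → ℂ)) (S : Finset (L → ℂ))
    (hirr : ∀ ξ ∈ S, IsIrrCharacter L ξ) (η₀ : L → ℂ) (hη₀ : η₀ ∈ S)
    (hne : ∃ ξ ∈ S, ξ ≠ η₀) (m : (L → ℂ) → ℕ) (hm : ∀ ξ ∈ S, ξ 1 = m ξ * η₀ 1)
    (hgen : ∀ ξ ∈ S, IsGeneralizedCharacter G (τ (ξ - (m ξ : ℂ) • η₀)))
    (hiso : ∀ ξ ∈ S, ∀ ζ ∈ S, classInner (τ (ξ - (m ξ : ℂ) • η₀)) (τ (ζ - (m ζ : ℂ) • η₀)) =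
      classInner (ξ - (m ξ : ℂ) • η₀) (ζ - (m ζ : ℂ) • η₀))
    (ν : G → ℂ) (hν : IsGeneralizedCharacter G ν) (hν1 : classInner ν ν = 1)
    (hpiv : ∀ ξ ∈ S, ξ ≠ η₀ → classInner (τ (ξ - (m ξ : ℂ) • η₀)) ν = -(m ξ : ℂ)) :
    IsCoherent (S : Set (L → ℂ)) ({1}ᶜ : Set L) (fun α => τ α) := by
  classical
  have hη1 : η₀ 1 ≠ 0 := by
    obtain ⟨n, hn, h⟩ := isIrr_apply_one (hirr η₀ hη₀)
    rw [h]; exact_mod_cast hn.ne'
  have hm0 : m η₀ = 1 := by
    have := hm η₀ hη₀
    have h2 : ((m η₀ : ℂ) - 1) * η₀ 1 = 0 := by rw [sub_mul, ← this]; ring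
    rcases mul_eq_zero.1 h2 with h | h
    · have : (m η₀ : ℂ) = 1 := by linear_combination h
      exact_mod_cast this
    · exact absurd h hη1
  let β : (L → ℂ) → (G → ℂ) := fun ξ => τ (ξ - (m ξ : ℂ) • η₀)
  have hβ0 : β η₀ = 0 := by
    show τ (η₀ - (m η₀ : ℂ) • η₀) = 0
    rw [hm0]; simp
  let f : (L → ℂ) → (G → ℂ) := fun ξ => (m ξ : ℂ) • ν + β ξ
  have hfdef : ∀ ξ, f ξ = (m ξ : ℂ) • ν + β ξ := fun _ => rfl
  have hβν : ∀ ξ ∈ S, classInner (β ξ) ν = if ξ = η₀ then 0 else -(m ξ : ℂ) := by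
    intro ξ hξ
    split_ifs with h
    · rw [h, hβ0, classInner_zero_left]
    · exact hpiv ξ hξ h
  have hνβ : ∀ ξ ∈ S, classInner ν (β ξ) = if ξ = η₀ then 0 else -(m ξ : ℂ) := by
    intro ξ hξ
    rw [← classInner_conj_symm, hβν ξ hξ]
    split_ifs <;> simp
  have hββ : ∀ ξ ∈ S, ∀ ζ ∈ S, classInner (β ξ) (β ζ) =
      (if ξ = ζ then 1 else 0) - (m ζ : ℂ) * (if ξ = η₀ then 1 else 0)
        - (m ξ : ℂ) * (if ζ = η₀ then 1 else 0) + (m ξ : ℂ) * (m ζ : ℂ) := by
    intro ξ hξ ζ hζ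
    rw [hiso ξ hξ ζ hζ, classInner_sub_left, classInner_sub_right, classInner_sub_right,
      classInner_smul_left, classInner_smul_left, classInner_smul_right, classInner_smul_right,
      classInner_irr (hirr ξ hξ) (hirr ζ hζ), classInner_irr (hirr ξ hξ) (hirr η₀ hη₀),
      classInner_irr (hirr η₀ hη₀) (hirr ζ hζ), classInner_irr (hirr η₀ hη₀) (hirr η₀ hη₀)]
    simp only [if_true, map_natCast, mul_one]
    have : (if η₀ = ζ then (1:ℂ) else 0) = if ζ = η₀ then 1 else 0 := by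
      by_cases h : η₀ = ζ
      · rw [if_pos h, if_pos h.symm]
      · rw [if_neg h, if_neg (Ne.symm h)]
    rw [this]
    ring
  have horth : ∀ ξ ∈ S, ∀ ζ ∈ S, classInner (f ξ) (f ζ) = if ξ = ζ then 1 else 0 := by
    intro ξ hξ ζ hζ
    rw [hfdef, hfdef, classInner_add_left, classInner_add_right, classInner_add_right,
      classInner_smul_left, classInner_smul_left, classInner_smul_right, classInner_smul_right,
      hν1, hνβ ζ hζ, hβν ξ hξ, hββ ξ hξ ζ hζ]
    by_cases h1 : ξ = η₀ <;> by_cases h2 : ζ = η₀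
    · simp [h1, h2, hm0]
    · simp [h1, h2, hm0, Ne.symm h2]
    · simp [h1, h2, hm0]
    · simp [h1, h2]; ring
  have hfgen : ∀ ξ ∈ S, IsGeneralizedCharacter G (f ξ) := by
    intro ξ hξ
    refine isGeneralized_add ?_ (hgen ξ hξ)
    have : (m ξ : ℂ) • ν = (m ξ : ℕ) • ν := by ext g; simp
    rw [this]
    exact isGeneralized_nsmul _ hν
  refine ⟨?_, extend S f, isLinearIsometryOn_extend S hirr f hfgen horth, ?_⟩
  · obtain ⟨ξ, hξ, hξη⟩ := hne
    refine ⟨ξ - (m ξ : ℕ) • η₀, ?_, ?_⟩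
    · rw [mem_zspanOn_compl_one]
      refine ⟨mem_zspan_sub (mem_zspan hξ) (mem_zspan_nsmul _ (mem_zspan hη₀)), ?_⟩
      simp [hm ξ hξ]
    · intro h0
      have h1 : classInner (ξ - (m ξ : ℕ) • η₀) ξ = 1 := by
        have : (m ξ : ℕ) • η₀ = (m ξ : ℂ) • η₀ := by ext g; simp
        rw [this, classInner_sub_left, classInner_smul_left, classInner_irr_self (hirr ξ hξ),
          classInner_irr_ne (hirr η₀ hη₀) (hirr ξ hξ) (Ne.symm hξη)]
        ring
      rw [h0, classInner_zero_left] at h1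
      exact zero_ne_one h1
  · intro α hα
    rw [mem_zspanOn_compl_one] at hα
    obtain ⟨hα, hα1⟩ := hα
    obtain ⟨a, rfl⟩ := exists_coeff S hα
    rw [extend_sum S hirr]
    have hsum : ∑ ξ ∈ S, (a ξ : ℂ) * (m ξ : ℂ) = 0 := by
      have h1 : (∑ ξ ∈ S, (a ξ : ℂ) * (m ξ : ℂ)) * η₀ 1 = 0 := by
        rw [Finset.sum_mul]
        rw [Finset.sum_apply] at hα1
        rw [← hα1]
        refine Finset.sum_congr rfl fun ξ hξ => ?_
        simp only [Pi.smul_apply, zsmul_eq_mul]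
        rw [hm ξ hξ]; ring
      rcases mul_eq_zero.1 h1 with h | h
      · exact h
      · exact absurd h hη1
    have h2 : ∑ ξ ∈ S, a ξ • ξ = ∑ ξ ∈ S, (a ξ : ℂ) • (ξ - (m ξ : ℂ) • η₀) := by
      have : ∑ ξ ∈ S, (a ξ : ℂ) • (ξ - (m ξ : ℂ) • η₀) =
          ∑ ξ ∈ S, a ξ • ξ - (∑ ξ ∈ S, (a ξ : ℂ) * (m ξ : ℂ)) • η₀ := by
        rw [Finset.sum_smul, ← Finset.sum_sub_distrib]
        refine Finset.sum_congr rfl fun ξ _ => ?_
        ext g; simp; ring
      rw [this, hsum, zero_smul, sub_zero]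
    show _ = τ (∑ ξ ∈ S, a ξ • ξ)
    rw [h2, map_sum]
    have h3 : ∑ ξ ∈ S, a ξ • f ξ = (∑ ξ ∈ S, (a ξ : ℂ) * (m ξ : ℂ)) • ν + ∑ ξ ∈ S, (a ξ : ℂ) • β ξ := by
      rw [Finset.sum_smul, ← Finset.sum_add_distrib]
      refine Finset.sum_congr rfl fun ξ _ => ?_
      ext g; simp [hfdef]; ring
    rw [h3, hsum, zero_smul, zero_add]
    refine Finset.sum_congr rfl fun ξ _ => ?_
    rw [map_smul]

end ext

end Cfsg.Agent.OddOrderCharacters.PivotCoherence
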