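import Cfsg.Agent.Characters.Core
import Cfsg.Prelude.Def_OddOrderChar
import Mathlib.Tactic

/-!
# Coherence of a coherence system all of whose members have the same degree

Orthonormal expansion lemmas with integral coefficients for `classInner`, the basic algebra of
linear isometries on `zspanOn S A`, and the uniform degree criterion of coherence.
-/

set_option autoImplicit false
set_option linter.unusedSectionVars false

open Cfsg
open scoped ComplexConjugate

namespace Cfsg.Agent.OddOrderCharacters.UniformDegree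

open Cfsg.Agent.Characters.Core

section basic

variable {G : Type*} [Group G]

theorem isGen_of_isCharacter {χ : G → ℂ} (h : IsCharacter G χ) : IsGeneralizedCharacter G χ :=
  ⟨χ, 0, h, isCharacter_zero, by simp⟩

theorem isGen_zero : IsGeneralizedCharacter G (0 : G → ℂ) :=
  isGen_of_isCharacter isCharacter_zero

theorem isGen_neg {α : G → ℂ} (h : IsGeneralizedCharacter G α) :
    IsGeneralizedCharacter G (-α) := by
  obtain ⟨χ, ψ, hχ, hψ, rfl⟩ := h
  exact ⟨ψ, χ, hψ, hχ, by simp⟩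

theorem isGen_add {α β : G → ℂ} (hα : IsGeneralizedCharacter G α)
    (hβ : IsGeneralizedCharacter G β) : IsGeneralizedCharacter G (α + β) := by
  obtain ⟨χ, ψ, hχ, hψ, rfl⟩ := hα
  obtain ⟨χ', ψ', hχ', hψ', rfl⟩ := hβ
  exact ⟨χ + χ', ψ + ψ', isCharacter_add hχ hχ', isCharacter_add hψ hψ', by abel⟩

theorem isGen_sub {α β : G → ℂ} (hα : IsGeneralizedCharacter G α)
    (hβ : IsGeneralizedCharacter G β) : IsGeneralizedCharacter G (α - β) := by
  rw [sub_eq_add_neg]
  exact isGen_add hα (isGen_neg hβ)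

theorem isGen_nsmul {α : G → ℂ} (n : ℕ) (hα : IsGeneralizedCharacter G α) :
    IsGeneralizedCharacter G (n • α) := by
  induction n with
  | zero => simpa using (isGen_zero (G := G))
  | succ n ih => rw [succ_nsmul]; exact isGen_add ih hα

theorem isGen_zsmul {α : G → ℂ} (n : ℤ) (hα : IsGeneralizedCharacter G α) :
    IsGeneralizedCharacter G (n • α) := by
  obtain ⟨m, rfl | rfl⟩ := n.eq_nat_or_neg
  · rw [natCast_zsmul]; exact isGen_nsmul m hα
  · rw [neg_smul, natCast_zsmul]; exact isGen_neg (isGen_nsmul m hα)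

theorem isGen_sum {ι : Type*} (s : Finset ι) {f : ι → G → ℂ}
    (hf : ∀ i ∈ s, IsGeneralizedCharacter G (f i)) :
    IsGeneralizedCharacter G (∑ i ∈ s, f i) := by
  classical
  induction s using Finset.induction_on with
  | empty => simpa using (isGen_zero (G := G))
  | insert a s ha ih =>
    rw [Finset.sum_insert ha]
    exact isGen_add (hf a (Finset.mem_insert_self _ _))
      (ih fun i hi => hf i (Finset.mem_insert_of_mem hi))

end basic

section inner

variable {G : Type*} [Group G] [Fintype G]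

theorem inner_zsmul_left (n : ℤ) (φ ψ : G → ℂ) :
    classInner (n • φ) ψ = n * classInner φ ψ := by
  rw [← classInner_smul_left, Int.cast_smul_eq_zsmul]

theorem inner_zsmul_right (n : ℤ) (φ ψ : G → ℂ) :
    classInner φ (n • ψ) = n * classInner φ ψ := by
  rw [← Int.cast_smul_eq_zsmul ℂ, classInner_smul_right]
  simp

/-- The inner product of two generalized characters is an integer. -/
theorem inner_isInt {α β : G → ℂ} (hα : IsGeneralizedCharacter G α)
    (hβ : IsGeneralizedCharacter G β) : ∃ n : ℤ, classInner α β = n := by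
  obtain ⟨χ, ψ, hχ, hψ, rfl⟩ := hα
  obtain ⟨χ', ψ', hχ', hψ', rfl⟩ := hβ
  obtain ⟨a, ha⟩ := classInner_isNat hχ hχ'
  obtain ⟨b, hb⟩ := classInner_isNat hχ hψ'
  obtain ⟨c, hc⟩ := classInner_isNat hψ hχ'
  obtain ⟨d, hd⟩ := classInner_isNat hψ hψ'
  refine ⟨a - b - (c - d), ?_⟩
  rw [classInner_sub_left, classInner_sub_right, classInner_sub_right, ha, hb, hc, hd]
  push_cast
  ring

theorem inner_self_eq (φ : G → ℂ) :
    classInner φ φ = (((Nat.card G : ℝ)⁻¹ * ∑ g : G, ‖φ g‖ ^ 2 : ℝ) : ℂ) := by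
  unfold classInner
  push_cast
  congr 1
  refine Finset.sum_congr rfl fun g _ => ?_
  rw [Complex.mul_conj, Complex.normSq_eq_norm_sq]
  push_cast
  rfl

theorem inner_self_re_nonneg (φ : G → ℂ) : 0 ≤ (classInner φ φ).re := by
  rw [inner_self_eq, Complex.ofReal_re]
  positivity

/-- If the squared norm is an integer then it is nonnegative. -/
theorem nonneg_of_inner_self_eq_int {φ : G → ℂ} {n : ℤ} (h : classInner φ φ = n) : 0 ≤ n := by
  have := inner_self_re_nonneg φ
  rw [h, Complex.intCast_re] at this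
  exact_mod_cast this

/-- Orthonormality of a finite set of functions. -/
structure Orthonormal (E : Finset (G → ℂ)) : Prop where
  self : ∀ α ∈ E, classInner α α = 1
  ne : ∀ α ∈ E, ∀ β ∈ E, α ≠ β → classInner α β = 0

theorem inner_sum_mem {E : Finset (G → ℂ)} (hE : Orthonormal E) (c : (G → ℂ) → ℤ)
    {e : G → ℂ} (he : e ∈ E) : classInner (∑ x ∈ E, c x • x) e = c e := by
  rw [classInner_sum_left, Finset.sum_eq_single_of_mem e he]
  · rw [inner_zsmul_left, hE.self e he, mul_one]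
  · intro b hb hbe
    rw [inner_zsmul_left, hE.ne b hb e he hbe, mul_zero]

theorem inner_sum_sum {E : Finset (G → ℂ)} (hE : Orthonormal E) (c d : (G → ℂ) → ℤ) :
    classInner (∑ x ∈ E, c x • x) (∑ x ∈ E, d x • x) = ((∑ x ∈ E, c x * d x : ℤ) : ℂ) := by
  rw [classInner_sum_right]
  push_cast
  refine Finset.sum_congr rfl fun e he => ?_
  rw [inner_zsmul_right, inner_sum_mem hE c he, mul_comm]

theorem inner_sum_left_eq_zero {E : Finset (G → ℂ)} (c : (G → ℂ) → ℤ) {v : G → ℂ}
    (h : ∀ e ∈ E, classInner e v = 0) : classInner (∑ x ∈ E, c x • x) v = 0 := by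
  rw [classInner_sum_left]
  refine Finset.sum_eq_zero fun e he => ?_
  rw [inner_zsmul_left, h e he, mul_zero]

theorem inner_sum_right_eq_zero {E : Finset (G → ℂ)} (c : (G → ℂ) → ℤ) {v : G → ℂ}
    (h : ∀ e ∈ E, classInner v e = 0) : classInner v (∑ x ∈ E, c x • x) = 0 := by
  rw [classInner_sum_right]
  refine Finset.sum_eq_zero fun e he => ?_
  rw [inner_zsmul_right, h e he, mul_zero]

theorem inner_symm_zero {φ ψ : G → ℂ} (h : classInner φ ψ = 0) : classInner ψ φ = 0 := by
  rw [← classInner_conj_symm, h, map_zero]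

theorem inner_symm_int {φ ψ : G → ℂ} {n : ℤ} (h : classInner φ ψ = n) : classInner ψ φ = n := by
  rw [← classInner_conj_symm, h]
  simp

/-- Squared norm of the component orthogonal to an orthonormal set. -/
theorem inner_sub_proj_self {E : Finset (G → ℂ)} (hE : Orthonormal E) (v : G → ℂ)
    (c : (G → ℂ) → ℤ) (hc : ∀ e ∈ E, classInner v e = c e) :
    classInner (v - ∑ e ∈ E, c e • e) (v - ∑ e ∈ E, c e • e) =
      classInner v v - ((∑ e ∈ E, c e * c e : ℤ) : ℂ) := by
  have h1 : classInner v (∑ e ∈ E, c e • e) = ((∑ e ∈ E, c e * c e : ℤ) : ℂ) := by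
    rw [classInner_sum_right]
    push_cast
    refine Finset.sum_congr rfl fun e he => ?_
    rw [inner_zsmul_right, hc e he]
  have h2 := inner_symm_int h1
  rw [classInner_sub_left, classInner_sub_right, classInner_sub_right, h1, h2,
    inner_sum_sum hE]
  ring

end inner

section conjugate

variable {L : Type*} [Group L] [Fintype L]

theorem conjFun_conjFun {X : Type*} (χ : X → ℂ) : conjFun (conjFun χ) = χ := by
  funext x
  simp [conjFun]

theorem inner_conjFun_self (χ : L → ℂ) :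
    classInner (conjFun χ) (conjFun χ) = classInner χ χ := by
  unfold classInner conjFun
  congr 1
  refine Finset.sum_congr rfl fun g _ => ?_
  rw [Complex.conj_conj, mul_comm]

end conjugate

section isometry

variable {L : Type*} [Group L] [Fintype L] {G : Type*} [Group G] [Fintype G]
  {S : Set (L → ℂ)} {A : Set L} {τ : (L → ℂ) → (G → ℂ)}

theorem zspanOn_zero : (0 : L → ℂ) ∈ zspanOn S A :=
  ⟨Submodule.zero_mem (Submodule.span ℤ S), fun _ _ => rfl⟩

theorem zspanOn_add {α β : L → ℂ} (hα : α ∈ zspanOn S A) (hβ : β ∈ zspanOn S A) :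
    α + β ∈ zspanOn S A :=
  ⟨Submodule.add_mem (Submodule.span ℤ S) hα.1 hβ.1, fun x hx => by
    rw [Pi.add_apply, hα.2 x hx, hβ.2 x hx, add_zero]⟩

theorem zspanOn_zsmul (n : ℤ) {α : L → ℂ} (hα : α ∈ zspanOn S A) : n • α ∈ zspanOn S A :=
  ⟨Submodule.smul_mem (Submodule.span ℤ S) n hα.1, fun x hx => by
    rw [Pi.smul_apply, hα.2 x hx, smul_zero]⟩

theorem zspanOn_neg {α : L → ℂ} (hα : α ∈ zspanOn S A) : -α ∈ zspanOn S A := by
  have := zspanOn_zsmul (-1) hα
  rwa [neg_one_zsmul] at this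

theorem zspanOn_sub {α β : L → ℂ} (hα : α ∈ zspanOn S A) (hβ : β ∈ zspanOn S A) :
    α - β ∈ zspanOn S A := by
  rw [sub_eq_add_neg]
  exact zspanOn_add hα (zspanOn_neg hβ)

theorem mem_zspanOn_compl_one {α : L → ℂ} (h : α ∈ zspan S) (h1 : α 1 = 0) :
    α ∈ zspanOn S {1}ᶜ :=
  ⟨h, fun x hx => by
    have hx : x = 1 := by simpa using hx
    rw [hx, h1]⟩

theorem apply_one_of_mem {α : L → ℂ} (h : α ∈ zspanOn S {1}ᶜ) : α 1 = 0 :=
  h.2 1 (by simp)

section

variable {E : Set (L → ℂ)} (h : IsLinearIsometryOn E τ)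
include h

theorem iso_zero (h0 : (0 : L → ℂ) ∈ E) : τ 0 = 0 := by
  have := h.2.1 0 h0 0
  simpa using this

theorem iso_neg {α : L → ℂ} (hα : α ∈ E) : τ (-α) = -τ α := by
  have := h.2.1 α hα (-1)
  simpa using this

theorem iso_sub {α β : L → ℂ} (hα : α ∈ E) (hβ : β ∈ E) (hβ' : -β ∈ E) :
    τ (α - β) = τ α - τ β := by
  rw [sub_eq_add_neg, h.1 α hα (-β) hβ', iso_neg h hβ, ← sub_eq_add_neg]

end

end isometry

section system

variable {L : Type*} [Group L] [Fintype L] {G : Type*} [Group G] [Fintype G]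
  {S : Set (L → ℂ)} {τ : (L → ℂ) → (G → ℂ)} {R : (L → ℂ) → Finset (G → ℂ)}

theorem sub_mem {χ ψ : L → ℂ} (hχ : χ ∈ S) (hψ : ψ ∈ S) (h : χ 1 = ψ 1) :
    χ - ψ ∈ zspanOn S {1}ᶜ :=
  mem_zspanOn_compl_one
    (Submodule.sub_mem (Submodule.span ℤ S) (Submodule.subset_span hχ)
      (Submodule.subset_span hψ)) (by simp [h])

theorem apply_one_conj (hS : IsCoherenceSystem S τ R) {χ : L → ℂ} (hχ : χ ∈ S) :
    χ 1 = conjFun χ 1 := by
  obtain ⟨n, hn⟩ := isCharacter_apply_one (hS.isCharacter χ hχ)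
  simp [conjFun, hn]

theorem sub_conj_mem (hS : IsCoherenceSystem S τ R) {χ : L → ℂ} (hχ : χ ∈ S) :
    χ - conjFun χ ∈ zspanOn S {1}ᶜ :=
  sub_mem hχ (hS.conj_mem χ hχ) (apply_one_conj hS hχ)

theorem orthonormal_R (hS : IsCoherenceSystem S τ R) {χ : L → ℂ} (hχ : χ ∈ S) :
    Orthonormal (R χ) where
  self α hα := by rw [hS.orthonormal χ hχ α hα α hα, if_pos rfl]
  ne α hα β hβ hne := by rw [hS.orthonormal χ hχ α hα β hβ, if_neg hne]

theorem ne_zero_of_mem (hS : IsCoherenceSystem S τ R) {χ : L → ℂ} (hχ : χ ∈ S) : χ ≠ 0 := by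
  rintro rfl
  exact hS.conj_ne 0 hχ (by funext x; simp [conjFun])

/-- The degree of a member of a coherence system is a positive integer. -/
theorem exists_degree (hS : IsCoherenceSystem S τ R) {χ : L → ℂ} (hχ : χ ∈ S) :
    ∃ n : ℕ, 0 < n ∧ χ 1 = n := by
  obtain ⟨n, ρ, hρ⟩ := hS.isCharacter χ hχ
  refine ⟨n, ?_, ?_⟩
  · rcases Nat.eq_zero_or_pos n with rfl | h
    · exfalso
      apply ne_zero_of_mem hS hχ
      rw [← hρ]
      funext g
      have : (ρ g : (Fin 0 → ℂ) →ₗ[ℂ] (Fin 0 → ℂ)) = 0 := Subsingleton.elim _ _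
      simp [Representation.character, this]
    · exact h
  · rw [← hρ, Representation.char_one]
    simp

/-- Orthogonality of `R φ` and `R χ` for distinct non-conjugate members. -/
theorem R_orthogonal (hS : IsCoherenceSystem S τ R) {χ φ : L → ℂ} (hχ : χ ∈ S) (hφ : φ ∈ S)
    (h1 : φ ≠ χ) (h2 : φ ≠ conjFun χ) :
    ∀ α ∈ R φ, ∀ β ∈ R χ, classInner α β = 0 :=
  hS.disjoint χ hχ φ hφ (hS.orthogonal φ hφ χ hχ h1)
    (hS.orthogonal φ hφ _ (hS.conj_mem χ hχ) h2)

theorem inner_sum_R (hS : IsCoherenceSystem S τ R) {χ : L → ℂ} (hχ : χ ∈ S) (v : G → ℂ)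
    (c : (G → ℂ) → ℤ) (hc : ∀ e ∈ R χ, classInner v e = c e) :
    classInner v (τ (χ - conjFun χ)) = ((∑ e ∈ R χ, c e : ℤ) : ℂ) := by
  rw [hS.sum_eq χ hχ, classInner_sum_right]
  push_cast
  exact Finset.sum_congr rfl fun e he => hc e he

/-- In a coherence system, for members `χ`, `ψ` of the same degree with `ψ ≠ χ, conj χ`,
`τ (χ - ψ)` is a sum of members of `R χ` minus a sum of members of `R ψ`. -/
theorem split (hS : IsCoherenceSystem S τ R) {χ ψ : L → ℂ} (hχ : χ ∈ S) (hψ : ψ ∈ S)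
    (hdeg : χ 1 = ψ 1) (h1 : ψ ≠ χ) (h2 : ψ ≠ conjFun χ) :
    ∃ a b : (G → ℂ) → ℤ, (∀ e ∈ R χ, a e * a e = a e) ∧ (∀ e ∈ R ψ, b e * b e = - b e) ∧
      classInner χ χ = ((∑ e ∈ R χ, a e : ℤ) : ℂ) ∧
      τ (χ - ψ) = ∑ e ∈ R χ, a e • e + ∑ e ∈ R ψ, b e • e := by
  have hχc := hS.conj_mem χ hχ
  have hψc := hS.conj_mem ψ hψ
  have h3 : χ ≠ conjFun ψ := fun h => h2 (by rw [h, conjFun_conjFun])
  have hmem := sub_mem hχ hψ hdeg
  have hgen : IsGeneralizedCharacter G (τ (χ - ψ)) := hS.isometry.2.2.2 _ hmem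
  have hisom := hS.isometry.2.2.1
  -- integral coefficients
  have hint : ∀ e : G → ℂ, ∃ n : ℤ, (e ∈ R χ ∨ e ∈ R ψ) → classInner (τ (χ - ψ)) e = n := by
    intro e
    by_cases he : e ∈ R χ ∨ e ∈ R ψ
    · have hge : IsGeneralizedCharacter G e :=
        he.elim (fun h => hS.virtual χ hχ e h) (fun h => hS.virtual ψ hψ e h)
      obtain ⟨n, hn⟩ := inner_isInt hgen hge
      exact ⟨n, fun _ => hn⟩
    · exact ⟨0, fun h => absurd h he⟩
  choose c hc using hint
  have hcχ : ∀ e ∈ R χ, classInner (τ (χ - ψ)) e = c e := fun e he => hc e (Or.inl he)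
  have hcψ : ∀ e ∈ R ψ, classInner (τ (χ - ψ)) e = c e := fun e he => hc e (Or.inr he)
  -- the sums of the coefficients
  have hsumχ : classInner χ χ = ((∑ e ∈ R χ, c e : ℤ) : ℂ) := by
    rw [← inner_sum_R hS hχ _ c hcχ, hisom _ hmem _ (sub_conj_mem hS hχ), classInner_sub_left,
      classInner_sub_right, classInner_sub_right, hS.orthogonal χ hχ _ hχc
      (hS.conj_ne χ hχ).symm, hS.orthogonal ψ hψ χ hχ h1, hS.orthogonal ψ hψ _ hχc h2]
    ring
  have hsumψ : classInner ψ ψ = ((- ∑ e ∈ R ψ, c e : ℤ) : ℂ) := by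
    rw [Int.cast_neg, ← inner_sum_R hS hψ _ c hcψ, hisom _ hmem _ (sub_conj_mem hS hψ),
      classInner_sub_left, classInner_sub_right, classInner_sub_right,
      hS.orthogonal χ hχ ψ hψ h1.symm, hS.orthogonal χ hχ _ hψc h3,
      hS.orthogonal ψ hψ _ hψc (hS.conj_ne ψ hψ).symm]
    ring
  have hnorm : classInner (τ (χ - ψ)) (τ (χ - ψ)) = classInner χ χ + classInner ψ ψ := by
    rw [hisom _ hmem _ hmem, classInner_sub_left, classInner_sub_right, classInner_sub_right,
      hS.orthogonal χ hχ ψ hψ h1.symm, hS.orthogonal ψ hψ χ hχ h1]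
    ring
  have horth := R_orthogonal hS hχ hψ h1 h2
  -- first projection
  set v := τ (χ - ψ) with hv
  set v₁ := v - ∑ e ∈ R χ, c e • e with hv₁
  have hv₁n := inner_sub_proj_self (orthonormal_R hS hχ) v c hcχ
  rw [← hv₁] at hv₁n
  have hc₁ : ∀ e ∈ R ψ, classInner v₁ e = c e := by
    intro e he
    rw [hv₁, classInner_sub_left, hcψ e he, inner_sum_left_eq_zero, sub_zero]
    intro x hx
    exact inner_symm_zero (horth e he x hx)
  set v₂ := v₁ - ∑ e ∈ R ψ, c e • e with hv₂
  have hv₂n := inner_sub_proj_self (orthonormal_R hS hψ) v₁ c hc₁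
  rw [← hv₂] at hv₂n
  have hfin : classInner v₂ v₂ = ((∑ e ∈ R χ, (c e - c e * c e) +
      ∑ e ∈ R ψ, (- c e - c e * c e) : ℤ) : ℂ) := by
    rw [hv₂n, hv₁n, hnorm, hsumχ, hsumψ, ← Int.cast_add, ← Int.cast_sub, ← Int.cast_sub]
    congr 1
    rw [Finset.sum_sub_distrib, Finset.sum_sub_distrib, Finset.sum_neg_distrib]
    ring
  have hnn := nonneg_of_inner_self_eq_int hfin
  have hle1 : ∀ e ∈ R χ, c e - c e * c e ≤ 0 := fun e _ => by
    nlinarith [Int.le_self_sq (c e)]
  have hle2 : ∀ e ∈ R ψ, - c e - c e * c e ≤ 0 := fun e _ => by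
    nlinarith [Int.le_self_sq (- c e)]
  have hs1 := Finset.sum_nonpos hle1
  have hs2 := Finset.sum_nonpos hle2
  have he1 : ∑ e ∈ R χ, (c e - c e * c e) = 0 := by linarith
  have he2 : ∑ e ∈ R ψ, (- c e - c e * c e) = 0 := by linarith
  have hz1 := (Finset.sum_eq_zero_iff_of_nonpos hle1).1 he1
  have hz2 := (Finset.sum_eq_zero_iff_of_nonpos hle2).1 he2
  refine ⟨c, c, fun e he => by linarith [hz1 e he], fun e he => by linarith [hz2 e he],
    hsumχ, ?_⟩
  have hv₂0 : v₂ = 0 := by
    apply classInner_self_eq_zero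
    rw [hfin, he1, he2]
    simp
  have : v = v₂ + (∑ e ∈ R χ, c e • e + ∑ e ∈ R ψ, c e • e) := by
    rw [hv₂, hv₁]; abel
  rw [this, hv₂0, zero_add]

/-- The key vector: a virtual character `X` that will be the image of `χ`. -/
theorem exists_image (hS : IsCoherenceSystem S τ R) (hdeg : ∀ φ ∈ S, ∀ ψ ∈ S, φ 1 = ψ 1)
    {χ : L → ℂ} (hχ : χ ∈ S) :
    ∃ X : G → ℂ, IsGeneralizedCharacter G X ∧ classInner X X = classInner χ χ ∧
      ∀ ψ ∈ S, ψ ≠ χ → classInner (τ (χ - ψ)) X = classInner χ χ := by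
  have hχc := hS.conj_mem χ hχ
  have hisom := hS.isometry.2.2.1
  by_cases hex : ∃ ψ ∈ S, ψ ≠ χ ∧ ψ ≠ conjFun χ
  · obtain ⟨ψ₀, hψ₀, h1, h2⟩ := hex
    obtain ⟨a, b, ha, hb, hN, hsplit⟩ := split hS hχ hψ₀ (hdeg _ hχ _ hψ₀) h1 h2
    set X := ∑ e ∈ R χ, a e • e with hX
    set Y := ∑ e ∈ R ψ₀, b e • e with hY
    have hXX : classInner X X = classInner χ χ := by
      rw [hX, inner_sum_sum (orthonormal_R hS hχ), hN]
      congr 1
      exact Finset.sum_congr rfl ha
    have horth := R_orthogonal hS hχ hψ₀ h1 h2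
    have hYX : classInner Y X = 0 := by
      rw [hY, hX]
      refine inner_sum_left_eq_zero _ fun e he => inner_sum_right_eq_zero _ fun f hf => ?_
      exact horth e he f hf
    have hψ₀X : classInner (τ (χ - ψ₀)) X = classInner χ χ := by
      rw [hsplit, classInner_add_left, hXX, hYX, add_zero]
    refine ⟨X, ?_, hXX, ?_⟩
    · exact isGen_sum _ fun e he => isGen_zsmul _ (hS.virtual χ hχ e he)
    · intro ψ hψ hne
      by_cases hc1 : ψ = conjFun χ
      · rw [hc1, hN]
        rw [hS.sum_eq χ hχ]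
        apply inner_symm_int
        rw [classInner_sum_right]
        push_cast
        exact Finset.sum_congr rfl fun e he => inner_sum_mem (orthonormal_R hS hχ) a he
      by_cases hc2 : ψ = ψ₀
      · rw [hc2]; exact hψ₀X
      by_cases hc3 : ψ = conjFun ψ₀
      · have : χ - ψ = (χ - ψ₀) + (ψ₀ - conjFun ψ₀) := by rw [hc3]; abel
        rw [this, hS.isometry.1 _ (sub_mem hχ hψ₀ (hdeg _ hχ _ hψ₀)) _ (sub_conj_mem hS hψ₀),
          classInner_add_left, hψ₀X, hS.sum_eq ψ₀ hψ₀, classInner_sum_left]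
        rw [Finset.sum_eq_zero, add_zero]
        intro e he
        exact inner_sum_right_eq_zero _ fun f hf => horth e he f hf
      · obtain ⟨a', b', ha', hb', hN', hsplit'⟩ := split hS hχ hψ (hdeg _ hχ _ hψ) hne hc1
        have hin : classInner (τ (χ - ψ)) (τ (χ - ψ₀)) = classInner χ χ := by
          rw [hisom _ (sub_mem hχ hψ (hdeg _ hχ _ hψ)) _ (sub_mem hχ hψ₀ (hdeg _ hχ _ hψ₀)),
            classInner_sub_left, classInner_sub_right, classInner_sub_right,
            hS.orthogonal χ hχ ψ₀ hψ₀ h1.symm, hS.orthogonal ψ hψ χ hχ hne,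
            hS.orthogonal ψ hψ ψ₀ hψ₀ hc2]
          ring
        have horth' := R_orthogonal hS hψ₀ hψ hc2 hc3
        have hY0 : classInner (τ (χ - ψ)) Y = 0 := by
          rw [hsplit', classInner_add_left]
          have e1 : classInner (∑ e ∈ R χ, a' e • e) Y = 0 :=
            inner_sum_left_eq_zero _ fun e he => inner_sum_right_eq_zero _ fun f hf =>
              inner_symm_zero (horth f hf e he)
          have e2 : classInner (∑ e ∈ R ψ, b' e • e) Y = 0 :=
            inner_sum_left_eq_zero _ fun e he => inner_sum_right_eq_zero _ fun f hf =>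
              horth' e he f hf
          rw [e1, e2, add_zero]
        rw [hsplit, classInner_add_right, hY0, add_zero] at hin
        exact hin
  · push Not at hex
    obtain ⟨N, hN⟩ := classInner_isNat (hS.isCharacter χ hχ) (hS.isCharacter χ hχ)
    have hcard : (((R χ).card : ℤ) : ℂ) = ((2 * N : ℤ) : ℂ) := by
      have h1 : classInner (τ (χ - conjFun χ)) (τ (χ - conjFun χ)) =
          (((R χ).card : ℤ) : ℂ) := by
        have : (∑ e ∈ R χ, e) = ∑ e ∈ R χ, (fun _ => (1 : ℤ)) e • e := by simp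
        rw [hS.sum_eq χ hχ, this, inner_sum_sum (orthonormal_R hS hχ)]
        simp
      rw [← h1, hisom _ (sub_conj_mem hS hχ) _ (sub_conj_mem hS hχ), classInner_sub_left,
        classInner_sub_right, classInner_sub_right, inner_conjFun_self,
        hS.orthogonal χ hχ _ hχc (hS.conj_ne χ hχ).symm,
        hS.orthogonal _ hχc χ hχ (hS.conj_ne χ hχ), hN]
      push_cast
      ring
    have hcard' : (R χ).card = 2 * N := by exact_mod_cast hcard
    obtain ⟨E, hE, hEc⟩ := Finset.exists_subset_card_eq (s := R χ) (n := N) (by omega)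
    have hEo : Orthonormal E :=
      ⟨fun α hα => (orthonormal_R hS hχ).self α (hE hα),
        fun α hα β hβ => (orthonormal_R hS hχ).ne α (hE hα) β (hE hβ)⟩
    refine ⟨∑ e ∈ E, e, isGen_sum _ fun e he => hS.virtual χ hχ e (hE he), ?_, ?_⟩
    · have : (∑ e ∈ E, e) = ∑ e ∈ E, (fun _ => (1 : ℤ)) e • e := by simp
      rw [this, inner_sum_sum hEo, hN]
      simp [hEc]
    · intro ψ hψ hne
      have hψc := hex ψ hψ hne
      rw [hψc, hS.sum_eq χ hχ, classInner_sum_right, hN]
      have : ∀ e ∈ E, classInner (∑ α ∈ R χ, α) e = 1 := by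
        intro e he
        have h1 : (∑ e ∈ R χ, e) = ∑ e ∈ R χ, (fun _ => (1 : ℤ)) e • e := by simp
        rw [h1, inner_sum_mem (orthonormal_R hS hχ) _ (hE he)]
        simp
      rw [Finset.sum_congr rfl this]
      simp [hEc]

/-- **Uniform degree coherence.** -/
theorem coherent (hS : IsCoherenceSystem S τ R) (hdeg : ∀ φ ∈ S, ∀ ψ ∈ S, φ 1 = ψ 1) :
    IsCoherent S {1}ᶜ τ := by
  obtain ⟨χ, hχ⟩ := hS.nonempty
  obtain ⟨d, hd, hχd⟩ := exists_degree hS hχ
  have hd0 : (d : ℂ) ≠ 0 := by exact_mod_cast hd.ne'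
  have hSd : ∀ ψ ∈ S, ψ 1 = d := fun ψ hψ => by rw [hdeg ψ hψ χ hχ, hχd]
  obtain ⟨X, hXg, hXX, hX⟩ := exists_image hS hdeg hχ
  have hiso := hS.isometry
  refine ⟨⟨χ - conjFun χ, sub_conj_mem hS hχ, sub_ne_zero.2 (hS.conj_ne χ hχ).symm⟩, ?_⟩
  -- the coefficient function
  have hm : ∀ α : L → ℂ, ∃ m : ℤ, α ∈ zspan S → α 1 = m * d := by
    intro α
    by_cases hα : α ∈ zspan S
    · have : ∃ m : ℤ, α 1 = m * d := by
        refine Submodule.span_induction
          (p := fun (α : L → ℂ) _ => ∃ m : ℤ, α 1 = (m : ℂ) * (d : ℂ)) ?_ ?_ ?_ ?_ hα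
        · intro ψ hψ
          exact ⟨1, by rw [hSd ψ hψ]; simp⟩
        · exact ⟨0, by simp⟩
        · rintro x y _ _ ⟨m, hm⟩ ⟨n, hn⟩
          exact ⟨m + n, by rw [Pi.add_apply, hm, hn]; push_cast; ring⟩
        · rintro a x _ ⟨m, hm⟩
          exact ⟨a * m, by rw [Pi.smul_apply, hm, zsmul_eq_mul]; push_cast; ring⟩
      obtain ⟨m, hm⟩ := this
      exact ⟨m, fun _ => hm⟩
    · exact ⟨0, fun h => absurd h hα⟩
  choose m hm using hm
  have hm_unique : ∀ α ∈ zspan S, ∀ n : ℤ, α 1 = n * d → m α = n := by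
    intro α hα n hn
    have := hm α hα
    rw [hn] at this
    have := mul_right_cancel₀ hd0 this
    exact_mod_cast this.symm
  have hadd : ∀ α ∈ zspan S, ∀ β ∈ zspan S, m (α + β) = m α + m β := by
    intro α hα β hβ
    apply hm_unique _ (Submodule.add_mem (Submodule.span ℤ S) hα hβ)
    rw [Pi.add_apply, hm α hα, hm β hβ]
    push_cast
    ring
  have hsmul : ∀ α ∈ zspan S, ∀ n : ℤ, m (n • α) = n * m α := by
    intro α hα n
    apply hm_unique _ (Submodule.smul_mem (Submodule.span ℤ S) n hα)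
    rw [Pi.smul_apply, hm α hα, zsmul_eq_mul]
    push_cast
    ring
  -- the difference part
  have hdiff : ∀ α ∈ zspan S, m α • χ - α ∈ zspanOn S {1}ᶜ := by
    intro α hα
    apply mem_zspanOn_compl_one
    · exact Submodule.sub_mem (Submodule.span ℤ S)
        (Submodule.smul_mem (Submodule.span ℤ S) _ (Submodule.subset_span hχ)) hα
    · rw [Pi.sub_apply, Pi.smul_apply, hχd, hm α hα, zsmul_eq_mul, sub_self]
  -- the inner products with X
  have hXin : ∀ α ∈ zspan S, classInner (τ (m α • χ - α)) X = classInner (m α • χ - α) χ := by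
    intro α hα
    refine Submodule.span_induction
      (p := fun α _ => classInner (τ (m α • χ - α)) X = classInner (m α • χ - α) χ)
      ?_ ?_ ?_ ?_ hα
    · intro ψ hψ
      have hψm : m ψ = 1 :=
        hm_unique ψ (Submodule.subset_span hψ) 1 (by rw [hSd ψ hψ]; simp)
      rw [hψm, one_smul]
      by_cases hψχ : ψ = χ
      · rw [hψχ, sub_self, iso_zero hiso zspanOn_zero, classInner_zero_left,
          classInner_zero_left]
      · rw [hX ψ hψ hψχ, classInner_sub_left, hS.orthogonal ψ hψ χ hχ hψχ, sub_zero]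
    · have h0 : m 0 = 0 := hm_unique 0 (Submodule.zero_mem (Submodule.span ℤ S)) 0 (by simp)
      rw [h0, zero_smul, sub_self, iso_zero hiso zspanOn_zero, classInner_zero_left,
        classInner_zero_left]
    · intro x y hx hy ihx ihy
      have e : m (x + y) • χ - (x + y) = (m x • χ - x) + (m y • χ - y) := by
        rw [hadd x hx y hy, add_smul]; abel
      rw [e, hiso.1 _ (hdiff x hx) _ (hdiff y hy), classInner_add_left, classInner_add_left,
        ihx, ihy]
    · intro a x hx ihx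
      have e : m (a • x) • χ - a • x = a • (m x • χ - x) := by
        rw [hsmul x hx a, mul_smul, smul_sub]
      rw [e, hiso.2.1 _ (hdiff x hx) a, inner_zsmul_left, inner_zsmul_left, ihx]
  have hXin' : ∀ α ∈ zspan S, classInner X (τ (m α • χ - α)) = classInner χ (m α • χ - α) := by
    intro α hα
    rw [← classInner_conj_symm, hXin α hα, classInner_conj_symm]
  refine ⟨fun α => m α • X - τ (m α • χ - α), ⟨?_, ?_, ?_, ?_⟩, ?_⟩
  · intro α hα β hβ
    have e : m (α + β) • χ - (α + β) = (m α • χ - α) + (m β • χ - β) := by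
      rw [hadd α hα β hβ, add_smul]; abel
    show m (α + β) • X - τ (m (α + β) • χ - (α + β)) =
      (m α • X - τ (m α • χ - α)) + (m β • X - τ (m β • χ - β))
    rw [e, hiso.1 _ (hdiff α hα) _ (hdiff β hβ), hadd α hα β hβ, add_smul]
    abel
  · intro α hα n
    have e : m (n • α) • χ - n • α = n • (m α • χ - α) := by
      rw [hsmul α hα n, mul_smul, smul_sub]
    show m (n • α) • X - τ (m (n • α) • χ - n • α) = n • (m α • X - τ (m α • χ - α))
    rw [e, hiso.2.1 _ (hdiff α hα) n, hsmul α hα n, mul_smul, smul_sub]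
  · intro α hα β hβ
    show classInner (m α • X - τ (m α • χ - α)) (m β • X - τ (m β • χ - β)) = classInner α β
    have e1 : classInner (m α • X - τ (m α • χ - α)) (m β • X - τ (m β • χ - β)) =
        classInner (m α • χ - (m α • χ - α)) (m β • χ - (m β • χ - β)) := by
      rw [classInner_sub_left, classInner_sub_right, classInner_sub_right,
        classInner_sub_left (m α • χ), classInner_sub_right (m α • χ), 
        classInner_sub_right (m α • χ - α),
        inner_zsmul_left (m α) X, inner_zsmul_right (m β) X, hXX,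
        inner_zsmul_left (m α) X, hXin' β hβ, 
        inner_zsmul_right (m β) (τ (m α • χ - α)), hXin α hα,
        hiso.2.2.1 _ (hdiff α hα) _ (hdiff β hβ),
        inner_zsmul_left (m α) χ, inner_zsmul_right (m β) χ χ,
        inner_zsmul_left (m α) χ (m β • χ - β),
        inner_zsmul_right (m β) (m α • χ - α) χ]
    rw [e1, sub_sub_cancel, sub_sub_cancel]
  · intro α hα
    exact isGen_sub (isGen_zsmul _ hXg) (hiso.2.2.2 _ (hdiff α hα))
  · intro α hα
    have hm0 : m α = 0 := hm_unique α hα.1 0 (by rw [apply_one_of_mem hα]; simp)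
    show m α • X - τ (m α • χ - α) = τ α
    rw [hm0, zero_smul, zero_smul, zero_sub, zero_sub, iso_neg hiso hα, neg_neg]

end system

end Cfsg.Agent.OddOrderCharacters.UniformDegree
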