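import Mathlib.RepresentationTheory.Character
import Mathlib.LinearAlgebra.Eigenspace.Charpoly
import Mathlib.Analysis.Complex.Polynomial.Basic
import Mathlib.RingTheory.IntegralClosure.IntegrallyClosed
import Mathlib.GroupTheory.GroupAction.Quotient
import Mathlib.GroupTheory.OrderOfElement

/-!
Central class sums of an irreducible complex representation, integrality of character values,
and sums over a free orbit decomposition.
-/

set_option autoImplicit false

namespace Cfsg.Agent.OddOrderCharacters.ClassSum

open Module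

/-- The values of the character of a finite-dimensional complex representation of a finite group
are algebraic integers. -/
theorem character_isIntegral {G : Type*} [Group G] [Finite G] {V : Type*} [AddCommGroup V]
    [Module ℂ V] [FiniteDimensional ℂ V] (ρ : Representation ℂ G V) (g : G) :
    IsIntegral ℤ (ρ.character g) := by
  classical
  have hsplit : (LinearMap.charpoly (ρ g)).Splits := IsAlgClosed.splits _
  have htr : ρ.character g = (LinearMap.charpoly (ρ g)).roots.sum :=
    Module.End.trace_eq_sum_roots_charpoly_of_splits hsplit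
  rw [htr]
  refine IsIntegral.multiset_sum ?_
  intro μ hμ
  have hroot : (LinearMap.charpoly (ρ g)).IsRoot μ := by
    exact (Polynomial.mem_roots'.1 hμ).2
  have heig : Module.End.HasEigenvalue (ρ g) μ :=
    (Module.End.hasEigenvalue_iff_isRoot_charpoly _ _).2 hroot
  obtain ⟨v, hv⟩ := heig.exists_hasEigenvector
  have hpow : μ ^ (Nat.card G) = 1 := by
    have h1 : ((ρ g) ^ (Nat.card G)) v = μ ^ (Nat.card G) • v := hv.pow_apply _
    rw [← map_pow, pow_card_eq_one', map_one] at h1
    have h2 : (μ ^ (Nat.card G) - 1) • v = 0 := by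
      rw [sub_smul, ← h1, one_smul]; simp
    rcases smul_eq_zero.1 h2 with h3 | h3
    · exact sub_eq_zero.1 h3
    · exact absurd h3 hv.2
  refine ⟨Polynomial.X ^ (Nat.card G) - 1, ?_, ?_⟩
  · exact Polynomial.monic_X_pow_sub_C (1 : ℤ) (Nat.card_pos.ne') 
  · simp [hpow]

/-- Schur's lemma: an endomorphism commuting with an irreducible complex representation is a
scalar. -/
theorem schur_scalar {G : Type*} [Group G] {V : Type*} [AddCommGroup V]
    [Module ℂ V] [FiniteDimensional ℂ V] (ρ : Representation ℂ G V) (hρ : ρ.IsIrreducible)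
    (T : V →ₗ[ℂ] V) (hT : ∀ g : G, T ∘ₗ ρ g = ρ g ∘ₗ T) :
    ∃ c : ℂ, T = c • LinearMap.id := by
  have := hρ
  let f : Representation.IntertwiningMap ρ ρ := ⟨T, hT⟩
  have hbij : Function.Bijective (algebraMap ℂ (Representation.IntertwiningMap ρ ρ)) :=
    Representation.IsIrreducible.algebraMap_intertwiningMap_bijective_of_isAlgClosed
  obtain ⟨c, hc⟩ := hbij.2 f
  refine ⟨c, ?_⟩
  have h1 : ((algebraMap ℂ (Representation.IntertwiningMap ρ ρ)) c).toLinearMap = T := by
    rw [hc]
  ext v
  have h2 := LinearMap.congr_fun h1 v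
  rw [Algebra.algebraMap_eq_smul_one] at h2
  exact h2.symm

/-- The sum of `ρ x` over a conjugation-invariant finite set is a scalar for `ρ` irreducible. -/
theorem invariant_sum_scalar {G : Type*} [Group G] {V : Type*} [AddCommGroup V]
    [Module ℂ V] [FiniteDimensional ℂ V] (ρ : Representation ℂ G V) (hρ : ρ.IsIrreducible)
    (S : Finset G) (hS : ∀ g : G, ∀ x ∈ S, g * x * g⁻¹ ∈ S) :
    ∃ c : ℂ, ∑ x ∈ S, ρ x = c • (1 : V →ₗ[ℂ] V) := by
  refine schur_scalar ρ hρ _ ?_
  intro g
  have key : ρ g * ∑ x ∈ S, ρ x = (∑ x ∈ S, ρ x) * ρ g := by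
    rw [Finset.mul_sum, Finset.sum_mul]
    refine Finset.sum_bij' (fun x _ => g * x * g⁻¹) (fun x _ => g⁻¹ * x * g) ?_ ?_ ?_ ?_ ?_
    · intro x hx; exact hS g x hx
    · intro x hx
      have := hS g⁻¹ x hx
      simpa using this
    · intro x _; group
    · intro x _; group
    · intro x _
      rw [← map_mul, ← map_mul]
      congr 1
      group
  exact key.symm

/-- The multiplication rule for central class sums, in terms of character values only: for
conjugation-invariant finite sets `S`, `T` and `χ` the character of an irreducible representation,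
`χ(1) ∑_{x∈S} ∑_{y∈T} χ(xy) = (∑_{x∈S} χ x) (∑_{y∈T} χ y)`. -/
theorem character_class_sum_mul {G : Type*} [Group G] {V : Type*} [AddCommGroup V]
    [Module ℂ V] [FiniteDimensional ℂ V] (ρ : Representation ℂ G V) (hρ : ρ.IsIrreducible)
    (S T : Finset G) (hS : ∀ g : G, ∀ x ∈ S, g * x * g⁻¹ ∈ S)
    (hT : ∀ g : G, ∀ x ∈ T, g * x * g⁻¹ ∈ T) :
    ρ.character 1 * ∑ x ∈ S, ∑ y ∈ T, ρ.character (x * y) =
      (∑ x ∈ S, ρ.character x) * ∑ y ∈ T, ρ.character y := by
  obtain ⟨a, ha⟩ := invariant_sum_scalar ρ hρ S hS
  obtain ⟨b, hb⟩ := invariant_sum_scalar ρ hρ T hT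
  have h1 : ∑ x ∈ S, ρ.character x = a * ρ.character 1 := by
    have : ∑ x ∈ S, ρ.character x = LinearMap.trace ℂ V (∑ x ∈ S, ρ x) := by
      rw [map_sum]; rfl
    rw [this, ha, map_smul, smul_eq_mul]
    simp [Representation.character]
  have h2 : ∑ x ∈ T, ρ.character x = b * ρ.character 1 := by
    have : ∑ x ∈ T, ρ.character x = LinearMap.trace ℂ V (∑ x ∈ T, ρ x) := by
      rw [map_sum]; rfl
    rw [this, hb, map_smul, smul_eq_mul]
    simp [Representation.character]
  have h3 : ∑ x ∈ S, ∑ y ∈ T, ρ.character (x * y) = a * b * ρ.character 1 := by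
    have : ∑ x ∈ S, ∑ y ∈ T, ρ.character (x * y) =
        LinearMap.trace ℂ V ((∑ x ∈ S, ρ x) * (∑ y ∈ T, ρ y)) := by
      rw [Finset.sum_mul_sum, map_sum]
      refine Finset.sum_congr rfl fun x _ => ?_
      rw [map_sum]
      refine Finset.sum_congr rfl fun y _ => ?_
      simp [Representation.character]
    rw [this, ha, hb]
    simp [Representation.character, smul_smul, mul_comm]
  rw [h1, h2, h3]
  ring

/-- The sum of an invariant function with algebraic-integer values over a finite invariant set on
which a finite group `H` acts freely is `|H|` times an algebraic integer. -/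
theorem free_orbit_sum {H X : Type*} [Group H] [Finite H] [MulAction H X] (U : Finset X)
    (hU : ∀ h : H, ∀ x ∈ U, h • x ∈ U) (hfree : ∀ h : H, ∀ x ∈ U, h • x = x → h = 1)
    (f : X → ℂ) (hf : ∀ h : H, ∀ x ∈ U, f (h • x) = f x) (hint : ∀ x ∈ U, IsIntegral ℤ (f x)) :
    ∃ α : ℂ, IsIntegral ℤ α ∧ ∑ x ∈ U, f x = (Nat.card H : ℂ) * α := by
  classical
  have := Fintype.ofFinite H
  induction hn : U.card using Nat.strong_induction_on generalizing U with
  | _ n ih =>
    rcases U.eq_empty_or_nonempty with rfl | ⟨x, hx⟩
    · exact ⟨0, isIntegral_zero, by simp⟩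
    · set O : Finset X := Finset.univ.image (fun h : H => h • x) with hO
      have hOU : O ⊆ U := by
        intro y hy
        obtain ⟨h, -, rfl⟩ := Finset.mem_image.1 hy
        exact hU h x hx
      have hinj : Function.Injective (fun h : H => h • x) := by
        intro h k hhk
        have h1 : (k⁻¹ * h) • x = x := by
          rw [mul_smul]
          simp only at hhk
          rw [hhk, inv_smul_smul]
        have h2 := hfree _ x hx h1
        exact (inv_mul_eq_one.1 h2).symm
      have hsumO : ∑ y ∈ O, f y = (Nat.card H : ℂ) * f x := by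
        rw [hO, Finset.sum_image (fun a _ b _ hab => hinj hab)]
        rw [Finset.sum_congr rfl (fun h _ => hf h x hx)]
        simp
      have hmemO : ∀ y, y ∈ O ↔ ∃ h : H, h • x = y := by
        intro y; simp [hO]
      have hxO : x ∈ O := (hmemO x).2 ⟨1, one_smul _ _⟩
      obtain ⟨α, hα, hα'⟩ := ih (U \ O).card
        (by
          rw [← hn]
          exact Finset.card_lt_card (Finset.sdiff_ssubset hOU ⟨x, hxO⟩))
        (U \ O)
        (by
          intro h y hy
          rw [Finset.mem_sdiff] at hy ⊢
          refine ⟨hU h y hy.1, fun hh => hy.2 ?_⟩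
          obtain ⟨k, hk⟩ := (hmemO _).1 hh
          refine (hmemO _).2 ⟨h⁻¹ * k, ?_⟩
          rw [mul_smul, hk, inv_smul_smul])
        (fun h y hy => hfree h y (Finset.mem_sdiff.1 hy).1)
        (fun h y hy => hf h y (Finset.mem_sdiff.1 hy).1)
        (fun y hy => hint y (Finset.mem_sdiff.1 hy).1) rfl
      refine ⟨α + f x, hα.add (hint x hx), ?_⟩
      rw [← Finset.sum_sdiff hOU, hα', hsumO]
      ring

/-- A finite invariant set on which a finite group `H` acts freely has size divisible by `|H|`. -/
theorem card_dvd_of_free {H X : Type*} [Group H] [Finite H] [MulAction H X] (U : Finset X)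
    (hU : ∀ h : H, ∀ x ∈ U, h • x ∈ U) (hfree : ∀ h : H, ∀ x ∈ U, h • x = x → h = 1) :
    Nat.card H ∣ U.card := by
  classical
  have := Fintype.ofFinite H
  induction hn : U.card using Nat.strong_induction_on generalizing U with
  | _ n ih =>
    subst hn
    rcases U.eq_empty_or_nonempty with rfl | ⟨x, hx⟩
    · simp
    · set O : Finset X := Finset.univ.image (fun h : H => h • x) with hO
      have hOU : O ⊆ U := by
        intro y hy
        obtain ⟨h, -, rfl⟩ := Finset.mem_image.1 hy
        exact hU h x hx
      have hinj : Function.Injective (fun h : H => h • x) := by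
        intro h k hhk
        have h1 : (k⁻¹ * h) • x = x := by
          rw [mul_smul]
          simp only at hhk
          rw [hhk, inv_smul_smul]
        have h2 := hfree _ x hx h1
        exact (inv_mul_eq_one.1 h2).symm
      have hcardO : O.card = Nat.card H := by
        rw [hO, Finset.card_image_of_injective _ hinj, Finset.card_univ, Nat.card_eq_fintype_card]
      have hmemO : ∀ y, y ∈ O ↔ ∃ h : H, h • x = y := by
        intro y; simp [hO]
      have hxO : x ∈ O := (hmemO x).2 ⟨1, one_smul _ _⟩
      have h1 := ih (U \ O).card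
        (Finset.card_lt_card (Finset.sdiff_ssubset hOU ⟨x, hxO⟩))
        (U \ O)
        (by
          intro h y hy
          rw [Finset.mem_sdiff] at hy ⊢
          refine ⟨hU h y hy.1, fun hh => hy.2 ?_⟩
          obtain ⟨k, hk⟩ := (hmemO _).1 hh
          refine (hmemO _).2 ⟨h⁻¹ * k, ?_⟩
          rw [mul_smul, hk, inv_smul_smul])
        (fun h y hy => hfree h y (Finset.mem_sdiff.1 hy).1) rfl
      have h2 := Finset.card_sdiff_add_card_eq_card hOU
      rw [← h2, hcardO]
      exact Dvd.dvd.add h1 (dvd_refl _)

end Cfsg.Agent.OddOrderCharacters.ClassSum
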