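import Mathlib
import Cfsg.Prelude.Def_Characters
import Cfsg.Prelude.Def_OddOrderChar
import Cfsg.Agent.Characters.Core
import Cfsg.Agent.OddOrderCharacters.InducedNormal
import Cfsg.Agent.OddOrderCharacters.InducedSum
import Cfsg.Agent.Characters.DegreeBounds
import Cfsg.Agent.S1492
import Cfsg.Agent.S1528
import Cfsg.Agent.S0161

/-!
# Counting irreducible characters nontrivial on a normal subgroup of a Frobenius kernel

`L` is a finite group, `K` a normal `p`-subgroup containing the centralisers of its non-identity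
elements, `Z` a normal subgroup of `L` inside the centre of `K`.
-/

set_option autoImplicit false
set_option linter.unusedSectionVars false

open scoped ComplexConjugate
open Cfsg Cfsg.Agent.Characters.Core

namespace Cfsg.Agent.OddOrderCharacters.SibleyCount

universe u

variable {L : Type u} [Group L] [Fintype L]

/-- The set of irreducible characters of `L` not containing `Z` in the kernel. -/
def nonKer (Z : Subgroup L) : Set (L → ℂ) := {χ | IsIrrCharacter L χ ∧ ∃ z ∈ Z, χ z ≠ χ 1}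

theorem mem_nonKer {Z : Subgroup L} {χ : L → ℂ} :
    χ ∈ nonKer Z ↔ IsIrrCharacter L χ ∧ ∃ z ∈ Z, χ z ≠ χ 1 := Iff.rfl

theorem nonKer_mono {Z K : Subgroup L} (h : Z ≤ K) : nonKer Z ⊆ nonKer K := fun _ hχ =>
  ⟨hχ.1, hχ.2.choose, h hχ.2.choose_spec.1, hχ.2.choose_spec.2⟩

theorem finite_setOf_irr : {χ : L → ℂ | IsIrrCharacter L χ}.Finite := by
  have h : Finite (IrrCharacter L) := finite_irr
  exact Set.finite_coe_iff.1 h

theorem finite_nonKer (Z : Subgroup L) : (nonKer Z).Finite :=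
  finite_setOf_irr.subset fun _ h => h.1

/-- The finset of irreducible characters of `L` not containing `Z` in the kernel. -/
noncomputable def nk (Z : Subgroup L) : Finset (L → ℂ) := (finite_nonKer Z).toFinset

theorem mem_nk {Z : Subgroup L} {χ : L → ℂ} :
    χ ∈ nk Z ↔ IsIrrCharacter L χ ∧ ∃ z ∈ Z, χ z ≠ χ 1 := by
  rw [nk, Set.Finite.mem_toFinset]; rfl

theorem coe_nk (Z : Subgroup L) : (nk Z : Set (L → ℂ)) = nonKer Z := by
  rw [nk, Set.Finite.coe_toFinset]

theorem nk_mono {Z K : Subgroup L} (h : Z ≤ K) : nk Z ⊆ nk K := fun χ hχ => by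
  rw [mem_nk] at hχ ⊢
  exact nonKer_mono h hχ

/-- The degree of a function as a natural number (meaningful for characters). -/
noncomputable def deg (χ : L → ℂ) : ℕ := ⌊‖χ 1‖⌋₊

theorem deg_eq {χ : L → ℂ} {n : ℕ} (h : χ 1 = n) : deg χ = n := by
  show ⌊‖χ 1‖⌋₊ = n
  rw [h, Complex.norm_natCast, Nat.floor_natCast]

theorem apply_one_eq_deg {χ : L → ℂ} (h : IsIrrCharacter L χ) : χ 1 = (deg χ : ℂ) := by
  obtain ⟨n, -, hn⟩ := isIrr_apply_one h
  rw [deg_eq hn, hn]

theorem deg_pos {χ : L → ℂ} (h : IsIrrCharacter L χ) : 0 < deg χ := by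
  obtain ⟨n, hn0, hn⟩ := isIrr_apply_one h
  rw [deg_eq hn]; exact hn0

/-- The sum of the squares of the degrees of the irreducible characters not containing the normal
subgroup `Z` in the kernel. -/
theorem sum_sq_nk (Z : Subgroup L) [Z.Normal] :
    ∑ χ ∈ nk Z, deg χ ^ 2 + Z.index = Nat.card L := by
  classical
  have : Finite (IrrCharacter L) := finite_irr
  have : Fintype (IrrCharacter L) := Fintype.ofFinite _
  have h1 := InducedSum.sum_above (K := L) (⊥ : Subgroup L) (1 : L)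
  have h2 := InducedSum.sum_above (K := L) Z (1 : L)
  rw [if_pos (Subgroup.one_mem _), Subgroup.index_bot] at h1
  rw [if_pos (Subgroup.one_mem _)] at h2
  have h3 : ∑ χ ∈ nk Z, ((deg χ : ℂ)) ^ 2 =
      ∑ χ : IrrCharacter L, if ∀ a ∈ Z, χ.1 a = χ.1 1 then 0 else χ.1 1 * χ.1 1 := by
    rw [← Finset.sum_filter_add_sum_filter_not Finset.univ
      (fun χ : IrrCharacter L => ∀ a ∈ Z, χ.1 a = χ.1 1)]
    rw [Finset.sum_eq_zero (s := Finset.filter _ _) fun χ hχ => if_pos (Finset.mem_filter.1 hχ).2,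
      zero_add]
    symm
    refine Finset.sum_bij (fun χ _ => χ.1) ?_ ?_ ?_ ?_
    · intro χ hχ
      have := (Finset.mem_filter.1 hχ).2
      push Not at this
      exact mem_nk.2 ⟨χ.2, this⟩
    · intro χ _ ψ _ h
      exact Subtype.ext h
    · intro χ hχ
      obtain ⟨hirr, z, hz, hne⟩ := mem_nk.1 hχ
      refine ⟨⟨χ, hirr⟩, Finset.mem_filter.2 ⟨Finset.mem_univ _, ?_⟩, rfl⟩
      intro h
      exact hne (h z hz)
    · intro χ hχ
      rw [if_neg (Finset.mem_filter.1 hχ).2, ← apply_one_eq_deg χ.2, sq]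
  have h4 : ∑ χ ∈ nk Z, ((deg χ : ℂ)) ^ 2 + (Z.index : ℂ) = (Nat.card L : ℂ) := by
    rw [h3, ← h2, ← h1, ← Finset.sum_add_distrib]
    refine Finset.sum_congr rfl fun χ _ => ?_
    have hb : ∀ a ∈ (⊥ : Subgroup L), χ.1 a = χ.1 1 := by
      intro a ha
      rw [Subgroup.mem_bot.1 ha]
    rw [if_pos hb]
    split_ifs <;> simp
  exact_mod_cast h4

/-- The degree of an irreducible character of a finite `p`-group is a power of `p` whose square
times the order of a central subgroup divides the group order. -/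
theorem degree_pgroup {K : Type*} [Group K] [Finite K] (p : ℕ) [Fact p.Prime] (hK : IsPGroup p K)
    (Z : Subgroup K) (hZ : ∀ z ∈ Z, ∀ k : K, z * k = k * z) {φ : K → ℂ} (hφ : IsIrrCharacter K φ) :
    ∃ k : ℕ, φ 1 = ((p ^ k : ℕ) : ℂ) ∧ (p ^ k) ^ 2 * Nat.card Z ∣ Nat.card K := by
  have hφ' := hφ
  obtain ⟨n, ρ, hρ, rfl⟩ := hφ
  have h1 : ρ.character 1 = (Module.finrank ℂ (Fin n → ℂ) : ℂ) := Representation.char_one ρ
  have hd : Module.finrank ℂ (Fin n → ℂ) ∣ Nat.card K :=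
    Cfsg.Agent.Characters.DegreeBounds.finrank_dvd_card ρ
  obtain ⟨N, hN⟩ := IsPGroup.iff_card.1 hK
  obtain ⟨M, hM⟩ := IsPGroup.iff_card.1 (hK.to_subgroup Z)
  rw [hN, Nat.dvd_prime_pow Fact.out] at hd
  obtain ⟨k, -, hk⟩ := hd
  refine ⟨k, by rw [h1, hk], ?_⟩
  have h2 := Cfsg.Agent.S1492.result ρ.character hφ' ⊥ ⊤ Z bot_le le_top
    (fun c _ b hb => by rw [Subgroup.mem_bot.1 hb]; simp)
    (fun d hd c _ => by rw [hZ d hd c]; simp)
    (fun b hb => by rw [Subgroup.mem_bot.1 hb])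
  rw [h1, hk, Complex.norm_natCast, Subgroup.card_top, hN, hM] at h2
  have h3 : (p ^ k) ^ 2 * p ^ N * p ^ M ≤ (p ^ N) ^ 2 := by exact_mod_cast h2
  rw [hN, hM]
  have hp : 1 < p := (Fact.out : p.Prime).one_lt
  rw [← pow_mul, ← pow_add, ← pow_add, ← pow_mul, Nat.pow_le_pow_iff_right hp] at h3
  rw [← pow_mul, ← pow_add]
  exact pow_dvd_pow p (by omega)

section frob

variable (K : Subgroup L) [K.Normal]
  (hC : ∀ k ∈ K, k ≠ 1 → Subgroup.centralizer ({k} : Set L) ≤ K)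
  (p : ℕ) [Fact p.Prime] (hK : IsPGroup p K)

include hC in
theorem vanish {χ : L → ℂ} (hχ : χ ∈ nonKer K) {x : L} (hx : x ∉ K) : χ x = 0 := by
  obtain ⟨φ, -, rfl⟩ := Cfsg.Agent.S1528.result K hC χ hχ.1 hχ.2
  exact InducedNormal.indFun_of_not_mem K φ hx

include hC hK in
/-- Degrees of the irreducible characters of `L` not containing `K` in the kernel. -/
theorem deg_nonKer (Z : Subgroup L) (hZK : Z ≤ K) (hZ : ∀ z ∈ Z, ∀ k ∈ K, z * k = k * z)
    {χ : L → ℂ} (hχ : χ ∈ nonKer K) :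
    ∃ k : ℕ, deg χ = K.index * p ^ k ∧ (p ^ k) ^ 2 * Nat.card Z ∣ Nat.card K := by
  obtain ⟨φ, hφ, rfl⟩ := Cfsg.Agent.S1528.result K hC χ hχ.1 hχ.2
  obtain ⟨k, hk, hdvd⟩ := degree_pgroup p hK (Z.subgroupOf K)
    (fun z hz y => Subtype.ext (hZ z hz y y.2)) hφ
  refine ⟨k, deg_eq ?_, ?_⟩
  · rw [InducedNormal.indFun_one, hk]; push_cast; ring
  · rwa [Nat.card_congr (Subgroup.subgroupOfEquivOfLe hZK).toEquiv] at hdvd

include hC hK in
/-- The main count: for `e = [L : K]` coprime to `p`, `e` divides `|Z| - 1`, and the sum of the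
squares of the degrees of the characters nontrivial on `Z`. -/
theorem sum_sq_nk_central (he : K.index.Coprime p) (Z : Subgroup L) [Z.Normal] (hZK : Z ≤ K)
    (hZ : ∀ z ∈ Z, ∀ k ∈ K, z * k = k * z) :
    ∃ m : ℕ, Nat.card Z = K.index * m + 1 ∧
      ∑ χ ∈ nk Z, deg χ ^ 2 = K.index ^ 2 * (Z.relIndex K) * m := by
  have hsum := sum_sq_nk Z
  have hcard : Nat.card L = K.index * (Z.relIndex K * Nat.card Z) := by
    have h1 : Nat.card Z * Z.relIndex K = Nat.card K := by
      rw [← Subgroup.relIndex_bot_left, ← Subgroup.relIndex_bot_left]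
      exact Subgroup.relIndex_mul_relIndex ⊥ Z K bot_le hZK
    rw [← K.card_mul_index, ← h1]; ring
  have hidx : Z.index = Z.relIndex K * K.index := (Subgroup.relIndex_mul_index hZK).symm
  have hpos : 0 < Nat.card Z := Nat.card_pos
  obtain ⟨c, hc⟩ : ∃ c, Nat.card Z = c + 1 := ⟨Nat.card Z - 1, by omega⟩
  have hs : ∑ χ ∈ nk Z, deg χ ^ 2 = K.index * (Z.relIndex K * c) := by
    rw [hcard, hidx, hc] at hsum
    have : K.index * (Z.relIndex K * (c + 1)) = K.index * (Z.relIndex K * c) +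
      Z.relIndex K * K.index := by ring
    rw [this] at hsum
    exact Nat.add_right_cancel hsum
  have hdvd : K.index ^ 2 ∣ ∑ χ ∈ nk Z, deg χ ^ 2 := by
    refine Finset.dvd_sum fun χ hχ => ?_
    have hχ' : χ ∈ nonKer K := nonKer_mono hZK (by rw [← coe_nk]; exact hχ)
    obtain ⟨k, hk, -⟩ := deg_nonKer K hC p hK Z hZK hZ hχ'
    rw [hk, mul_pow]
    exact dvd_mul_right _ _
  have hidx0 : 0 < K.index := Nat.pos_of_ne_zero Subgroup.index_ne_zero_of_finite
  have hdvd2 : K.index ∣ Z.relIndex K * c := by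
    rw [hs, sq] at hdvd
    exact Nat.dvd_of_mul_dvd_mul_left hidx0 hdvd
  have hcop : K.index.Coprime (Z.relIndex K) := by
    obtain ⟨N, hN⟩ := IsPGroup.iff_card.1 hK
    have h1 : Z.relIndex K ∣ p ^ N := by
      rw [← hN]; exact Subgroup.relIndex_dvd_card Z K
    exact Nat.Coprime.coprime_dvd_right h1 (Nat.Coprime.pow_right N he)
  obtain ⟨m, hm⟩ := hcop.dvd_of_dvd_mul_left hdvd2
  refine ⟨m, by rw [hc, hm], ?_⟩
  rw [hs, hm]; ring

end frob

/-- conjugate characters -/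
theorem conj_mem_nk {Z : Subgroup L} {χ : L → ℂ} (hχ : χ ∈ nk Z) :
    (fun g => conj (χ g)) ∈ nk Z := by
  obtain ⟨hirr, z, hz, hne⟩ := mem_nk.1 hχ
  refine mem_nk.2 ⟨isIrr_conj hirr, z, hz, fun h => hne ?_⟩
  exact (starRingEnd ℂ).injective h

theorem deg_conj (χ : L → ℂ) : deg (fun g => conj (χ g)) = deg χ := by
  show ⌊‖conj (χ 1)‖⌋₊ = ⌊‖χ 1‖⌋₊
  rw [RCLike.norm_conj]

theorem conj_ne (hodd : Odd (Nat.card L)) {Z : Subgroup L} {χ : L → ℂ} (hχ : χ ∈ nk Z) :
    (fun g => conj (χ g)) ≠ χ := by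
  obtain ⟨hirr, z, hz, hne⟩ := mem_nk.1 hχ
  intro h
  have h1 := Cfsg.Agent.S0161.result hodd ⟨χ, hirr⟩ (fun g => by
    have := congrFun h g
    exact Complex.conj_eq_iff_im.1 this)
  apply hne
  have h2 : χ = fun _ => 1 := h1
  rw [h2]

end Cfsg.Agent.OddOrderCharacters.SibleyCount
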