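import Mathlib.Tactic
import Cfsg.Prelude.Def_Characters
import Cfsg.Prelude.Def_OddOrderChar
import Cfsg.Agent.Characters.Core

/-!
# Tools for coherence: integer spans, generalized characters, one-step extension

Helper lemmas for `S1529` (signs of a coherent extension are uniform) and `S1530` (Feit's coherence
criterion).
-/

set_option autoImplicit false

open scoped ComplexConjugate
open Cfsg Cfsg.Agent.Characters.Core

namespace Cfsg.Agent.OddOrderCharacters.FeitCoherence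

/-! ### Integer spans -/

section zspan

variable {X : Type*} {S T : Set (X → ℂ)} {α β χ : X → ℂ}

theorem zsmul_apply_eq (n : ℤ) (f : X → ℂ) (x : X) : (n • f) x = (n : ℂ) * f x := by
  rw [Pi.smul_apply, zsmul_eq_mul]

theorem mem_zspan_iff : α ∈ zspan S ↔ α ∈ Submodule.span ℤ S := Iff.rfl

theorem subset_zspan (h : χ ∈ S) : χ ∈ zspan S := Submodule.subset_span h

theorem zspan_zero : (0 : X → ℂ) ∈ zspan S := (Submodule.span ℤ S).zero_mem

theorem zspan_add (h : α ∈ zspan S) (h' : β ∈ zspan S) : α + β ∈ zspan S :=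
  (Submodule.span ℤ S).add_mem h h'

theorem zspan_sub (h : α ∈ zspan S) (h' : β ∈ zspan S) : α - β ∈ zspan S :=
  (Submodule.span ℤ S).sub_mem h h'

theorem zspan_neg (h : α ∈ zspan S) : -α ∈ zspan S :=
  (Submodule.span ℤ S).neg_mem h

theorem zspan_zsmul (n : ℤ) (h : α ∈ zspan S) : n • α ∈ zspan S :=
  (Submodule.span ℤ S).smul_mem n h

theorem zspan_sum {ι : Type*} (s : Finset ι) {f : ι → X → ℂ} (h : ∀ i ∈ s, f i ∈ zspan S) :
    ∑ i ∈ s, f i ∈ zspan S :=
  (Submodule.span ℤ S).sum_mem h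

theorem zspan_mono (h : S ⊆ T) (hα : α ∈ zspan S) : α ∈ zspan T :=
  Submodule.span_mono h hα

theorem mem_zspan_insert : β ∈ zspan (insert χ S) ↔ ∃ m : ℤ, ∃ γ ∈ zspan S, β = m • χ + γ :=
  Submodule.mem_span_insert

theorem mem_zspanOn_compl_one {N : Type*} [Group N] {S : Set (N → ℂ)} {α : N → ℂ} :
    α ∈ zspanOn S {1}ᶜ ↔ α ∈ zspan S ∧ α 1 = 0 := by
  constructor
  · rintro ⟨h, h'⟩
    exact ⟨h, h' 1 (by simp)⟩
  · rintro ⟨h, h'⟩
    refine ⟨h, fun x hx => ?_⟩
    have hx1 : x = 1 := by simpa using hx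
    rw [hx1]; exact h'

end zspan

/-! ### Generalized characters -/

section genchar

variable {G : Type*} [Group G] {θ η : G → ℂ}

theorem isGen_of_isCharacter (h : IsCharacter G θ) : IsGeneralizedCharacter G θ :=
  ⟨θ, 0, h, isCharacter_zero, by simp⟩

theorem isGen_of_isIrr (h : IsIrrCharacter G θ) : IsGeneralizedCharacter G θ :=
  isGen_of_isCharacter (isIrr_isCharacter h)

theorem isGen_zero : IsGeneralizedCharacter G (0 : G → ℂ) :=
  isGen_of_isCharacter isCharacter_zero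

theorem isGen_add (h : IsGeneralizedCharacter G θ) (h' : IsGeneralizedCharacter G η) :
    IsGeneralizedCharacter G (θ + η) := by
  obtain ⟨a, b, ha, hb, rfl⟩ := h
  obtain ⟨c, d, hc, hd, rfl⟩ := h'
  exact ⟨a + c, b + d, isCharacter_add ha hc, isCharacter_add hb hd, by abel⟩

theorem isGen_neg (h : IsGeneralizedCharacter G θ) : IsGeneralizedCharacter G (-θ) := by
  obtain ⟨a, b, ha, hb, rfl⟩ := h
  exact ⟨b, a, hb, ha, by abel⟩

theorem isGen_sub (h : IsGeneralizedCharacter G θ) (h' : IsGeneralizedCharacter G η) :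
    IsGeneralizedCharacter G (θ - η) := by
  rw [sub_eq_add_neg]
  exact isGen_add h (isGen_neg h')

theorem isGen_nsmul (n : ℕ) (h : IsGeneralizedCharacter G θ) :
    IsGeneralizedCharacter G (n • θ) := by
  obtain ⟨a, b, ha, hb, rfl⟩ := h
  exact ⟨n • a, n • b, isCharacter_nsmul n ha, isCharacter_nsmul n hb, by rw [nsmul_sub]⟩

theorem isGen_zsmul (n : ℤ) (h : IsGeneralizedCharacter G θ) :
    IsGeneralizedCharacter G (n • θ) := by
  obtain ⟨m, rfl | rfl⟩ := n.eq_nat_or_neg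
  · rw [natCast_zsmul]; exact isGen_nsmul m h
  · rw [neg_smul, natCast_zsmul]; exact isGen_neg (isGen_nsmul m h)

theorem isGen_sum {ι : Type*} (s : Finset ι) {f : ι → G → ℂ}
    (h : ∀ i ∈ s, IsGeneralizedCharacter G (f i)) :
    IsGeneralizedCharacter G (∑ i ∈ s, f i) :=
  Finset.sum_induction f (IsGeneralizedCharacter G) (fun _ _ => isGen_add) isGen_zero h

end genchar

section inner

variable {G : Type*} [Group G] [Fintype G] {θ η : G → ℂ}

theorem classInner_zsmul_left (n : ℤ) (φ ψ : G → ℂ) :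
    classInner (n • φ) ψ = n * classInner φ ψ := by
  rw [← classInner_smul_left]
  congr 1
  ext g
  simp

theorem classInner_zsmul_right (n : ℤ) (φ ψ : G → ℂ) :
    classInner φ (n • ψ) = n * classInner φ ψ := by
  have h : n • ψ = (n : ℂ) • ψ := by ext g; simp
  rw [h, classInner_smul_right]
  simp

theorem isGen_classInner_int (h : IsGeneralizedCharacter G θ) (h' : IsGeneralizedCharacter G η) :
    ∃ n : ℤ, classInner θ η = n := by
  obtain ⟨a, b, ha, hb, rfl⟩ := h
  obtain ⟨c, d, hc, hd, rfl⟩ := h'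
  obtain ⟨n₁, h₁⟩ := classInner_isNat ha hc
  obtain ⟨n₂, h₂⟩ := classInner_isNat ha hd
  obtain ⟨n₃, h₃⟩ := classInner_isNat hb hc
  obtain ⟨n₄, h₄⟩ := classInner_isNat hb hd
  refine ⟨n₁ - n₂ - (n₃ - n₄), ?_⟩
  rw [classInner_sub_left, classInner_sub_right, classInner_sub_right, h₁, h₂, h₃, h₄]
  push_cast
  ring

theorem classInner_self_re_nonneg (φ : G → ℂ) : 0 ≤ (classInner φ φ).re := by
  have h : classInner φ φ = (((Nat.card G : ℝ)⁻¹ * ∑ g : G, Complex.normSq (φ g) : ℝ) : ℂ) := by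
    unfold classInner
    push_cast
    congr 1
    refine Finset.sum_congr rfl fun g _ => ?_
    rw [Complex.mul_conj]
  rw [h, Complex.ofReal_re]
  refine mul_nonneg (by positivity) (Finset.sum_nonneg fun g _ => Complex.normSq_nonneg _)

theorem classInner_self_int_nonneg {φ : G → ℂ} {n : ℤ} (h : classInner φ φ = n) : 0 ≤ n := by
  have h' := classInner_self_re_nonneg φ
  rw [h, Complex.intCast_re] at h'
  exact_mod_cast h'

/-- The value at `1` of an irreducible-up-to-sign function is nonzero. -/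
theorem apply_one_ne_zero_of_isGen (h : IsGeneralizedCharacter G θ) (h1 : classInner θ θ = 1) :
    θ 1 ≠ 0 := by
  rcases isIrr_of_generalized h h1 with hθ | hθ
  · obtain ⟨n, hn, hn'⟩ := isIrr_apply_one hθ
    rw [hn']
    exact_mod_cast hn.ne'
  · obtain ⟨n, hn, hn'⟩ := isIrr_apply_one hθ
    intro h0
    rw [Pi.neg_apply, h0, neg_zero] at hn'
    have : (n : ℂ) ≠ 0 := by exact_mod_cast hn.ne'
    exact this hn'.symm

end inner

/-! ### Linear isometries -/

section isom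

variable {L : Type*} [Group L] [Fintype L] {G : Type*} [Group G] [Fintype G]
  {S : Set (L → ℂ)} {τ : (L → ℂ) → (G → ℂ)}

theorem isom_zero (h : IsLinearIsometryOn (zspan S) τ) : τ 0 = 0 := by
  have := h.2.1 0 zspan_zero 0
  simpa using this

theorem isom_neg (h : IsLinearIsometryOn (zspan S) τ) {α : L → ℂ} (hα : α ∈ zspan S) :
    τ (-α) = -τ α := by
  have := h.2.1 α hα (-1)
  simpa using this

theorem isom_sub (h : IsLinearIsometryOn (zspan S) τ) {α β : L → ℂ} (hα : α ∈ zspan S)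
    (hβ : β ∈ zspan S) : τ (α - β) = τ α - τ β := by
  rw [sub_eq_add_neg, h.1 α hα (-β) (zspan_neg hβ), isom_neg h hβ, ← sub_eq_add_neg]

/-- `β = d ψ • ξ − d ξ • ψ` under a linear isometry. -/
theorem isom_zsmul_sub_zsmul (h : IsLinearIsometryOn (zspan S) τ) {ξ ψ : L → ℂ} (hξ : ξ ∈ S)
    (hψ : ψ ∈ S) (m n : ℤ) : τ (m • ξ - n • ψ) = m • τ ξ - n • τ ψ := by
  rw [isom_sub h (zspan_zsmul m (subset_zspan hξ)) (zspan_zsmul n (subset_zspan hψ)),
    h.2.1 ξ (subset_zspan hξ) m, h.2.1 ψ (subset_zspan hψ) n]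

/-- One-step extension of a linear isometry: `χ` orthogonal to `S` of norm one, `Z` a generalized
character orthogonal to the image of `S`, of norm one. -/
theorem exists_extend_insert {τ₁ : (L → ℂ) → (G → ℂ)} (h : IsLinearIsometryOn (zspan S) τ₁)
    {χ : L → ℂ} (hχ : classInner χ χ = 1) (hχS : ∀ γ ∈ zspan S, classInner γ χ = 0)
    {Z : G → ℂ} (hZ : IsGeneralizedCharacter G Z) (hZ1 : classInner Z Z = 1)
    (hZS : ∀ γ ∈ zspan S, classInner (τ₁ γ) Z = 0) :
    ∃ τ₂ : (L → ℂ) → (G → ℂ), IsLinearIsometryOn (zspan (insert χ S)) τ₂ ∧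
      ∀ (m : ℤ) (γ : L → ℂ), γ ∈ zspan S → τ₂ (m • χ + γ) = m • Z + τ₁ γ := by
  have key : ∀ (m : ℤ) (γ : L → ℂ), γ ∈ zspan S → classInner (m • χ + γ) χ = m := by
    intro m γ hγ
    rw [classInner_add_left, classInner_zsmul_left, hχ, hχS γ hγ]
    simp
  set τ₂ : (L → ℂ) → (G → ℂ) := fun β =>
    (classInner β χ) • Z + τ₁ (β - (classInner β χ) • χ) with hτ₂
  have hval : ∀ (m : ℤ) (γ : L → ℂ), γ ∈ zspan S → τ₂ (m • χ + γ) = m • Z + τ₁ γ := by
    intro m γ hγ
    have h1 : (m : ℂ) • χ = m • χ := by ext g; simp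
    have h2 : (m : ℂ) • Z = m • Z := by ext g; simp
    simp only [hτ₂]
    rw [key m γ hγ, h1, h2, add_sub_cancel_left]
  refine ⟨τ₂, ⟨?_, ?_, ?_, ?_⟩, hval⟩
  · intro α hα β hβ
    obtain ⟨m, γ, hγ, rfl⟩ := mem_zspan_insert.1 hα
    obtain ⟨n, δ, hδ, rfl⟩ := mem_zspan_insert.1 hβ
    have e : m • χ + γ + (n • χ + δ) = (m + n) • χ + (γ + δ) := by rw [add_smul]; abel
    rw [e, hval _ _ (zspan_add hγ hδ), hval _ _ hγ, hval _ _ hδ, h.1 γ hγ δ hδ, add_smul]
    abel
  · intro α hα n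
    obtain ⟨m, γ, hγ, rfl⟩ := mem_zspan_insert.1 hα
    have e : n • (m • χ + γ) = (n * m) • χ + n • γ := by rw [smul_add, mul_smul]
    rw [e, hval _ _ (zspan_zsmul n hγ), hval _ _ hγ, h.2.1 γ hγ n, smul_add, mul_smul]
  · intro α hα β hβ
    obtain ⟨m, γ, hγ, rfl⟩ := mem_zspan_insert.1 hα
    obtain ⟨n, δ, hδ, rfl⟩ := mem_zspan_insert.1 hβ
    have hχδ : classInner χ δ = 0 := by
      rw [← classInner_conj_symm, hχS δ hδ, map_zero]
    have hZδ : classInner Z (τ₁ δ) = 0 := by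
      rw [← classInner_conj_symm, hZS δ hδ, map_zero]
    rw [hval _ _ hγ, hval _ _ hδ]
    simp only [classInner_add_left, classInner_add_right, classInner_zsmul_left,
      classInner_zsmul_right, hχ, hZ1, hχδ, hZδ, hχS γ hγ, hZS γ hγ, h.2.2.1 γ hγ δ hδ]
  · intro α hα
    obtain ⟨m, γ, hγ, rfl⟩ := mem_zspan_insert.1 hα
    rw [hval _ _ hγ]
    exact isGen_add (isGen_zsmul m hZ) (h.2.2.2 γ hγ)

end isom

end Cfsg.Agent.OddOrderCharacters.FeitCoherence
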