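import Mathlib
import Cfsg.Prelude.Def_Characters
import Cfsg.Prelude.Def_OddOrderChar
import Cfsg.Agent.Characters.Core
import Cfsg.Agent.OddOrderCharacters.PivotCoherence
import Cfsg.Agent.S0148
import Cfsg.Agent.S0150
import Cfsg.Agent.S1530

/-!
# Induction from the normaliser of a TI-subset, and iterated coherence

* `indLin`: induction of functions as a linear map;
* `isLinearIsometryOn_indFun`: for a TI-subset `T` with normaliser `N`, induction is a linear
  isometry on the integer combinations, vanishing at `1`, of characters of `N` vanishing off `T`;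
* `isCoherent_of_steps`: iteration of Feit's criterion S1530.
-/

set_option autoImplicit false
set_option linter.unusedSectionVars false

open scoped ComplexConjugate
open Cfsg Cfsg.Agent.Characters.Core Cfsg.Agent.OddOrderCharacters.PivotCoherence

namespace Cfsg.Agent.OddOrderCharacters.TICoherence

universe u

variable {G : Type u} [Group G] [Fintype G]

/-- Induction of functions as a linear map. -/
noncomputable def indLin (H : Subgroup G) : (H → ℂ) →ₗ[ℂ] (G → ℂ) where
  toFun := fun θ => indFun H θ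
  map_add' θ φ := by
    ext g
    rw [Pi.add_apply, Cfsg.Agent.S0150.indFun_apply, Cfsg.Agent.S0150.indFun_apply,
      Cfsg.Agent.S0150.indFun_apply, ← mul_add, ← Finset.sum_add_distrib]
    congr 1
    refine Finset.sum_congr rfl fun x _ => ?_
    by_cases hx : x⁻¹ * g * x ∈ H
    · have h : x⁻¹ * g * x = ((⟨x⁻¹ * g * x, hx⟩ : H) : G) := rfl
      rw [h, Cfsg.Agent.S0150.extendByZero_coe, Cfsg.Agent.S0150.extendByZero_coe,
        Cfsg.Agent.S0150.extendByZero_coe, Pi.add_apply]
    · rw [Cfsg.Agent.S0150.extendByZero_of_notMem _ _ hx,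
        Cfsg.Agent.S0150.extendByZero_of_notMem _ _ hx,
        Cfsg.Agent.S0150.extendByZero_of_notMem _ _ hx, add_zero]
  map_smul' c θ := by
    ext g
    rw [RingHom.id_apply, Pi.smul_apply, Cfsg.Agent.S0150.indFun_apply,
      Cfsg.Agent.S0150.indFun_apply, smul_eq_mul, mul_left_comm]
    congr 1
    rw [Finset.mul_sum]
    refine Finset.sum_congr rfl fun x _ => ?_
    by_cases hx : x⁻¹ * g * x ∈ H
    · have h : x⁻¹ * g * x = ((⟨x⁻¹ * g * x, hx⟩ : H) : G) := rfl
      rw [h, Cfsg.Agent.S0150.extendByZero_coe, Cfsg.Agent.S0150.extendByZero_coe,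
        Pi.smul_apply, smul_eq_mul]
    · rw [Cfsg.Agent.S0150.extendByZero_of_notMem _ _ hx,
        Cfsg.Agent.S0150.extendByZero_of_notMem _ _ hx, mul_zero]

theorem indLin_apply (H : Subgroup G) (θ : H → ℂ) : indLin H θ = indFun H θ := rfl

theorem indFun_one_of_zero (H : Subgroup G) {θ : H → ℂ} (h : θ 1 = 0) : indFun H θ 1 = 0 := by
  rw [Cfsg.Agent.S0150.indFun_apply]
  have : ∀ x : G, extendByZero H θ (x⁻¹ * 1 * x) = 0 := by
    intro x
    have hx : x⁻¹ * 1 * x = ((1 : H) : G) := by simp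
    rw [hx, Cfsg.Agent.S0150.extendByZero_coe, h]
  rw [Finset.sum_eq_zero fun x _ => this x, mul_zero]

theorem isGeneralized_indFun (H : Subgroup G) {θ : H → ℂ} (h : IsGeneralizedCharacter H θ) :
    IsGeneralizedCharacter G (indFun H θ) := by
  obtain ⟨a, b, ha, hb, rfl⟩ := h
  refine ⟨indFun H a, indFun H b, Cfsg.Agent.S0148.result H a ha, Cfsg.Agent.S0148.result H b hb, ?_⟩
  rw [← indLin_apply, map_sub]; rfl

/-- elements of the integer span vanish where all members vanish -/
theorem zspan_eq_zero_of {X : Type*} {S : Set (X → ℂ)} {x : X} (hS : ∀ ξ ∈ S, ξ x = 0)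
    {α : X → ℂ} (hα : α ∈ zspan S) : α x = 0 := by
  refine Submodule.span_induction (p := fun α _ => α x = 0) (fun ξ hξ => hS ξ hξ) rfl
    (fun a b _ _ ha hb => ?_) (fun n a _ ha => ?_) hα
  · rw [Pi.add_apply, ha, hb, add_zero]
  · rw [Pi.smul_apply, ha, smul_zero]

/-- Induction from the normaliser of a TI-subset is a linear isometry on the integer
combinations, vanishing at `1`, of characters vanishing off the TI-subset. -/
theorem isLinearIsometryOn_indFun (T : Set G)
    (hTI : ∀ g : G, g ∉ Subgroup.normalizer T → ∀ t ∈ T, g * t * g⁻¹ ∈ T → t = 1)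
    (hTN : T ⊆ Subgroup.normalizer T) [Fintype (Subgroup.normalizer T)]
    (S : Set (Subgroup.normalizer T → ℂ)) (hS : ∀ ξ ∈ S, IsCharacter (Subgroup.normalizer T) ξ)
    (hvan : ∀ ξ ∈ S, ∀ x : Subgroup.normalizer T, (x : G) ∉ T → ξ x = 0) :
    IsLinearIsometryOn (zspanOn S ({1}ᶜ : Set (Subgroup.normalizer T)))
      (fun α => indFun (Subgroup.normalizer T) α) := by
  have hgen : ∀ α ∈ zspanOn S ({1}ᶜ : Set (Subgroup.normalizer T)),
      IsGeneralizedCharacter (Subgroup.normalizer T) α := fun α hα =>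
    isGeneralized_of_mem_zspan (fun ξ hξ => isGeneralized_of_isCharacter (hS ξ hξ)) hα.1
  refine ⟨?_, ?_, ?_, ?_⟩
  · intro α _ β _
    exact (indLin (Subgroup.normalizer T)).map_add α β
  · intro α _ n
    exact map_zsmul (indLin (Subgroup.normalizer T)) n α
  · intro α hα β hβ
    exact Cfsg.Agent.S0150.result T hTI hTN α β (isGeneralized_isClassFunction (hgen α hα))
      (isGeneralized_isClassFunction (hgen β hβ))
      (fun x hx => zspan_eq_zero_of (fun ξ hξ => hvan ξ hξ x hx) hα.1)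
      (fun x hx => zspan_eq_zero_of (fun ξ hξ => hvan ξ hξ x hx) hβ.1)
      (mem_zspanOn_compl_one.1 hα).2
  · intro α hα
    exact isGeneralized_indFun _ (hgen α hα)

/-- Iteration of Feit's coherence criterion (S1530): starting with a coherent subset `B` of `X`,
if every intermediate proper subset can be enlarged by one member of `X` satisfying the
criterion, then `X` is coherent. -/
theorem isCoherent_of_steps (N : Subgroup G) [Fintype N] (X : Finset (N → ℂ))
    (hirr : ∀ ξ ∈ X, IsIrrCharacter N ξ) (d : (N → ℂ) → ℕ) (hd : ∀ ξ ∈ X, ξ 1 = (d ξ : ℂ))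
    (τ : (N → ℂ) → (G → ℂ))
    (hτ : IsLinearIsometryOn (zspanOn (X : Set (N → ℂ)) ({1}ᶜ : Set N)) τ)
    (hτ1 : ∀ α ∈ zspanOn (X : Set (N → ℂ)) ({1}ᶜ : Set N), τ α 1 = 0)
    (B : Finset (N → ℂ)) (hBX : B ⊆ X) (hB : IsCoherent (B : Set (N → ℂ)) ({1}ᶜ : Set N) τ)
    (hstep : ∀ T : Finset (N → ℂ), B ⊆ T → T ⊆ X → T ≠ X → ∃ χ ∈ X, χ ∉ T ∧
      ∃ ψ ∈ T, d ψ ∣ d χ ∧ 2 * d ψ * d χ < ∑ ξ ∈ T, d ξ ^ 2) :
    IsCoherent (X : Set (N → ℂ)) ({1}ᶜ : Set N) τ := by
  suffices h : ∀ n : ℕ, ∀ T : Finset (N → ℂ), B ⊆ T → T ⊆ X → X.card = T.card + n →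
      IsCoherent (T : Set (N → ℂ)) ({1}ᶜ : Set N) τ →
      IsCoherent (X : Set (N → ℂ)) ({1}ᶜ : Set N) τ by
    obtain ⟨n, hn⟩ := Nat.exists_eq_add_of_le (Finset.card_le_card hBX)
    exact h n B (Finset.Subset.refl B) hBX hn hB
  intro n
  induction n with
  | zero =>
    intro T _ hTX hcard hT
    have : T = X := Finset.eq_of_subset_of_card_le hTX (by omega)
    rw [← this]; exact hT
  | succ n ih =>
    intro T hBT hTX hcard hT
    have hne : T ≠ X := by
      rintro rfl
      omega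
    obtain ⟨χ, hχX, hχT, ψ, hψ, hdvd, hlt⟩ := hstep T hBT hTX hne
    have hins : insert χ T ⊆ X := Finset.insert_subset hχX hTX
    have hmono : zspanOn (↑(insert χ T) : Set (N → ℂ)) ({1}ᶜ : Set N) ⊆
        zspanOn (X : Set (N → ℂ)) ({1}ᶜ : Set N) := zspanOn_mono (by exact_mod_cast hins) _
    refine ih (insert χ T) (hBT.trans (Finset.subset_insert χ T)) hins ?_ ?_
    · rw [Finset.card_insert_of_notMem hχT]; omega
    · refine Cfsg.Agent.S1530.result N T χ (fun ξ hξ => hirr ξ (hTX hξ)) (hirr χ hχX) hχT d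
        (fun ξ hξ => hd ξ (hins hξ)) τ ?_ (fun α hα => hτ1 α (hmono hα)) hT ψ hψ hdvd hlt
      exact ⟨fun α hα β hβ => hτ.1 α (hmono hα) β (hmono hβ),
        fun α hα n => hτ.2.1 α (hmono hα) n,
        fun α hα β hβ => hτ.2.2.1 α (hmono hα) β (hmono hβ),
        fun α hα => hτ.2.2.2 α (hmono hα)⟩

end Cfsg.Agent.OddOrderCharacters.TICoherence
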