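import Mathlib
import Cfsg.Prelude.Def_Characters
import Cfsg.Prelude.Def_OddOrderChar
import Cfsg.Agent.Characters.Core
import Cfsg.Agent.OddOrderCharacters.TICoherence
import Cfsg.Agent.S0170

/-!
# Coherence of sets of irreducible characters of equal degree, for induction from the normaliser
of a TI-subset
-/

set_option autoImplicit false
set_option linter.unusedSectionVars false

open scoped ComplexConjugate
open Cfsg Cfsg.Agent.Characters.Core Cfsg.Agent.OddOrderCharacters.PivotCoherence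
  Cfsg.Agent.OddOrderCharacters.TICoherence

namespace Cfsg.Agent.OddOrderCharacters.TIEqualDegree

universe u

variable {G : Type u} [Group G] [Fintype G]

/-- At least two irreducible characters of the normaliser of a TI-subset, vanishing off the
subset and of equal degrees, form a coherent set for induction. -/
theorem isCoherent_of_equal_degree (T : Set G)
    (hTI : ∀ g : G, g ∉ Subgroup.normalizer T → ∀ t ∈ T, g * t * g⁻¹ ∈ T → t = 1)
    (hTN : T ⊆ Subgroup.normalizer T) [Fintype (Subgroup.normalizer T)]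
    (B : Finset (Subgroup.normalizer T → ℂ))
    (hirr : ∀ ξ ∈ B, IsIrrCharacter (Subgroup.normalizer T) ξ)
    (hvan : ∀ ξ ∈ B, ∀ x : Subgroup.normalizer T, (x : G) ∉ T → ξ x = 0)
    (hdeg : ∀ ξ ∈ B, ∀ η ∈ B, ξ 1 = η 1) (hcard : 2 ≤ B.card) :
    IsCoherent (B : Set (Subgroup.normalizer T → ℂ)) ({1}ᶜ : Set (Subgroup.normalizer T))
      (fun α => indFun (Subgroup.normalizer T) α) := by
  classical
  obtain ⟨n, hn⟩ : ∃ n, B.card = n := ⟨_, rfl⟩
  let e : B ≃ Fin n := B.equivFinOfCardEq hn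
  have hn2 : 2 ≤ n := by omega
  obtain ⟨ε, hε, θ, hθirr, hθinj, hθ⟩ := Cfsg.Agent.S0170.result T hTN hTI n hn2
    (fun i => ((e.symm i : B) : Subgroup.normalizer T → ℂ)) (fun i => hirr _ (e.symm i).2)
    (fun i j h => e.symm.injective (Subtype.ext h)) (fun i => hvan _ (e.symm i).2)
    (fun i j => hdeg _ (e.symm i).2 _ (e.symm j).2)
  have hεε : ε * conj ε = 1 := by rcases hε with h | h <;> simp [h]
  obtain ⟨η₀, hη₀, ξ₁, hξ₁, hne⟩ := Finset.one_lt_card.1 (by omega : 1 < B.card)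
  have hval : ∀ ξ (hξ : ξ ∈ B), indFun (Subgroup.normalizer T) (ξ - ((1 : ℕ) : ℂ) • η₀) =
      ε • (θ (e ⟨ξ, hξ⟩) - θ (e ⟨η₀, hη₀⟩)) := by
    intro ξ hξ
    have h := hθ (e ⟨ξ, hξ⟩) (e ⟨η₀, hη₀⟩)
    simp only [Equiv.symm_apply_apply] at h
    rw [← h, Nat.cast_one, one_smul]
    exact map_sub (indLin (Subgroup.normalizer T)) ξ η₀
  have hcf : ∀ ξ ∈ B, IsClassFunction (Subgroup.normalizer T) (ξ - ((1 : ℕ) : ℂ) • η₀) := by
    intro ξ hξ g h
    simp only [Pi.sub_apply, Pi.smul_apply]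
    rw [isIrr_isClassFunction (hirr ξ hξ) g h, isIrr_isClassFunction (hirr η₀ hη₀) g h]
  have hθ0 : IsGeneralizedCharacter G (ε • θ (e ⟨η₀, hη₀⟩)) := by
    have h1 := isGeneralized_of_isCharacter (isIrr_isCharacter (hθirr (e ⟨η₀, hη₀⟩)))
    rcases hε with h | h
    · rw [h, one_smul]; exact h1
    · rw [h, neg_one_smul]; exact isGeneralized_neg h1
  refine isCoherent_of_pivot (indLin (Subgroup.normalizer T)) B hirr η₀ hη₀ ⟨ξ₁, hξ₁, hne.symm⟩
    (fun _ => 1) (fun ξ hξ => ?_) (fun ξ hξ => ?_) (fun ξ hξ ζ hζ => ?_)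
    (ε • θ (e ⟨η₀, hη₀⟩)) hθ0 ?_ (fun ξ hξ hξη => ?_)
  · rw [hdeg ξ hξ η₀ hη₀]; simp
  · rw [indLin_apply]
    refine isGeneralized_indFun _ ?_
    rw [Nat.cast_one, one_smul]
    exact isGeneralized_sub (isGeneralized_of_isCharacter (isIrr_isCharacter (hirr ξ hξ)))
      (isGeneralized_of_isCharacter (isIrr_isCharacter (hirr η₀ hη₀)))
  · rw [indLin_apply, indLin_apply]
    refine Cfsg.Agent.S0150.result T hTI hTN _ _ (hcf ξ hξ) (hcf ζ hζ) (fun x hx => ?_)
      (fun x hx => ?_) ?_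
    · simp [hvan ξ hξ x hx, hvan η₀ hη₀ x hx]
    · simp [hvan ζ hζ x hx, hvan η₀ hη₀ x hx]
    · simp [hdeg ξ hξ η₀ hη₀]
  · rw [classInner_smul_left, classInner_smul_right, classInner_irr_self (hθirr _), mul_one, hεε]
  · have hne' : e ⟨ξ, hξ⟩ ≠ e ⟨η₀, hη₀⟩ := fun h => hξη (by
      have := e.injective h
      exact congrArg Subtype.val this)
    have hne2 : θ (e ⟨ξ, hξ⟩) ≠ θ (e ⟨η₀, hη₀⟩) := fun h => hne' (hθinj h)
    rw [indLin_apply, hval ξ hξ, classInner_smul_left, classInner_smul_right, classInner_sub_left,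
      classInner_irr_ne (hθirr _) (hθirr _) hne2, classInner_irr_self (hθirr _), zero_sub,
      mul_neg, mul_neg, mul_one, hεε]
    simp

end Cfsg.Agent.OddOrderCharacters.TIEqualDegree
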