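import Mathlib
import Cfsg.Prelude.Def_Characters
import Cfsg.Prelude.Def_OddOrderChar
import Cfsg.Prelude.Def_OddOrderLocal
import Cfsg.Agent.Characters.Core
import Cfsg.Agent.OddOrderCharacters.TICoherence
import Cfsg.Agent.OddOrderCharacters.TIEqualDegree
import Cfsg.Agent.OddOrderCharacters.SibleyCount

/-!
# Coherence of the characters nontrivial on a central subgroup of a TI `p`-subgroup

The general form of S1532, for a TI `p`-subgroup `K` (`p` odd) with Frobenius normaliser of odd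
order.
-/

set_option autoImplicit false
set_option linter.unusedSectionVars false

open scoped ComplexConjugate
open Cfsg Cfsg.Agent.Characters.Core Cfsg.Agent.OddOrderCharacters.PivotCoherence
  Cfsg.Agent.OddOrderCharacters.TICoherence Cfsg.Agent.OddOrderCharacters.TIEqualDegree
  Cfsg.Agent.OddOrderCharacters.SibleyCount

namespace Cfsg.Agent.OddOrderCharacters.SibleyCentral

universe u

variable {G : Type u} [Group G] [Fintype G] (K : Subgroup G)

theorem normal_subgroupOf_normalizer :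
    (K.subgroupOf (Subgroup.normalizer (K : Set G))).Normal :=
  Subgroup.normal_subgroupOf_of_le_normalizer le_rfl

theorem centralizer_subgroupOf_normalizer
    (hC : ∀ k ∈ K, k ≠ 1 → Subgroup.centralizer ({k} : Set G) ≤ K) :
    ∀ k ∈ K.subgroupOf (Subgroup.normalizer (K : Set G)), k ≠ 1 →
      Subgroup.centralizer ({k} : Set ↥(Subgroup.normalizer (K : Set G))) ≤
        K.subgroupOf (Subgroup.normalizer (K : Set G)) := by
  intro k hk hk1 x hx
  refine hC (k : G) hk (fun h => hk1 (Subtype.ext h)) ?_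
  rw [Subgroup.mem_centralizer_singleton_iff] at hx ⊢
  exact congrArg Subtype.val hx

theorem isPGroup_subgroupOf {p : ℕ} (hKp : IsPGroup p K) (H : Subgroup G) :
    IsPGroup p (K.subgroupOf H) :=
  hKp.comap_of_injective H.subtype H.subtype_injective

/-- The characters of the normaliser of `K` nontrivial on `K` vanish off `K`. -/
theorem vanish_off (hC : ∀ k ∈ K, k ≠ 1 → Subgroup.centralizer ({k} : Set G) ≤ K)
    [Fintype (Subgroup.normalizer (K : Set G))]
    {χ : Subgroup.normalizer (K : Set G) → ℂ}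
    (hχ : χ ∈ nonKer (K.subgroupOf (Subgroup.normalizer (K : Set G))))
    (x : Subgroup.normalizer (K : Set G)) (hx : (x : G) ∉ (K : Set G)) : χ x = 0 := by
  have := normal_subgroupOf_normalizer K
  exact vanish (K.subgroupOf (Subgroup.normalizer (K : Set G)))
    (centralizer_subgroupOf_normalizer K hC) hχ hx

/-- Induction is a linear isometry on the differences of characters nontrivial on `K`. -/
theorem isLinearIsometryOn_ind (hTI : IsTISubset (K : Set G))
    (hC : ∀ k ∈ K, k ≠ 1 → Subgroup.centralizer ({k} : Set G) ≤ K)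
    [Fintype (Subgroup.normalizer (K : Set G))]
    (S : Set (Subgroup.normalizer (K : Set G) → ℂ))
    (hS : S ⊆ nonKer (K.subgroupOf (Subgroup.normalizer (K : Set G)))) :
    IsLinearIsometryOn (zspanOn S ({1}ᶜ : Set (Subgroup.normalizer (K : Set G))))
      (fun α => indFun (Subgroup.normalizer (K : Set G)) α) :=
  isLinearIsometryOn_indFun (K : Set G) hTI (fun _ hx => Subgroup.le_normalizer hx) S
    (fun ξ hξ => isIrr_isCharacter (hS hξ).1) (fun ξ hξ x hx => vanish_off K hC (hS hξ) x hx)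

local notation "N" => Subgroup.normalizer (K : Set G)

/-- General form of S1532. -/
theorem isCoherent_nonKer_central (p : ℕ) [Fact p.Prime] (hp : p ≠ 2) (hKp : IsPGroup p K)
    (hTI : IsTISubset (K : Set G))
    (hC : ∀ k ∈ K, k ≠ 1 → Subgroup.centralizer ({k} : Set G) ≤ K)
    [Fintype (Subgroup.normalizer (K : Set G))]
    (hodd : Odd (Nat.card (Subgroup.normalizer (K : Set G))))
    (he : (K.subgroupOf (Subgroup.normalizer (K : Set G))).index.Coprime p)
    (Z : Subgroup G) (hZ1 : Z ≠ ⊥) (hZK : ∀ z ∈ Z, z ∈ K ∧ ∀ y ∈ K, z * y = y * z)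
    (hZn : ∀ x ∈ Subgroup.normalizer (K : Set G), ∀ z ∈ Z, x * z * x⁻¹ ∈ Z) :
    IsCoherent (nonKer (Z.subgroupOf (Subgroup.normalizer (K : Set G))))
      ({1}ᶜ : Set (Subgroup.normalizer (K : Set G)))
      (fun α => indFun (Subgroup.normalizer (K : Set G)) α) := by
  set K' := K.subgroupOf N with hK'
  set Z' := Z.subgroupOf N with hZ'
  have hK'n : K'.Normal := normal_subgroupOf_normalizer K
  have hZ'n : Z'.Normal := ⟨fun z hz x => hZn x x.2 z hz⟩
  have hC' : ∀ k ∈ K', k ≠ 1 → Subgroup.centralizer ({k} : Set ↥N) ≤ K' :=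
    centralizer_subgroupOf_normalizer K hC
  have hK'p : IsPGroup p K' := isPGroup_subgroupOf K hKp N
  have hKN : K ≤ N := Subgroup.le_normalizer
  have hZ'K' : Z' ≤ K' := fun z hz => (hZK z hz).1
  have hZ'c : ∀ z ∈ Z', ∀ k ∈ K', z * k = k * z :=
    fun z hz k hk => Subtype.ext ((hZK z hz).2 k hk)
  have hp3 : 3 ≤ p := by
    have h2 := (Fact.out : p.Prime).two_le
    omega
  -- the sum of squares
  obtain ⟨m, hm, hsum⟩ := sum_sq_nk_central K' hC' p hK'p he Z' hZ'K' hZ'c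
  set X := nk Z' with hX
  have hXnon : ∀ χ ∈ X, χ ∈ nonKer K' := fun χ hχ =>
    nonKer_mono hZ'K' (by rw [← coe_nk]; exact hχ)
  have hXirr : ∀ χ ∈ X, IsIrrCharacter N χ := fun χ hχ => (mem_nk.1 hχ).1
  have hdegX : ∀ χ ∈ X, ∃ k : ℕ, deg χ = K'.index * p ^ k ∧
      (p ^ k) ^ 2 ∣ Z'.relIndex K' := by
    intro χ hχ
    obtain ⟨k, hk, hd⟩ := deg_nonKer K' hC' p hK'p Z' hZ'K' hZ'c (hXnon χ hχ)
    refine ⟨k, hk, ?_⟩
    have h1 : Z'.relIndex K' * Nat.card Z' = Nat.card K' := by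
      rw [mul_comm, ← Subgroup.relIndex_bot_left, ← Subgroup.relIndex_bot_left]
      exact Subgroup.relIndex_mul_relIndex ⊥ Z' K' bot_le hZ'K'
    rw [← h1] at hd
    exact Nat.dvd_of_mul_dvd_mul_right Nat.card_pos hd
  have hidx0 : 0 < K'.index := Nat.pos_of_ne_zero Subgroup.index_ne_zero_of_finite
  have hrel0 : 0 < Z'.relIndex K' :=
    Nat.pos_of_ne_zero (Subgroup.index_ne_zero_of_finite (H := Z'.subgroupOf K'))
  have hm0 : 0 < m := by
    rcases Nat.eq_zero_or_pos m with h | h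
    · exfalso
      rw [h, mul_zero, zero_add] at hm
      apply hZ1
      rw [Subgroup.eq_bot_iff_forall]
      intro z hz
      have h1 : (⟨z, hKN (hZK z hz).1⟩ : N) ∈ Z' := hz
      have h2 := Subgroup.card_eq_one.1 hm
      rw [h2] at h1
      exact congrArg Subtype.val (Subgroup.mem_bot.1 h1)
    · exact h
  have hXne : X.Nonempty := by
    by_contra h
    rw [Finset.not_nonempty_iff_eq_empty] at h
    rw [h, Finset.sum_empty] at hsum
    have : 0 < K'.index ^ 2 * Z'.relIndex K' * m := by positivity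
    omega
  obtain ⟨χ₀, hχ₀, hmin⟩ := X.exists_min_image deg hXne
  -- the base
  have hiso : IsLinearIsometryOn (zspanOn (X : Set (N → ℂ)) ({1}ᶜ : Set N))
      (fun α => indFun N α) := isLinearIsometryOn_ind K hTI hC _ hXnon
  have hbase : IsCoherent ((X.filter fun χ => deg χ = deg χ₀ : Finset (N → ℂ)) : Set (N → ℂ))
      ({1}ᶜ : Set N) (fun α => indFun N α) := by
    refine isCoherent_of_equal_degree (K : Set G) hTI (fun _ hx => Subgroup.le_normalizer hx) _
      (fun ξ hξ => hXirr ξ (Finset.mem_filter.1 hξ).1)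
      (fun ξ hξ x hx => vanish_off K hC (hXnon ξ (Finset.mem_filter.1 hξ).1) x hx)
      (fun ξ hξ η hη => ?_) ?_
    · rw [apply_one_eq_deg (hXirr ξ (Finset.mem_filter.1 hξ).1),
        apply_one_eq_deg (hXirr η (Finset.mem_filter.1 hη).1), (Finset.mem_filter.1 hξ).2,
        (Finset.mem_filter.1 hη).2]
    · refine Finset.one_lt_card.2 ⟨χ₀, Finset.mem_filter.2 ⟨hχ₀, rfl⟩,
        (fun g => conj (χ₀ g)), Finset.mem_filter.2 ⟨conj_mem_nk hχ₀, deg_conj χ₀⟩,
        (conj_ne hodd hχ₀).symm⟩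
  have hcoe : nonKer Z' = (X : Set (N → ℂ)) := (coe_nk Z').symm
  rw [hcoe]
  refine isCoherent_of_steps N X hXirr deg (fun ξ hξ => apply_one_eq_deg (hXirr ξ hξ)) _ hiso
    (fun α hα => indFun_one_of_zero N (mem_zspanOn_compl_one.1 hα).2) _
    (Finset.filter_subset _ X) hbase ?_
  intro T hBT hTX hne
  have hne' : (X \ T).Nonempty := by
    rw [Finset.sdiff_nonempty]
    intro h
    exact hne (Finset.Subset.antisymm hTX h)
  obtain ⟨χ, hχ, hχmin⟩ := (X \ T).exists_min_image deg hne'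
  obtain ⟨hχX, hχT⟩ := Finset.mem_sdiff.1 hχ
  refine ⟨χ, hχX, hχT, χ₀, hBT (Finset.mem_filter.2 ⟨hχ₀, rfl⟩), ?_⟩
  obtain ⟨a, ha, -⟩ := hdegX χ₀ hχ₀
  obtain ⟨k, hk, hkd⟩ := hdegX χ hχX
  have hlt : deg χ₀ < deg χ := by
    refine lt_of_le_of_ne (hmin χ hχX) fun h => hχT (hBT ?_)
    exact Finset.mem_filter.2 ⟨hχX, h.symm⟩
  have hak : a < k := by
    rw [ha, hk] at hlt
    have := Nat.lt_of_mul_lt_mul_left hlt
    exact (Nat.pow_lt_pow_iff_right (by omega)).1 this
  have hdvd : deg χ₀ ∣ deg χ := by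
    rw [ha, hk]
    exact Nat.mul_dvd_mul_left _ (pow_dvd_pow p hak.le)
  refine ⟨hdvd, ?_⟩
  -- the inequality
  set A := ∑ ξ ∈ X.filter (fun ξ => deg ξ < deg χ), deg ξ ^ 2 with hA
  have hAT : A ≤ ∑ ξ ∈ T, deg ξ ^ 2 := by
    refine Finset.sum_le_sum_of_subset fun ξ hξ => ?_
    obtain ⟨h1, h2⟩ := Finset.mem_filter.1 hξ
    by_contra h3
    have := hχmin ξ (Finset.mem_sdiff.2 ⟨h1, h3⟩)
    omega
  have hsplit : A + ∑ ξ ∈ X.filter (fun ξ => ¬ deg ξ < deg χ), deg ξ ^ 2 =
      K'.index ^ 2 * Z'.relIndex K' * m := by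
    rw [← hsum, hA]
    exact Finset.sum_filter_add_sum_filter_not X _ _
  have hd1 : deg χ ^ 2 ∣ ∑ ξ ∈ X.filter (fun ξ => ¬ deg ξ < deg χ), deg ξ ^ 2 := by
    refine Finset.dvd_sum fun ξ hξ => ?_
    obtain ⟨h1, h2⟩ := Finset.mem_filter.1 hξ
    obtain ⟨b, hb, -⟩ := hdegX ξ h1
    refine pow_dvd_pow_of_dvd ?_ 2
    rw [hk, hb]
    refine Nat.mul_dvd_mul_left _ (pow_dvd_pow p ?_)
    rw [hk, hb, not_lt] at h2
    have := Nat.le_of_mul_le_mul_left h2 hidx0
    exact (Nat.pow_le_pow_iff_right (by omega)).1 this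
  have hd2 : deg χ ^ 2 ∣ K'.index ^ 2 * Z'.relIndex K' * m := by
    rw [hk, mul_pow]
    exact Dvd.dvd.mul_right (Nat.mul_dvd_mul_left _ hkd) m
  have hd3 : deg χ ^ 2 ∣ A := by
    rw [← hsplit] at hd2
    exact (Nat.dvd_add_left hd1).1 hd2
  have hApos : 0 < A := by
    refine Finset.sum_pos' (fun _ _ => Nat.zero_le _) ⟨χ₀, Finset.mem_filter.2 ⟨hχ₀, hlt⟩, ?_⟩
    exact pow_pos (deg_pos (hXirr χ₀ hχ₀)) 2
  have hAge : deg χ ^ 2 ≤ A := Nat.le_of_dvd hApos hd3
  have h2lt : 2 * deg χ₀ < deg χ := by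
    rw [ha, hk]
    obtain ⟨c, rfl⟩ := Nat.exists_eq_add_of_lt hak
    have hpa : 0 < p ^ a := by positivity
    have hpc : 0 < p ^ c := by positivity
    have h1 : 3 * p ^ a ≤ p ^ (a + c + 1) := by
      have : p ^ (a + c + 1) = p ^ a * (p ^ c * p) := by ring
      rw [this, mul_comm 3]
      refine Nat.mul_le_mul_left _ ?_
      calc 3 = 1 * 3 := by norm_num
        _ ≤ p ^ c * p := Nat.mul_le_mul hpc hp3
    have h2 : 2 * p ^ a < p ^ (a + c + 1) := by omega
    calc 2 * (K'.index * p ^ a) = K'.index * (2 * p ^ a) := by ring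
      _ < K'.index * p ^ (a + c + 1) := Nat.mul_lt_mul_of_pos_left h2 hidx0
  calc 2 * deg χ₀ * deg χ < deg χ * deg χ :=
        Nat.mul_lt_mul_of_pos_right h2lt (deg_pos (hXirr χ hχX))
    _ = deg χ ^ 2 := by ring
    _ ≤ A := hAge
    _ ≤ _ := hAT

end Cfsg.Agent.OddOrderCharacters.SibleyCentral
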