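import Mathlib
import Cfsg.Prelude.Def_Characters
import Cfsg.Prelude.Def_OddOrderChar
import Cfsg.Prelude.Def_OddOrderLocal
import Cfsg.Agent.Characters.Core
import Cfsg.Agent.Characters.Linear
import Cfsg.Agent.OddOrderCharacters.SibleyCount
import Cfsg.Agent.S1523

/-!
# Characters proportional to the degrees on the characters nontrivial on `Z` are constant on `Z#`
-/

set_option autoImplicit false
set_option linter.unusedSectionVars false

open scoped ComplexConjugate
open Cfsg Cfsg.Agent.Characters.Core Cfsg.Agent.OddOrderCharacters.SibleyCount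

namespace Cfsg.Agent.OddOrderCharacters.SibleyConst

universe u

section abstract

variable {L : Type u} [Group L] [Fintype L]

/-- Column orthogonality over the irreducible characters nontrivial on `Z`. -/
theorem sum_nk_apply (Z : Subgroup L) [Z.Normal] {x : L} (hx : x ∈ Z) [Decidable (x = 1)] :
    ∑ χ ∈ nk Z, (deg χ : ℂ) * χ x + (Z.index : ℂ) = if x = 1 then (Nat.card L : ℂ) else 0 := by
  classical
  have : Finite (IrrCharacter L) := finite_irr
  have : Fintype (IrrCharacter L) := Fintype.ofFinite _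
  have h1 := InducedSum.sum_above (K := L) (⊥ : Subgroup L) x
  have h2 := InducedSum.sum_above (K := L) Z x
  rw [Subgroup.index_bot] at h1
  rw [if_pos hx] at h2
  have h3 : ∑ χ ∈ nk Z, (deg χ : ℂ) * χ x =
      ∑ χ : IrrCharacter L, if ∀ a ∈ Z, χ.1 a = χ.1 1 then 0 else χ.1 1 * χ.1 x := by
    rw [← Finset.sum_filter_add_sum_filter_not Finset.univ
      (fun χ : IrrCharacter L => ∀ a ∈ Z, χ.1 a = χ.1 1)]
    rw [Finset.sum_eq_zero (s := Finset.filter _ _) fun χ hχ => if_pos (Finset.mem_filter.1 hχ).2,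
      zero_add]
    symm
    refine Finset.sum_bij (fun χ _ => χ.1) ?_ ?_ ?_ ?_
    · intro χ hχ
      have := (Finset.mem_filter.1 hχ).2
      push Not at this
      exact mem_nk.2 ⟨χ.2, this⟩
    · intro χ _ ψ _ h
      exact Subtype.ext h
    · intro χ hχ
      obtain ⟨hirr, z, hz, hne⟩ := mem_nk.1 hχ
      refine ⟨⟨χ, hirr⟩, Finset.mem_filter.2 ⟨Finset.mem_univ _, ?_⟩, rfl⟩
      intro h
      exact hne (h z hz)
    · intro χ hχ
      rw [if_neg (Finset.mem_filter.1 hχ).2, ← apply_one_eq_deg χ.2]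
  have h4 : ∑ χ ∈ nk Z, (deg χ : ℂ) * χ x + (Z.index : ℂ) =
      if x ∈ (⊥ : Subgroup L) then (Nat.card L : ℂ) else 0 := by
    rw [h3, ← h2, ← h1, ← Finset.sum_add_distrib]
    refine Finset.sum_congr rfl fun χ _ => ?_
    have hb : ∀ a ∈ (⊥ : Subgroup L), χ.1 a = χ.1 1 := by
      intro a ha
      rw [Subgroup.mem_bot.1 ha]
    rw [if_pos hb]
    split_ifs <;> simp
  rw [h4]
  by_cases h : x = 1
  · rw [if_pos h, if_pos (Subgroup.mem_bot.2 h)]
  · rw [if_neg h, if_neg (fun h' => h (Subgroup.mem_bot.1 h'))]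

/-- A class function orthogonal to the characters nontrivial on `Z` is constant on `Z`. -/
theorem const_of_orthogonal (Z : Subgroup L) {f : L → ℂ} (hf : IsClassFunction L f)
    (h : ∀ χ ∈ nk Z, classInner f χ = 0) {z : L} (hz : z ∈ Z) : f z = f 1 := by
  have : Finite (IrrCharacter L) := finite_irr
  have : Fintype (IrrCharacter L) := Fintype.ofFinite _
  rw [classFunction_eq_sum hf, Finset.sum_apply, Finset.sum_apply]
  refine Finset.sum_congr rfl fun χ _ => ?_
  rw [Pi.smul_apply, Pi.smul_apply]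
  by_cases hχ : (χ : L → ℂ) ∈ nk Z
  · rw [h χ hχ, zero_smul, zero_smul]
  · have h1 : ∀ z ∈ Z, χ.1 z = χ.1 1 := by
      by_contra hcon
      push Not at hcon
      exact hχ (mem_nk.2 ⟨χ.2, hcon⟩)
    rw [h1 z hz]

/-- A class function whose inner products with the characters nontrivial on `Z` are
proportional to the degrees takes on `Z#` the value `f 1 - r |L|`. -/
theorem apply_of_proportional (Z : Subgroup L) [Z.Normal] {f : L → ℂ} (hf : IsClassFunction L f)
    (r : ℂ) (h : ∀ χ ∈ nk Z, classInner f χ = r * deg χ) {z : L} (hz : z ∈ Z) (hz1 : z ≠ 1) :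
    f 1 - f z = r * Nat.card L := by
  classical
  set D : L → ℂ := ∑ χ ∈ nk Z, (deg χ : ℂ) • χ with hD
  have hDcf : IsClassFunction L D := by
    intro g x
    rw [hD, Finset.sum_apply, Finset.sum_apply]
    refine Finset.sum_congr rfl fun χ hχ => ?_
    rw [Pi.smul_apply, Pi.smul_apply, isIrr_isClassFunction (mem_nk.1 hχ).1 g x]
  have hDχ : ∀ χ ∈ nk Z, classInner D χ = deg χ := by
    intro χ hχ
    rw [hD, classInner_sum_left, Finset.sum_eq_single χ]
    · rw [classInner_smul_left, classInner_irr_self (mem_nk.1 hχ).1, mul_one]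
    · intro ψ hψ hne
      rw [classInner_smul_left, classInner_irr_ne (mem_nk.1 hψ).1 (mem_nk.1 hχ).1 hne, mul_zero]
    · intro h; exact absurd hχ h
  have h1 := const_of_orthogonal Z (f := f - r • D)
    (fun g x => by
      simp only [Pi.sub_apply, Pi.smul_apply]
      rw [hf g x, hDcf g x])
    (fun χ hχ => by
      rw [classInner_sub_left, classInner_smul_left, h χ hχ, hDχ χ hχ, sub_self]) hz
  have h2 : ∀ x : L, D x = ∑ χ ∈ nk Z, (deg χ : ℂ) * χ x := by
    intro x
    rw [hD, Finset.sum_apply]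
    rfl
  have h3 := sum_nk_apply Z hz
  have h4 := sum_nk_apply Z (Subgroup.one_mem Z)
  rw [← h2] at h3 h4
  rw [if_neg hz1] at h3
  rw [if_pos rfl] at h4
  simp only [Pi.sub_apply, Pi.smul_apply, smul_eq_mul] at h1
  linear_combination r * h4 - r * h3 - h1

/-- A linear character of `K` is trivial on the commutator subgroup. -/
theorem linear_apply_of_mem_commutator {K : Type*} [Group K] {φ : K → ℂ}
    (hφ : IsIrrCharacter K φ) (h1 : φ 1 = 1) {x : K} (hx : x ∈ commutator K) : φ x = φ 1 := by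
  obtain ⟨f, hf⟩ := Cfsg.Agent.Characters.Linear.exists_hom_of_isIrrCharacter hφ h1
  have h2 : commutator K ≤ f.ker := Abelianization.commutator_subset_ker f
  have h3 : f x = 1 := h2 hx
  have h4 : ∀ g, φ g = (f g : ℂ) := fun g => by rw [hf]
  rw [h4, h4, h3, map_one]

end abstract

section concrete

variable {G : Type u} [Group G] [Fintype G] (p : ℕ) [Fact p.Prime] (P : Sylow p G)

/-- The congruence: if `ψ` is an irreducible character of `G` whose restriction to
`N = N_G(P)` has inner products with the characters nontrivial on `Z` equal to `r` times the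
degrees, then `r [N : P]` is an integer. -/
theorem exists_int (hTI : IsTISubset ((P : Subgroup G) : Set G))
    (hC : ∀ k ∈ (P : Subgroup G), k ≠ 1 → Subgroup.centralizer ({k} : Set G) ≤ (P : Subgroup G))
    [Fintype (Subgroup.normalizer ((P : Subgroup G) : Set G))]
    (hodd : Odd (Nat.card (Subgroup.normalizer ((P : Subgroup G) : Set G))))
    (Z : Subgroup G) (hZ1 : Z ≠ ⊥)
    (hZP : ∀ z ∈ Z, z ∈ (P : Subgroup G) ∧ ∀ y ∈ (P : Subgroup G), z * y = y * z)
    (hZn : ∀ x ∈ Subgroup.normalizer ((P : Subgroup G) : Set G), ∀ z ∈ Z, x * z * x⁻¹ ∈ Z)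
    {ψ : G → ℂ} (hψ : IsIrrCharacter G ψ) (r : ℂ)
    (hr : ∀ χ ∈ nk (Z.subgroupOf (Subgroup.normalizer ((P : Subgroup G) : Set G))),
      classInner (fun x : Subgroup.normalizer ((P : Subgroup G) : Set G) => ψ x) χ = r * deg χ) :
    ∃ t : ℤ, r * (((P : Subgroup G).subgroupOf
      (Subgroup.normalizer ((P : Subgroup G) : Set G))).index : ℂ) = t := by
  have hPN : (P : Subgroup G) ≤ Subgroup.normalizer ((P : Subgroup G) : Set G) :=
    Subgroup.le_normalizer
  have hZn' : (Z.subgroupOf (Subgroup.normalizer ((P : Subgroup G) : Set G))).Normal :=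
    ⟨fun z hz x => hZn x x.2 z hz⟩
  have hcf : IsClassFunction (Subgroup.normalizer ((P : Subgroup G) : Set G))
      (fun x : Subgroup.normalizer ((P : Subgroup G) : Set G) => ψ x) := by
    intro g h
    exact isIrr_isClassFunction hψ g h
  have hval : ∀ z ∈ Z, z ≠ 1 → ψ 1 - ψ z =
      r * Nat.card (Subgroup.normalizer ((P : Subgroup G) : Set G)) := by
    intro z hz hz1
    have hzN : z ∈ Subgroup.normalizer ((P : Subgroup G) : Set G) := hPN (hZP z hz).1
    exact apply_of_proportional (Z.subgroupOf (Subgroup.normalizer ((P : Subgroup G) : Set G)))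
      hcf r hr (z := ⟨z, hzN⟩) hz (fun h => hz1 (congrArg Subtype.val h))
  obtain ⟨⟨z, hz⟩, hz1⟩ := Subgroup.ne_bot_iff_exists_ne_one.1 hZ1
  have hz1' : z ≠ 1 := fun h => hz1 (Subtype.ext h)
  have hcent : ∀ z ∈ Z, z ≠ 1 → Subgroup.normalizer ((P : Subgroup G) : Set G) ⊓
      Subgroup.centralizer ({z} : Set G) = (P : Subgroup G) := by
    intro z hz hz1
    apply le_antisymm
    · exact inf_le_right.trans (hC z (hZP z hz).1 hz1)
    · refine le_inf hPN fun y hy => ?_
      rw [Subgroup.mem_centralizer_singleton_iff]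
      exact ((hZP z hz).2 y hy).symm
  obtain ⟨n, d, hn, hd, hdvd⟩ := Cfsg.Agent.S1523.result p P hTI hodd Z hZ1
    (fun z hz => (hZP z hz).1) hZn (fun z hz => (hZP z hz).2)
    (fun z hz z' hz' h1 h1' => by rw [hcent z hz h1, hcent z' hz' h1']) ψ hψ
    (fun z hz z' hz' h1 h1' => by
      have e1 := hval z hz h1
      have e2 := hval z' hz' h1'
      linear_combination e2 - e1) z hz hz1'
  obtain ⟨t, ht⟩ := hdvd
  refine ⟨t, ?_⟩
  have h1 := hval z hz hz1'
  have h2 : (Nat.card (Subgroup.normalizer ((P : Subgroup G) : Set G)) : ℂ) =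
      (Nat.card (P : Subgroup G) : ℂ) * (((P : Subgroup G).subgroupOf
      (Subgroup.normalizer ((P : Subgroup G) : Set G))).index : ℂ) := by
    have h3 := Subgroup.card_mul_index ((P : Subgroup G).subgroupOf
      (Subgroup.normalizer ((P : Subgroup G) : Set G)))
    rw [Nat.card_congr (Subgroup.subgroupOfEquivOfLe hPN).toEquiv] at h3
    rw [← h3]; push_cast; ring
  have h4 : (Nat.card (P : Subgroup G) : ℂ) ≠ 0 := by exact_mod_cast Nat.card_pos.ne'
  have h5 : (d : ℂ) - n = (Nat.card (P : Subgroup G) : ℂ) * t := by exact_mod_cast ht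
  rw [hn, hd, h2, h5] at h1
  have h6 : (Nat.card (P : Subgroup G) : ℂ) * (r * (((P : Subgroup G).subgroupOf
      (Subgroup.normalizer ((P : Subgroup G) : Set G))).index : ℂ)) =
      (Nat.card (P : Subgroup G) : ℂ) * t := by
    rw [h1]; ring
  exact mul_left_cancel₀ h4 h6

end concrete

end Cfsg.Agent.OddOrderCharacters.SibleyConst
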