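import Mathlib

/-!
# Group-theoretic lemmas for the theorem of Sibley
-/

set_option autoImplicit false

namespace Cfsg.Agent.OddOrderCharacters.SibleyGroup

/-- If `K` has odd order, contains the centralisers of its non-identity elements and is not
commutative, then its normaliser has odd order. -/
theorem odd_card_normalizer {G : Type*} [Group G] [Finite G] (K : Subgroup G)
    (hK2 : Odd (Nat.card K)) (hC : ∀ k ∈ K, k ≠ 1 → Subgroup.centralizer ({k} : Set G) ≤ K)
    (hna : ¬ ∀ a ∈ K, ∀ b ∈ K, a * b = b * a) :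
    Odd (Nat.card (Subgroup.normalizer (K : Set G))) := by
  by_contra hcon
  rw [Nat.not_odd_iff_even, even_iff_two_dvd] at hcon
  obtain ⟨t, ht⟩ := exists_prime_orderOf_dvd_card' (G := Subgroup.normalizer (K : Set G)) 2 hcon
  have hmem : ∀ k ∈ K, (t : G) * k * (t : G)⁻¹ ∈ K := fun k hk =>
    (Subgroup.mem_normalizer_iff.1 t.2 k).1 hk
  have ht2 : (t : G) * (t : G) = 1 := by
    have h1 : t ^ 2 = 1 := by rw [← ht]; exact pow_orderOf_eq_one t
    have h2 := congrArg Subtype.val h1
    rw [sq] at h2
    exact h2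
  have htinv : (t : G)⁻¹ = t := inv_eq_of_mul_eq_one_left ht2
  let φ : K →* K :=
    { toFun := fun k => ⟨(t : G) * k * (t : G)⁻¹, hmem k k.2⟩
      map_one' := Subtype.ext (by simp)
      map_mul' := fun a b => Subtype.ext (by simp) }
  have hφ : MonoidHom.FixedPointFree φ := by
    intro k hk
    by_contra hk1
    have h1 : (t : G) * k * (t : G)⁻¹ = k := congrArg Subtype.val hk
    have h2 : (t : G) ∈ Subgroup.centralizer ({(k : G)} : Set G) := by
      rw [Subgroup.mem_centralizer_singleton_iff]
      exact mul_inv_eq_iff_eq_mul.1 h1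
    have h3 : (t : G) ∈ K := hC k k.2 (fun h => hk1 (Subtype.ext h)) h2
    have h4 : orderOf (t : G) ∣ Nat.card K := Subgroup.orderOf_dvd_natCard K h3
    rw [Subgroup.orderOf_coe, ht] at h4
    exact (Nat.not_even_iff_odd.2 hK2) (even_iff_two_dvd.2 h4)
  have hinv : Function.Involutive φ := by
    intro k
    apply Subtype.ext
    show (t : G) * ((t : G) * k * (t : G)⁻¹) * (t : G)⁻¹ = k
    rw [htinv]
    calc (t : G) * (t * k * t) * t = (t * t) * k * (t * t) := by group
      _ = k := by rw [ht2]; simp
  apply hna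
  intro a ha b hb
  have := hφ.commute_all_of_involutive hinv ⟨a, ha⟩ ⟨b, hb⟩
  exact congrArg Subtype.val this

end Cfsg.Agent.OddOrderCharacters.SibleyGroup
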