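import Mathlib
import Cfsg.Prelude.Def_Characters
import Cfsg.Prelude.Def_OddOrderChar
import Cfsg.Agent.Characters.Core
import Cfsg.Agent.OddOrderCharacters.VChar
import Cfsg.Agent.S0198

/-!
# Coherence of irreducible characters of equal degree

A set `S` of at least two irreducible characters of `N`, all of the same degree, is coherent for
every linear isometry on `ℤ[S]°` with values virtual characters of `G` vanishing at `1`.
-/

set_option autoImplicit false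

open scoped ComplexConjugate
open Cfsg Cfsg.Agent.Characters.Core Cfsg.Agent.OddOrderCharacters.VChar

namespace Cfsg.Agent.OddOrderCharacters.ConstantDegree

theorem finite_of_irr {N : Type*} [Group N] [Fintype N] {S : Set (N → ℂ)}
    (hS : ∀ χ ∈ S, IsIrrCharacter N χ) : S.Finite := by
  have : Finite (IrrCharacter N) := finite_irr
  refine Set.Finite.subset (Set.finite_range (fun χ : IrrCharacter N => (χ : N → ℂ))) ?_
  intro χ hχ
  exact ⟨⟨χ, hS χ hχ⟩, rfl⟩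

/-- A set of at least two irreducible characters of equal degree is coherent. -/
theorem constant_degree_coherent {N : Type*} [Group N] [Fintype N] {G : Type*} [Group G]
    [Fintype G] (S : Set (N → ℂ)) (hS : ∀ χ ∈ S, IsIrrCharacter N χ)
    (h2 : ∃ a ∈ S, ∃ b ∈ S, a ≠ b) (hdeg : ∀ a ∈ S, ∀ b ∈ S, a 1 = b 1)
    (τ : (N → ℂ) → (G → ℂ)) (hτ : IsLinearIsometryOn (zspanOn S {1}ᶜ) τ)
    (hτ1 : ∀ α ∈ zspanOn S {1}ᶜ, τ α 1 = 0) : IsCoherent S {1}ᶜ τ := by
  classical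
  obtain ⟨χ₀, hχ₀, χ₁, hχ₁, hne01⟩ := h2
  have hfin : S.Finite := finite_of_irr hS
  -- differences
  have hdiff : ∀ a ∈ S, ∀ b ∈ S, a - b ∈ zspanOn S {1}ᶜ := by
    intro a ha b hb
    refine mem_zspanOn_one_iff.2 ⟨zspan_sub (zspan_subset ha) (zspan_subset hb), ?_⟩
    rw [Pi.sub_apply, hdeg a ha b hb, sub_self]
  -- enumeration of `S`
  obtain ⟨n, ⟨e⟩⟩ : ∃ n, Nonempty (↥S ≃ Fin n) := by
    have := hfin.to_subtype
    exact ⟨_, ⟨Finite.equivFin ↥S⟩⟩
  set c : Fin n → (N → ℂ) := fun i => (e.symm i : N → ℂ) with hc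
  have hcS : ∀ i, c i ∈ S := fun i => (e.symm i).2
  have hcinj : Function.Injective c := Subtype.val_injective.comp e.symm.injective
  set i₀ : Fin n := e ⟨χ₀, hχ₀⟩ with hi₀
  have hci₀ : c i₀ = χ₀ := by simp [hc, hi₀]
  have hgram0 : ∀ i j, classInner (c i) (c j) = if i = j then 1 else 0 := by
    intro i j
    rw [classInner_irr (hS _ (hcS i)) (hS _ (hcS j))]
    simp only [hcinj.eq_iff]
  obtain ⟨ε, hε, μ, hμirr, hμinj, hμ⟩ := S0198.result n i₀ (fun i => τ (c i - c i₀))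
    (by
      show τ (c i₀ - c i₀) = 0
      rw [sub_self]; exact spanOn_zero hτ)
    (fun i => lin_gen hτ (hdiff _ (hcS i) _ (hcS i₀)))
    (fun i => hτ1 _ (hdiff _ (hcS i) _ (hcS i₀)))
    (by
      intro i j hi hj
      show classInner (τ (c i - c i₀)) (τ (c j - c i₀)) = _
      rw [lin_inner hτ (hdiff _ (hcS i) _ (hcS i₀)) (hdiff _ (hcS j) _ (hcS i₀)),
        classInner_sub_left, classInner_sub_right, classInner_sub_right, hgram0, hgram0, hgram0,
        hgram0, if_neg hi, if_neg (Ne.symm hj), if_pos rfl]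
      split_ifs <;> norm_num)
  -- the isometry
  set F : (N → ℂ) → (G → ℂ) := fun χ => if h : χ ∈ S then ε • μ (e ⟨χ, h⟩) else 0 with hF
  have hFS : ∀ χ (h : χ ∈ S), F χ = ε • μ (e ⟨χ, h⟩) := fun χ h => dif_pos h
  have hεgen : ∀ φ : G → ℂ, IsIrrCharacter G φ → IsGeneralizedCharacter G (ε • φ) := by
    intro φ hφ
    rcases hε with rfl | rfl
    · rw [one_smul]; exact gen_of_irr hφ
    · rw [neg_one_smul]; exact gen_neg (gen_of_irr hφ)
  have hεε : ε * conj ε = 1 := by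
    rcases hε with rfl | rfl <;> simp
  have hFin : ∀ χ ∈ S, ∀ φ ∈ S, classInner (F χ) (F φ) = classInner χ φ := by
    intro χ hχ φ hφ
    rw [hFS χ hχ, hFS φ hφ, classInner_smul_left, classInner_smul_right, ← mul_assoc, hεε, one_mul,
      classInner_irr (hμirr _) (hμirr _), classInner_irr (hS χ hχ) (hS φ hφ)]
    simp only [hμinj.eq_iff, e.apply_eq_iff_eq, Subtype.mk.injEq]
  obtain ⟨τ₁, hτ₁, hτ₁S⟩ := exists_isometry_extending (S := hfin.toFinset)
    (fun χ hχ h => by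
      rw [Set.Finite.mem_toFinset] at hχ
      have := classInner_irr_self (hS χ hχ)
      rw [h, classInner_zero_left] at this
      exact zero_ne_one this)
    (fun χ hχ φ hφ hne => classInner_irr_ne (hS χ ((Set.Finite.mem_toFinset hfin).1 hχ))
      (hS φ ((Set.Finite.mem_toFinset hfin).1 hφ)) hne) F
    (fun χ hχ => by
      have h := (Set.Finite.mem_toFinset hfin).1 hχ
      rw [hFS χ h]; exact hεgen _ (hμirr _))
    (fun χ hχ φ hφ => hFin χ ((Set.Finite.mem_toFinset hfin).1 hχ) φ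
      ((Set.Finite.mem_toFinset hfin).1 hφ))
  rw [Set.Finite.coe_toFinset] at hτ₁
  refine ⟨⟨χ₀ - χ₁, hdiff _ hχ₀ _ hχ₁, sub_ne_zero.2 hne01⟩, τ₁, hτ₁, ?_⟩
  -- agreement with `τ`
  have hτ₁F : ∀ χ (h : χ ∈ S), τ₁ χ = ε • μ (e ⟨χ, h⟩) := fun χ h => by
    rw [hτ₁S χ ((Set.Finite.mem_toFinset hfin).2 h), hFS χ h]
  have hbase : ∀ χ ∈ S, τ₁ (χ - χ₀) = τ (χ - χ₀) := by
    intro χ hχ
    rw [span_sub hτ₁ (zspan_subset hχ) (zspan_subset hχ₀), hτ₁F χ hχ, hτ₁F χ₀ hχ₀]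
    have h1 := hμ (e ⟨χ, hχ⟩)
    have h2 : c (e ⟨χ, hχ⟩) = χ := by simp [hc]
    rw [hci₀, h2, hi₀] at h1
    rw [h1, smul_sub]
  intro α hα
  obtain ⟨hαs, hα1⟩ := mem_zspanOn_one_iff.1 hα
  rw [← Set.Finite.coe_toFinset hfin] at hαs
  obtain ⟨k, rfl⟩ := mem_zspan_finset hαs
  -- the sum of the coefficients vanishes
  have hdeg0 : χ₀ 1 ≠ 0 := by
    obtain ⟨m, hm, hm1⟩ := isIrr_apply_one (hS χ₀ hχ₀)
    rw [hm1]; exact_mod_cast hm.ne'
  have hksum : ∑ χ ∈ hfin.toFinset, k χ = 0 := by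
    have h1 : ((∑ χ ∈ hfin.toFinset, k χ : ℤ) : ℂ) * χ₀ 1 = 0 := by
      rw [← hα1, Finset.sum_apply]
      push_cast
      rw [Finset.sum_mul]
      refine Finset.sum_congr rfl fun χ hχ => ?_
      rw [Pi.smul_apply, zsmul_eq_mul, hdeg χ ((Set.Finite.mem_toFinset hfin).1 hχ) χ₀ hχ₀]
    rcases mul_eq_zero.1 h1 with h | h
    · exact_mod_cast h
    · exact absurd h hdeg0
  have hrew : ∑ χ ∈ hfin.toFinset, k χ • χ = ∑ χ ∈ hfin.toFinset, k χ • (χ - χ₀) := by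
    simp_rw [smul_sub, Finset.sum_sub_distrib, ← Finset.sum_smul, hksum, zero_smul, sub_zero]
  rw [hrew]
  have hmem : ∀ χ ∈ hfin.toFinset, k χ • (χ - χ₀) ∈ zspanOn S {1}ᶜ := fun χ hχ =>
    zspanOn_zsmul _ (hdiff χ ((Set.Finite.mem_toFinset hfin).1 hχ) χ₀ hχ₀)
  rw [span_sum hτ₁ _ fun χ hχ => zspanOn_zspan (hmem χ hχ)]
  have hsumτ : ∀ s ⊆ hfin.toFinset, (∑ χ ∈ s, k χ • (χ - χ₀)) ∈ zspanOn S {1}ᶜ ∧
      τ (∑ χ ∈ s, k χ • (χ - χ₀)) = ∑ χ ∈ s, τ (k χ • (χ - χ₀)) := by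
    intro s
    induction s using Finset.induction_on with
    | empty =>
      intro _
      rw [Finset.sum_empty, Finset.sum_empty]
      exact ⟨zspanOn_zero, spanOn_zero hτ⟩
    | insert a s ha ih =>
      intro hs
      obtain ⟨ih1, ih2⟩ := ih (fun x hx => hs (Finset.mem_insert_of_mem hx))
      rw [Finset.sum_insert ha, Finset.sum_insert ha]
      have ha' := hmem a (hs (Finset.mem_insert_self a s))
      exact ⟨zspanOn_add ha' ih1, by rw [lin_add hτ ha' ih1, ih2]⟩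
  rw [(hsumτ _ (Finset.Subset.refl _)).2]
  refine Finset.sum_congr rfl fun χ hχ => ?_
  have hχS := (Set.Finite.mem_toFinset hfin).1 hχ
  rw [lin_zsmul hτ₁ (zspanOn_zspan (hdiff χ hχS χ₀ hχ₀)), lin_zsmul hτ (hdiff χ hχS χ₀ hχ₀),
    hbase χ hχS]

end Cfsg.Agent.OddOrderCharacters.ConstantDegree
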