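import Mathlib
import Cfsg.Prelude.Def_OddOrderChar
import Cfsg.Agent.Characters.Core
import Cfsg.Agent.OddOrderCharacters.InducedSum
import Cfsg.Agent.S1492
import Cfsg.Agent.S1528

/-!
# Counting characters of a Frobenius group nontrivial on the kernel

For normal subgroups `A ≤ H` of a finite group `N`, the finite set `irrAbove H A` of irreducible
characters of `N` whose kernel contains `A` but not `H`, the sum of the squares of their degrees,
divisibility of the degrees by `[N : H]` in the Frobenius case and the degree bound coming from a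
central section.
-/

set_option autoImplicit false

open Cfsg Cfsg.Agent.Characters.Core

namespace Cfsg.Agent.OddOrderCharacters.FeitCount

/-- The degree of a character as a natural number. -/
noncomputable def natDeg {N : Type*} [Group N] (χ : N → ℂ) : ℕ := ⌊‖χ 1‖⌋₊

theorem natDeg_eq {N : Type*} [Group N] {χ : N → ℂ} {n : ℕ} (h : χ 1 = n) : natDeg χ = n := by
  unfold natDeg
  rw [h]
  simp

theorem natDeg_spec {N : Type*} [Group N] {χ : N → ℂ} (h : IsIrrCharacter N χ) :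
    χ 1 = natDeg χ ∧ 0 < natDeg χ := by
  obtain ⟨n, hn, hn'⟩ := isIrr_apply_one h
  rw [natDeg_eq hn']
  exact ⟨hn', hn⟩

variable {N : Type*} [Group N] [Fintype N]

/-- Irreducible characters of `N` with `A` in the kernel and `H` not in the kernel. -/
def aboveSet (H A : Subgroup N) : Set (N → ℂ) :=
  {χ | (IsIrrCharacter N χ ∧ ∃ h ∈ H, χ h ≠ χ 1) ∧ ∀ a ∈ A, χ a = χ 1}

theorem finite_aboveSet (H A : Subgroup N) : (aboveSet H A).Finite := by
  have : Finite (IrrCharacter N) := finite_irr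
  have h : (Set.range (fun χ : IrrCharacter N => (χ : N → ℂ))).Finite := Set.finite_range _
  refine h.subset ?_
  rintro χ ⟨⟨hχ, -⟩, -⟩
  exact ⟨⟨χ, hχ⟩, rfl⟩

/-- The finite set of irreducible characters of `N` with `A` in the kernel and `H` not in the
kernel. -/
noncomputable def irrAbove (H A : Subgroup N) : Finset (N → ℂ) := (finite_aboveSet H A).toFinset

theorem mem_irrAbove {H A : Subgroup N} {χ : N → ℂ} :
    χ ∈ irrAbove H A ↔ (IsIrrCharacter N χ ∧ ∃ h ∈ H, χ h ≠ χ 1) ∧ ∀ a ∈ A, χ a = χ 1 :=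
  (finite_aboveSet H A).mem_toFinset

theorem coe_irrAbove (H A : Subgroup N) :
    (↑(irrAbove H A) : Set (N → ℂ)) =
      {χ | (IsIrrCharacter N χ ∧ ∃ h ∈ H, χ h ≠ χ 1) ∧ ∀ a ∈ A, χ a = χ 1} := by
  ext χ
  rw [Finset.mem_coe, mem_irrAbove]
  rfl

theorem coe_irrAbove_bot (H : Subgroup N) :
    (↑(irrAbove H ⊥) : Set (N → ℂ)) = {χ | IsIrrCharacter N χ ∧ ∃ h ∈ H, χ h ≠ χ 1} := by
  ext χ
  rw [Finset.mem_coe, mem_irrAbove]
  constructor
  · exact fun h => h.1
  · intro h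
    refine ⟨h, fun a ha => ?_⟩
    rw [Subgroup.mem_bot.1 ha]

theorem irrAbove_anti {H A B : Subgroup N} (h : B ≤ A) : irrAbove H A ⊆ irrAbove H B := by
  intro χ hχ
  rw [mem_irrAbove] at hχ ⊢
  exact ⟨hχ.1, fun b hb => hχ.2 b (h hb)⟩

/-- The sum of the squares of the degrees of the irreducible characters with `A` in the kernel and
`H` not in the kernel is `[N : A] - [N : H]`. -/
theorem sum_sq_natDeg (H A : Subgroup N) [H.Normal] [A.Normal] (hAH : A ≤ H) :
    ∑ χ ∈ irrAbove H A, natDeg χ ^ 2 + H.index = A.index := by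
  classical
  have : Finite (IrrCharacter N) := finite_irr
  have _ : Fintype (IrrCharacter N) := Fintype.ofFinite _
  have hA := InducedSum.sum_above A (1 : N)
  have hH := InducedSum.sum_above H (1 : N)
  rw [if_pos (one_mem _)] at hA hH
  have hset : irrAbove H A = (Finset.univ.filter (fun χ : IrrCharacter N =>
      (∀ a ∈ A, χ.1 a = χ.1 1) ∧ ¬ ∀ h ∈ H, χ.1 h = χ.1 1)).map
        (Function.Embedding.subtype _) := by
    ext χ
    rw [mem_irrAbove, Finset.mem_map]
    constructor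
    · rintro ⟨⟨h1, h, hh, h2⟩, h3⟩
      refine ⟨⟨χ, h1⟩, ?_, rfl⟩
      rw [Finset.mem_filter]
      exact ⟨Finset.mem_univ _, h3, fun h4 => h2 (h4 h hh)⟩
    · rintro ⟨χ', h1, rfl⟩
      rw [Finset.mem_filter] at h1
      refine ⟨⟨χ'.2, ?_⟩, h1.2.1⟩
      have := h1.2.2
      push Not at this
      exact this
  have hsum : ((∑ χ ∈ irrAbove H A, natDeg χ ^ 2 : ℕ) : ℂ) =
      ∑ χ : IrrCharacter N, (if (∀ a ∈ A, χ.1 a = χ.1 1) ∧ ¬ ∀ h ∈ H, χ.1 h = χ.1 1 then
        χ.1 1 * χ.1 1 else 0) := by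
    rw [hset, Finset.sum_map, Finset.sum_filter]
    push_cast
    refine Finset.sum_congr rfl fun χ _ => ?_
    split_ifs
    · show ((natDeg χ.1 : ℕ) : ℂ) ^ 2 = _
      rw [← (natDeg_spec χ.2).1, sq]
    · rfl
  have key : ((∑ χ ∈ irrAbove H A, natDeg χ ^ 2 + H.index : ℕ) : ℂ) = (A.index : ℂ) := by
    rw [Nat.cast_add, hsum, ← hA, ← hH, ← Finset.sum_add_distrib]
    refine Finset.sum_congr rfl fun χ _ => ?_
    by_cases h1 : ∀ h ∈ H, χ.1 h = χ.1 1
    · have h2 : ∀ a ∈ A, χ.1 a = χ.1 1 := fun a ha => h1 a (hAH ha)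
      rw [if_neg (fun h => h.2 h1), if_pos h1, if_pos h2, zero_add]
    · by_cases h2 : ∀ a ∈ A, χ.1 a = χ.1 1
      · rw [if_pos ⟨h2, h1⟩, if_neg h1, if_pos h2, add_zero]
      · rw [if_neg (fun h => h2 h.1), if_neg h1, if_neg h2, add_zero]
  exact_mod_cast key

/-- Same with the index in `H`. -/
theorem sum_sq_natDeg' (H A : Subgroup N) [H.Normal] [A.Normal] (hAH : A ≤ H) :
    ∑ χ ∈ irrAbove H A, natDeg χ ^ 2 + H.index = A.relIndex H * H.index := by
  rw [Subgroup.relIndex_mul_index hAH]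
  exact sum_sq_natDeg H A hAH

/-- In a Frobenius group with kernel `H` the degrees are divisible by `[N : H]`. -/
theorem index_dvd_natDeg (H : Subgroup N) [H.Normal]
    (hC : ∀ h ∈ H, h ≠ 1 → Subgroup.centralizer ({h} : Set N) ≤ H) {A : Subgroup N} {χ : N → ℂ}
    (hχ : χ ∈ irrAbove H A) : H.index ∣ natDeg χ := by
  rw [mem_irrAbove] at hχ
  obtain ⟨φ, hφ, hχφ⟩ := Cfsg.Agent.S1528.result H hC χ hχ.1.1 hχ.1.2
  obtain ⟨m, -, hm⟩ := isIrr_apply_one hφ
  refine ⟨m, natDeg_eq ?_⟩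
  rw [hχφ, InducedNormal.indFun_one, hm]
  push_cast
  ring

/-- `[H : A] ≡ 1` modulo `[N : H]`. -/
theorem index_dvd_relIndex_sub_one (H : Subgroup N) [H.Normal]
    (hC : ∀ h ∈ H, h ≠ 1 → Subgroup.centralizer ({h} : Set N) ≤ H) (A : Subgroup N) [A.Normal]
    (hAH : A ≤ H) : H.index ∣ A.relIndex H - 1 := by
  have h := sum_sq_natDeg' H A hAH
  have hpos : 0 < H.index := Nat.pos_of_ne_zero Subgroup.index_ne_zero_of_finite
  have hd : H.index * H.index ∣ ∑ χ ∈ irrAbove H A, natDeg χ ^ 2 := by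
    refine Finset.dvd_sum fun χ hχ => ?_
    rw [sq]
    exact Nat.mul_dvd_mul (index_dvd_natDeg H hC hχ) (index_dvd_natDeg H hC hχ)
  have h2 : ∑ χ ∈ irrAbove H A, natDeg χ ^ 2 = H.index * (A.relIndex H - 1) := by
    rw [Nat.mul_sub, mul_comm H.index (A.relIndex H), mul_one]
    omega
  rw [h2] at hd
  exact Nat.dvd_of_mul_dvd_mul_left hpos hd

/-- `[B : A] ≡ 1` modulo `[N : H]` for `A ≤ B ≤ H`. -/
theorem index_dvd_relIndex_sub_one' (H : Subgroup N) [H.Normal]
    (hC : ∀ h ∈ H, h ≠ 1 → Subgroup.centralizer ({h} : Set N) ≤ H) (A B : Subgroup N) [A.Normal]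
    [B.Normal] (hAB : A ≤ B) (hBH : B ≤ H) : H.index ∣ A.relIndex B - 1 := by
  have h1 := index_dvd_relIndex_sub_one H hC A (hAB.trans hBH)
  have h2 := index_dvd_relIndex_sub_one H hC B hBH
  have hmul : A.relIndex B * B.relIndex H = A.relIndex H :=
    Subgroup.relIndex_mul_relIndex _ _ _ hAB hBH
  have hpos : ∀ C D : Subgroup N, 1 ≤ C.relIndex D := fun C D =>
    Nat.pos_of_ne_zero fun h0 => by
      have := Subgroup.relIndex_dvd_card C D
      rw [h0, zero_dvd_iff] at this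
      exact Nat.card_pos.ne' this
  have e1 : A.relIndex H ≡ 1 [MOD H.index] := ((Nat.modEq_iff_dvd' (hpos _ _)).mpr h1).symm
  have e2 : B.relIndex H ≡ 1 [MOD H.index] := ((Nat.modEq_iff_dvd' (hpos _ _)).mpr h2).symm
  have e3 : A.relIndex B * B.relIndex H ≡ A.relIndex B * 1 [MOD H.index] := e2.mul_left _
  rw [hmul, mul_one] at e3
  exact (Nat.modEq_iff_dvd' (hpos _ _)).mp (e1.symm.trans e3)

/-- If `A < B ≤ H` then `[B : A] ≥ [N : H] + 1`. -/
theorem index_lt_relIndex (H : Subgroup N) [H.Normal]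
    (hC : ∀ h ∈ H, h ≠ 1 → Subgroup.centralizer ({h} : Set N) ≤ H) (A B : Subgroup N) [A.Normal]
    [B.Normal] (hAB : A < B) (hBH : B ≤ H) : H.index + 1 ≤ A.relIndex B := by
  have h1 := index_dvd_relIndex_sub_one' H hC A B hAB.le hBH
  have hne : A.relIndex B ≠ 1 := by
    rw [Ne, Subgroup.relIndex_eq_one]
    exact not_le_of_gt hAB
  have hne0 : A.relIndex B ≠ 0 := fun h0 => by
    have := Subgroup.relIndex_dvd_card A B
    rw [h0, zero_dvd_iff] at this
    exact Nat.card_pos.ne' this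
  have := Nat.le_of_dvd (by omega) h1
  omega

/-- The degree bound `χ(1)² ≤ [N : H]² [H : D]` when `D/M` is central in `H/M` and `M` lies in the
kernel of `χ`. -/
theorem natDeg_sq_le (H : Subgroup N) {M D : Subgroup N} (hMD : M ≤ D) (hDH : D ≤ H)
    (hMn : ∀ c ∈ H, ∀ b ∈ M, c * b * c⁻¹ ∈ M)
    (hcent : ∀ d ∈ D, ∀ c ∈ H, d * c * d⁻¹ * c⁻¹ ∈ M) {χ : N → ℂ} (hχ : χ ∈ irrAbove H M) :
    natDeg χ ^ 2 ≤ H.index ^ 2 * D.relIndex H := by
  rw [mem_irrAbove] at hχ
  have h := Cfsg.Agent.S1492.result χ hχ.1.1 M H D hMD hDH hMn hcent hχ.2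
  have h1 : ‖χ 1‖ = natDeg χ := by
    rw [(natDeg_spec hχ.1.1).1]
    rw [Complex.norm_natCast]
  rw [h1] at h
  have h2 : natDeg χ ^ 2 * Nat.card H * Nat.card D ≤ Nat.card N ^ 2 := by exact_mod_cast h
  have h3 : Nat.card H * H.index = Nat.card N := H.card_mul_index
  have h4 : D.relIndex H * Nat.card D = Nat.card H := by
    have := Subgroup.relIndex_mul_relIndex ⊥ D H bot_le hDH
    rw [Subgroup.relIndex_bot_left, Subgroup.relIndex_bot_left] at this
    rw [mul_comm]
    exact this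
  have hposD : 0 < Nat.card D := Nat.card_pos
  have hposH : 0 < Nat.card H := Nat.card_pos
  have h5 : (natDeg χ ^ 2) * (Nat.card H * Nat.card D) ≤
      (H.index ^ 2 * D.relIndex H) * (Nat.card H * Nat.card D) := by
    calc (natDeg χ ^ 2) * (Nat.card H * Nat.card D) = natDeg χ ^ 2 * Nat.card H * Nat.card D := by
          ring
      _ ≤ Nat.card N ^ 2 := h2
      _ = (Nat.card H * H.index) ^ 2 := by rw [h3]
      _ = H.index ^ 2 * Nat.card H * Nat.card H := by ring
      _ = H.index ^ 2 * Nat.card H * (D.relIndex H * Nat.card D) := by rw [h4]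
      _ = (H.index ^ 2 * D.relIndex H) * (Nat.card H * Nat.card D) := by ring
  exact Nat.le_of_mul_le_mul_right h5 (Nat.mul_pos hposH hposD)

end Cfsg.Agent.OddOrderCharacters.FeitCount
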