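import Mathlib.Tactic
import Cfsg.Prelude.Def_Characters
import Cfsg.Prelude.Def_OddOrderChar
import Cfsg.Agent.Characters.Core
import Cfsg.Agent.OddOrderCharacters.FeitCoherence

/-!
# Feit's coherence criterion between arbitrary finite groups

Copy of the proof of `S1530` (by helper872) without the assumption that the first group is a subgroup
of the second one, and its iteration over a finite set of characters.
-/

set_option autoImplicit false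

open scoped ComplexConjugate
open Cfsg Cfsg.Agent.Characters.Core Cfsg.Agent.OddOrderCharacters.FeitCoherence

namespace Cfsg.Agent.OddOrderCharacters.FeitExtension

/-- The arithmetic heart of Feit's criterion: `s = Σ d(ξ)²`, `p = d(ψ)`, `a = d(χ)/d(ψ)`. -/
theorem arith {s p a b k q : ℤ} (hp : 0 < p) (ha : 0 < a) (hs : 2 * a * p ^ 2 < s)
    (hk : 0 ≤ k) (hq : p ^ 2 * q = b ^ 2 * s - 2 * a * b * p ^ 2 + a ^ 2 * p ^ 2)
    (hkq : k = 1 + a ^ 2 - q) : b = 0 ∨ (b = 1 ∧ k = 0) := by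
  -- p² (k - 1) = -b² s + 2 a b p²
  have hmain : p ^ 2 * (k - 1) = 2 * a * b * p ^ 2 - b ^ 2 * s := by
    rw [hkq]; linear_combination (-1) * hq
  have hp2 : 0 < p ^ 2 := by positivity
  have hap : 0 < a * p ^ 2 := by positivity
  by_contra hcon
  push Not at hcon
  obtain ⟨hb0, hb1⟩ := hcon
  have hb2 : 0 < b ^ 2 := by positivity
  -- b² s > 2 a p² b²
  have h1 : b ^ 2 * (2 * a * p ^ 2) < b ^ 2 * s := by
    exact mul_lt_mul_of_pos_left hs hb2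
  have h2 : p ^ 2 * (k - 1) < 2 * (a * p ^ 2) * (b - b ^ 2) := by
    rw [hmain]; nlinarith
  have hbb : b - b ^ 2 ≤ 0 := by
    rcases lt_or_gt_of_ne hb0 with h | h
    · nlinarith
    · nlinarith
  have h3 : p ^ 2 * (k - 1) < 0 := lt_of_lt_of_le h2 (by nlinarith)
  have h4 : k - 1 < 0 := by
    by_contra h
    push Not at h
    have : 0 ≤ p ^ 2 * (k - 1) := by positivity
    linarith
  have hk0 : k = 0 := by omega
  have hb1' : b ≠ 1 := fun h => hb1 h hk0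
  rw [hk0] at h2
  have h5 : b - b ^ 2 ≤ -2 := by
    have : b ≤ -1 ∨ 2 ≤ b := by omega
    rcases this with h | h
    · nlinarith
    · nlinarith
  have h6 : p ^ 2 ≤ a * p ^ 2 := by nlinarith
  nlinarith

/-- **Feit's coherence criterion**, for arbitrary finite groups `L` and `G`: adding one irreducible
character `χ` to a finite coherent set `S₀` of irreducible characters. -/
theorem coherent_insert {L : Type*} [Group L] [Fintype L] {G : Type*} [Group G] [Fintype G]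
    (S₀ : Finset (L → ℂ)) (χ : L → ℂ) (hirr : ∀ ξ ∈ S₀, Cfsg.IsIrrCharacter L ξ)
    (hχ : Cfsg.IsIrrCharacter L χ) (hχS : χ ∉ S₀) (d : (L → ℂ) → ℕ)
    (hd : ∀ ξ ∈ insert χ S₀, ξ 1 = (d ξ : ℂ)) (τ : (L → ℂ) → (G → ℂ))
    (hτ : Cfsg.IsLinearIsometryOn (Cfsg.zspanOn (↑(insert χ S₀) : Set (L → ℂ)) {1}ᶜ) τ)
    (hτ1 : ∀ α ∈ Cfsg.zspanOn (↑(insert χ S₀) : Set (L → ℂ)) {1}ᶜ, τ α 1 = 0)
    (hcoh : Cfsg.IsCoherent (↑S₀ : Set (L → ℂ)) {1}ᶜ τ) (ψ : L → ℂ) (hψ : ψ ∈ S₀)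
    (hdvd : d ψ ∣ d χ) (hlt : 2 * d ψ * d χ < ∑ ξ ∈ S₀, d ξ ^ 2) :
    Cfsg.IsCoherent (↑(insert χ S₀) : Set (L → ℂ)) {1}ᶜ τ := by
  classical
  obtain ⟨hne, τ₁, hτ₁, hag⟩ := hcoh
  obtain ⟨a, ha⟩ := hdvd
  have hS₀ : ∀ ξ ∈ S₀, IsIrrCharacter L ξ := hirr
  have hcoe : (↑(insert χ S₀) : Set (L → ℂ)) = insert χ (↑S₀ : Set (L → ℂ)) := Finset.coe_insert χ S₀
  have hdχ : χ 1 = (d χ : ℂ) := hd χ (Finset.mem_insert_self χ S₀)
  have hdξ : ∀ ξ ∈ S₀, ξ 1 = (d ξ : ℂ) := fun ξ hξ => hd ξ (Finset.mem_insert_of_mem hξ)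
  have hdpos : ∀ ξ ∈ S₀, 0 < d ξ := fun ξ hξ => by
    obtain ⟨n, hn, hn'⟩ := isIrr_apply_one (hirr ξ hξ)
    rw [hdξ ξ hξ] at hn'
    have : d ξ = n := by exact_mod_cast hn'
    omega
  have hdχpos : 0 < d χ := by
    obtain ⟨n, hn, hn'⟩ := isIrr_apply_one hχ
    rw [hdχ] at hn'
    have : d χ = n := by exact_mod_cast hn'
    omega
  have hapos : 0 < a := by
    rcases Nat.eq_zero_or_pos a with h | h
    · rw [h, mul_zero] at ha; omega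
    · exact h
  have hmono : ∀ {α : L → ℂ}, α ∈ zspan (↑S₀ : Set (L → ℂ)) →
      α ∈ zspan (↑(insert χ S₀) : Set (L → ℂ)) := fun h =>
    zspan_mono (by rw [hcoe]; exact Set.subset_insert _ _) h
  have hmemS : ∀ ξ ∈ S₀, ξ ∈ zspan (↑S₀ : Set (L → ℂ)) := fun ξ hξ =>
    subset_zspan (Finset.mem_coe.2 hξ)
  have hmemχ : χ ∈ zspan (↑(insert χ S₀) : Set (L → ℂ)) :=
    subset_zspan (Finset.mem_coe.2 (Finset.mem_insert_self χ S₀))
  -- orthogonality in `L`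
  have horth : ∀ ξ ∈ S₀, ∀ η ∈ S₀, classInner ξ η = if ξ = η then 1 else 0 := fun ξ hξ η hη => by
    by_cases h : ξ = η
    · rw [if_pos h, h]; exact classInner_irr_self (hirr η hη)
    · rw [if_neg h]; exact classInner_irr_ne (hirr ξ hξ) (hirr η hη) h
  have hχξ : ∀ ξ ∈ S₀, classInner χ ξ = 0 := fun ξ hξ =>
    classInner_irr_ne hχ (hirr ξ hξ) (fun h => hχS (h ▸ hξ))
  have hξχ : ∀ ξ ∈ S₀, classInner ξ χ = 0 := fun ξ hξ =>
    classInner_irr_ne (hirr ξ hξ) hχ (fun h => hχS (h ▸ hξ))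
  have hχχ : classInner χ χ = 1 := classInner_irr_self hχ
  -- Gram matrix of the images
  have hgram : ∀ ξ ∈ S₀, ∀ η ∈ S₀, classInner (τ₁ ξ) (τ₁ η) = if ξ = η then 1 else 0 :=
    fun ξ hξ η hη => by rw [hτ₁.2.2.1 ξ (hmemS ξ hξ) η (hmemS η hη), horth ξ hξ η hη]
  have hgenτ₁ : ∀ ξ ∈ S₀, IsGeneralizedCharacter G (τ₁ ξ) := fun ξ hξ =>
    hτ₁.2.2.2 ξ (hmemS ξ hξ)
  -- the element `α = χ - a ψ`
  set α : L → ℂ := χ - (a : ℤ) • ψ with hα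
  have hα1 : α ∈ zspanOn (↑(insert χ S₀) : Set (L → ℂ)) {1}ᶜ := by
    rw [mem_zspanOn_compl_one]
    refine ⟨zspan_sub hmemχ (zspan_zsmul _ (hmono (hmemS ψ hψ))), ?_⟩
    rw [hα, Pi.sub_apply, zsmul_apply_eq, hdχ, hdξ ψ hψ, ha]
    push_cast
    ring
  -- the elements `β ξ = d ψ ξ - d ξ ψ`
  have hβ : ∀ ξ ∈ S₀, (d ψ : ℤ) • ξ - (d ξ : ℤ) • ψ ∈ zspanOn (↑S₀ : Set (L → ℂ)) {1}ᶜ := by
    intro ξ hξ
    rw [mem_zspanOn_compl_one]
    refine ⟨zspan_sub (zspan_zsmul _ (hmemS ξ hξ)) (zspan_zsmul _ (hmemS ψ hψ)), ?_⟩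
    rw [Pi.sub_apply, zsmul_apply_eq, zsmul_apply_eq, hdξ ξ hξ, hdξ ψ hψ]
    push_cast
    ring
  have hβ' : ∀ ξ ∈ S₀, (d ψ : ℤ) • ξ - (d ξ : ℤ) • ψ ∈
      zspanOn (↑(insert χ S₀) : Set (L → ℂ)) {1}ᶜ := fun ξ hξ => by
    have h := mem_zspanOn_compl_one.1 (hβ ξ hξ)
    exact mem_zspanOn_compl_one.2 ⟨hmono h.1, h.2⟩
  have hτβ : ∀ ξ ∈ S₀, τ ((d ψ : ℤ) • ξ - (d ξ : ℤ) • ψ) = (d ψ : ℤ) • τ₁ ξ - (d ξ : ℤ) • τ₁ ψ := by
    intro ξ hξ
    rw [← hag _ (hβ ξ hξ)]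
    exact isom_zsmul_sub_zsmul hτ₁ (Finset.mem_coe.2 hξ) (Finset.mem_coe.2 hψ) _ _
  have hgenα : IsGeneralizedCharacter G (τ α) := hτ.2.2.2 α hα1
  -- the coefficients
  have hc : ∀ ξ : L → ℂ, ∃ c : ℤ, ξ ∈ S₀ → classInner (τ α) (τ₁ ξ) = c := fun ξ => by
    by_cases hξ : ξ ∈ S₀
    · obtain ⟨c, hc⟩ := isGen_classInner_int hgenα (hgenτ₁ ξ hξ)
      exact ⟨c, fun _ => hc⟩
    · exact ⟨0, fun h => absurd h hξ⟩
  choose c hc using hc
  -- the norm of `τ α`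
  have hαα : classInner (τ α) (τ α) = 1 + (a : ℂ) ^ 2 := by
    rw [hτ.2.2.1 α hα1 α hα1, hα]
    simp only [classInner_sub_left, classInner_sub_right, classInner_zsmul_left,
      classInner_zsmul_right, hχχ, hχξ ψ hψ, hξχ ψ hψ, horth ψ hψ ψ hψ, if_true]
    push_cast
    ring
  -- relation between the coefficients
  have hrel : ∀ ξ ∈ S₀, (d ψ : ℤ) * c ξ = d ξ * (c ψ + a) - (if ξ = ψ then (a : ℤ) * d ψ else 0) := by
    intro ξ hξ
    have h1 := hτ.2.2.1 α hα1 _ (hβ' ξ hξ)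
    rw [hτβ ξ hξ] at h1
    rw [hα] at h1
    rw [← hα] at h1
    have h2 : classInner α ((d ψ : ℤ) • ξ - (d ξ : ℤ) • ψ) =
        ((d ξ * a - (if ξ = ψ then (a : ℤ) * d ψ else 0) : ℤ) : ℂ) := by
      rw [hα]
      simp only [classInner_sub_left, classInner_sub_right, classInner_zsmul_left,
        classInner_zsmul_right, hχξ ψ hψ, hχξ ξ hξ, horth ψ hψ ψ hψ, if_true, horth ψ hψ ξ hξ]
      by_cases h : ξ = ψ
      · rw [if_pos h, if_pos h.symm]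
        push_cast
        ring
      · rw [if_neg h, if_neg (fun h' => h h'.symm)]
        push_cast
        ring
    rw [h2, classInner_sub_right, classInner_zsmul_right, classInner_zsmul_right, hc ξ hξ,
      hc ψ hψ] at h1
    have h3 : (d ψ : ℤ) * c ξ - d ξ * c ψ = d ξ * a - (if ξ = ψ then (a : ℤ) * d ψ else 0) := by
      exact_mod_cast h1
    linear_combination h3
  -- the orthogonal part
  set Z : G → ℂ := τ α - ∑ ξ ∈ S₀, c ξ • τ₁ ξ with hZ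
  have hgenZ : IsGeneralizedCharacter G Z :=
    isGen_sub hgenα (isGen_sum _ fun ξ hξ => isGen_zsmul _ (hgenτ₁ ξ hξ))
  have hZξ : ∀ ξ ∈ S₀, classInner Z (τ₁ ξ) = 0 := by
    intro ξ hξ
    rw [hZ, classInner_sub_left, classInner_sum_left, hc ξ hξ]
    rw [Finset.sum_congr rfl (fun η hη => by
      rw [classInner_zsmul_left, hgram η hη ξ hξ] : ∀ η ∈ S₀, classInner (c η • τ₁ η) (τ₁ ξ) =
        (c η : ℂ) * (if η = ξ then 1 else 0))]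
    simp [hξ]
  have hZZ : classInner Z Z = 1 + (a : ℂ) ^ 2 - ∑ ξ ∈ S₀, (c ξ : ℂ) ^ 2 := by
    have h1 : classInner Z Z = classInner Z (τ α) := by
      conv_lhs => rw [hZ]
      rw [← hZ, classInner_sub_right, classInner_sum_right, Finset.sum_eq_zero, sub_zero]
      intro ξ hξ
      rw [classInner_zsmul_right, hZξ ξ hξ, mul_zero]
    rw [h1, hZ, classInner_sub_left, classInner_sum_left, hαα]
    congr 1
    refine Finset.sum_congr rfl fun ξ hξ => ?_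
    rw [classInner_zsmul_left, ← classInner_conj_symm, hc ξ hξ, sq]
    simp
  obtain ⟨k, hk⟩ := isGen_classInner_int hgenZ hgenZ
  have hk0 : 0 ≤ k := classInner_self_int_nonneg hk
  have hkq : k = 1 + (a : ℤ) ^ 2 - ∑ ξ ∈ S₀, c ξ ^ 2 := by
    rw [hk] at hZZ
    exact_mod_cast hZZ
  set b : ℤ := c ψ + a with hb
  have hq : (d ψ : ℤ) ^ 2 * ∑ ξ ∈ S₀, c ξ ^ 2 =
      b ^ 2 * ∑ ξ ∈ S₀, (d ξ : ℤ) ^ 2 - 2 * a * b * (d ψ : ℤ) ^ 2 + (a : ℤ) ^ 2 * (d ψ : ℤ) ^ 2 := by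
    rw [Finset.mul_sum, Finset.mul_sum]
    have : ∀ ξ ∈ S₀, (d ψ : ℤ) ^ 2 * c ξ ^ 2 = b ^ 2 * (d ξ : ℤ) ^ 2 +
        (if ξ = ψ then (a : ℤ) ^ 2 * (d ψ : ℤ) ^ 2 - 2 * a * b * (d ψ : ℤ) ^ 2 else 0) := by
      intro ξ hξ
      rw [← mul_pow, hrel ξ hξ]
      by_cases h : ξ = ψ
      · rw [if_pos h, if_pos h, h]; ring
      · rw [if_neg h, if_neg h]; ring
    rw [Finset.sum_congr rfl this, Finset.sum_add_distrib, Finset.sum_ite_eq' S₀ ψ, if_pos hψ]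
    ring
  have hs : 2 * (a : ℤ) * (d ψ : ℤ) ^ 2 < ∑ ξ ∈ S₀, (d ξ : ℤ) ^ 2 := by
    have : 2 * (a : ℤ) * (d ψ : ℤ) ^ 2 = ((2 * d ψ * d χ : ℕ) : ℤ) := by
      rw [ha]; push_cast; ring
    rw [this]
    exact_mod_cast hlt
  have hψpos : 0 < (d ψ : ℤ) := by exact_mod_cast hdpos ψ hψ
  have hapos' : 0 < (a : ℤ) := by exact_mod_cast hapos
  have hb0 : b = 0 := by
    rcases arith hψpos hapos' hs hk0 hq hkq with h | ⟨h1, h0⟩
    · exact h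
    · exfalso
      -- `Z = 0`, so `τ α` is in the span of the images; compare degrees
      have hZ0 : Z = 0 := classInner_self_eq_zero (by rw [hk, h0, Int.cast_zero])
      have hval : (0 : ℂ) = ∑ ξ ∈ S₀, (c ξ : ℂ) * τ₁ ξ 1 := by
        have h2 := hτ1 α hα1
        have h3 : τ α = ∑ ξ ∈ S₀, c ξ • τ₁ ξ := sub_eq_zero.1 (by rw [← hZ, hZ0])
        rw [h3, Finset.sum_apply] at h2
        rw [← h2]
        exact Finset.sum_congr rfl fun ξ _ => zsmul_apply_eq _ _ _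
      have hdeg : ∀ ξ ∈ S₀, (d ψ : ℂ) * τ₁ ξ 1 = d ξ * τ₁ ψ 1 := by
        intro ξ hξ
        have h2 := hτ1 _ (hβ' ξ hξ)
        rw [hτβ ξ hξ, Pi.sub_apply, zsmul_apply_eq, zsmul_apply_eq] at h2
        have h3 := sub_eq_zero.1 h2
        exact_mod_cast h3
      have hsum : (0 : ℂ) = ((∑ ξ ∈ S₀, (d ξ : ℤ) ^ 2 - a * (d ψ : ℤ) ^ 2 : ℤ) : ℂ) * τ₁ ψ 1 := by
        have h4 : (0 : ℂ) = (d ψ : ℂ) ^ 2 * ∑ ξ ∈ S₀, (c ξ : ℂ) * τ₁ ξ 1 := by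
          rw [← hval, mul_zero]
        rw [Finset.mul_sum] at h4
        have h5 : ∀ ξ ∈ S₀, (d ψ : ℂ) ^ 2 * ((c ξ : ℂ) * τ₁ ξ 1) =
            (((d ξ : ℤ) ^ 2 - (if ξ = ψ then (a : ℤ) * (d ψ : ℤ) ^ 2 else 0) : ℤ) : ℂ) * τ₁ ψ 1 := by
          intro ξ hξ
          have h6 : ((d ψ : ℤ) : ℂ) * (c ξ : ℂ) =
              ((d ξ * b - (if ξ = ψ then (a : ℤ) * d ψ else 0) : ℤ) : ℂ) := by
            exact_mod_cast congrArg (Int.cast (R := ℂ)) (hrel ξ hξ)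
          have h7 : (d ψ : ℂ) ^ 2 * ((c ξ : ℂ) * τ₁ ξ 1) =
              (((d ψ : ℤ) : ℂ) * (c ξ : ℂ)) * ((d ψ : ℂ) * τ₁ ξ 1) := by
            push_cast; ring
          rw [h7, h6, hdeg ξ hξ, h1]
          by_cases h : ξ = ψ
          · rw [if_pos h, if_pos h, h]
            push_cast; ring
          · rw [if_neg h, if_neg h]
            push_cast; ring
        rw [Finset.sum_congr rfl h5, ← Finset.sum_mul] at h4
        rw [h4]
        congr 1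
        rw [← Int.cast_sum, Finset.sum_sub_distrib, Finset.sum_ite_eq' S₀ ψ, if_pos hψ]
      have hne' : τ₁ ψ 1 ≠ 0 :=
        apply_one_ne_zero_of_isGen (hgenτ₁ ψ hψ) (by rw [hgram ψ hψ ψ hψ, if_pos rfl])
      have hcoef : ((∑ ξ ∈ S₀, (d ξ : ℤ) ^ 2 - a * (d ψ : ℤ) ^ 2 : ℤ) : ℂ) ≠ 0 := by
        have : 0 < ∑ ξ ∈ S₀, (d ξ : ℤ) ^ 2 - a * (d ψ : ℤ) ^ 2 := by
          have : 0 < (a : ℤ) * (d ψ : ℤ) ^ 2 := by positivity
          linarith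
        exact_mod_cast this.ne'
      exact (mul_ne_zero hcoef hne') hsum.symm
  -- now `c ξ = -a δ`
  have hcξ : ∀ ξ ∈ S₀, c ξ = if ξ = ψ then -(a : ℤ) else 0 := by
    intro ξ hξ
    have h := hrel ξ hξ
    rw [hb0] at h
    by_cases h' : ξ = ψ
    · rw [if_pos h'] at h ⊢
      rw [h']
      omega
    · rw [if_neg h'] at h ⊢
      have h2 : (d ψ : ℤ) * c ξ = 0 := by rw [h]; ring
      rcases mul_eq_zero.1 h2 with h3 | h3
      · omega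
      · exact h3
  have hZeq : Z = τ α + (a : ℤ) • τ₁ ψ := by
    rw [hZ, Finset.sum_congr rfl (fun ξ hξ => by rw [hcξ ξ hξ, ite_smul, zero_smul] :
      ∀ ξ ∈ S₀, c ξ • τ₁ ξ = if ξ = ψ then (-(a : ℤ)) • τ₁ ξ else 0),
      Finset.sum_ite_eq' S₀ ψ, if_pos hψ, neg_smul, sub_neg_eq_add]
  have hZ1 : classInner Z Z = 1 := by
    rw [hZZ, Finset.sum_congr rfl (fun ξ hξ => by rw [hcξ ξ hξ] :
      ∀ ξ ∈ S₀, (c ξ : ℂ) ^ 2 = ((if ξ = ψ then -(a : ℤ) else 0 : ℤ) : ℂ) ^ 2)]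
    have : ∀ ξ ∈ S₀, ((if ξ = ψ then -(a : ℤ) else 0 : ℤ) : ℂ) ^ 2 =
        if ξ = ψ then (a : ℂ) ^ 2 else 0 := by
      intro ξ _
      by_cases h : ξ = ψ
      · rw [if_pos h, if_pos h]; push_cast; ring
      · rw [if_neg h, if_neg h]; simp
    rw [Finset.sum_congr rfl this, Finset.sum_ite_eq' S₀ ψ, if_pos hψ]
    ring
  -- orthogonality to whole spans
  have hspan₁ : ∀ γ ∈ zspan (↑S₀ : Set (L → ℂ)), classInner γ χ = 0 := by
    intro γ hγ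
    refine Submodule.span_induction (p := fun γ _ => classInner γ χ = 0) ?_ ?_ ?_ ?_ hγ
    · intro ξ hξ; exact hξχ ξ (Finset.mem_coe.1 hξ)
    · exact classInner_zero_left _
    · intro x y _ _ hx hy; rw [classInner_add_left, hx, hy, add_zero]
    · intro n x _ hx; rw [classInner_zsmul_left, hx, mul_zero]
  have hspan₂ : ∀ γ ∈ zspan (↑S₀ : Set (L → ℂ)), classInner (τ₁ γ) Z = 0 := by
    intro γ hγ
    refine (Submodule.span_induction (p := fun γ _ => γ ∈ zspan (↑S₀ : Set (L → ℂ)) ∧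
      classInner (τ₁ γ) Z = 0) ?_ ?_ ?_ ?_ hγ).2
    · intro ξ hξ
      refine ⟨subset_zspan hξ, ?_⟩
      rw [← classInner_conj_symm, hZξ ξ (Finset.mem_coe.1 hξ), map_zero]
    · exact ⟨zspan_zero, by rw [isom_zero hτ₁, classInner_zero_left]⟩
    · intro x y _ _ hx hy
      exact ⟨zspan_add hx.1 hy.1, by
        rw [hτ₁.1 x hx.1 y hy.1, classInner_add_left, hx.2, hy.2, add_zero]⟩
    · intro n x _ hx
      exact ⟨zspan_zsmul n hx.1, by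
        rw [hτ₁.2.1 x hx.1 n, classInner_zsmul_left, hx.2, mul_zero]⟩
  obtain ⟨τ₂, hτ₂, hτ₂v⟩ := exists_extend_insert hτ₁ hχχ hspan₁ hgenZ hZ1 hspan₂
  refine ⟨?_, τ₂, ?_, ?_⟩
  · obtain ⟨δ, hδ, hδ0⟩ := hne
    have h := mem_zspanOn_compl_one.1 hδ
    exact ⟨δ, mem_zspanOn_compl_one.2 ⟨hmono h.1, h.2⟩, hδ0⟩
  · rw [hcoe]; exact hτ₂
  · intro δ hδ
    obtain ⟨h1, h2⟩ := mem_zspanOn_compl_one.1 hδ
    rw [hcoe] at h1
    obtain ⟨m, γ, hγ, rfl⟩ := mem_zspan_insert.1 h1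
    rw [hτ₂v m γ hγ]
    -- `δ = m α + (γ + m a ψ)`
    have hγ' : γ + (m * a : ℤ) • ψ ∈ zspanOn (↑S₀ : Set (L → ℂ)) {1}ᶜ := by
      rw [mem_zspanOn_compl_one]
      refine ⟨zspan_add hγ (zspan_zsmul _ (hmemS ψ hψ)), ?_⟩
      rw [Pi.add_apply, zsmul_apply_eq] at h2
      rw [Pi.add_apply, zsmul_apply_eq, ← h2, hdχ, hdξ ψ hψ, ha]
      push_cast
      ring
    have hγ'' : γ + (m * a : ℤ) • ψ ∈ zspanOn (↑(insert χ S₀) : Set (L → ℂ)) {1}ᶜ := by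
      have h := mem_zspanOn_compl_one.1 hγ'
      exact mem_zspanOn_compl_one.2 ⟨hmono h.1, h.2⟩
    have hmα : m • α ∈ zspanOn (↑(insert χ S₀) : Set (L → ℂ)) {1}ᶜ := by
      have h := mem_zspanOn_compl_one.1 hα1
      refine mem_zspanOn_compl_one.2 ⟨zspan_zsmul m h.1, ?_⟩
      rw [zsmul_apply_eq, h.2, mul_zero]
    have e : m • χ + γ = m • α + (γ + (m * a : ℤ) • ψ) := by
      rw [hα, smul_sub, mul_smul]; abel
    rw [e, hτ.1 _ hmα _ hγ'', hτ.2.1 α hα1 m, ← hag _ hγ',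
      hτ₁.1 γ hγ _ (zspan_zsmul _ (hmemS ψ hψ)), hτ₁.2.1 ψ (hmemS ψ hψ), hZeq, smul_add, mul_smul]
    abel

/-- Iterated Feit criterion: a coherent finite set `S₁` of irreducible characters containing `ψ`, a
bigger finite set `S₂` such that every degree in `S₂` is divisible by the degree of `ψ` and is small
against the sum of squares of the degrees in `S₁`. -/
theorem coherent_of_bound {L : Type*} [Group L] [Fintype L] {G : Type*} [Group G] [Fintype G]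
    (S₁ S₂ : Finset (L → ℂ)) (hsub : S₁ ⊆ S₂) (hirr : ∀ ξ ∈ S₂, Cfsg.IsIrrCharacter L ξ)
    (d : (L → ℂ) → ℕ) (hd : ∀ ξ ∈ S₂, ξ 1 = (d ξ : ℂ)) (τ : (L → ℂ) → (G → ℂ))
    (hτ : Cfsg.IsLinearIsometryOn (Cfsg.zspanOn (↑S₂ : Set (L → ℂ)) {1}ᶜ) τ)
    (hτ1 : ∀ α ∈ Cfsg.zspanOn (↑S₂ : Set (L → ℂ)) {1}ᶜ, τ α 1 = 0)
    (hcoh : Cfsg.IsCoherent (↑S₁ : Set (L → ℂ)) {1}ᶜ τ) (ψ : L → ℂ) (hψ : ψ ∈ S₁)
    (hdvd : ∀ χ ∈ S₂, d ψ ∣ d χ) (hlt : ∀ χ ∈ S₂, χ ∉ S₁ → 2 * d ψ * d χ < ∑ ξ ∈ S₁, d ξ ^ 2) :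
    Cfsg.IsCoherent (↑S₂ : Set (L → ℂ)) {1}ᶜ τ := by
  classical
  have hmono : ∀ {T : Finset (L → ℂ)}, T ⊆ S₂ → ∀ {α : L → ℂ},
      α ∈ zspanOn (↑T : Set (L → ℂ)) {1}ᶜ → α ∈ zspanOn (↑S₂ : Set (L → ℂ)) {1}ᶜ := by
    intro T hT α hα
    exact ⟨zspan_mono (Finset.coe_subset.2 hT) hα.1, hα.2⟩
  have key : ∀ R : Finset (L → ℂ), R ⊆ S₂ → Cfsg.IsCoherent (↑(S₁ ∪ R) : Set (L → ℂ)) {1}ᶜ τ := by
    intro R
    induction R using Finset.induction_on with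
    | empty => intro _; rw [Finset.union_empty]; exact hcoh
    | insert χ R hχR ih =>
      intro hR
      have hRS : R ⊆ S₂ := (Finset.subset_insert _ _).trans hR
      have ih' := ih hRS
      rw [Finset.union_insert]
      by_cases hmem : χ ∈ S₁ ∪ R
      · rw [Finset.insert_eq_of_mem hmem]; exact ih'
      have hχ₂ : χ ∈ S₂ := hR (Finset.mem_insert_self _ _)
      have hUS : S₁ ∪ R ⊆ S₂ := Finset.union_subset hsub hRS
      have hIS : insert χ (S₁ ∪ R) ⊆ S₂ := Finset.insert_subset hχ₂ hUS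
      refine coherent_insert (S₁ ∪ R) χ (fun ξ hξ => hirr ξ (hUS hξ)) (hirr χ hχ₂) hmem d
        (fun ξ hξ => hd ξ (hIS hξ)) τ ?_ (fun α hα => hτ1 α (hmono hIS hα)) ih' ψ
        (Finset.mem_union_left _ hψ) (hdvd χ hχ₂) ?_
      · refine ⟨fun α hα β hβ => hτ.1 α (hmono hIS hα) β (hmono hIS hβ),
          fun α hα n => hτ.2.1 α (hmono hIS hα) n,
          fun α hα β hβ => hτ.2.2.1 α (hmono hIS hα) β (hmono hIS hβ),
          fun α hα => hτ.2.2.2 α (hmono hIS hα)⟩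
      · refine lt_of_lt_of_le (hlt χ hχ₂ fun h => hmem (Finset.mem_union_left _ h)) ?_
        exact Finset.sum_le_sum_of_subset Finset.subset_union_left
  have := key S₂ (Finset.Subset.refl _)
  rwa [Finset.union_eq_right.2 hsub] at this

end Cfsg.Agent.OddOrderCharacters.FeitExtension
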