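import Mathlib

set_option autoImplicit false

namespace Cfsg.Agent.OddOrderCharacters.NilpotentIndex

open Subgroup
open scoped commutatorElement

/-- In a finite nilpotent group every maximal subgroup is normal. -/
theorem normal_of_isCoatom {G : Type*} [Group G] [Finite G] (h : Group.IsNilpotent G)
    {H : Subgroup G} (hH : IsCoatom H) : H.Normal := by
  have := (Group.isNilpotent_of_finite_tfae (G := G)).out 0 2
  exact this.mp h H hH

/-- In a finite nilpotent group every maximal subgroup contains the commutator subgroup. -/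
theorem commutator_le_of_isCoatom {G : Type*} [Group G] [Finite G] (h : Group.IsNilpotent G)
    {H : Subgroup G} (hH : IsCoatom H) : commutator G ≤ H := by
  have hN : H.Normal := normal_of_isCoatom h hH
  have : Nontrivial (G ⧸ H) := QuotientGroup.nontrivial_iff.mpr hH.1
  have : Group.IsNilpotent (G ⧸ H) := inferInstance
  have hc : center (G ⧸ H) ≠ ⊥ := Group.IsNilpotent.center_ne_bot _
  have h1 : (center (G ⧸ H)).comap (QuotientGroup.mk' H) = ⊤ := by
    have hlt : H < (center (G ⧸ H)).comap (QuotientGroup.mk' H) := by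
      refine lt_of_le_of_ne ?_ ?_
      · intro x hx
        rw [mem_comap]
        have : QuotientGroup.mk' H x = 1 := by simpa using hx
        rw [this]; exact one_mem _
      · intro heq
        apply hc
        rw [eq_bot_iff]
        intro y hy
        obtain ⟨x, rfl⟩ := QuotientGroup.mk'_surjective H y
        have hx : x ∈ H := by rw [heq]; exact hy
        have : QuotientGroup.mk' H x = 1 := by simpa using hx
        rw [this]; exact one_mem _
    exact hH.2 _ hlt
  rw [_root_.commutator_def, commutator_le]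
  intro a _ b _
  have ha : QuotientGroup.mk' H a ∈ center (G ⧸ H) := by
    have : a ∈ (center (G ⧸ H)).comap (QuotientGroup.mk' H) := by rw [h1]; trivial
    exact this
  have : QuotientGroup.mk' H ⁅a, b⁆ = 1 := by
    rw [map_commutatorElement, commutatorElement_eq_one_iff_mul_comm]
    exact ((mem_center_iff.mp ha) _).symm
  exact (QuotientGroup.eq_one_iff _).mp this

/-- A finite nilpotent group whose commutator subgroup has prime index is commutative. -/
theorem commutator_eq_bot_of_prime_index {G : Type*} [Group G] [Finite G]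
    (h : Group.IsNilpotent G) (hp : (commutator G).index.Prime) : commutator G = ⊥ := by
  obtain ⟨g, hg⟩ : ∃ g : G, g ∉ commutator G := by
    by_contra hcon
    push Not at hcon
    have : commutator G = ⊤ := by
      rw [eq_top_iff]; intro x _; exact hcon x
    rw [this, index_top] at hp
    exact Nat.not_prime_one hp
  have htop : zpowers g = ⊤ := by
    by_contra hne
    obtain ⟨H, hH, hgH⟩ := (eq_top_or_exists_le_coatom (zpowers g)).resolve_left hne
    have hle := commutator_le_of_isCoatom h hH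
    have hdvd := index_dvd_of_le hle
    rcases (Nat.dvd_prime hp).mp hdvd with h1 | h1
    · exact hH.1 (index_eq_one.mp h1)
    · have heq : commutator G = H := by
        refine le_antisymm hle ?_
        have h2 := relIndex_mul_index hle
        rw [h1] at h2
        have h3 : (commutator G).relIndex H = 1 := by
          have hpos := hp.pos
          exact Nat.eq_of_mul_eq_mul_right hpos (by rw [h2, one_mul])
        exact relIndex_eq_one.mp h3
      apply hg
      rw [heq]
      exact hgH (mem_zpowers g)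
  rw [_root_.commutator_def, commutator_eq_bot_iff_le_centralizer]
  intro x _
  rw [mem_centralizer_iff]
  intro y _
  have hx : x ∈ zpowers g := by rw [htop]; trivial
  have hy : y ∈ zpowers g := by rw [htop]; trivial
  obtain ⟨a, rfl⟩ := mem_zpowers_iff.mp hx
  obtain ⟨b, rfl⟩ := mem_zpowers_iff.mp hy
  rw [← zpow_add, ← zpow_add, add_comm]

/-- Every prime dividing the order of a finite nilpotent group divides the order of its
abelianisation. -/
theorem dvd_index_commutator {G : Type*} [Group G] [Finite G] (h : Group.IsNilpotent G)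
    {p : ℕ} (hp : p.Prime) (hdvd : p ∣ Nat.card G) : p ∣ (commutator G).index := by
  have : Fact p.Prime := ⟨hp⟩
  obtain ⟨P⟩ : Nonempty (Sylow p G) := inferInstance
  have hPn : (P : Subgroup G).Normal := by
    have := (Group.isNilpotent_of_finite_tfae (G := G)).out 0 3
    exact this.mp h p inferInstance P
  obtain ⟨Q, hQ⟩ := exists_right_complement'_of_coprime (N := (P : Subgroup G)) P.card_coprime_index
  have hPbot : (P : Subgroup G) ≠ ⊥ := P.ne_bot_of_dvd_card hdvd
  have hQtop : Q ≠ ⊤ := by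
    intro hQt
    have hd := hQ.disjoint
    rw [hQt, disjoint_top] at hd
    exact hPbot hd
  obtain ⟨H, hH, hQH⟩ := (eq_top_or_exists_le_coatom Q).resolve_left hQtop
  have hHn : H.Normal := normal_of_isCoatom h hH
  have hle := commutator_le_of_isCoatom h hH
  refine dvd_trans ?_ (index_dvd_of_le hle)
  have hsup : (P : Subgroup G) ⊔ H = ⊤ := by
    rw [eq_top_iff, ← hQ.sup_eq_top]
    exact sup_le_sup_left hQH _
  have h1 : H.index = H.relIndex (P : Subgroup G) := by
    rw [← relIndex_sup_right, hsup, relIndex_top_right]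
  have h2 : H.index ∣ Nat.card (P : Subgroup G) := by
    rw [h1]; exact relIndex_dvd_card _ _
  obtain ⟨n, hn⟩ := IsPGroup.iff_card.mp P.isPGroup'
  rw [hn] at h2
  obtain ⟨k, hk, hk2⟩ := (Nat.dvd_prime_pow hp).mp h2
  rw [hk2]
  refine dvd_pow_self p ?_
  rintro rfl
  rw [pow_zero] at hk2
  exact hH.1 (index_eq_one.mp hk2)

/-- If every point stabiliser of an action on a finite set has index `e`, then `e` divides the
number of points. -/
theorem dvd_card_of_index_stabilizer {α β : Type*} [Group α] [MulAction α β] [Finite β] {e : ℕ}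
    (h : ∀ b : β, (MulAction.stabilizer α b).index = e) : e ∣ Nat.card β := by
  classical
  have : Fintype (MulAction.orbitRel.Quotient α β) := Fintype.ofFinite _
  rw [Nat.card_congr (MulAction.selfEquivSigmaOrbits α β), Nat.card_sigma]
  refine Finset.dvd_sum fun ω _ => ?_
  have h1 := MulAction.index_stabilizer α (Quotient.out ω)
  rw [h] at h1
  rw [Nat.card_coe_set_eq, ← h1]

/-- Let `H₁ ≤ N ≤ K` be normal in `L`, `K/H₁` abelian and `L/H₁` Frobenius with kernel `K/H₁`.
Then `[N : H₁] ≡ 1` modulo `[L : K]`. -/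
theorem index_dvd_relIndex_sub_one {L : Type*} [Group L] [Finite L] {K H₁ N : Subgroup L}
    [K.Normal] [H₁.Normal] [N.Normal] (hab : ⁅K, K⁆ ≤ H₁) (hNK : N ≤ K)
    (hfrob : ∀ k ∈ K, k ∉ H₁ → ∀ x : L, x * k * x⁻¹ * k⁻¹ ∈ H₁ → x ∈ K) :
    K.index ∣ H₁.relIndex N - 1 := by
  classical
  let f := QuotientGroup.mk' H₁
  let X := {c : L ⧸ H₁ // c ∈ N.map f ∧ c ≠ 1}
  have hNn : (N.map f).Normal := Subgroup.Normal.map inferInstance f (QuotientGroup.mk'_surjective H₁)
  let act : MulAction L X :=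
    { smul := fun x c => ⟨f x * c.1 * (f x)⁻¹, hNn.conj_mem _ c.2.1 _, by
        intro hc
        apply c.2.2
        have := congrArg (fun y => (f x)⁻¹ * y * f x) hc
        simpa [mul_assoc] using this⟩
      one_smul := fun c => by
        apply Subtype.ext
        change f 1 * c.1 * (f 1)⁻¹ = c.1
        simp
      mul_smul := fun x y c => by
        apply Subtype.ext
        change f (x * y) * c.1 * (f (x * y))⁻¹ = f x * (f y * c.1 * (f y)⁻¹) * (f x)⁻¹
        simp [mul_assoc] }
  have hstab : ∀ c : X, MulAction.stabilizer L c = K := by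
    rintro ⟨c, ⟨n, hn, rfl⟩, hc⟩
    have hn1 : n ∉ H₁ := by
      intro hn1
      exact hc ((QuotientGroup.eq_one_iff _).mpr hn1)
    ext x
    rw [MulAction.mem_stabilizer_iff]
    have key : (x • (⟨f n, ⟨n, hn, rfl⟩, hc⟩ : X) = ⟨f n, ⟨n, hn, rfl⟩, hc⟩) ↔
        x * n * x⁻¹ * n⁻¹ ∈ H₁ := by
      rw [Subtype.ext_iff]
      change f x * f n * (f x)⁻¹ = f n ↔ _
      rw [← QuotientGroup.eq_one_iff, ← mul_inv_eq_one]
      rfl
    rw [key]
    constructor
    · exact hfrob n (hNK hn) hn1 x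
    · intro hx
      exact hab (commutator_mem_commutator hx (hNK hn))
  have h1 : K.index ∣ Nat.card X :=
    dvd_card_of_index_stabilizer (α := L) (fun c => by rw [hstab c])
  have h2 : Nat.card X = H₁.relIndex N - 1 := by
    have h3 : Nat.card (N.map f) = H₁.relIndex N := by
      rw [← relIndex_ker, QuotientGroup.ker_mk']
    rw [← h3]
    have h4 : Nat.card X = ({c : L ⧸ H₁ | c ∈ N.map f ∧ c ≠ 1} : Set (L ⧸ H₁)).ncard :=
      Nat.card_coe_set_eq _
    have h5 : ({c : L ⧸ H₁ | c ∈ N.map f ∧ c ≠ 1} : Set (L ⧸ H₁)) =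
        (↑(N.map f) : Set (L ⧸ H₁)) \ {1} := by
      ext c; simp
    rw [h4, h5, Set.ncard_sdiff_singleton_of_mem (one_mem (N.map f))]
    rfl
  rwa [h2] at h1

/-- In the situation of `index_dvd_relIndex_sub_one`, if `L` has odd order and `H₁ < N` then
`[N : H₁] ≥ 2[L : K] + 1`. -/
theorem two_mul_index_lt {L : Type*} [Group L] [Finite L] (hodd : Odd (Nat.card L))
    {K H₁ N : Subgroup L} [K.Normal] [H₁.Normal] [N.Normal] (hab : ⁅K, K⁆ ≤ H₁)
    (hlt : H₁ < N) (hNK : N ≤ K)
    (hfrob : ∀ k ∈ K, k ∉ H₁ → ∀ x : L, x * k * x⁻¹ * k⁻¹ ∈ H₁ → x ∈ K) :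
    2 * K.index < H₁.relIndex N := by
  have h1 := index_dvd_relIndex_sub_one hab hNK hfrob
  have hoddN : Odd (H₁.relIndex N) := by
    refine Odd.of_dvd_nat hodd ?_
    exact dvd_trans (relIndex_dvd_card _ _) (card_subgroup_dvd_card N)
  have hoddK : Odd K.index := Odd.of_dvd_nat hodd (index_dvd_card K)
  have hne : H₁.relIndex N ≠ 1 := by
    rw [Ne, relIndex_eq_one]
    exact not_le_of_gt hlt
  obtain ⟨m, hm⟩ := hoddN
  have h2 : 2 ∣ H₁.relIndex N - 1 := ⟨m, by omega⟩
  have hcop : Nat.Coprime 2 K.index := (Nat.coprime_two_left).mpr hoddK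
  have h3 : 2 * K.index ∣ H₁.relIndex N - 1 := hcop.mul_dvd_of_dvd_of_dvd h2 h1
  have h4 := Nat.le_of_dvd (by omega) h3
  omega

/-- In the situation of `index_dvd_relIndex_sub_one`, if `L` has odd order and there is a normal
subgroup of `L` strictly between `H₁` and `K`, then `[K : H₁] > 4[L : K]² + 1`. -/
theorem four_mul_index_sq_lt {L : Type*} [Group L] [Finite L] (hodd : Odd (Nat.card L))
    {K H₁ N : Subgroup L} [K.Normal] [H₁.Normal] [N.Normal] (hab : ⁅K, K⁆ ≤ H₁)
    (hlt : H₁ < N) (hNK : N < K)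
    (hfrob : ∀ k ∈ K, k ∉ H₁ → ∀ x : L, x * k * x⁻¹ * k⁻¹ ∈ H₁ → x ∈ K) :
    4 * K.index ^ 2 + 1 < H₁.relIndex K := by
  have h1 := index_dvd_relIndex_sub_one hab hNK.le hfrob
  have h2 := index_dvd_relIndex_sub_one hab (le_refl K) hfrob
  have h3 := two_mul_index_lt hodd hab hlt hNK.le hfrob
  have hmul : H₁.relIndex N * N.relIndex K = H₁.relIndex K := relIndex_mul_relIndex _ _ _ hlt.le hNK.le
  have hKpos : 0 < K.index := Nat.pos_of_ne_zero index_ne_zero_of_finite
  have hoddK : Odd K.index := Odd.of_dvd_nat hodd (index_dvd_card K)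
  have hoddNK : Odd (N.relIndex K) := by
    refine Odd.of_dvd_nat hodd ?_
    exact dvd_trans (relIndex_dvd_card _ _) (card_subgroup_dvd_card K)
  have hne : N.relIndex K ≠ 1 := by
    rw [Ne, relIndex_eq_one]
    exact not_le_of_gt hNK
  -- `[K : N] ≡ 1` modulo `[L : K]`
  have h4 : K.index ∣ N.relIndex K - 1 := by
    have e1 : H₁.relIndex N ≡ 1 [MOD K.index] :=
      ((Nat.modEq_iff_dvd' (by omega)).mpr h1).symm
    have hpos : 1 ≤ H₁.relIndex K := by
      exact Nat.pos_of_ne_zero fun h0 => by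
        have := relIndex_dvd_card H₁ K
        rw [h0, zero_dvd_iff] at this
        exact Nat.card_pos.ne' this
    have e2 : H₁.relIndex K ≡ 1 [MOD K.index] :=
      ((Nat.modEq_iff_dvd' hpos).mpr h2).symm
    have e3 : H₁.relIndex N * N.relIndex K ≡ 1 * N.relIndex K [MOD K.index] := e1.mul_right _
    rw [hmul, one_mul] at e3
    have e4 : 1 ≡ N.relIndex K [MOD K.index] := e2.symm.trans e3
    exact (Nat.modEq_iff_dvd' (by have := hoddNK.pos; omega)).mp e4
  obtain ⟨m, hm⟩ := hoddNK
  have h5 : 2 ∣ N.relIndex K - 1 := ⟨m, by omega⟩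
  have hcop : Nat.Coprime 2 K.index := (Nat.coprime_two_left).mpr hoddK
  have h6 : 2 * K.index ∣ N.relIndex K - 1 := hcop.mul_dvd_of_dvd_of_dvd h5 h4
  have h7 := Nat.le_of_dvd (by omega) h6
  have h8 : 2 * K.index + 1 ≤ N.relIndex K := by omega
  have h9 : 2 * K.index + 1 ≤ H₁.relIndex N := h3
  have h10 := Nat.mul_le_mul h9 h8
  rw [hmul] at h10
  nlinarith

/-- The index of the commutator subgroup of `K/M`. -/
theorem index_commutator_quotient {L : Type*} [Group L] {K M : Subgroup L}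
    [(M.subgroupOf K).Normal] (hMK : M ≤ K) :
    (commutator (↥K ⧸ M.subgroupOf K)).index = (⁅K, K⁆ ⊔ M).relIndex K := by
  have hle : ⁅K, K⁆ ≤ K := commutator_le.mpr fun a ha b hb => by
    rw [commutatorElement_def]
    exact mul_mem (mul_mem (mul_mem ha hb) (inv_mem ha)) (inv_mem hb)
  have h1 : commutator (↥K ⧸ M.subgroupOf K) =
      (commutator ↥K).map (QuotientGroup.mk' (M.subgroupOf K)) := by
    rw [_root_.commutator_def, _root_.commutator_def, map_commutator,
      map_top_of_surjective _ (QuotientGroup.mk'_surjective _)]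
  have h2 : (⁅K, K⁆ ⊔ M).subgroupOf K = commutator ↥K ⊔ M.subgroupOf K := by
    rw [subgroupOf_sup hle hMK]
    congr 1
    rw [← map_subtype_commutator K]
    exact comap_map_eq_self_of_injective (subtype_injective K) _
  rw [h1, relIndex, h2, ← index_comap_of_surjective _ (QuotientGroup.mk'_surjective _),
    comap_map_eq, QuotientGroup.ker_mk']

/-- If the commutator subgroup of `K/M` is trivial then `⁅K, K⁆ ≤ M`. -/
theorem commutator_le_of_commutator_quotient_eq_bot {L : Type*} [Group L] {K M : Subgroup L}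
    [(M.subgroupOf K).Normal] (h : commutator (↥K ⧸ M.subgroupOf K) = ⊥) : ⁅K, K⁆ ≤ M := by
  rw [commutator_le]
  intro a ha b hb
  have h1 : (QuotientGroup.mk' (M.subgroupOf K)) ⁅(⟨a, ha⟩ : K), ⟨b, hb⟩⁆ ∈
      commutator (↥K ⧸ M.subgroupOf K) := by
    rw [map_commutatorElement, _root_.commutator_def]
    exact commutator_mem_commutator (mem_top _) (mem_top _)
  rw [h, mem_bot] at h1
  have h2 : ⁅(⟨a, ha⟩ : K), ⟨b, hb⟩⁆ ∈ M.subgroupOf K := (QuotientGroup.eq_one_iff _).mp h1
  exact h2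

/-- Either there is a normal subgroup of `L` strictly between `H₁` and `K`, or `[K : H₁]` is a
prime power, if `K/H₁` is abelian. -/
theorem exists_between_or_prime_pow {L : Type*} [Group L] [Finite L] {K H₁ : Subgroup L}
    [K.Normal] [H₁.Normal] (hab : ⁅K, K⁆ ≤ H₁) (hlt : H₁ < K) :
    (∃ N : Subgroup L, N.Normal ∧ H₁ < N ∧ N < K) ∨
      ∃ p k : ℕ, p.Prime ∧ k ≠ 0 ∧ H₁.relIndex K = p ^ k := by
  have hne : H₁.relIndex K ≠ 1 := by
    rw [Ne, relIndex_eq_one]
    exact not_le_of_gt hlt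
  obtain ⟨p, hp, hpd⟩ := Nat.exists_prime_and_dvd hne
  have : Fact p.Prime := ⟨hp⟩
  have hcomm : ∀ a ∈ K, ∀ b ∈ K, (a : L ⧸ H₁) * (b : L ⧸ H₁) = (b : L ⧸ H₁) * (a : L ⧸ H₁) := by
    intro a ha b hb
    have h1 : ⁅a, b⁆ ∈ H₁ := hab (commutator_mem_commutator ha hb)
    have h2 : (⁅a, b⁆ : L) = (1 : L ⧸ H₁) := (QuotientGroup.eq_one_iff _).mpr h1
    rw [← commutatorElement_eq_one_iff_mul_comm]
    exact h2
  let N : Subgroup L :=
    { carrier := {x | x ∈ K ∧ x ^ p ∈ H₁}
      mul_mem' := by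
        rintro a b ⟨ha, ha'⟩ ⟨hb, hb'⟩
        refine ⟨mul_mem ha hb, ?_⟩
        rw [← QuotientGroup.eq_one_iff] at ha' hb' ⊢
        have hc : Commute (a : L ⧸ H₁) (b : L ⧸ H₁) := hcomm a ha b hb
        rw [QuotientGroup.mk_pow] at ha' hb' ⊢
        rw [QuotientGroup.mk_mul, hc.mul_pow, ha', hb', one_mul]
      one_mem' := ⟨one_mem _, by rw [one_pow]; exact one_mem _⟩
      inv_mem' := by
        rintro a ⟨ha, ha'⟩
        exact ⟨inv_mem ha, by rw [inv_pow]; exact inv_mem ha'⟩ }
  have hmemN : ∀ x, x ∈ N ↔ x ∈ K ∧ x ^ p ∈ H₁ := fun x => Iff.rfl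
  have hNn : N.Normal := ⟨by
    rintro a ⟨ha, ha'⟩ g
    refine ⟨Normal.conj_mem inferInstance a ha g, ?_⟩
    rw [conj_pow]
    exact Normal.conj_mem inferInstance _ ha' g⟩
  have hH₁N : H₁ ≤ N := fun x hx => ⟨hlt.le hx, pow_mem hx p⟩
  have hNK : N ≤ K := fun x hx => hx.1
  -- Cauchy
  have hH₁N' : H₁ ≠ N := by
    intro heq
    have h3 : Nat.card (K.map (QuotientGroup.mk' H₁)) = H₁.relIndex K := by
      rw [← relIndex_ker, QuotientGroup.ker_mk']
    rw [← h3] at hpd
    obtain ⟨c, hc⟩ := exists_prime_orderOf_dvd_card' p hpd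
    obtain ⟨⟨_, ⟨x, hx, rfl⟩⟩, hc⟩ : ∃ c : (K.map (QuotientGroup.mk' H₁)), orderOf c = p := ⟨c, hc⟩
    have h4 : x ∈ N := by
      refine ⟨hx, ?_⟩
      have h5 := pow_orderOf_eq_one (⟨QuotientGroup.mk' H₁ x, ⟨x, hx, rfl⟩⟩ : (K.map (QuotientGroup.mk' H₁)))
      rw [hc] at h5
      have h6 := congrArg Subtype.val h5
      rw [← QuotientGroup.eq_one_iff]
      exact h6
    rw [← heq] at h4
    have h7 : (⟨QuotientGroup.mk' H₁ x, ⟨x, hx, rfl⟩⟩ : (K.map (QuotientGroup.mk' H₁))) = 1 := by
      apply Subtype.ext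
      exact (QuotientGroup.eq_one_iff _).mpr h4
    rw [h7, orderOf_one] at hc
    exact hp.one_lt.ne hc
  by_cases hNK' : N = K
  · right
    have hpg : IsPGroup p (K.map (QuotientGroup.mk' H₁)) := by
      rintro ⟨_, ⟨x, hx, rfl⟩⟩
      refine ⟨1, ?_⟩
      apply Subtype.ext
      rw [pow_one]
      have hx' : x ∈ N := by rw [hNK']; exact hx
      exact (QuotientGroup.eq_one_iff _).mpr hx'.2
    obtain ⟨k, hk⟩ := IsPGroup.iff_card.mp hpg
    have h3 : Nat.card (K.map (QuotientGroup.mk' H₁)) = H₁.relIndex K := by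
      rw [← relIndex_ker, QuotientGroup.ker_mk']
    rw [h3] at hk
    refine ⟨p, k, hp, ?_, hk⟩
    rintro rfl
    exact hne (by rw [hk, pow_zero])
  · left
    exact ⟨N, hNn, lt_of_le_of_ne hH₁N hH₁N', lt_of_le_of_ne hNK hNK'⟩

/-- The group-theoretic half of Peterfalvi (6.5): under any of the five hypotheses, either
`[K : H₁] > 4[L : K]² + 1` or `K/M` is abelian. -/
theorem large_or_abelian {L : Type*} [Group L] [Finite L] (hodd : Odd (Nat.card L))
    {K M H₁ : Subgroup L} [K.Normal] [M.Normal] (hMK : M ≤ K) [(M.subgroupOf K).Normal]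
    (hnil : Group.IsNilpotent (↥K ⧸ M.subgroupOf K)) (hH₁ : H₁ = ⁅K, K⁆ ⊔ M) (hH₁K : H₁ < K)
    (hfrob : ∀ k ∈ K, k ∉ H₁ → ∀ x : L, x * k * x⁻¹ * k⁻¹ ∈ H₁ → x ∈ K)
    (hgood : (∃ N : Subgroup L, N.Normal ∧ H₁ < N ∧ N < K) ∨ 4 * K.index ^ 2 + 1 < H₁.relIndex K ∨
      (¬ ∃ p m : ℕ, p.Prime ∧ M.relIndex K = p ^ m) ∨ ⁅K, K⁆ ≤ M ∨
      (∃ p m : ℕ, p.Prime ∧ M.relIndex K = p ^ m ∧ K.index ∣ p - 1)) :
    4 * K.index ^ 2 + 1 < H₁.relIndex K ∨ ⁅K, K⁆ ≤ M := by
  have hH₁n : H₁.Normal := by rw [hH₁]; infer_instance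
  have hab : ⁅K, K⁆ ≤ H₁ := by rw [hH₁]; exact le_sup_left
  have hMH₁ : M ≤ H₁ := by rw [hH₁]; exact le_sup_right
  have hidx : (commutator (↥K ⧸ M.subgroupOf K)).index = H₁.relIndex K := by
    rw [index_commutator_quotient hMK, ← hH₁]
  have hcardQ : Nat.card (↥K ⧸ M.subgroupOf K) = M.relIndex K := rfl
  rcases hgood with ⟨N, hNn, h1, h2⟩ | h | h | h | ⟨p, m, hp, hpm, hdvd⟩
  · exact Or.inl (four_mul_index_sq_lt hodd hab h1 h2 hfrob)
  · exact Or.inl h
  · left
    rcases exists_between_or_prime_pow hab hH₁K with ⟨N, hNn, h1, h2⟩ | ⟨p, k, hp, hk, hpk⟩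
    · exact four_mul_index_sq_lt hodd hab h1 h2 hfrob
    · exfalso
      apply h
      refine ⟨p, _, hp, Nat.eq_prime_pow_of_unique_prime_dvd (n := M.relIndex K) ?_ ?_⟩
      · intro h0
        have := relIndex_dvd_card M K
        rw [h0, zero_dvd_iff] at this
        exact Nat.card_pos.ne' this
      · intro q hq hqd
        rw [← hcardQ] at hqd
        have := dvd_index_commutator hnil hq hqd
        rw [hidx, hpk] at this
        exact (Nat.prime_dvd_prime_iff_eq hq hp).mp (hq.dvd_of_dvd_pow this)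
  · exact Or.inr h
  · have hdvd2 : H₁.relIndex K ∣ p ^ m := by
      rw [← hpm]
      exact relIndex_dvd_of_le_left K hMH₁
    obtain ⟨k, hkm, hk⟩ := (Nat.dvd_prime_pow hp).mp hdvd2
    have hk0 : k ≠ 0 := by
      rintro rfl
      rw [pow_zero, relIndex_eq_one] at hk
      exact not_le_of_gt hH₁K hk
    have hpodd : Odd p := by
      refine Odd.of_dvd_nat hodd ?_
      have h1 : p ∣ H₁.relIndex K := by rw [hk]; exact dvd_pow_self p hk0
      exact h1.trans ((relIndex_dvd_card _ _).trans (card_subgroup_dvd_card K))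
    have hoddK : Odd K.index := Odd.of_dvd_nat hodd (index_dvd_card K)
    obtain ⟨j, hj⟩ := hpodd
    have h2 : 2 ∣ p - 1 := ⟨j, by omega⟩
    have hcop : Nat.Coprime 2 K.index := (Nat.coprime_two_left).mpr hoddK
    have h3 : 2 * K.index ∣ p - 1 := hcop.mul_dvd_of_dvd_of_dvd h2 hdvd
    have h4 : 2 * K.index ≤ p - 1 := Nat.le_of_dvd (by have := hp.two_le; omega) h3
    have hKpos : 0 < K.index := Nat.pos_of_ne_zero index_ne_zero_of_finite
    rcases Nat.lt_or_ge 1 k with hk1 | hk1
    · left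
      have h5 : p ^ 2 ≤ p ^ k := Nat.pow_le_pow_right hp.pos hk1
      have h6 : 2 * K.index + 1 ≤ p := by omega
      have h7 : (2 * K.index + 1) ^ 2 ≤ p ^ 2 := Nat.pow_le_pow_left h6 2
      rw [hk]
      nlinarith
    · right
      have hk1' : k = 1 := by omega
      subst hk1'
      rw [pow_one] at hk
      apply commutator_le_of_commutator_quotient_eq_bot
      exact commutator_eq_bot_of_prime_index hnil (by rw [hidx, hk]; exact hp)

end Cfsg.Agent.OddOrderCharacters.NilpotentIndex
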