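import Mathlib
import Cfsg.Agent.OddOrderCharacters.NilpotentIndex
import Cfsg.Agent.OddOrderLocal.CNNil
import Cfsg.Agent.S0015

/-!
# Normal series below the commutator subgroup of a nilpotent normal subgroup

`H` is a nilpotent normal subgroup of the finite group `N` and `M < ⁅H, H⁆` is normal in `N`. There is
a normal subgroup `X` of `N` with `M < X ≤ ⁅H, H⁆`, contained in the preimage `D` of the centre of
`H/M`, such that `X/M` has prime exponent `p`; if another prime divides the order of `H` then `X < D`.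
-/

set_option autoImplicit false

namespace Cfsg.Agent.OddOrderCharacters.FeitStep

open Subgroup
open scoped commutatorElement

variable {N : Type*} [Group N]

/-- The elements of `H` that are central in `H` modulo the normal subgroup `M`. -/
def centMod (H M : Subgroup N) [hM : M.Normal] : Subgroup N where
  carrier := {d | d ∈ H ∧ ∀ c ∈ H, d * c * d⁻¹ * c⁻¹ ∈ M}
  one_mem' := ⟨H.one_mem, fun c _ => by simp⟩
  mul_mem' := by
    rintro a b ⟨ha, ha'⟩ ⟨hb, hb'⟩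
    refine ⟨H.mul_mem ha hb, fun c hc => ?_⟩
    have h1 := hM.conj_mem _ (hb' c hc) a
    have h2 := ha' c hc
    have : a * b * c * (a * b)⁻¹ * c⁻¹ = (a * (b * c * b⁻¹ * c⁻¹) * a⁻¹) * (a * c * a⁻¹ * c⁻¹) := by
      group
    rw [this]
    exact M.mul_mem h1 h2
  inv_mem' := by
    rintro a ⟨ha, ha'⟩
    refine ⟨H.inv_mem ha, fun c hc => ?_⟩
    have h2 := hM.conj_mem _ (M.inv_mem (ha' c hc)) a⁻¹
    have h3 := hM.conj_mem _ (M.inv_mem (ha' (a⁻¹ * c * a) (H.mul_mem (H.mul_mem (H.inv_mem ha) hc) ha))) a⁻¹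
    have : a⁻¹ * c * a⁻¹⁻¹ * c⁻¹ = a⁻¹ * (a * c * a⁻¹ * c⁻¹)⁻¹ * a⁻¹⁻¹ := by group
    rw [this]
    exact h2

theorem mem_centMod {H M : Subgroup N} [M.Normal] {d : N} :
    d ∈ centMod H M ↔ d ∈ H ∧ ∀ c ∈ H, d * c * d⁻¹ * c⁻¹ ∈ M := Iff.rfl

theorem centMod_le (H M : Subgroup N) [M.Normal] : centMod H M ≤ H := fun _ h => h.1

theorem le_centMod {H M : Subgroup N} [hM : M.Normal] (h : M ≤ H) : M ≤ centMod H M := by
  intro m hm
  refine ⟨h hm, fun c _ => ?_⟩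
  have : m * c * m⁻¹ * c⁻¹ = m * (c * m⁻¹ * c⁻¹) := by group
  rw [this]
  exact M.mul_mem hm (hM.conj_mem _ (M.inv_mem hm) c)

theorem centMod_normal (H M : Subgroup N) [hH : H.Normal] [hM : M.Normal] :
    (centMod H M).Normal := by
  refine ⟨fun d hd g => ⟨hH.conj_mem _ hd.1 g, fun c hc => ?_⟩⟩
  have h1 := hd.2 (g⁻¹ * c * g⁻¹⁻¹) (hH.conj_mem _ hc g⁻¹)
  have h2 := hM.conj_mem _ h1 g
  have : g * d * g⁻¹ * c * (g * d * g⁻¹)⁻¹ * c⁻¹ =
      g * (d * (g⁻¹ * c * g⁻¹⁻¹) * d⁻¹ * (g⁻¹ * c * g⁻¹⁻¹)⁻¹) * g⁻¹ := by group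
  rw [this]
  exact h2

/-- Lifting central elements of `H/M`. -/
theorem mem_centMod_of_mk {H M : Subgroup N} [M.Normal] {z : H}
    (hz : (QuotientGroup.mk' (M.subgroupOf H) z) ∈ center (↥H ⧸ M.subgroupOf H)) :
    (z : N) ∈ centMod H M := by
  refine ⟨z.2, fun c hc => ?_⟩
  rw [mem_center_iff] at hz
  have h1 := hz (QuotientGroup.mk' (M.subgroupOf H) ⟨c, hc⟩)
  have h2 : QuotientGroup.mk' (M.subgroupOf H) (z * ⟨c, hc⟩ * z⁻¹ * (⟨c, hc⟩ : H)⁻¹) = 1 := by
    rw [map_mul, map_mul, map_mul, ← h1, map_inv, map_inv]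
    group
  have h3 : z * ⟨c, hc⟩ * z⁻¹ * (⟨c, hc⟩ : H)⁻¹ ∈ M.subgroupOf H :=
    (QuotientGroup.eq_one_iff _).mp h2
  exact h3

/-- A normal subgroup of the nilpotent group `H` that properly contains `M` contains elements outside
`M` that are central modulo `M`. -/
theorem exists_mem_centMod_of_lt {H M X : Subgroup N} [M.Normal] [X.Normal]
    (hnil : Group.IsNilpotent H) (hMX : M < X) (hXH : X ≤ H) :
    ∃ z ∈ X, z ∉ M ∧ z ∈ centMod H M := by
  have _ : Group.IsNilpotent (↥H ⧸ M.subgroupOf H) := inferInstance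
  obtain ⟨x, hxX, hxM⟩ := SetLike.exists_of_lt hMX
  let L : Subgroup (↥H ⧸ M.subgroupOf H) := (X.subgroupOf H).map (QuotientGroup.mk' (M.subgroupOf H))
  have hLn : L.Normal := Subgroup.Normal.map inferInstance _ (QuotientGroup.mk'_surjective _)
  have hL : L ≠ ⊥ := by
    intro h
    have h1 : QuotientGroup.mk' (M.subgroupOf H) ⟨x, hXH hxX⟩ ∈ L :=
      ⟨⟨x, hXH hxX⟩, hxX, rfl⟩
    rw [h, mem_bot] at h1
    have h2 : (⟨x, hXH hxX⟩ : H) ∈ M.subgroupOf H := (QuotientGroup.eq_one_iff _).mp h1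
    exact hxM h2
  obtain ⟨y, ⟨z, hz, rfl⟩, hy1, hyc⟩ := Cfsg.Agent.S0015.exists_mem_center_of_normal L hL
  refine ⟨z, hz, fun hzM => hy1 ?_, mem_centMod_of_mk hyc⟩
  exact (QuotientGroup.eq_one_iff _).mpr hzM

/-- For every prime divisor `q` of `[H : M]` there is an element of order `q` modulo `M` which is
central modulo `M`. -/
theorem exists_mem_centMod_of_prime [Finite N] {H M : Subgroup N} [M.Normal]
    (hnil : Group.IsNilpotent H) {q : ℕ} (hq : q.Prime) (hdvd : q ∣ M.relIndex H) :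
    ∃ z ∈ H, z ∉ M ∧ z ^ q ∈ M ∧ z ∈ centMod H M := by
  have _ : Group.IsNilpotent (↥H ⧸ M.subgroupOf H) := inferInstance
  obtain ⟨y, hyc, hyo⟩ := Cfsg.Agent.OddOrderLocal.CNNil.exists_center_orderOf
    (G := ↥H ⧸ M.subgroupOf H) inferInstance hq hdvd
  obtain ⟨z, rfl⟩ := QuotientGroup.mk'_surjective _ y
  refine ⟨z, z.2, fun hzM => ?_, ?_, mem_centMod_of_mk hyc⟩
  · have h1 : QuotientGroup.mk' (M.subgroupOf H) z = 1 := (QuotientGroup.eq_one_iff _).mpr hzM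
    rw [h1, orderOf_one] at hyo
    exact hq.one_lt.ne hyo
  · have h1 : QuotientGroup.mk' (M.subgroupOf H) (z ^ q) = 1 := by
      rw [map_pow, ← hyo, pow_orderOf_eq_one]
    have h2 : z ^ q ∈ M.subgroupOf H := (QuotientGroup.eq_one_iff _).mp h1
    exact h2

theorem exists_minimal_normal_above [Finite N] {M Y : Subgroup N} (hMY : M < Y)
    [hY : Y.Normal] :
    ∃ X : Subgroup N, X.Normal ∧ M < X ∧ X ≤ Y ∧
      ∀ Z : Subgroup N, Z.Normal → M < Z → Z ≤ X → Z = X := by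
  let T : Set (Subgroup N) := {X | X.Normal ∧ M < X ∧ X ≤ Y}
  have hT : T.Nonempty := ⟨Y, hY, hMY, le_refl Y⟩
  obtain ⟨X, hX, hmin⟩ := Set.Finite.exists_minimal (Set.toFinite T) hT
  refine ⟨X, hX.1, hX.2.1, hX.2.2, fun Z hZn hMZ hZX => ?_⟩
  exact le_antisymm hZX (hmin ⟨hZn, hMZ, hZX.trans hX.2.2⟩ hZX)

/-- The step below the commutator subgroup. -/
theorem exists_step [Finite N] (H : Subgroup N) [H.Normal] (hnil : Group.IsNilpotent H)
    (M : Subgroup N) [hMn : M.Normal] (hM : M < ⁅H, H⁆) :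
    ∃ (X : Subgroup N) (p : ℕ), X.Normal ∧ p.Prime ∧ M < X ∧ X ≤ ⁅H, H⁆ ∧ X ≤ centMod H M ∧
      (∀ x ∈ X, x ^ p ∈ M) ∧
      ∀ q : ℕ, q.Prime → q ∣ Nat.card H → q ≠ p → X < centMod H M := by
  have hH'H : ⁅H, H⁆ ≤ H := commutator_le_left H H
  have hMH : M ≤ H := hM.le.trans hH'H
  have _ : (centMod H M).Normal := centMod_normal H M
  have hlt : M < centMod H M ⊓ ⁅H, H⁆ := by
    refine lt_of_le_of_ne (le_inf (le_centMod hMH) hM.le) fun heq => ?_
    obtain ⟨z, hz, hzM, hzD⟩ := exists_mem_centMod_of_lt hnil hM hH'H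
    apply hzM
    rw [heq]
    exact ⟨hzD, hz⟩
  obtain ⟨X, hXn, hMX, hXY, hmin⟩ := exists_minimal_normal_above hlt
  have hXD : X ≤ centMod H M := hXY.trans inf_le_left
  have hXH : X ≤ H := hXD.trans (centMod_le H M)
  -- commuting modulo `M`
  have hcomm : ∀ a ∈ X, ∀ b ∈ X, (a : N ⧸ M) * (b : N ⧸ M) = (b : N ⧸ M) * (a : N ⧸ M) := by
    intro a ha b hb
    have h1 := (hXD ha).2 b (hXH hb)
    have h2 : ((a * b * a⁻¹ * b⁻¹ : N) : N ⧸ M) = 1 := (QuotientGroup.eq_one_iff _).mpr h1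
    rw [QuotientGroup.mk_mul, QuotientGroup.mk_mul, QuotientGroup.mk_mul, QuotientGroup.mk_inv,
      QuotientGroup.mk_inv] at h2
    have h3 := mul_inv_eq_one.mp h2
    exact mul_inv_eq_iff_eq_mul.mp h3
  -- a prime
  have hne : M.relIndex X ≠ 1 := by
    rw [Ne, relIndex_eq_one]
    exact not_le_of_gt hMX
  obtain ⟨p, hp, hpd⟩ := Nat.exists_prime_and_dvd hne
  have : Fact p.Prime := ⟨hp⟩
  let Z : Subgroup N :=
    { carrier := {x | x ∈ X ∧ x ^ p ∈ M}
      mul_mem' := by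
        rintro a b ⟨ha, ha'⟩ ⟨hb, hb'⟩
        refine ⟨mul_mem ha hb, ?_⟩
        rw [← QuotientGroup.eq_one_iff] at ha' hb' ⊢
        have hc : Commute (a : N ⧸ M) (b : N ⧸ M) := hcomm a ha b hb
        rw [QuotientGroup.mk_pow] at ha' hb' ⊢
        rw [QuotientGroup.mk_mul, hc.mul_pow, ha', hb', one_mul]
      one_mem' := ⟨one_mem _, by rw [one_pow]; exact one_mem _⟩
      inv_mem' := by
        rintro a ⟨ha, ha'⟩
        exact ⟨inv_mem ha, by rw [inv_pow]; exact inv_mem ha'⟩ }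
  have hZn : Z.Normal := ⟨by
    rintro a ⟨ha, ha'⟩ g
    refine ⟨hXn.conj_mem a ha g, ?_⟩
    rw [conj_pow]
    exact hMn.conj_mem _ ha' g⟩
  have hMZ : M < Z := by
    refine lt_of_le_of_ne (fun x hx => ⟨hMX.le hx, pow_mem hx p⟩) fun heq => ?_
    have h3 : Nat.card (X.map (QuotientGroup.mk' M)) = M.relIndex X := by
      rw [← relIndex_ker, QuotientGroup.ker_mk']
    rw [← h3] at hpd
    obtain ⟨⟨_, ⟨x, hx, rfl⟩⟩, hc⟩ := exists_prime_orderOf_dvd_card' p hpd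
    have h4 : x ∈ Z := by
      refine ⟨hx, ?_⟩
      have h5 := pow_orderOf_eq_one (⟨QuotientGroup.mk' M x, ⟨x, hx, rfl⟩⟩ :
        (X.map (QuotientGroup.mk' M)))
      rw [hc] at h5
      have h6 := congrArg Subtype.val h5
      rw [← QuotientGroup.eq_one_iff]
      exact h6
    rw [← heq] at h4
    have h7 : (⟨QuotientGroup.mk' M x, ⟨x, hx, rfl⟩⟩ : (X.map (QuotientGroup.mk' M))) = 1 := by
      apply Subtype.ext
      exact (QuotientGroup.eq_one_iff _).mpr h4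
    rw [h7, orderOf_one] at hc
    exact hp.one_lt.ne hc
  have hZX : Z = X := hmin Z hZn hMZ fun x hx => hx.1
  have hpow : ∀ x ∈ X, x ^ p ∈ M := by
    intro x hx
    rw [← hZX] at hx
    exact hx.2
  refine ⟨X, p, hXn, hp, hMX, hXY.trans inf_le_right, hXD, hpow, fun q hq hqd hqp => ?_⟩
  refine lt_of_le_of_ne hXD fun heq => ?_
  have h1 : q ∣ (commutator ↥H).index :=
    NilpotentIndex.dvd_index_commutator hnil hq hqd
  have h2 : (commutator ↥H).index = ⁅H, H⁆.relIndex H := by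
    have : commutator ↥H = ⁅H, H⁆.subgroupOf H := by
      rw [← map_subtype_commutator H]
      exact (comap_map_eq_self_of_injective (subtype_injective H) _).symm
    rw [this, relIndex]
  have h3 : q ∣ M.relIndex H := by
    rw [h2] at h1
    exact h1.trans (relIndex_dvd_of_le_left H hM.le)
  obtain ⟨z, hzH, hzM, hzq, hzD⟩ := exists_mem_centMod_of_prime hnil hq h3
  rw [← heq] at hzD
  have hzp := hpow z hzD
  apply hzM
  have hcop : Nat.Coprime q p := (Nat.coprime_primes hq hp).mpr hqp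
  have h5 : ((z : N ⧸ M)) ^ q = 1 := by
    rw [← QuotientGroup.mk_pow]; exact (QuotientGroup.eq_one_iff _).mpr hzq
  have h6 : ((z : N ⧸ M)) ^ p = 1 := by
    rw [← QuotientGroup.mk_pow]; exact (QuotientGroup.eq_one_iff _).mpr hzp
  have h7 : orderOf (z : N ⧸ M) = 1 :=
    Nat.eq_one_of_dvd_coprimes hcop (orderOf_dvd_of_pow_eq_one h5) (orderOf_dvd_of_pow_eq_one h6)
  exact (QuotientGroup.eq_one_iff _).mp (orderOf_eq_one_iff.mp h7)

end Cfsg.Agent.OddOrderCharacters.FeitStep
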