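import Cfsg.Agent.OddOrderCharacters.PF7Abstract

/-!
Peterfalvi (7.8) in the abstract setting of `PF7Abstract`.
-/

set_option autoImplicit false

open scoped ComplexConjugate
open Cfsg Cfsg.Agent.Characters.Core Cfsg.Agent.OddOrderCharacters.VChar
open Cfsg.Agent.OddOrderCharacters.InducedNormal Cfsg.Agent.OddOrderCharacters.InducedSum
open Cfsg.Agent.OddOrderCharacters.PF7Abstract

namespace Cfsg.Agent.OddOrderCharacters.PF7Bound

variable {L : Type*} [Group L] [Fintype L] {G : Type*} [Group G] [Fintype G]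

/-! ### Projections and the Bessel inequality -/

/-- The orthogonal projection of `β` to the span of the orthogonal family `f i`, `i ∈ T`. -/
noncomputable def proj {ι : Type*} (T : Finset ι) (f : ι → G → ℂ) (β : G → ℂ) : G → ℂ :=
  ∑ i ∈ T, (classInner β (f i) / classInner (f i) (f i)) • f i

theorem proj_def {ι : Type*} (T : Finset ι) (f : ι → G → ℂ) (β : G → ℂ) :
    proj T f β = ∑ i ∈ T, (classInner β (f i) / classInner (f i) (f i)) • f i := rfl

theorem sub_proj_orth {ι : Type*} {T : Finset ι} {f : ι → G → ℂ}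
    (horth : ∀ i ∈ T, ∀ j ∈ T, i ≠ j → classInner (f i) (f j) = 0)
    (hne : ∀ i ∈ T, classInner (f i) (f i) ≠ 0) (β : G → ℂ) {i : ι} (hi : i ∈ T) :
    classInner (β - proj T f β) (f i) = 0 := by
  classical
  rw [classInner_sub_left, proj_def, classInner_sum_left, Finset.sum_eq_single i]
  · rw [classInner_smul_left, div_mul_cancel₀ _ (hne i hi), sub_self]
  · intro j hj hji
    rw [classInner_smul_left, horth j hj i hi hji, mul_zero]
  · intro h; exact absurd hi h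

theorem norm_sub_proj {ι : Type*} {T : Finset ι} {f : ι → G → ℂ}
    (horth : ∀ i ∈ T, ∀ j ∈ T, i ≠ j → classInner (f i) (f j) = 0)
    (hne : ∀ i ∈ T, classInner (f i) (f i) ≠ 0) (β : G → ℂ) :
    classInner (β - proj T f β) (β - proj T f β) =
      classInner β β - ∑ i ∈ T, classInner β (f i) * conj (classInner β (f i)) /
        classInner (f i) (f i) := by
  have h1 : classInner (β - proj T f β) (proj T f β) = 0 := by
    conv_lhs => rw [proj_def T f β, classInner_sum_right]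
    refine Finset.sum_eq_zero fun i hi => ?_
    rw [classInner_smul_right, ← proj_def T f β, sub_proj_orth horth hne β hi, mul_zero]
  rw [classInner_sub_right, h1, sub_zero, classInner_sub_left]
  congr 1
  rw [proj_def, classInner_sum_left]
  refine Finset.sum_congr rfl fun i _ => ?_
  rw [classInner_smul_left, classInner_conj_symm]
  ring

theorem self_eq_re (φ : G → ℂ) : classInner φ φ = ((classInner φ φ).re : ℂ) := by
  apply Complex.ext
  · simp
  · simp [classInner_self_im]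

theorem self_re_pos {φ : G → ℂ} (h : classInner φ φ ≠ 0) : 0 < (classInner φ φ).re := by
  rcases lt_or_eq_of_le (classInner_self_re_nonneg φ) with h1 | h1
  · exact h1
  · exact absurd (by rw [self_eq_re, ← h1]; simp) h

/-- Bessel inequality. -/
theorem bessel {ι : Type*} {T : Finset ι} {f : ι → G → ℂ}
    (horth : ∀ i ∈ T, ∀ j ∈ T, i ≠ j → classInner (f i) (f j) = 0)
    (hne : ∀ i ∈ T, classInner (f i) (f i) ≠ 0) (β : G → ℂ) :
    ∑ i ∈ T, ‖classInner β (f i)‖ ^ 2 / (classInner (f i) (f i)).re ≤ (classInner β β).re := by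
  have h1 := norm_sub_proj horth hne β
  have h2 := classInner_self_re_nonneg (β - proj T f β)
  have h3 : ∑ i ∈ T, classInner β (f i) * conj (classInner β (f i)) /
      classInner (f i) (f i) =
      ((∑ i ∈ T, ‖classInner β (f i)‖ ^ 2 / (classInner (f i) (f i)).re : ℝ) : ℂ) := by
    push_cast
    refine Finset.sum_congr rfl fun i _ => ?_
    rw [Complex.mul_conj, Complex.normSq_eq_norm_sq, ← self_eq_re]
    push_cast
    rfl
  rw [h1, h3, Complex.sub_re, Complex.ofReal_re] at h2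
  linarith

/-! ### Degrees and norms of the members of `inducedIrrAbove K ⊥` -/

section

variable {K : Subgroup L} [hK : K.Normal]

/-- `ξ(1) / [L:K]` as a natural number. -/
noncomputable def deg (K : Subgroup L) (ξ : L → ℂ) : ℕ :=
  ⌊(ξ 1).re / (K.index : ℝ)⌋₊

omit hK in
theorem deg_eq {ξ : L → ℂ} (hξ : ξ ∈ inducedIrrAbove K ⊥) : ξ 1 = (K.index : ℂ) * deg K ξ := by
  obtain ⟨m, hm, h⟩ := induced_degree K ⊥ hξ
  have h0 : (K.index : ℝ) ≠ 0 := Nat.cast_ne_zero.mpr Subgroup.FiniteIndex.index_ne_zero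
  have : deg K ξ = m := by
    unfold deg
    rw [h]
    have h1 : ((K.index : ℂ) * (m : ℂ)).re = (K.index : ℝ) * m := by
      rw [← Nat.cast_mul, Complex.natCast_re]; push_cast; ring
    rw [h1, mul_div_cancel_left₀ _ h0, Nat.floor_natCast]
  rw [this, h]

omit hK in
theorem deg_pos {ξ : L → ℂ} (hξ : ξ ∈ inducedIrrAbove K ⊥) : 0 < deg K ξ := by
  rcases Nat.eq_zero_or_pos (deg K ξ) with h | h
  · exfalso
    have := deg_eq hξ
    rw [h] at this
    exact induced_one_ne_zero K ⊥ hξ (by rw [this]; simp)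
  · exact h

omit hK in
theorem deg_of_eq {ζ : L → ℂ} (hζ : ζ ∈ inducedIrrAbove K ⊥) (h1 : ζ 1 = (K.index : ℂ)) :
    deg K ζ = 1 := by
  have := deg_eq hζ
  rw [h1] at this
  have h2 := index_ne_zero' K
  have h3 : (deg K ζ : ℂ) = 1 := by
    have h4 : (K.index : ℂ) * (deg K ζ : ℂ) = (K.index : ℂ) * 1 := by rw [← this, mul_one]
    exact mul_left_cancel₀ h2 h4
  exact_mod_cast h3

omit hK in
theorem conj_mem_induced (A : Subgroup L) {φ : L → ℂ} (hφ : φ ∈ inducedIrrAbove K A) :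
    conjFun φ ∈ inducedIrrAbove K A := by
  obtain ⟨θ, hθ, h1, hA, rfl⟩ := hφ
  refine ⟨conjFun θ, isIrr_conjFun hθ, ?_, ?_, conjFun_indFun K θ⟩
  · intro h
    apply h1
    have := congrArg conjFun h
    rw [conjFun_conjFun] at this
    rw [this]
    funext x
    simp [conjFun]
  · intro a ha
    show conj (θ a) = conj (θ 1)
    rw [hA a ha]

/-- `∑ (ξ(1)/e)² / ⟨ξ,ξ⟩ = (h - 1)/e`, in the reals. -/
theorem sum_deg_sq (Sf : Finset (L → ℂ)) (hSf : (Sf : Set (L → ℂ)) = inducedIrrAbove K ⊥) :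
    ∑ ξ ∈ Sf, (deg K ξ : ℝ) ^ 2 / (classInner ξ ξ).re =
      ((Nat.card K : ℝ) - 1) / (K.index : ℝ) := by
  have hmem : ∀ ξ, ξ ∈ Sf ↔ ξ ∈ inducedIrrAbove K ⊥ := fun ξ => by rw [← hSf]; rfl
  have h := sum_degree_sq_div_norm K ⊥ bot_le Sf hSf
    (fun φ hφ ψ hψ hne => induced_orthogonal K ⊥ ((hmem φ).mp hφ) ((hmem ψ).mp hψ) hne)
  rw [Subgroup.relIndex_bot_left] at h
  have h0 : (K.index : ℝ) ≠ 0 := Nat.cast_ne_zero.mpr Subgroup.FiniteIndex.index_ne_zero
  have h1 : ∑ φ ∈ Sf, φ 1 ^ 2 / classInner φ φ =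
      (((K.index : ℝ) ^ 2 * ∑ ξ ∈ Sf, (deg K ξ : ℝ) ^ 2 / (classInner ξ ξ).re : ℝ) : ℂ) := by
    push_cast
    rw [Finset.mul_sum]
    refine Finset.sum_congr rfl fun ξ hξ => ?_
    rw [deg_eq ((hmem ξ).mp hξ), ← self_eq_re]
    ring
  rw [h1] at h
  have h2 : (K.index : ℝ) ^ 2 * ∑ ξ ∈ Sf, (deg K ξ : ℝ) ^ 2 / (classInner ξ ξ).re =
      (K.index : ℝ) * ((Nat.card K : ℝ) - 1) := by exact_mod_cast h
  rw [eq_div_iff h0]
  have h3 : (K.index : ℝ) * ((∑ ξ ∈ Sf, (deg K ξ : ℝ) ^ 2 / (classInner ξ ξ).re) *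
      (K.index : ℝ)) = (K.index : ℝ) * ((Nat.card K : ℝ) - 1) := by
    rw [← h2]; ring
  exact mul_left_cancel₀ h0 h3

/-- If `ζ` is an irreducible non-real member of degree `[L:K]` then `2 [L:K] + 1 ≤ |K|`. -/
theorem two_index_le {ζ : L → ℂ} (hζ : ζ ∈ inducedIrrAbove K ⊥) (hζi : IsIrrCharacter L ζ)
    (hζ1 : ζ 1 = (K.index : ℂ)) (hζc : conjFun ζ ≠ ζ) : 2 * K.index + 1 ≤ Nat.card K := by
  classical
  have hfin : (inducedIrrAbove K (⊥ : Subgroup L)).Finite := by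
    have _ : Finite (IrrCharacter K) := finite_irr
    refine Set.Finite.subset (Set.finite_range (fun χ : IrrCharacter K => indFun K χ.1)) ?_
    rintro φ ⟨θ, hθ, -, -, rfl⟩
    exact ⟨⟨θ, hθ⟩, rfl⟩
  have hSf : ((hfin.toFinset : Finset (L → ℂ)) : Set (L → ℂ)) = inducedIrrAbove K ⊥ :=
    hfin.coe_toFinset
  have h := sum_deg_sq (K := K) hfin.toFinset hSf
  have hζ' := conj_mem_induced (K := K) ⊥ hζ
  have hζc1 : conjFun ζ 1 = (K.index : ℂ) := by
    show conj (ζ 1) = _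
    rw [hζ1]; simp
  have hle : ∑ ξ ∈ ({ζ, conjFun ζ} : Finset (L → ℂ)), (deg K ξ : ℝ) ^ 2 / (classInner ξ ξ).re ≤
      ∑ ξ ∈ hfin.toFinset, (deg K ξ : ℝ) ^ 2 / (classInner ξ ξ).re := by
    refine Finset.sum_le_sum_of_subset_of_nonneg ?_ ?_
    · intro ξ hξ
      rw [Set.Finite.mem_toFinset]
      rcases Finset.mem_insert.mp hξ with rfl | h
      · exact hζ
      · rw [Finset.mem_singleton.mp h]; exact hζ'
    · intro ξ _ _
      exact div_nonneg (by positivity) (classInner_self_re_nonneg ξ)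
  rw [Finset.sum_pair hζc.symm, deg_of_eq hζ hζ1, deg_of_eq hζ' hζc1, classInner_irr_self hζi,
    classInner_irr_self (isIrr_conjFun hζi), h] at hle
  have h0 : (0 : ℝ) < (K.index : ℝ) :=
    Nat.cast_pos.mpr (Nat.pos_of_ne_zero Subgroup.FiniteIndex.index_ne_zero)
  rw [le_div_iff₀ h0] at hle
  norm_num at hle
  have h5 : (2 * K.index + 1 : ℝ) ≤ (Nat.card K : ℝ) := by
    rw [Nat.card_eq_fintype_card] at *
    linarith
  exact_mod_cast h5

end

/-! ### (7.8) -/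

section coherent

variable {K : Subgroup L} [hK : K.Normal] {τ : (L → ℂ) → (G → ℂ)} {ρ : (G → ℂ) → (L → ℂ)}
variable {ν : (L → ℂ) → (G → ℂ)}

omit [Fintype L] in
theorem card_sharp_sum [Fintype L] (K : Subgroup L) [DecidablePred (· ∈ sharp K)] :
    ((Finset.univ.filter (· ∈ sharp K)).card : ℂ) = (Nat.card K : ℂ) - 1 := by
  classical
  have h : (Finset.univ.filter (fun x : L => x ∈ sharp K)) =
      (Finset.univ.filter (fun x : L => x ∈ K)).erase 1 := by
    ext x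
    simp only [Finset.mem_filter, Finset.mem_univ, true_and, Finset.mem_erase, mem_sharp]
    tauto
  have h1 : (1 : L) ∈ Finset.univ.filter (fun x : L => x ∈ K) := by
    simp [K.one_mem]
  have h2 : (Finset.univ.filter (fun x : L => x ∈ K)).card = Nat.card K := by
    rw [Nat.card_eq_fintype_card, Fintype.card_subtype]
  have h3 : (Finset.univ.filter (fun x : L => x ∈ sharp K)).card + 1 = Nat.card K := by
    rw [h, Finset.card_erase_add_one h1, h2]
  have h4 : ((Finset.univ.filter (fun x : L => x ∈ sharp K)).card : ℂ) + 1 = (Nat.card K : ℂ) := by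
    exact_mod_cast h3
  rw [← h4]
  have : (Finset.univ.filter (fun x : L => x ∈ sharp K)).card =
      (Finset.univ.filter (· ∈ sharp K)).card := by congr
  rw [this]
  ring

/-- Sum over `K \ {1}` of a function vanishing off `K`. -/
theorem sum_sharp (K : Subgroup L) [DecidablePred (· ∈ sharp K)] {f : L → ℂ}
    (hf : ∀ x, x ∉ K → f x = 0) :
    ∑ x ∈ Finset.univ.filter (· ∈ sharp K), f x = ∑ x : L, f x - f 1 := by
  classical
  rw [← Finset.add_sum_erase Finset.univ _ (Finset.mem_univ (1 : L)), add_sub_cancel_left,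
    Finset.sum_filter, ← Finset.add_sum_erase Finset.univ _ (Finset.mem_univ (1 : L)),
    if_neg (fun h => h.2 rfl), zero_add]
  refine Finset.sum_congr rfl fun x hx => ?_
  have hx1 := (Finset.mem_erase.mp hx).1
  by_cases hxK : x ∈ K
  · rw [if_pos ⟨hxK, hx1⟩]
  · rw [if_neg (fun h => hxK h.1), hf x hxK]

omit [Fintype L] in
theorem card_L_eq (K : Subgroup L) : (Nat.card L : ℂ) = (K.index : ℂ) * (Nat.card K : ℂ) := by
  rw [← K.index_mul_card]; push_cast; ring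

theorem card_L_ne (L : Type*) [Group L] [Fintype L] : (Nat.card L : ℂ) ≠ 0 :=
  Nat.cast_ne_zero.mpr Nat.card_pos.ne'

theorem rho_one_inner (hP : AdjPair (sharp K) τ ρ) {ξ : L → ℂ}
    (hξ : ξ ∈ inducedIrrAbove K ⊥) :
    classInner ξ (ρ (fun _ => 1)) = - ξ 1 / (Nat.card L : ℂ) := by
  classical
  rw [classInner_apply]
  have h1 : ∑ g : L, ξ g * conj (ρ (fun _ => 1) g) =
      ∑ x ∈ Finset.univ.filter (· ∈ sharp K), ξ x := by
    rw [Finset.sum_filter]
    refine Finset.sum_congr rfl fun x _ => ?_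
    split_ifs with h
    · rw [hP.rho_one x h]; simp
    · rw [hP.rho_supp _ x h]; simp
  have h2 := induced_orth_one K ⊥ hξ
  rw [classInner_apply] at h2
  have h3 : ∑ g : L, ξ g = 0 := by
    have h4 := (mul_eq_zero.mp h2).resolve_left (inv_ne_zero (card_L_ne L))
    simpa using h4
  rw [h1, sum_sharp K (fun x hx => induced_vanish K ⊥ hξ hx), h3]
  ring

/-- `ν ξ` is orthogonal to the principal character. -/
theorem nu_orth_one (hP : AdjPair (sharp K) τ ρ)
    (hν : IsLinearIsometryOn (zspan (inducedIrrAbove K ⊥)) ν)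
    (hag : ∀ α ∈ zspanOn (inducedIrrAbove K ⊥) {1}ᶜ, ν α = τ α)
    {ζ : L → ℂ} (hζ : ζ ∈ inducedIrrAbove K ⊥) (hζi : IsIrrCharacter L ζ)
    (hζ1 : ζ 1 = (K.index : ℂ)) (hζc : conjFun ζ ≠ ζ) {ξ : L → ℂ}
    (hξ : ξ ∈ inducedIrrAbove K ⊥) : classInner (ν ξ) (fun _ => 1) = 0 := by
  classical
  have hrel : ∀ ξ ∈ inducedIrrAbove K (⊥ : Subgroup L),
      classInner (ν ξ) (fun _ => 1) = (deg K ξ : ℂ) * classInner (ν ζ) (fun _ => 1) := by
    intro ξ hξ
    have h1 := cross_inner hP hν hag hζ hξ (χ := fun _ => 1) one_class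
    rw [rho_one_inner hP hζ, rho_one_inner hP hξ, hζ1, deg_eq hξ] at h1
    have h2 := index_ne_zero' K
    have h3 := card_L_ne L
    have h4 : (K.index : ℂ) * ((deg K ξ : ℂ) * classInner (ν ζ) (fun _ => 1)) =
        (K.index : ℂ) * classInner (ν ξ) (fun _ => 1) := by
      linear_combination h1
    exact (mul_left_cancel₀ h2 h4).symm
  have hfin : (inducedIrrAbove K (⊥ : Subgroup L)).Finite := by
    have _ : Finite (IrrCharacter K) := finite_irr
    refine Set.Finite.subset (Set.finite_range (fun χ : IrrCharacter K => indFun K χ.1)) ?_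
    rintro φ ⟨θ, hθ, -, -, rfl⟩
    exact ⟨⟨θ, hθ⟩, rfl⟩
  have hSf : ((hfin.toFinset : Finset (L → ℂ)) : Set (L → ℂ)) = inducedIrrAbove K ⊥ :=
    hfin.coe_toFinset
  have hmem : ∀ ξ, ξ ∈ hfin.toFinset ↔ ξ ∈ inducedIrrAbove K ⊥ := fun ξ => by
    rw [Set.Finite.mem_toFinset]
  have hnn : ∀ a ∈ inducedIrrAbove K (⊥ : Subgroup L), ∀ b ∈ inducedIrrAbove K (⊥ : Subgroup L),
      classInner (ν a) (ν b) = classInner a b := fun a ha b hb =>
    lin_inner hν (zspan_subset ha) (zspan_subset hb)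
  obtain ⟨t, ht⟩ := gen_inner (lin_gen hν (zspan_subset hζ)) (gen_one (G := G))
  have ht' : classInner (ν ζ) (fun _ => 1) = (t : ℂ) := ht
  have hb := bessel (T := hfin.toFinset) (f := ν)
    (fun a ha b hb hab => by
      rw [hnn a ((hmem a).mp ha) b ((hmem b).mp hb)]
      exact induced_orthogonal K ⊥ ((hmem a).mp ha) ((hmem b).mp hb) hab)
    (fun a ha => by
      rw [hnn a ((hmem a).mp ha) a ((hmem a).mp ha)]
      exact induced_norm_ne_zero K ⊥ ((hmem a).mp ha)) (fun _ : G => (1 : ℂ))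
  have h1 : classInner (fun _ : G => (1 : ℂ)) (fun _ : G => (1 : ℂ)) = 1 :=
    classInner_irr_self isIrr_one
  rw [h1, Complex.one_re] at hb
  have h2 : ∑ i ∈ hfin.toFinset, ‖classInner (fun _ : G => (1 : ℂ)) (ν i)‖ ^ 2 /
      (classInner (ν i) (ν i)).re =
      (t : ℝ) ^ 2 * (((Nat.card K : ℝ) - 1) / (K.index : ℝ)) := by
    rw [← sum_deg_sq hfin.toFinset hSf, Finset.mul_sum]
    refine Finset.sum_congr rfl fun ξ hξ => ?_
    have hξ' := (hmem ξ).mp hξ
    rw [hnn ξ hξ' ξ hξ', ← classInner_conj_symm, Complex.norm_conj, hrel ξ hξ', ht', norm_mul,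
      Complex.norm_natCast, Complex.norm_intCast, mul_pow, sq_abs]
    ring
  rw [h2] at hb
  have h3 := two_index_le hζ hζi hζ1 hζc
  have h0 : (0 : ℝ) < (K.index : ℝ) :=
    Nat.cast_pos.mpr (Nat.pos_of_ne_zero Subgroup.FiniteIndex.index_ne_zero)
  have h4 : (2 : ℝ) ≤ ((Nat.card K : ℝ) - 1) / (K.index : ℝ) := by
    rw [le_div_iff₀ h0]
    have : (2 * K.index + 1 : ℝ) ≤ (Nat.card K : ℝ) := by exact_mod_cast h3
    linarith
  have h5 : t = 0 := by
    by_contra ht0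
    have h6 : (1 : ℝ) ≤ (t : ℝ) ^ 2 := by
      have : (1 : ℤ) ≤ t ^ 2 := by
        have := Int.one_le_abs ht0
        nlinarith [sq_abs t]
      exact_mod_cast this
    nlinarith
  rw [hrel ξ hξ, ht', h5]
  simp

/-- `⟨β, 1⟩ = 1`. -/
theorem beta_inner_one (hP : AdjPair (sharp K) τ ρ) {ζ : L → ℂ}
    (hζ : ζ ∈ inducedIrrAbove K ⊥) (hζ1 : ζ 1 = (K.index : ℂ)) :
    classInner (beta K τ ζ) (fun _ => 1) = 1 := by
  rw [beta_def, hP.recip _ (indOne_sub_class hζ) (indOne_sub_supp hζ hζ1) _ one_class,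
    inner_congr_of_supp (g := fun _ => 1) (indOne_sub_supp hζ hζ1) (fun x hx => hP.rho_one x hx),
    classInner_sub_left, indOne_one, induced_orth_one K ⊥ hζ, sub_zero]

/-- `⟨β, ν ξ⟩ = (ξ(1)/e) (⟨β, ν ζ⟩ + ⟨ζ, ζ⟩) - ⟨ζ, ξ⟩`. -/
theorem beta_nu_inner (hP : AdjPair (sharp K) τ ρ)
    (hν : IsLinearIsometryOn (zspan (inducedIrrAbove K ⊥)) ν)
    (hag : ∀ α ∈ zspanOn (inducedIrrAbove K ⊥) {1}ᶜ, ν α = τ α)
    {ζ : L → ℂ} (hζ : ζ ∈ inducedIrrAbove K ⊥)
    (hζ1 : ζ 1 = (K.index : ℂ)) {ξ : L → ℂ} (hξ : ξ ∈ inducedIrrAbove K ⊥) :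
    classInner (beta K τ ζ) (ν ξ) =
      (deg K ξ : ℂ) * (classInner (beta K τ ζ) (ν ζ) + classInner ζ ζ) - classInner ζ ξ := by
  have h1 : ((deg K ξ : ℤ) : ℂ) * ζ 1 = ((1 : ℤ) : ℂ) * ξ 1 := by
    rw [hζ1, deg_eq hξ]; push_cast; ring
  have h2 := hP.isometry _ (indOne_sub_class hζ) (indOne_sub_supp hζ hζ1) _
    (cross_class hζ hξ (deg K ξ : ℤ) 1) (fun x hx => cross_supp hζ hξ h1 x hx)
  rw [tau_cross hν hag hζ hξ h1, ← beta_def (K := K) (τ := τ)] at h2
  rw [classInner_sub_right, classInner_zsmul_right, classInner_zsmul_right,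
    classInner_sub_right, classInner_zsmul_right, classInner_zsmul_right, classInner_sub_left,
    classInner_sub_left, indOne_orthogonal K ⊥ hζ, indOne_orthogonal K ⊥ hξ] at h2
  push_cast at h2
  linear_combination -h2

/-- The norm of `φ = Ind 1`. -/
theorem indOne_norm (K : Subgroup L) [K.Normal] :
    classInner (indOne K) (indOne K) = (K.index : ℂ) := by
  classical
  have _ : Fintype K := Fintype.ofFinite K
  conv_lhs => rw [indOne_def]
  rw [frobenius K _ _ (by rw [← indOne_def]; exact indOne_class K), ← indOne_def]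
  have h : (fun k : K => indOne K k) = (K.index : ℂ) • fun _ : K => (1 : ℂ) := by
    funext k
    rw [indOne_mem K k.2]
    simp
  rw [h, classInner_smul_right]
  have h1 : classInner (fun _ : K => (1 : ℂ)) (fun _ : K => (1 : ℂ)) = 1 :=
    classInner_irr_self isIrr_one
  rw [h1]
  simp

/-- `⟨β, β⟩ = e + ⟨ζ, ζ⟩`. -/
theorem beta_norm (hP : AdjPair (sharp K) τ ρ) {ζ : L → ℂ}
    (hζ : ζ ∈ inducedIrrAbove K ⊥) (hζ1 : ζ 1 = (K.index : ℂ)) :
    classInner (beta K τ ζ) (beta K τ ζ) = (K.index : ℂ) + classInner ζ ζ := by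
  rw [beta_def, hP.isometry _ (indOne_sub_class hζ) (indOne_sub_supp hζ hζ1) _
    (indOne_sub_class hζ) (indOne_sub_supp hζ hζ1), classInner_sub_left, classInner_sub_right,
    classInner_sub_right, indOne_norm, indOne_orthogonal K ⊥ hζ,
    classInner_comm_eq_zero (indOne_orthogonal K ⊥ hζ)]
  ring

/-- (7.8)(c): for `χ` orthogonal to all `ν ξ`, `ρ χ` is constant on `K \ {1}`. -/
theorem rho_const (hP : AdjPair (sharp K) τ ρ)
    (hν : IsLinearIsometryOn (zspan (inducedIrrAbove K ⊥)) ν)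
    (hag : ∀ α ∈ zspanOn (inducedIrrAbove K ⊥) {1}ᶜ, ν α = τ α)
    {ζ : L → ℂ} (hζ : ζ ∈ inducedIrrAbove K ⊥) (hζ1 : ζ 1 = (K.index : ℂ)) {χ : G → ℂ}
    (hχ : IsClassFunction G χ) (horth : ∀ ξ ∈ inducedIrrAbove K ⊥, classInner χ (ν ξ) = 0) :
    ∀ x ∈ sharp K, ρ χ x = classInner χ (beta K τ ζ) := by
  classical
  have hfin : (inducedIrrAbove K (⊥ : Subgroup L)).Finite := by
    have _ : Finite (IrrCharacter K) := finite_irr
    refine Set.Finite.subset (Set.finite_range (fun χ : IrrCharacter K => indFun K χ.1)) ?_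
    rintro φ ⟨θ, hθ, -, -, rfl⟩
    exact ⟨⟨θ, hθ⟩, rfl⟩
  intro x hx
  have h := rho_formula hP hν hag hfin.toFinset hfin.coe_toFinset hζ hζ1 hχ x hx
  rw [h, Finset.sum_eq_zero, zero_add, classInner_add_right, horth ζ hζ, add_zero]
  intro ξ hξ
  rw [horth ξ (by rwa [Set.Finite.mem_toFinset] at hξ), zero_div, zero_mul]

omit hK in
/-- Norm of `ρ χ` when it is constant on `K \ {1}`. -/
theorem norm_rho_const (hP : AdjPair (sharp K) τ ρ) {χ : G → ℂ} {c : ℂ}
    (h : ∀ x ∈ sharp K, ρ χ x = c) :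
    classInner (ρ χ) (ρ χ) = c * conj c * (((Nat.card K : ℂ) - 1) / (Nat.card L : ℂ)) := by
  classical
  rw [classInner_apply]
  have h1 : ∑ g : L, ρ χ g * conj (ρ χ g) =
      ∑ x ∈ Finset.univ.filter (· ∈ sharp K), c * conj c := by
    rw [Finset.sum_filter]
    refine Finset.sum_congr rfl fun x _ => ?_
    split_ifs with hx
    · rw [h x hx]
    · rw [hP.rho_supp _ x hx]; simp
  rw [h1, Finset.sum_const, nsmul_eq_mul, card_sharp_sum]
  ring

/-- `ρ (ν ζ) = ζ + a` on `K \ {1}`, with `a = ⟨β, ν ζ⟩ + ⟨ζ, ζ⟩` real. -/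
theorem rho_nu (hP : AdjPair (sharp K) τ ρ)
    (hν : IsLinearIsometryOn (zspan (inducedIrrAbove K ⊥)) ν)
    (hag : ∀ α ∈ zspanOn (inducedIrrAbove K ⊥) {1}ᶜ, ν α = τ α)
    {ζ : L → ℂ} (hζ : ζ ∈ inducedIrrAbove K ⊥) (hζ1 : ζ 1 = (K.index : ℂ)) {ξ : L → ℂ}
    (hξ : ξ ∈ inducedIrrAbove K ⊥) :
    ∀ x ∈ sharp K, ρ (ν ξ) x = ξ x + classInner (ν ξ) (beta K τ ζ + ν ζ) := by
  classical
  have hfin : (inducedIrrAbove K (⊥ : Subgroup L)).Finite := by
    have _ : Finite (IrrCharacter K) := finite_irr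
    refine Set.Finite.subset (Set.finite_range (fun χ : IrrCharacter K => indFun K χ.1)) ?_
    rintro φ ⟨θ, hθ, -, -, rfl⟩
    exact ⟨⟨θ, hθ⟩, rfl⟩
  have hmem : ∀ ξ, ξ ∈ hfin.toFinset ↔ ξ ∈ inducedIrrAbove K ⊥ := fun ξ => by
    rw [Set.Finite.mem_toFinset]
  intro x hx
  rw [rho_formula hP hν hag hfin.toFinset hfin.coe_toFinset hζ hζ1
    (gen_isClassFunction (lin_gen hν (zspan_subset hξ))) x hx, Finset.sum_eq_single ξ]
  · rw [lin_inner hν (zspan_subset hξ) (zspan_subset hξ),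
      div_self (induced_norm_ne_zero K ⊥ hξ), one_mul]
  · intro η hη hne
    rw [lin_inner hν (zspan_subset hξ) (zspan_subset ((hmem η).mp hη)),
      induced_orthogonal K ⊥ hξ ((hmem η).mp hη) hne.symm, zero_div, zero_mul]
  · intro h; exact absurd ((hmem ξ).mpr hξ) h

/-- (7.8)(b): the norm of `ρ (ν ζ)`. -/
theorem norm_rho_nu (hP : AdjPair (sharp K) τ ρ)
    (hν : IsLinearIsometryOn (zspan (inducedIrrAbove K ⊥)) ν)
    (hag : ∀ α ∈ zspanOn (inducedIrrAbove K ⊥) {1}ᶜ, ν α = τ α)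
    {ζ : L → ℂ} (hζ : ζ ∈ inducedIrrAbove K ⊥) (hζi : IsIrrCharacter L ζ)
    (hζ1 : ζ 1 = (K.index : ℂ)) {a : ℤ} (ha : classInner (beta K τ ζ) (ν ζ) = a - 1) :
    classInner (ρ (ν ζ)) (ρ (ν ζ)) = 1 - (K.index : ℂ) / Nat.card K +
      (a : ℂ) * (a * ((Nat.card K : ℂ) - 1) - 2 * K.index) / Nat.card L := by
  classical
  have hconst : classInner (ν ζ) (beta K τ ζ + ν ζ) = (a : ℂ) := by
    rw [← classInner_conj_symm, classInner_add_left, ha,
      lin_inner hν (zspan_subset hζ) (zspan_subset hζ), classInner_irr_self hζi]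
    simp
  have hval : ∀ x ∈ sharp K, ρ (ν ζ) x = ζ x + a := by
    intro x hx
    rw [rho_nu hP hν hag hζ hζ1 hζ x hx, hconst]
  have hoff : ∀ x, x ∉ K → ζ x = 0 := fun x hx => induced_vanish K ⊥ hζ hx
  have h1 : ∑ g : L, ρ (ν ζ) g * conj (ρ (ν ζ) g) =
      ∑ x ∈ Finset.univ.filter (· ∈ sharp K),
        (ζ x * conj (ζ x) + (a : ℂ) * ζ x + (a : ℂ) * conj (ζ x) + (a : ℂ) * a) := by
    rw [Finset.sum_filter]
    refine Finset.sum_congr rfl fun x _ => ?_
    split_ifs with hx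
    · rw [hval x hx, map_add]
      simp only [map_intCast]
      ring
    · rw [hP.rho_supp _ x hx]; simp
  have h2 : ∑ g : L, ζ g = 0 := by
    have h := induced_orth_one K ⊥ hζ
    rw [classInner_apply] at h
    have h4 := (mul_eq_zero.mp h).resolve_left (inv_ne_zero (card_L_ne L))
    simpa using h4
  have h3 : ∑ g : L, ζ g * conj (ζ g) = (Nat.card L : ℂ) := by
    have h := classInner_irr_self hζi
    rw [classInner_apply, inv_mul_eq_iff_eq_mul₀ (card_L_ne L), mul_one] at h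
    exact h
  have s1 : ∑ x ∈ Finset.univ.filter (· ∈ sharp K), ζ x = -(K.index : ℂ) := by
    rw [sum_sharp K hoff, h2, hζ1, zero_sub]
  have s2 : ∑ x ∈ Finset.univ.filter (· ∈ sharp K), conj (ζ x) = -(K.index : ℂ) := by
    rw [← map_sum, s1]; simp
  have s3 : ∑ x ∈ Finset.univ.filter (· ∈ sharp K), ζ x * conj (ζ x) =
      (Nat.card L : ℂ) - (K.index : ℂ) ^ 2 := by
    rw [sum_sharp K (f := fun x => ζ x * conj (ζ x)) (fun x hx => by rw [hoff x hx, zero_mul]),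
      h3, hζ1]
    simp [sq]
  rw [classInner_apply, h1, Finset.sum_add_distrib, Finset.sum_add_distrib,
    Finset.sum_add_distrib, ← Finset.mul_sum, ← Finset.mul_sum, s1, s2, s3, Finset.sum_const,
    nsmul_eq_mul, card_sharp_sum, card_L_eq K]
  have e1 := index_ne_zero' K
  have e2 := card_ne_zero K
  field_simp
  ring

/-- (7.8)(b): the lower bound for the norm of `ρ (ν ζ)`. -/
theorem norm_rho_nu_ge (hP : AdjPair (sharp K) τ ρ)
    (hν : IsLinearIsometryOn (zspan (inducedIrrAbove K ⊥)) ν)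
    (hag : ∀ α ∈ zspanOn (inducedIrrAbove K ⊥) {1}ᶜ, ν α = τ α)
    {ζ : L → ℂ} (hζ : ζ ∈ inducedIrrAbove K ⊥) (hζi : IsIrrCharacter L ζ)
    (hζ1 : ζ 1 = (K.index : ℂ)) {a : ℤ} (ha : classInner (beta K τ ζ) (ν ζ) = a - 1)
    (he : 2 * K.index + 1 ≤ Nat.card K) :
    1 - (K.index : ℝ) / Nat.card K ≤ (classInner (ρ (ν ζ)) (ρ (ν ζ))).re := by
  rw [norm_rho_nu hP hν hag hζ hζi hζ1 ha]
  have h1 : (1 - (K.index : ℂ) / Nat.card K +
      (a : ℂ) * (a * ((Nat.card K : ℂ) - 1) - 2 * K.index) / Nat.card L) =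
      ((1 - (K.index : ℝ) / Nat.card K +
      (a : ℝ) * (a * ((Nat.card K : ℝ) - 1) - 2 * K.index) / Nat.card L : ℝ) : ℂ) := by
    push_cast; ring
  rw [h1, Complex.ofReal_re]
  have h2 : (0 : ℝ) ≤ (a : ℝ) * (a * ((Nat.card K : ℝ) - 1) - 2 * K.index) := by
    have h3 : (2 * K.index + 1 : ℝ) ≤ (Nat.card K : ℝ) := by exact_mod_cast he
    have h4 : (0 : ℝ) ≤ (K.index : ℝ) := Nat.cast_nonneg _
    rcases lt_or_ge 0 a with ha0 | ha0
    · have h5 : (1 : ℝ) ≤ (a : ℝ) := by exact_mod_cast ha0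
      apply mul_nonneg (by linarith)
      nlinarith
    · have h5 : (a : ℝ) ≤ 0 := by exact_mod_cast ha0
      have h6 : (a : ℝ) * ((Nat.card K : ℝ) - 1) - 2 * K.index ≤ 0 := by
        nlinarith
      nlinarith
  have h3 : (0 : ℝ) < (Nat.card L : ℝ) := Nat.cast_pos.mpr Nat.card_pos
  have h4 := div_nonneg h2 h3.le
  linarith

/-- (7.8)(a): the decomposition of `β`. -/
theorem exists_gamma (hP : AdjPair (sharp K) τ ρ)
    (hν : IsLinearIsometryOn (zspan (inducedIrrAbove K ⊥)) ν)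
    (hag : ∀ α ∈ zspanOn (inducedIrrAbove K ⊥) {1}ᶜ, ν α = τ α)
    (Sf : Finset (L → ℂ)) (hSf : (Sf : Set (L → ℂ)) = inducedIrrAbove K ⊥)
    {ζ : L → ℂ} (hζ : ζ ∈ inducedIrrAbove K ⊥) (hζi : IsIrrCharacter L ζ)
    (hζ1 : ζ 1 = (K.index : ℂ)) (hζc : conjFun ζ ≠ ζ)
    {a : ℤ} (ha : classInner (beta K τ ζ) (ν ζ) = a - 1) :
    ∃ Γ : G → ℂ, IsClassFunction G Γ ∧ classInner Γ (fun _ => 1) = 0 ∧
      (∀ ξ ∈ inducedIrrAbove K ⊥, classInner Γ (ν ξ) = 0) ∧
      beta K τ ζ = (fun _ => 1) - ν ζ + (a : ℂ) •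
        (∑ ξ ∈ Sf, ((deg K ξ : ℂ) / classInner ξ ξ) • ν ξ) + Γ ∧
      classInner Γ Γ = (K.index : ℂ) - 1 + 2 * a -
        (a : ℂ) ^ 2 * (((Nat.card K : ℂ) - 1) / K.index) := by
  classical
  have hmem : ∀ ξ, ξ ∈ Sf ↔ ξ ∈ inducedIrrAbove K ⊥ := fun ξ => by rw [← hSf]; rfl
  have hnn : ∀ a ∈ Sf, ∀ b ∈ Sf, classInner (ν a) (ν b) = classInner a b := fun a ha b hb =>
    lin_inner hν (zspan_subset ((hmem a).mp ha)) (zspan_subset ((hmem b).mp hb))
  have horth : ∀ i ∈ Sf, ∀ j ∈ Sf, i ≠ j → classInner (ν i) (ν j) = 0 := fun i hi j hj hij => by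
    rw [hnn i hi j hj]
    exact induced_orthogonal K ⊥ ((hmem i).mp hi) ((hmem j).mp hj) hij
  have hne : ∀ i ∈ Sf, classInner (ν i) (ν i) ≠ 0 := fun i hi => by
    rw [hnn i hi i hi]
    exact induced_norm_ne_zero K ⊥ ((hmem i).mp hi)
  have hζζ := classInner_irr_self hζi
  have hζf : ζ ∈ Sf := (hmem ζ).mpr hζ
  -- inner products of `β - 1`
  have hone : ∀ ξ ∈ Sf, classInner (fun _ : G => (1 : ℂ)) (ν ξ) = 0 := fun ξ hξ =>
    classInner_comm_eq_zero (nu_orth_one hP hν hag hζ hζi hζ1 hζc ((hmem ξ).mp hξ))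
  have hin : ∀ ξ ∈ Sf, classInner (beta K τ ζ - fun _ => 1) (ν ξ) =
      (a : ℂ) * deg K ξ - classInner ζ ξ := fun ξ hξ => by
    rw [classInner_sub_left, hone ξ hξ, sub_zero,
      beta_nu_inner hP hν hag hζ hζ1 ((hmem ξ).mp hξ), ha, hζζ]
    ring
  set β' : G → ℂ := beta K τ ζ - fun _ => 1 with hβ'
  have h11 : classInner (fun _ : G => (1 : ℂ)) (fun _ : G => (1 : ℂ)) = 1 :=
    classInner_irr_self isIrr_one
  have hβ1 := beta_inner_one hP hζ hζ1
  have hβ1' : classInner (fun _ : G => (1 : ℂ)) (beta K τ ζ) = 1 := by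
    rw [← classInner_conj_symm, hβ1, map_one]
  have hβcf : IsClassFunction G (beta K τ ζ) :=
    hP.tau_class _ (indOne_sub_class hζ) (indOne_sub_supp hζ hζ1)
  have hprojβ : proj Sf ν β' = (a : ℂ) • (∑ ξ ∈ Sf, ((deg K ξ : ℂ) / classInner ξ ξ) • ν ξ) -
      ν ζ := by
    have h1 : ∀ ξ ∈ Sf, (classInner β' (ν ξ) / classInner (ν ξ) (ν ξ)) • ν ξ =
        (a : ℂ) • ((deg K ξ : ℂ) / classInner ξ ξ) • ν ξ - (if ξ = ζ then ν ξ else 0) := by
      intro ξ hξ
      rw [hin ξ hξ, hnn ξ hξ ξ hξ]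
      have h0 := induced_norm_ne_zero K ⊥ ((hmem ξ).mp hξ)
      split_ifs with h
      · subst h
        rw [hζζ, smul_smul, ← one_smul ℂ (ν ξ), smul_smul, smul_smul, ← sub_smul]
        congr 1
        ring
      · rw [induced_orthogonal K ⊥ hζ ((hmem ξ).mp hξ) (fun h' => h h'.symm), sub_zero, sub_zero,
          smul_smul]
        congr 1
        ring
    rw [proj_def, Finset.sum_congr rfl h1, Finset.sum_sub_distrib, ← Finset.smul_sum,
      Finset.sum_ite_eq' Sf ζ, if_pos hζf]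
  refine ⟨β' - proj Sf ν β', ?_, ?_, ?_, ?_, ?_⟩
  · intro g h
    have hνcf : ∀ ξ ∈ Sf, IsClassFunction G (ν ξ) := fun ξ hξ =>
      gen_isClassFunction (lin_gen hν (zspan_subset ((hmem ξ).mp hξ)))
    have h1 : proj Sf ν β' (h * g * h⁻¹) = proj Sf ν β' g := by
      rw [proj_def, Finset.sum_apply, Finset.sum_apply]
      refine Finset.sum_congr rfl fun ξ hξ => ?_
      rw [Pi.smul_apply, Pi.smul_apply, hνcf ξ hξ g h]
    rw [Pi.sub_apply, Pi.sub_apply, h1]
    congr 1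
    show beta K τ ζ (h * g * h⁻¹) - 1 = beta K τ ζ g - 1
    rw [hβcf g h]
  · rw [classInner_sub_left, hβ', classInner_sub_left, hβ1, h11, proj_def, classInner_sum_left,
      Finset.sum_eq_zero, sub_self, sub_zero]
    intro ξ hξ
    rw [classInner_smul_left, nu_orth_one hP hν hag hζ hζi hζ1 hζc ((hmem ξ).mp hξ), mul_zero]
  · intro ξ hξ
    exact sub_proj_orth horth hne β' ((hmem ξ).mpr hξ)
  · rw [hprojβ, hβ']
    abel
  · rw [norm_sub_proj horth hne β']
    have h1 : classInner β' β' = (K.index : ℂ) := by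
      rw [hβ', classInner_sub_left, classInner_sub_right, classInner_sub_right,
        beta_norm hP hζ hζ1, hβ1, hβ1', h11, hζζ]
      ring
    have h2 : ∀ ξ ∈ Sf, classInner β' (ν ξ) * conj (classInner β' (ν ξ)) /
        classInner (ν ξ) (ν ξ) = (a : ℂ) ^ 2 * ((deg K ξ : ℂ) ^ 2 / classInner ξ ξ) -
          (if ξ = ζ then 2 * (a : ℂ) - 1 else 0) := by
      intro ξ hξ
      rw [hin ξ hξ, hnn ξ hξ ξ hξ]
      split_ifs with h
      · subst h
        rw [hζζ, deg_of_eq hζ hζ1]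
        simp
        ring
      · rw [induced_orthogonal K ⊥ hζ ((hmem ξ).mp hξ) (fun h' => h h'.symm), sub_zero, sub_zero]
        simp
        ring
    have h3 : ∑ ξ ∈ Sf, (deg K ξ : ℂ) ^ 2 / classInner ξ ξ =
        ((Nat.card K : ℂ) - 1) / K.index := by
      have h4 := sum_deg_sq (K := K) Sf hSf
      have h5 : ∑ ξ ∈ Sf, (deg K ξ : ℂ) ^ 2 / classInner ξ ξ =
          ((∑ ξ ∈ Sf, (deg K ξ : ℝ) ^ 2 / (classInner ξ ξ).re : ℝ) : ℂ) := by
        push_cast
        refine Finset.sum_congr rfl fun ξ _ => ?_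
        rw [← self_eq_re]
      rw [h5, h4]
      push_cast
      ring
    rw [h1, Finset.sum_congr rfl h2, Finset.sum_sub_distrib, ← Finset.mul_sum, h3,
      Finset.sum_ite_eq' Sf ζ, if_pos hζf]
    ring

/-- (7.8)(b): `‖Γ‖² ≤ e - 1`. -/
theorem gamma_le {e h : ℕ} (he0 : 0 < e) (he : 2 * e + 1 ≤ h) (a : ℤ) :
    (e : ℝ) - 1 + 2 * a - (a : ℝ) ^ 2 * (((h : ℝ) - 1) / e) ≤ (e : ℝ) - 1 := by
  have h0 : (0 : ℝ) < e := Nat.cast_pos.mpr he0
  have h1 : (2 * e + 1 : ℝ) ≤ h := by exact_mod_cast he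
  have h2 : (2 : ℝ) ≤ ((h : ℝ) - 1) / e := by
    rw [le_div_iff₀ h0]; linarith
  have h3 : (a : ℝ) ≤ (a : ℝ) ^ 2 := by
    have : a ≤ a ^ 2 := by
      rcases le_or_gt a 0 with h | h
      · nlinarith [sq_nonneg a]
      · nlinarith
    exact_mod_cast this
  nlinarith [sq_nonneg (a : ℝ)]

end coherent

end Cfsg.Agent.OddOrderCharacters.PF7Bound
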