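import Mathlib

set_option autoImplicit false

/-!
# Projection of an internal semidirect product onto the complement

`N K : Subgroup G` with `K ≤ N_G(N)` and `N ⊓ K = ⊥`: the projection `N ⊔ K →* K`.
-/

namespace Cfsg.Agent.OddOrderCharacters.SdProj

variable {G : Type*} [Group G]

theorem mem_sup_iff {N K : Subgroup G} (hK : K ≤ Subgroup.normalizer (N : Set G)) {x : G} :
    x ∈ N ⊔ K ↔ ∃ n ∈ N, ∃ k ∈ K, x = n * k := by
  rw [← SetLike.mem_coe, Subgroup.coe_mul_of_right_le_normalizer_left N K hK, Set.mem_mul]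
  constructor
  · rintro ⟨n, hn, k, hk, rfl⟩
    exact ⟨n, hn, k, hk, rfl⟩
  · rintro ⟨n, hn, k, hk, rfl⟩
    exact ⟨n, hn, k, hk, rfl⟩

theorem conj_mem {N K : Subgroup G} (hK : K ≤ Subgroup.normalizer (N : Set G)) {n k : G}
    (hk : k ∈ K) (hn : n ∈ N) : k * n * k⁻¹ ∈ N :=
  ((Subgroup.mem_normalizer_iff.mp (hK hk)) n).mp hn

theorem unique_right {N K : Subgroup G} (hNK : N ⊓ K = ⊥) {n n' k k' : G}
    (hn : n ∈ N) (hn' : n' ∈ N) (hk : k ∈ K) (hk' : k' ∈ K) (h : n * k = n' * k') :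
    k = k' := by
  have h1 : n'⁻¹ * n = k' * k⁻¹ := by
    rw [inv_mul_eq_iff_eq_mul, ← mul_assoc, ← h]; group
  have h2 : k' * k⁻¹ ∈ N ⊓ K :=
    ⟨h1 ▸ N.mul_mem (N.inv_mem hn') hn, K.mul_mem hk' (K.inv_mem hk)⟩
  rw [hNK, Subgroup.mem_bot, mul_inv_eq_one] at h2
  exact h2.symm

/-- The projection of an internal semidirect product onto the complement. -/
theorem exists_proj {N K : Subgroup G} (hK : K ≤ Subgroup.normalizer (N : Set G))
    (hNK : N ⊓ K = ⊥) :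
    ∃ f : ↥(N ⊔ K) →* ↥K, ∀ (m : ↥(N ⊔ K)) (n k : G) (_ : n ∈ N) (hk : k ∈ K),
      (m : G) = n * k → f m = ⟨k, hk⟩ := by
  have hex : ∀ m : ↥(N ⊔ K), ∃ k : ↥K, ∃ n ∈ N, (m : G) = n * k := by
    intro m
    obtain ⟨n, hn, k, hk, h⟩ := (mem_sup_iff hK).mp m.2
    exact ⟨⟨k, hk⟩, n, hn, h⟩
  choose f n hn hf using hex
  refine ⟨MonoidHom.mk' f ?_, ?_⟩
  · intro x y
    have h1 : n (x * y) * (f (x * y) : G)
        = (n x * ((f x : G) * n y * (f x : G)⁻¹)) * ((f x : G) * (f y : G)) := by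
      rw [← hf (x * y), Subgroup.coe_mul, hf x, hf y]; group
    apply Subtype.ext
    rw [Subgroup.coe_mul]
    exact unique_right hNK (hn _) (N.mul_mem (hn _) (conj_mem hK (f x).2 (hn y)))
      (f _).2 (K.mul_mem (f x).2 (f y).2) h1
  · intro m n' k hn' hk h
    apply Subtype.ext
    exact unique_right hNK (hn m) hn' (f m).2 hk ((hf m).symm.trans h)

/-- Element of `N ⊔ K` killed by `n` coprime to `|K|` lies in `N`. -/
theorem mem_left_of_pow_eq_one {N K : Subgroup G}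
    (hK : K ≤ Subgroup.normalizer (N : Set G))
    (hNK : N ⊓ K = ⊥) {x : G} (hx : x ∈ N ⊔ K) {n : ℕ} (hn : x ^ n = 1)
    (hcop : Nat.Coprime n (Nat.card K)) : x ∈ N := by
  obtain ⟨f, hf⟩ := exists_proj hK hNK
  obtain ⟨m, hm, k, hk, h⟩ := (mem_sup_iff hK).mp hx
  have h1 : f ⟨x, hx⟩ = ⟨k, hk⟩ := hf _ m k hm hk h
  have h2 : (f ⟨x, hx⟩) ^ n = 1 := by
    rw [← map_pow]
    have : (⟨x, hx⟩ : ↥(N ⊔ K)) ^ n = 1 := Subtype.ext (by simpa using hn)
    rw [this, map_one]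
  have h3 : (f ⟨x, hx⟩) ^ (Nat.card K) = 1 := pow_card_eq_one'
  have h4 : f ⟨x, hx⟩ = 1 := by
    have h5 := pow_gcd_eq_one.mpr ⟨h2, h3⟩
    rw [hcop.gcd_eq_one, pow_one] at h5
    exact h5
  rw [h1] at h4
  have h5 : k = 1 := congrArg Subtype.val h4
  rw [h, h5, mul_one]
  exact hm

end Cfsg.Agent.OddOrderCharacters.SdProj
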