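import Mathlib
import Cfsg.Prelude.Def_Characters
import Cfsg.Prelude.Def_OddOrderChar
import Cfsg.Agent.OddOrderCharacters.SdProj

set_option autoImplicit false

/-!
# Basic facts on the Dade hypothesis

`DadeHypothesis A L H`: for `a ∈ A` the subgroup `H a` is the normal Hall subgroup of `C_G(a)`
with complement `C_L(a)`; all `|H a|` are coprime to all `|C_L(b)|`.
-/

namespace Cfsg.Agent.OddOrderCharacters.DadeBasic

open Cfsg
open Cfsg.Agent.OddOrderCharacters

variable {G : Type*} [Group G] {A : Set G} {L : Subgroup G} {H : G → Subgroup G}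

theorem comm_of_mem (hD : DadeHypothesis A L H) {a u : G} (ha : a ∈ A) (hu : u ∈ H a) :
    Commute a u := by
  have h := hD.le_centralizer a ha hu
  rw [Subgroup.mem_centralizer_singleton_iff] at h
  exact h.symm

theorem mem_cent_self (hD : DadeHypothesis A L H) {a : G} (ha : a ∈ A) :
    a ∈ L ⊓ Subgroup.centralizer ({a} : Set G) :=
  Subgroup.mem_inf.mpr ⟨hD.subset ha, Subgroup.mem_centralizer_singleton_iff.mpr rfl⟩

/-- An exponent that fixes the elements of `C_L(a)`, `C_L(b)` and kills `H a`, `H b`. -/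
theorem exists_exponent [Finite G] (hD : DadeHypothesis A L H) {a b : G} (ha : a ∈ A) (hb : b ∈ A) :
    ∃ k : ℕ, (∀ c ∈ L ⊓ Subgroup.centralizer ({a} : Set G), c ^ k = c) ∧
      (∀ c ∈ L ⊓ Subgroup.centralizer ({b} : Set G), c ^ k = c) ∧
      (∀ u ∈ H a, u ^ k = 1) ∧ (∀ u ∈ H b, u ^ k = 1) := by
  have hcop : Nat.Coprime
      (Nat.card ↥(L ⊓ Subgroup.centralizer ({a} : Set G)) *
        Nat.card ↥(L ⊓ Subgroup.centralizer ({b} : Set G)))
      (Nat.card (H a) * Nat.card (H b)) := by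
    apply Nat.Coprime.mul_left
    · exact Nat.Coprime.mul_right (hD.coprime a ha a ha).symm (hD.coprime b hb a ha).symm
    · exact Nat.Coprime.mul_right (hD.coprime a ha b hb).symm (hD.coprime b hb b hb).symm
  obtain ⟨k, hk1, hk0⟩ := Nat.chineseRemainder hcop 1 0
  have key1 : ∀ (K : Subgroup G) (c : G), c ∈ K → k ≡ 1 [MOD Nat.card K] → c ^ k = c := by
    intro K c hc hk
    have h1 : orderOf c ∣ Nat.card K := Subgroup.orderOf_dvd_natCard K hc
    conv_rhs => rw [← pow_one c]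
    exact pow_eq_pow_iff_modEq.mpr (hk.of_dvd h1)
  have key2 : ∀ (K : Subgroup G) (c : G), c ∈ K → k ≡ 0 [MOD Nat.card K] → c ^ k = 1 := by
    intro K c hc hk
    have h1 : orderOf c ∣ Nat.card K := Subgroup.orderOf_dvd_natCard K hc
    conv_rhs => rw [← pow_zero c]
    exact pow_eq_pow_iff_modEq.mpr (hk.of_dvd h1)
  refine ⟨k, fun c hc => key1 _ c hc (hk1.of_dvd (Dvd.intro _ rfl)),
    fun c hc => key1 _ c hc (hk1.of_dvd (Dvd.intro_left _ rfl)),
    fun c hc => key2 _ c hc (hk0.of_dvd (Dvd.intro _ rfl)),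
    fun c hc => key2 _ c hc (hk0.of_dvd (Dvd.intro_left _ rfl))⟩

/-- Conjugate elements of cosets `a * H a`, `b * H b` have conjugate parts. -/
theorem conj_parts [Finite G] (hD : DadeHypothesis A L H) {a b u v g : G} (ha : a ∈ A) (hb : b ∈ A)
    (hu : u ∈ H a) (hv : v ∈ H b) (h : g * (a * u) * g⁻¹ = b * v) :
    g * a * g⁻¹ = b ∧ g * u * g⁻¹ = v := by
  obtain ⟨k, hka, hkb, hku, hkv⟩ := exists_exponent hD ha hb
  have h1 : (g * (a * u) * g⁻¹) ^ k = g * a * g⁻¹ := by
    rw [conj_pow, (comm_of_mem hD ha hu).mul_pow, hka a (mem_cent_self hD ha), hku u hu, mul_one]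
  have h2 : (b * v) ^ k = b := by
    rw [(comm_of_mem hD hb hv).mul_pow, hkb b (mem_cent_self hD hb), hkv v hv, mul_one]
  have h3 : g * a * g⁻¹ = b := by rw [← h1, h, h2]
  refine ⟨h3, ?_⟩
  have h4 : g * (a * u) * g⁻¹ = (g * a * g⁻¹) * (g * u * g⁻¹) := by group
  rw [h4, h3] at h
  exact mul_left_cancel h

theorem cent_le_normalizer (hD : DadeHypothesis A L H) {a : G} (ha : a ∈ A) :
    Subgroup.centralizer ({a} : Set G) ≤ Subgroup.normalizer (H a : Set G) := by
  intro c hc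
  rw [Subgroup.mem_normalizer_iff]
  intro h
  constructor
  · exact fun hh => hD.conj_mem_H a ha c hc h hh
  · intro hh
    have h1 := hD.conj_mem_H a ha c⁻¹ (inv_mem hc) _ hh
    have h2 : c⁻¹ * (c * h * c⁻¹) * c⁻¹⁻¹ = h := by group
    rwa [h2] at h1

/-- `H a` contains every element `x` of `C_G(a)` with `x ^ n = 1`, `n` coprime to `|C_L(a)|`. -/
theorem mem_H_of_pow (hD : DadeHypothesis A L H) {a x : G} (ha : a ∈ A)
    (hx : x ∈ Subgroup.centralizer ({a} : Set G)) {n : ℕ} (hn : x ^ n = 1)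
    (hcop : Nat.Coprime n (Nat.card ↥(L ⊓ Subgroup.centralizer ({a} : Set G)))) : x ∈ H a := by
  refine SdProj.mem_left_of_pow_eq_one (N := H a) (K := L ⊓ Subgroup.centralizer ({a} : Set G))
    (inf_le_right.trans (cent_le_normalizer hD ha)) (hD.inf_eq_bot a ha) ?_ hn hcop
  rw [hD.sup_eq a ha]
  exact hx

theorem conj_mem_centralizer {a x u : G} (hu : u ∈ Subgroup.centralizer ({a} : Set G)) :
    x * u * x⁻¹ ∈ Subgroup.centralizer ({x * a * x⁻¹} : Set G) := by
  rw [Subgroup.mem_centralizer_singleton_iff] at hu ⊢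
  calc x * u * x⁻¹ * (x * a * x⁻¹) = x * (u * a) * x⁻¹ := by group
    _ = x * (a * u) * x⁻¹ := by rw [hu]
    _ = x * a * x⁻¹ * (x * u * x⁻¹) := by group

/-- An element of `H b`, `b ∈ A`, that centralises `a ∈ A` lies in `H a`. -/
theorem mem_H_of_mem_H [Finite G] (hD : DadeHypothesis A L H) {a b x : G} (ha : a ∈ A) (hb : b ∈ A)
    (hx : x ∈ H b) (hxa : x ∈ Subgroup.centralizer ({a} : Set G)) : x ∈ H a := by
  refine mem_H_of_pow hD ha hxa (n := Nat.card (H b)) ?_ (hD.coprime b hb a ha)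
  exact congrArg Subtype.val (pow_card_eq_one' (x := (⟨x, hx⟩ : H b)))

/-- Conjugation by any `x : G` carrying `a ∈ A` to `b ∈ A` maps `H a` into `H b`. -/
theorem conj_mem_H' [Finite G] (hD : DadeHypothesis A L H) {a x u : G} (ha : a ∈ A)
    (hb : x * a * x⁻¹ ∈ A) (hu : u ∈ H a) : x * u * x⁻¹ ∈ H (x * a * x⁻¹) := by
  refine mem_H_of_pow hD hb (conj_mem_centralizer (hD.le_centralizer a ha hu))
    (n := Nat.card (H a)) ?_ (hD.coprime a ha _ hb)
  have h2 : u ^ (Nat.card (H a)) = 1 :=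
    congrArg Subtype.val (pow_card_eq_one' (x := (⟨u, hu⟩ : H a)))
  rw [conj_pow, h2]; group

/-- S1498 (for any `x : G` with `x * a * x⁻¹ ∈ A`). -/
theorem H_conj [Finite G] (hD : DadeHypothesis A L H) {a x : G} (ha : a ∈ A)
    (hb : x * a * x⁻¹ ∈ A) : H (x * a * x⁻¹) = (H a).map (MulAut.conj x).toMonoidHom := by
  ext v
  rw [Subgroup.mem_map]
  constructor
  · intro hv
    refine ⟨x⁻¹ * v * x, ?_, ?_⟩
    · have h1 : x⁻¹ * (x * a * x⁻¹) * x⁻¹⁻¹ = a := by group
      have h2 := conj_mem_H' hD (x := x⁻¹) hb (by rw [h1]; exact ha) hv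
      rw [h1, inv_inv] at h2
      exact h2
    · simp only [MulEquiv.toMonoidHom_eq_coe, MonoidHom.coe_coe, MulAut.conj_apply]
      group
  · rintro ⟨u, hu, rfl⟩
    simp only [MulEquiv.toMonoidHom_eq_coe, MonoidHom.coe_coe, MulAut.conj_apply]
    exact conj_mem_H' hD ha hb hu

theorem conj_mem_A (hD : DadeHypothesis A L H) {a x : G} (ha : a ∈ A) (hx : x ∈ L) :
    x * a * x⁻¹ ∈ A := hD.conj_mem x hx a ha

theorem card_H_conj [Finite G] (hD : DadeHypothesis A L H) {a x : G} (ha : a ∈ A)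
    (hb : x * a * x⁻¹ ∈ A) : Nat.card (H (x * a * x⁻¹)) = Nat.card (H a) := by
  rw [H_conj hD ha hb]
  exact Nat.card_congr ((H a).equivMapOfInjective _ (MulAut.conj x).injective).symm.toEquiv

/-- `H a` meets `L` trivially. -/
theorem H_inf_L (hD : DadeHypothesis A L H) {a x : G} (ha : a ∈ A) (hx : x ∈ H a) (hL : x ∈ L) :
    x = 1 := by
  have h : x ∈ H a ⊓ (L ⊓ Subgroup.centralizer ({a} : Set G)) :=
    ⟨hx, hL, hD.le_centralizer a ha hx⟩
  rw [hD.inf_eq_bot a ha] at h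
  exact Subgroup.mem_bot.mp h

/-- The number of `x : G` conjugating `a ∈ A` into `A` is `|L| * |H a|`. -/
theorem card_conj_into [Finite G] (hD : DadeHypothesis A L H) {a : G} (ha : a ∈ A) :
    Nat.card {x : G // x * a * x⁻¹ ∈ A} = Nat.card L * Nat.card (H a) := by
  rw [← Nat.card_prod]
  symm
  refine Nat.card_eq_of_bijective
    (fun p : L × H a => (⟨(p.1 : G) * p.2, ?_⟩ : {x : G // x * a * x⁻¹ ∈ A})) ⟨?_, ?_⟩
  · have h1 : (p.1 : G) * p.2 * a * ((p.1 : G) * p.2)⁻¹ = p.1 * a * (p.1 : G)⁻¹ := by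
      have h2 : (p.2 : G) * a = a * p.2 := (comm_of_mem hD ha p.2.2).symm
      rw [mul_assoc (p.1 : G), h2]; group
    rw [h1]
    exact hD.conj_mem _ p.1.2 a ha
  · rintro ⟨l, h⟩ ⟨l', h'⟩ heq
    have h1 : (l : G) * h = l' * h' := congrArg Subtype.val heq
    have h2 : (l' : G)⁻¹ * l = h' * (h : G)⁻¹ := by
      rw [inv_mul_eq_iff_eq_mul, ← mul_assoc, ← h1]; group
    have h3 : (l' : G)⁻¹ * l = 1 :=
      H_inf_L hD ha (h2 ▸ mul_mem h'.2 (inv_mem h.2)) (mul_mem (inv_mem l'.2) l.2)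
    rw [h3] at h2
    have h4 : (l : G) = l' := (inv_mul_eq_one.mp h3).symm
    have h5 : (h : G) = h' := (mul_inv_eq_one.mp h2.symm).symm
    exact Prod.ext (Subtype.ext h4) (Subtype.ext h5)
  · rintro ⟨x, hx⟩
    obtain ⟨l, hl, hlx⟩ := hD.fusion a ha x hx
    have h1 : l⁻¹ * x ∈ Subgroup.centralizer ({a} : Set G) := by
      rw [Subgroup.mem_centralizer_singleton_iff]
      have h2 : l⁻¹ * x * a = l⁻¹ * (x * a * x⁻¹) * x := by group
      rw [h2, ← hlx]; group
    have h2 : (l⁻¹ * x)⁻¹ ∈ H a ⊔ (L ⊓ Subgroup.centralizer ({a} : Set G)) := by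
      rw [hD.sup_eq a ha]; exact inv_mem h1
    obtain ⟨n, hn, k, hk, h3⟩ :=
      (SdProj.mem_sup_iff (inf_le_right.trans (cent_le_normalizer hD ha))).mp h2
    refine ⟨⟨⟨l * k⁻¹, mul_mem hl (inv_mem hk.1)⟩, ⟨n⁻¹, inv_mem hn⟩⟩, Subtype.ext ?_⟩
    change l * k⁻¹ * n⁻¹ = x
    have h4 : (l⁻¹ * x) = (n * k)⁻¹ := by rw [← h3, inv_inv]
    rw [inv_mul_eq_iff_eq_mul] at h4
    rw [h4]; group

/-! ### The Dade map -/

/-- The support of the Dade map: elements conjugate into some coset `a * H a`, `a ∈ A`. -/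
def Supp (A : Set G) (H : G → Subgroup G) : Set G :=
  {g : G | ∃ a ∈ A, ∃ u ∈ H a, ∃ x : G, x * g * x⁻¹ = a * u}

/-- The Dade map is well defined on class functions. -/
theorem dadeIsometry_apply [Finite G] (hD : DadeHypothesis A L H) {α : L → ℂ}
    (hα : IsClassFunction L α) {g x u : G} (a : L) (ha : (a : G) ∈ A) (hu : u ∈ H (a : G))
    (h : x * g * x⁻¹ = (a : G) * u) : dadeIsometry A L H α g = α a := by
  have hex : ∃ a : ↥L, (a : G) ∈ A ∧ ∃ x : G, ∃ u ∈ H (a : G), x * g * x⁻¹ = (a : G) * u :=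
    ⟨a, ha, x, u, hu, h⟩
  have h1 : dadeIsometry A L H α g = α (Classical.choose hex) := dif_pos hex
  rw [h1]
  obtain ⟨hb, y, v, hv, hy⟩ := Classical.choose_spec hex
  set b := Classical.choose hex with hb'
  have h2 : (y * x⁻¹) * ((a : G) * u) * (y * x⁻¹)⁻¹ = (b : G) * v := by
    rw [← h, ← hy]; group
  obtain ⟨h3, -⟩ := conj_parts hD ha hb hu hv h2
  obtain ⟨l, hl, h4⟩ := hD.fusion a ha (y * x⁻¹) (by rw [h3]; exact hb)
  have h5 : b = (⟨l, hl⟩ : L) * a * (⟨l, hl⟩ : L)⁻¹ := by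
    apply Subtype.ext
    rw [← h3, ← h4]
    rfl
  rw [h5]
  exact hα a ⟨l, hl⟩

theorem dadeIsometry_eq_zero {α : L → ℂ} {g : G} (hg : g ∉ Supp A H) :
    dadeIsometry A L H α g = 0 := by
  refine dif_neg ?_
  rintro ⟨a, ha, x, u, hu, h⟩
  exact hg ⟨a, ha, u, hu, x, h⟩

theorem conj_mem_supp {g : G} (hg : g ∈ Supp A H) (y : G) : y * g * y⁻¹ ∈ Supp A H := by
  obtain ⟨a, ha, u, hu, x, h⟩ := hg
  refine ⟨a, ha, u, hu, x * y⁻¹, ?_⟩
  rw [← h]; group

theorem conj_mem_supp_iff {g : G} (y : G) : y * g * y⁻¹ ∈ Supp A H ↔ g ∈ Supp A H := by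
  refine ⟨fun h => ?_, fun h => conj_mem_supp h y⟩
  have h1 := conj_mem_supp h y⁻¹
  have h2 : y⁻¹ * (y * g * y⁻¹) * y⁻¹⁻¹ = g := by group
  rwa [h2] at h1

theorem dadeIsometry_isClassFunction [Finite G] (hD : DadeHypothesis A L H) {α : L → ℂ}
    (hα : IsClassFunction L α) : IsClassFunction G (dadeIsometry A L H α) := by
  intro g y
  by_cases hg : g ∈ Supp A H
  · obtain ⟨a, ha, u, hu, x, h⟩ := hg
    rw [dadeIsometry_apply hD hα ⟨a, hD.subset ha⟩ ha hu h,
      dadeIsometry_apply hD hα ⟨a, hD.subset ha⟩ ha hu (x := x * y⁻¹) (by rw [← h]; group)]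
  · rw [dadeIsometry_eq_zero hg, dadeIsometry_eq_zero
      (fun h => hg ((conj_mem_supp_iff y).mp h))]

theorem dadeIsometry_add [Finite G] (hD : DadeHypothesis A L H) {α β : L → ℂ}
    (hα : IsClassFunction L α) (hβ : IsClassFunction L β) :
    dadeIsometry A L H (α + β) = dadeIsometry A L H α + dadeIsometry A L H β := by
  funext g
  rw [Pi.add_apply]
  by_cases hg : g ∈ Supp A H
  · obtain ⟨a, ha, u, hu, x, h⟩ := hg
    have hαβ : IsClassFunction L (α + β) := fun g h => by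
      rw [Pi.add_apply, Pi.add_apply, hα, hβ]
    rw [dadeIsometry_apply hD hα ⟨a, hD.subset ha⟩ ha hu h,
      dadeIsometry_apply hD hβ ⟨a, hD.subset ha⟩ ha hu h,
      dadeIsometry_apply hD hαβ ⟨a, hD.subset ha⟩ ha hu h, Pi.add_apply]
  · rw [dadeIsometry_eq_zero hg, dadeIsometry_eq_zero hg,
      dadeIsometry_eq_zero hg, add_zero]

theorem dadeIsometry_sub [Finite G] (hD : DadeHypothesis A L H) {α β : L → ℂ}
    (hα : IsClassFunction L α) (hβ : IsClassFunction L β) :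
    dadeIsometry A L H (α - β) = dadeIsometry A L H α - dadeIsometry A L H β := by
  funext g
  rw [Pi.sub_apply]
  by_cases hg : g ∈ Supp A H
  · obtain ⟨a, ha, u, hu, x, h⟩ := hg
    have hαβ : IsClassFunction L (α - β) := fun g h => by
      rw [Pi.sub_apply, Pi.sub_apply, hα, hβ]
    rw [dadeIsometry_apply hD hα ⟨a, hD.subset ha⟩ ha hu h,
      dadeIsometry_apply hD hβ ⟨a, hD.subset ha⟩ ha hu h,
      dadeIsometry_apply hD hαβ ⟨a, hD.subset ha⟩ ha hu h, Pi.sub_apply]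
  · rw [dadeIsometry_eq_zero hg, dadeIsometry_eq_zero hg,
      dadeIsometry_eq_zero hg, sub_zero]

/-- The Dade map commutes with any pointwise operation fixing `0`. -/
theorem dadeIsometry_comp [Finite G] (hD : DadeHypothesis A L H) {α : L → ℂ}
    (hα : IsClassFunction L α) (f : ℂ → ℂ) (hf : f 0 = 0) :
    dadeIsometry A L H (fun x => f (α x)) = fun g => f (dadeIsometry A L H α g) := by
  funext g
  by_cases hg : g ∈ Supp A H
  · obtain ⟨a, ha, u, hu, x, h⟩ := hg
    have hfα : IsClassFunction L (fun x => f (α x)) := fun g h => by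
      show f (α _) = f (α _)
      rw [hα]
    rw [dadeIsometry_apply hD hα ⟨a, hD.subset ha⟩ ha hu h,
      dadeIsometry_apply hD hfα ⟨a, hD.subset ha⟩ ha hu h]
  · rw [dadeIsometry_eq_zero hg, dadeIsometry_eq_zero hg, hf]

theorem dadeIsometry_smul [Finite G] (hD : DadeHypothesis A L H) {α : L → ℂ}
    (hα : IsClassFunction L α) (c : ℂ) :
    dadeIsometry A L H (c • α) = c • dadeIsometry A L H α :=
  dadeIsometry_comp hD hα (fun z => c • z) (smul_zero c)

theorem dadeIsometry_zsmul [Finite G] (hD : DadeHypothesis A L H) {α : L → ℂ}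
    (hα : IsClassFunction L α) (n : ℤ) :
    dadeIsometry A L H (n • α) = n • dadeIsometry A L H α :=
  dadeIsometry_comp hD hα (fun z => n • z) (smul_zero n)

/-- `1` is not in the support. -/
theorem one_notMem_supp [Finite G] (hD : DadeHypothesis A L H) : (1 : G) ∉ Supp A H := by
  rintro ⟨a, ha, u, hu, x, h⟩
  have h0 : a * u = 1 := by rw [← h]; group
  have h1 : a = u⁻¹ := mul_eq_one_iff_eq_inv.mp h0
  have h3 : u⁻¹ ∈ H a := inv_mem hu
  rw [← h1] at h3
  have h2 : a = 1 := H_inf_L hD ha h3 (hD.subset ha)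
  exact hD.one_not_mem (h2 ▸ ha)

theorem dadeIsometry_one [Finite G] (hD : DadeHypothesis A L H) (α : L → ℂ) :
    dadeIsometry A L H α 1 = 0 :=
  dadeIsometry_eq_zero (one_notMem_supp hD)

/-! ### Weighted counting -/

theorem finsum_mem_eq_sum_ite {X M : Type*} [Fintype X] [AddCommMonoid M] (S : Set X)
    [DecidablePred (· ∈ S)] (f : X → M) :
    ∑ᶠ u ∈ S, f u = ∑ u : X, if u ∈ S then f u else 0 := by
  rw [finsum_eq_sum_of_fintype]
  refine Finset.sum_congr rfl fun u _ => ?_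
  rw [finsum_eq_if]

open Classical in
/-- The weight function: `|H b|⁻¹` on the coset `b * H b`, `b ∈ A`; zero off these cosets. -/
noncomputable def wt [Fintype G] (A : Set G) (H : G → Subgroup G) (y : G) : ℂ :=
  ∑ b : G, if b ∈ A ∧ b⁻¹ * y ∈ H b then (Nat.card (H b) : ℂ)⁻¹ else 0

open Classical in
theorem wt_conj [Fintype G] (hD : DadeHypothesis A L H) {a u x : G} (ha : a ∈ A) (hu : u ∈ H a) :
    wt A H (x * (a * u) * x⁻¹) = if x * a * x⁻¹ ∈ A then (Nat.card (H a) : ℂ)⁻¹ else 0 := by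
  unfold wt
  rw [Finset.sum_eq_single (x * a * x⁻¹)]
  · have h1 : (x * a * x⁻¹)⁻¹ * (x * (a * u) * x⁻¹) = x * u * x⁻¹ := by group
    rw [h1]
    by_cases hb : x * a * x⁻¹ ∈ A
    · rw [if_pos ⟨hb, conj_mem_H' hD ha hb hu⟩, if_pos hb, card_H_conj hD ha hb]
    · rw [if_neg (fun h => hb h.1), if_neg hb]
  · intro b _ hb
    refine if_neg ?_
    rintro ⟨hbA, hbu⟩
    refine hb ?_
    have h2 : x * (a * u) * x⁻¹ = b * (b⁻¹ * (x * (a * u) * x⁻¹)) := by group
    exact (conj_parts hD ha hbA hu hbu h2).1.symm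
  · intro h
    exact absurd (Finset.mem_univ _) h

theorem sum_wt_conj [Fintype G] (hD : DadeHypothesis A L H) {g : G} (hg : g ∈ Supp A H) :
    ∑ x : G, wt A H (x * g * x⁻¹) = (Nat.card L : ℂ) := by
  classical
  obtain ⟨a, ha, u, hu, y, h⟩ := hg
  have h1 : ∀ x : G, wt A H (x * g * x⁻¹) = wt A H ((x * y⁻¹) * (a * u) * (x * y⁻¹)⁻¹) := by
    intro x
    rw [← h]; congr 1; group
  simp_rw [h1]
  have h3 : ∑ x : G, wt A H ((x * y⁻¹) * (a * u) * (x * y⁻¹)⁻¹) =
      ∑ x : G, wt A H (x * (a * u) * x⁻¹) :=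
    Equiv.sum_comp (Equiv.mulRight y⁻¹) (fun x => wt A H (x * (a * u) * x⁻¹))
  rw [h3]
  simp_rw [wt_conj hD ha hu]
  rw [← Finset.sum_filter, Finset.sum_const, nsmul_eq_mul]
  have h2 : (Finset.univ.filter (fun x : G => x * a * x⁻¹ ∈ A)).card
      = Nat.card L * Nat.card (H a) := by
    rw [← card_conj_into hD ha, Nat.card_eq_fintype_card, Fintype.card_subtype]
  rw [h2, Nat.cast_mul, mul_assoc, mul_inv_cancel₀, mul_one]
  exact Nat.cast_ne_zero.mpr Nat.card_pos.ne'

open Classical in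
/-- Summing a function against the weight function. -/
theorem sum_wt_mul [Fintype G] [Fintype L] (hsub : A ⊆ (L : Set G)) (T : G → ℂ) :
    ∑ y : G, wt A H y * T y =
      ∑ a : L, if (a : G) ∈ A then (Nat.card (H (a : G)) : ℂ)⁻¹ *
        ∑ᶠ u ∈ (H (a : G) : Set G), T (a * u) else 0 := by
  have h1 : ∑ y : G, wt A H y * T y = ∑ b : G, if b ∈ A then (Nat.card (H b) : ℂ)⁻¹ *
        ∑ᶠ u ∈ (H b : Set G), T (b * u) else 0 := by
    unfold wt
    simp_rw [Finset.sum_mul]
    rw [Finset.sum_comm]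
    refine Finset.sum_congr rfl fun b _ => ?_
    by_cases hb : b ∈ A
    · rw [if_pos hb, finsum_mem_eq_sum_ite, Finset.mul_sum,
        ← Equiv.sum_comp (Equiv.mulLeft b) (fun y =>
          (if b ∈ A ∧ b⁻¹ * y ∈ H b then (Nat.card (H b) : ℂ)⁻¹ else 0) * T y)]
      refine Finset.sum_congr rfl fun u _ => ?_
      simp only [Equiv.coe_mulLeft, inv_mul_cancel_left, hb, true_and, SetLike.mem_coe]
      by_cases hu : u ∈ H b
      · rw [if_pos hu, if_pos hu]
      · rw [if_neg hu, if_neg hu, zero_mul, mul_zero]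
    · rw [if_neg hb]
      refine Finset.sum_eq_zero fun y _ => ?_
      rw [if_neg (fun h => hb h.1), zero_mul]
  rw [h1]
  symm
  refine Fintype.sum_of_injective (Subtype.val : L → G) Subtype.val_injective _ _ ?_ ?_
  · intro b hb
    refine if_neg fun h => hb ⟨⟨b, hsub h⟩, rfl⟩
  · intro a
    rfl

open Classical in
/-- Averaging a class function supported on the Dade support. -/
theorem sum_classFunction_supp [Fintype G] [Fintype L] (hD : DadeHypothesis A L H) {T : G → ℂ}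
    (hT : IsClassFunction G T) (hT0 : ∀ g, g ∉ Supp A H → T g = 0) :
    (Nat.card G : ℂ)⁻¹ * ∑ g : G, T g =
      (Nat.card L : ℂ)⁻¹ * ∑ a : L, if (a : G) ∈ A then (Nat.card (H (a : G)) : ℂ)⁻¹ *
        ∑ᶠ u ∈ (H (a : G) : Set G), T (a * u) else 0 := by
  have hG : (Nat.card G : ℂ) ≠ 0 := Nat.cast_ne_zero.mpr Nat.card_pos.ne'
  have hL : (Nat.card L : ℂ) ≠ 0 := Nat.cast_ne_zero.mpr Nat.card_pos.ne'
  have h1 : ∑ g : G, ∑ x : G, wt A H (x * g * x⁻¹) * T g = (Nat.card L : ℂ) * ∑ g : G, T g := by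
    rw [Finset.mul_sum]
    refine Finset.sum_congr rfl fun g _ => ?_
    rw [← Finset.sum_mul]
    by_cases hg : g ∈ Supp A H
    · rw [sum_wt_conj hD hg]
    · rw [hT0 g hg, mul_zero, mul_zero]
  have h2 : ∑ g : G, ∑ x : G, wt A H (x * g * x⁻¹) * T g =
      (Nat.card G : ℂ) * ∑ y : G, wt A H y * T y := by
    rw [Finset.sum_comm]
    have h3 : ∀ x : G, ∑ g : G, wt A H (x * g * x⁻¹) * T g = ∑ y : G, wt A H y * T y := by
      intro x
      have h4 : ∀ g : G, wt A H (x * g * x⁻¹) * T g =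
          wt A H (MulAut.conj x g) * T (MulAut.conj x g) := by
        intro g
        rw [MulAut.conj_apply, hT g x]
      simp_rw [h4]
      exact Equiv.sum_comp (MulAut.conj x).toEquiv (fun y => wt A H y * T y)
    simp_rw [h3]
    rw [Finset.sum_const, Finset.card_univ, nsmul_eq_mul, Nat.card_eq_fintype_card]
  rw [← sum_wt_mul hD.subset T, inv_mul_eq_iff_eq_mul₀ hG, mul_left_comm, ← h2, h1,
    inv_mul_cancel_left₀ hL]

theorem sum_dadeIsometry_mul [Fintype G] [Fintype L] (hD : DadeHypothesis A L H) {α : L → ℂ}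
    (hα : IsClassFunction L α) (hαA : ∀ x : L, (x : G) ∉ A → α x = 0) {F : G → ℂ}
    (hF : IsClassFunction G F) :
    (Nat.card G : ℂ)⁻¹ * ∑ g : G, dadeIsometry A L H α g * F g =
      (Nat.card L : ℂ)⁻¹ * ∑ a : L, α a * ((Nat.card (H (a : G)) : ℂ)⁻¹ *
        ∑ᶠ u ∈ (H (a : G) : Set G), F (a * u)) := by
  classical
  rw [sum_classFunction_supp hD (T := fun g => dadeIsometry A L H α g * F g)]
  · congr 1
    refine Finset.sum_congr rfl fun a _ => ?_
    by_cases ha : (a : G) ∈ A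
    · rw [if_pos ha, mul_left_comm (α a)]
      congr 1
      rw [finsum_mem_eq_sum_ite, finsum_mem_eq_sum_ite, Finset.mul_sum]
      refine Finset.sum_congr rfl fun u _ => ?_
      by_cases hu : u ∈ (H (a : G) : Set G)
      · rw [if_pos hu, if_pos hu, dadeIsometry_apply hD hα a ha hu (x := 1) (by group)]
      · rw [if_neg hu, if_neg hu, mul_zero]
    · rw [if_neg ha, hαA a ha, zero_mul]
  · intro g h
    show _ * _ = _ * _
    rw [dadeIsometry_isClassFunction hD hα, hF]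
  · intro g hg
    show _ * _ = _
    rw [dadeIsometry_eq_zero hg, zero_mul]

/-- Part (ii) of S1500. -/
theorem classInner_dadeIsometry_left [Fintype G] [Fintype L] (hD : DadeHypothesis A L H)
    {α : L → ℂ} (hα : IsClassFunction L α) (hαA : ∀ x : L, (x : G) ∉ A → α x = 0)
    {χ : G → ℂ} {ψ : L → ℂ} (hχ : IsClassFunction G χ)
    (hψ : ∀ a : L, (a : G) ∈ A → ψ a = (Nat.card (H a) : ℂ)⁻¹ *
      ∑ᶠ u ∈ (H a : Set G), χ (a * u)) :
    classInner (dadeIsometry A L H α) χ = classInner α ψ := by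
  classical
  unfold classInner
  rw [sum_dadeIsometry_mul hD hα hαA (F := fun g => (starRingEnd ℂ) (χ g))
    (fun g h => congrArg (starRingEnd ℂ) (hχ g h))]
  congr 1
  refine Finset.sum_congr rfl fun a _ => ?_
  by_cases ha : (a : G) ∈ A
  · rw [hψ a ha, map_mul, map_inv₀, Complex.conj_natCast, finsum_mem_eq_sum_ite,
      finsum_mem_eq_sum_ite, map_sum]
    congr 2
    refine Finset.sum_congr rfl fun u _ => ?_
    by_cases hu : u ∈ (H (a : G) : Set G)
    · rw [if_pos hu, if_pos hu]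
    · rw [if_neg hu, if_neg hu, map_zero]
  · rw [hαA a ha, zero_mul, zero_mul]

/-- Part (i) of S1500. -/
theorem classInner_dadeIsometry [Fintype G] [Fintype L] (hD : DadeHypothesis A L H)
    {α : L → ℂ} (hα : IsClassFunction L α) (hαA : ∀ x : L, (x : G) ∉ A → α x = 0)
    {β : L → ℂ} (hβ : IsClassFunction L β) :
    classInner (dadeIsometry A L H α) (dadeIsometry A L H β) = classInner α β := by
  classical
  refine classInner_dadeIsometry_left hD hα hαA (dadeIsometry_isClassFunction hD hβ) ?_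
  intro a ha
  have h1 : ∑ᶠ u ∈ (H a : Set G), dadeIsometry A L H β (a * u) =
      (Nat.card (H (a : G)) : ℂ) * β a := by
    rw [finsum_mem_eq_sum_ite]
    have h2 : ∀ u : G, (if u ∈ (H (a : G) : Set G) then dadeIsometry A L H β (a * u) else 0) =
        if u ∈ H (a : G) then β a else 0 := by
      intro u
      by_cases hu : u ∈ H (a : G)
      · rw [if_pos (show u ∈ (H (a : G) : Set G) from hu), if_pos hu,
          dadeIsometry_apply hD hβ a ha hu (x := 1) (by group)]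
      · rw [if_neg (show ¬ u ∈ (H (a : G) : Set G) from hu), if_neg hu]
    simp_rw [h2]
    rw [← Finset.sum_filter, Finset.sum_const, nsmul_eq_mul, Nat.card_eq_fintype_card,
      Fintype.card_subtype]
  rw [h1, inv_mul_cancel_left₀]
  exact Nat.cast_ne_zero.mpr Nat.card_pos.ne'

end Cfsg.Agent.OddOrderCharacters.DadeBasic
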