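import Cfsg.Agent.OddOrderCharacters.TypeExclusive
import Cfsg.Agent.OddOrderCharacters.PFDefs

/-!
Type P data give the cyclic TI hypothesis (3.1) and the prime TI hypothesis (4.2).  Unconditional.
-/

set_option autoImplicit false

namespace Cfsg.Agent.OddOrderCharacters.TypePHyp

open Cfsg Cfsg.Agent.OddOrderCharacters.TypeSetsBasic Cfsg.Agent.OddOrderCharacters.TypeExclusive
  Cfsg.Agent.OddOrderCharacters.PFDefs

universe u

variable {G : Type u} [Group G]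

theorem sup_of_isComplIn {A B M : Subgroup G} (h : IsComplIn A B M) : A ⊔ B = M := by
  refine le_antisymm (sup_le h.1 h.2.1) ?_
  intro m hm
  obtain ⟨a, ha, b, hb, rfl⟩ := h.2.2.2 m hm
  exact Subgroup.mul_mem_sup ha hb

theorem W₂_le_commutator {M W₁ U W₂ : Subgroup G} (hP : IsTypePWith M W₁ U W₂) : W₂ ≤ ⁅M, M⁆ :=
  (W₂_le_fittingHallOf hP).trans hP.U_compl.1

/-- `W₁` is a Hall subgroup of `M`: its order is prime to the order of `M'`. -/
theorem coprime_card_W₁ [Finite G] {M W₁ U W₂ : Subgroup G} (hP : IsTypePWith M W₁ U W₂) :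
    (Nat.card W₁).Coprime (Nat.card ↥⁅M, M⁆) := by
  have h1 : Nat.card ↥⁅M, M⁆ * Nat.card W₁ = Nat.card M := card_mul_of_isComplIn hP.W₁_compl
  have h2 : W₁.relIndex M * Nat.card W₁ = Nat.card M := by
    have := Subgroup.index_mul_card (W₁.subgroupOf M)
    rw [Nat.card_congr (Subgroup.subgroupOfEquivOfLe (W₁_le hP)).toEquiv] at this
    exact this
  have h3 : W₁.relIndex M = Nat.card ↥⁅M, M⁆ :=
    Nat.eq_of_mul_eq_mul_right Nat.card_pos (h2.trans h1.symm)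
  rw [← h3]
  exact hP.W₁_hall

theorem mem_centralizer_conj {c x g : G} :
    g * c * g⁻¹ ∈ Subgroup.centralizer ({g * x * g⁻¹} : Set G) ↔
      c ∈ Subgroup.centralizer ({x} : Set G) := by
  rw [mem_centralizer_singleton, mem_centralizer_singleton]
  constructor
  · intro h
    have h2 : g * (c * x) * g⁻¹ = g * (x * c) * g⁻¹ := by
      calc g * (c * x) * g⁻¹ = (g * c * g⁻¹) * (g * x * g⁻¹) := by group
        _ = (g * x * g⁻¹) * (g * c * g⁻¹) := h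
        _ = _ := by group
    exact mul_left_cancel (mul_right_cancel h2)
  · intro h
    exact conj_commute h

/-- Two choices of type P data of `M` have conjugate `W₁`, and then (same conjugating element) `W₂`. -/
theorem exists_conj_W [Finite G] {M W₁ U W₂ W₁' U' W₂' : Subgroup G}
    (hP : IsTypePWith M W₁ U W₂) (hP' : IsTypePWith M W₁' U' W₂') :
    ∃ m ∈ ⁅M, M⁆, W₁' = W₁.map (MulAut.conj m).toMonoidHom ∧
      W₂' = W₂.map (MulAut.conj m).toMonoidHom := by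
  have h1 : W₁ ≤ Subgroup.normalizer ((⁅M, M⁆ : Subgroup G) : Set G) :=
    Subgroup.le_normalizer_iff.2 fun w hw k hk => commutator_conj_mem (W₁_le hP hw) hk
  have h3 : W₁' ≤ ⁅M, M⁆ ⊔ W₁ := by
    rw [sup_of_isComplIn hP.W₁_compl]
    exact W₁_le hP'
  have h4 : Nat.card W₁' = Nat.card W₁ := by
    have h5 := card_mul_of_isComplIn hP.W₁_compl
    have h6 := card_mul_of_isComplIn hP'.W₁_compl
    exact Nat.eq_of_mul_eq_mul_left Nat.card_pos (h6.trans h5.symm)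
  have hcyc : IsCyclic W₁ := hP.W₁_cyclic
  have hsol : Group.IsSolvable W₁ :=
    let _ : CommGroup W₁ := IsCyclic.commGroup
    inferInstance
  obtain ⟨d, hd, hdW⟩ := Cfsg.Agent.S0030.exists_conj_eq W₁ ⁅M, M⁆ W₁' h1
    (coprime_card_W₁ hP) (Or.inl hsol) h3 h4
  refine ⟨d, hd, hdW.symm, ?_⟩
  obtain ⟨⟨x, hx⟩, hx1⟩ := Subgroup.ne_bot_iff_exists_ne_one.1 hP.W₁_ne
  have hx2 : x ≠ 1 := fun h => hx1 (Subtype.ext h)
  have hx' : d * x * d⁻¹ ∈ W₁' := by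
    rw [← hdW]
    exact ⟨x, hx, rfl⟩
  rw [← hP.W₂_centralizer x hx hx2, ← hP'.W₂_centralizer _ hx' (conj_ne_one hx2)]
  ext y
  constructor
  · rintro ⟨hy1, hy2⟩
    refine ⟨d⁻¹ * y * d, ⟨?_, ?_⟩, ?_⟩
    · have := (⁅M, M⁆).mul_mem ((⁅M, M⁆).mul_mem ((⁅M, M⁆).inv_mem hd) hy1) hd
      exact this
    · refine (mem_centralizer_conj (g := d)).1 ?_
      have : d * (d⁻¹ * y * d) * d⁻¹ = y := by group
      rw [this]
      exact hy2
    · show d * (d⁻¹ * y * d) * d⁻¹ = y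
      group
  · rintro ⟨c, ⟨hc1, hc2⟩, rfl⟩
    refine ⟨?_, ?_⟩
    · exact (⁅M, M⁆).mul_mem ((⁅M, M⁆).mul_mem hd hc1) ((⁅M, M⁆).inv_mem hd)
    · exact mem_centralizer_conj.2 hc2

theorem mem_cycTIset {W W₁ W₂ : Subgroup G} {w : G} :
    w ∈ cycTIset W W₁ W₂ ↔ w ∈ W ∧ w ∉ W₁ ∧ w ∉ W₂ := by
  show w ∈ ((W : Set G) \ (↑W₁ ∪ ↑W₂)) ↔ _
  simp [not_or]

/-- `A₀(M) = A(M) ∪ ⋃_{m ∈ M} m V m⁻¹` with `V = W \ (W₁ ∪ W₂)`, for any type P data of `M`. -/
theorem typeA0_eq [Finite G] {M W₁ U W₂ : Subgroup G} (hP : IsTypePWith M W₁ U W₂) :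
    typeA0 M = typeA M ∪ classSupport (cycTIset (W₁ ⊔ W₂) W₁ W₂) M := by
  have hI : ¬ IsOfTypeI M := fun h => not_isOfTypeP_of_isOfTypeI h ⟨W₁, U, W₂, hP⟩
  ext a
  rw [mem_typeA0]
  constructor
  · rintro (h | ⟨-, W₁', U', W₂', hP', m, hm, w, hw, hw1, hw2, rfl⟩)
    · exact Or.inl h
    · right
      obtain ⟨d, hd, rfl, rfl⟩ := exists_conj_W hP hP'
      rw [← Subgroup.map_sup] at hw
      obtain ⟨v, hv, rfl⟩ := hw
      refine ⟨m * d, M.mul_mem hm (commutator_le_self M hd), v, mem_cycTIset.2 ⟨hv, ?_, ?_⟩, ?_⟩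
      · exact fun h => hw1 ⟨v, h, rfl⟩
      · exact fun h => hw2 ⟨v, h, rfl⟩
      · show m * (d * v * d⁻¹) * m⁻¹ = m * d * v * (m * d)⁻¹
        group
  · rintro (h | ⟨m, hm, v, hv, rfl⟩)
    · exact Or.inl h
    · obtain ⟨h1, h2, h3⟩ := mem_cycTIset.1 hv
      exact Or.inr ⟨hI, W₁, U, W₂, hP, m, hm, v, h1, h2, h3, rfl⟩

theorem cyclicTIHyp [Finite G] (hodd : Odd (Nat.card G)) {M W₁ U W₂ : Subgroup G}
    (hP : IsTypePWith M W₁ U W₂) : CyclicTIHyp (W₁ ⊔ W₂) W₁ W₂ where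
  sup_eq := rfl
  odd := by
    rw [← Nat.not_even_iff_odd] at hodd ⊢
    intro h
    exact hodd (h.trans_dvd (Subgroup.card_subgroup_dvd_card _))
  selfNormalizing := hP.selfNormalizing

theorem primeTIHyp [Finite G] (hodd : Odd (Nat.card G)) {M W₁ U W₂ : Subgroup G}
    (hP : IsTypePWith M W₁ U W₂) : PrimeTIHyp M ⁅M, M⁆ (W₁ ⊔ W₂) W₁ W₂ where
  sup_eq := rfl
  le := commutator_le_self M
  normal := fun x hx k hk => commutator_conj_mem hx hk
  inf_eq := hP.W₁_compl.2.2.1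
  sup_L := sup_of_isComplIn hP.W₁_compl
  W₁_ne := hP.W₁_ne
  W₁_cyclic := hP.W₁_cyclic
  W₁_hall := hP.W₁_hall
  W₂_ne := hP.selfNormalizing.2.1
  W₂_cyclic := by
    have h := hP.selfNormalizing.2.2.2.2.1
    exact isCyclic_of_injective (Subgroup.inclusion (le_sup_right : W₂ ≤ W₁ ⊔ W₂))
      (Subgroup.inclusion_injective _)
  W₂_le := W₂_le_commutator hP
  centralizer_eq := hP.W₂_centralizer
  odd := (cyclicTIHyp hodd hP).odd

end Cfsg.Agent.OddOrderCharacters.TypePHyp
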