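import Mathlib

/-!
# Wielandt's fixed point formula for elementary abelian groups

`F` a finite group acting on a finite elementary abelian `r`-group `V`, `r` not dividing the order of `F`.
If the families `X i`, `Y j` of subgroups of `F` cover each element of `F` equally often, then
`∏ i, |C_V(X i)| ^ |X i| = ∏ j, |C_V(Y j)| ^ |Y j|`.

The proof lifts the action to a free `ZMod (r ^ n)`-module, `n` large, by lifting an idempotent matrix,
and uses traces.
-/

set_option autoImplicit false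

namespace Cfsg.Agent.OddOrderCharacters.WielandtElem

open Finset

section Ring

variable {r n : ℕ} [Fact r.Prime]

/-- the reduction map -/
noncomputable def red (r : ℕ) {n : ℕ} (hn : n ≠ 0) : ZMod (r ^ n) →+* ZMod r :=
  ZMod.castHom (dvd_pow_self r hn) (ZMod r)

omit [Fact r.Prime] in
theorem red_surjective (hn : n ≠ 0) : Function.Surjective (red r hn) :=
  ZMod.castHom_surjective _

theorem red_eq_zero (hn : n ≠ 0) (a : ZMod (r ^ n)) (ha : red r hn a = 0) :
    ∃ b : ZMod (r ^ n), a = (r : ZMod (r ^ n)) * b := by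
  have : NeZero (r ^ n) := ⟨pow_ne_zero _ (Fact.out : r.Prime).ne_zero⟩
  obtain ⟨m, rfl⟩ := ZMod.natCast_zmod_surjective a
  rw [map_natCast, ZMod.natCast_eq_zero_iff] at ha
  obtain ⟨c, rfl⟩ := ha
  exact ⟨c, by push_cast; rfl⟩

theorem red_r (hn : n ≠ 0) : red r hn (r : ZMod (r ^ n)) = 0 := by
  rw [map_natCast, ZMod.natCast_self]

omit [Fact r.Prime] in
theorem r_pow : (r : ZMod (r ^ n)) ^ n = 0 := by
  have := ZMod.natCast_self (r ^ n)
  push_cast at this
  exact this

theorem isNilpotent_of_red (hn : n ≠ 0) (a : ZMod (r ^ n)) (ha : red r hn a = 0) : IsNilpotent a := by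
  obtain ⟨b, rfl⟩ := red_eq_zero hn a ha
  exact ⟨n, by rw [mul_pow, r_pow, zero_mul]⟩

theorem isLocalRing (hn : n ≠ 0) : IsLocalRing (ZMod (r ^ n)) := by
  have hnt : Nontrivial (ZMod (r ^ n)) := (red r hn).domain_nontrivial
  apply IsLocalRing.of_isUnit_or_isUnit_one_sub_self
  intro a
  by_cases ha : red r hn a = 0
  · right
    exact (isNilpotent_of_red hn a ha).isUnit_one_sub
  · left
    obtain ⟨b, hb⟩ := red_surjective hn (red r hn a)⁻¹
    have h1 : red r hn (1 - a * b) = 0 := by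
      rw [map_sub, map_mul, map_one, hb, mul_inv_cancel₀ ha, sub_self]
    have h2 : IsUnit (1 - (1 - a * b)) := (isNilpotent_of_red hn _ h1).isUnit_one_sub
    rw [sub_sub_cancel] at h2
    exact isUnit_of_mul_isUnit_left h2

/-- range of an idempotent is free and the trace is its rank -/
theorem trace_idem (hn : n ≠ 0) {M : Type*} [AddCommGroup M] [Module (ZMod (r ^ n)) M]
    [Module.Free (ZMod (r ^ n)) M] [Module.Finite (ZMod (r ^ n)) M]
    (Q : M →ₗ[ZMod (r ^ n)] M) (hQ : ∀ v, Q (Q v) = Q v) :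
    Module.Free (ZMod (r ^ n)) (LinearMap.range Q) ∧
    LinearMap.trace _ _ Q = (Module.finrank (ZMod (r ^ n)) (LinearMap.range Q) : ZMod (r ^ n)) := by
  have := isLocalRing (r := r) hn
  have hproj : LinearMap.IsProj (LinearMap.range Q) Q :=
    ⟨fun x => LinearMap.mem_range_self Q x, by rintro _ ⟨v, rfl⟩; exact hQ v⟩
  have hP1 : Module.Projective (ZMod (r ^ n)) (LinearMap.range Q) := by
    apply Module.Projective.of_split (LinearMap.range Q).subtype (Q.rangeRestrict)
    ext ⟨_, v, rfl⟩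
    exact hQ v
  have hP2 : Module.Projective (ZMod (r ^ n)) (LinearMap.ker Q) := by
    apply Module.Projective.of_split (LinearMap.ker Q).subtype
      ((LinearMap.id - Q).codRestrict (LinearMap.ker Q) (fun c => by
        rw [LinearMap.mem_ker]; simp [hQ]))
    ext ⟨v, hv⟩
    rw [LinearMap.mem_ker] at hv
    simp [hv]
  have hF2 : Module.Finite (ZMod (r ^ n)) (LinearMap.ker Q) := by
    have hs : Function.Surjective ((LinearMap.id - Q).codRestrict (LinearMap.ker Q) (fun c => by
        rw [LinearMap.mem_ker]; simp [hQ])) := by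
      rintro ⟨v, hv⟩
      rw [LinearMap.mem_ker] at hv
      exact ⟨v, by apply Subtype.ext; simp [hv]⟩
    exact Module.Finite.of_surjective _ hs
  have hfree1 : Module.Free (ZMod (r ^ n)) (LinearMap.range Q) := Module.free_of_flat_of_isLocalRing
  have hfree2 : Module.Free (ZMod (r ^ n)) (LinearMap.ker Q) := Module.free_of_flat_of_isLocalRing
  exact ⟨hfree1, hproj.trace⟩

/-- order of `W / r W` for `W` free of rank `m` over `ZMod (r ^ n)` -/
theorem card_of_surj (hn : n ≠ 0) {W U : Type*} [AddCommGroup W] [Module (ZMod (r ^ n)) W]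
    [Module.Free (ZMod (r ^ n)) W] [Module.Finite (ZMod (r ^ n)) W] [AddCommGroup U]
    (g : W →+ U) (hg : Function.Surjective g)
    (hker : ∀ w, g w = 0 ↔ ∃ w', w = (r : ZMod (r ^ n)) • w') :
    Nat.card U = r ^ Module.finrank (ZMod (r ^ n)) W := by
  have hnt : Nontrivial (ZMod (r ^ n)) := (red r hn).domain_nontrivial
  set m := Module.finrank (ZMod (r ^ n)) W with hm
  let b := Module.finBasis (ZMod (r ^ n)) W
  let e := b.equivFun
  let g' : W →+ (Fin m → ZMod r) :=
    { toFun := fun w i => red r hn (e w i)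
      map_zero' := by ext i; simp
      map_add' := by intro x y; ext i; simp }
  have hg' : Function.Surjective g' := by
    intro φ
    choose c hc using red_surjective (r := r) hn
    refine ⟨e.symm (fun i => c (φ i)), ?_⟩
    ext i
    simp [g', hc]
  have hker' : ∀ w, g' w = 0 ↔ ∃ w', w = (r : ZMod (r ^ n)) • w' := by
    intro w
    constructor
    · intro h
      have h1 : ∀ i, ∃ b, e w i = (r : ZMod (r ^ n)) * b := fun i =>
        red_eq_zero hn _ (congrFun h i)
      choose c hc using h1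
      refine ⟨e.symm c, ?_⟩
      apply e.injective
      rw [map_smul, LinearEquiv.apply_symm_apply]
      ext i
      simp [hc i]
    · rintro ⟨w', rfl⟩
      ext i
      simp only [g', AddMonoidHom.coe_mk, ZeroHom.coe_mk, map_smul, Pi.smul_apply, smul_eq_mul,
        map_mul, red_r, zero_mul, Pi.zero_apply]
  have hkk : g.ker = g'.ker := by
    ext w
    rw [AddMonoidHom.mem_ker, AddMonoidHom.mem_ker, hker, hker']
  have e1 := QuotientAddGroup.quotientKerEquivOfSurjective g hg
  have e2 := QuotientAddGroup.quotientKerEquivOfSurjective g' hg'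
  rw [← Nat.card_congr e1.toEquiv, hkk, Nat.card_congr e2.toEquiv]
  simp

end Ring

section Elem

variable {F V : Type*} [Group F] [Finite F] [AddCommGroup V] {r : ℕ} [Fact r.Prime]

theorem inv_act {F V : Type*} [Group F] [AddCommGroup V] (ρ : F →* AddMonoid.End V) (x : F) (v : V) :
    ρ x⁻¹ (ρ x v) = v := by
  have h : ρ x⁻¹ * ρ x = 1 := by rw [← map_mul, inv_mul_cancel, map_one]
  exact DFunLike.congr_fun h v

theorem act_inv {F V : Type*} [Group F] [AddCommGroup V] (ρ : F →* AddMonoid.End V) (x : F) (v : V) :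
    ρ x (ρ x⁻¹ v) = v := by
  have h : ρ x * ρ x⁻¹ = 1 := by rw [← map_mul, mul_inv_cancel, map_one]
  exact DFunLike.congr_fun h v

theorem mul_act {F V : Type*} [Group F] [AddCommGroup V] (ρ : F →* AddMonoid.End V) (x y : F) (v : V) :
    ρ (x * y) v = ρ x (ρ y v) := by
  rw [map_mul]; rfl

/-- the permutation of `V` given by `x` -/
def perm {F V : Type*} [Group F] [AddCommGroup V] (ρ : F →* AddMonoid.End V) (x : F) : V ≃ V where
  toFun := ρ x
  invFun := ρ x⁻¹
  left_inv := inv_act ρ x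
  right_inv := act_inv ρ x

theorem perm_apply {F V : Type*} [Group F] [AddCommGroup V] (ρ : F →* AddMonoid.End V) (x : F) (v : V) :
    perm ρ x v = ρ x v := rfl

theorem exists_section [Fintype V] [Module (ZMod r) V] (ρ : F →* AddMonoid.End V)
    (hr : ¬ r ∣ Nat.card F) :
    ∃ s : V →ₗ[ZMod r] (V → ZMod r), (∀ v, ∑ u, s v u • u = v) ∧
      (∀ x v u, s (ρ x v) (ρ x u) = s v u) := by
  classical
  have := Fintype.ofFinite F
  have hlin : ∀ x (a : ZMod r) v, ρ x (a • v) = a • ρ x v := fun x a v => ZMod.map_smul (ρ x) a v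
  have hF : ((Fintype.card F : ℕ) : ZMod r) ≠ 0 := by
    rw [Ne, ZMod.natCast_eq_zero_iff, ← Nat.card_eq_fintype_card]
    exact hr
  let π : (V → ZMod r) →ₗ[ZMod r] V :=
    { toFun := fun φ => ∑ u, φ u • u
      map_add' := by intro φ ψ; simp [add_smul, Finset.sum_add_distrib]
      map_smul' := by intro a φ; simp [mul_smul, Finset.smul_sum] }
  have hπ : ∀ φ, π φ = ∑ u, φ u • u := fun _ => rfl
  have hπs : Function.Surjective π := by
    intro v
    refine ⟨Pi.single v 1, ?_⟩
    rw [hπ, Finset.sum_eq_single v]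
    · simp
    · intro b _ hb; simp [Pi.single_eq_of_ne hb]
    · simp
  obtain ⟨s0, hs0⟩ := π.exists_rightInverse_of_surjective (LinearMap.range_eq_top.mpr hπs)
  have hs0' : ∀ v, ∑ u, s0 v u • u = v := fun v => LinearMap.congr_fun hs0 v
  let s : V →ₗ[ZMod r] (V → ZMod r) :=
    { toFun := fun v u => ((Fintype.card F : ℕ) : ZMod r)⁻¹ * ∑ x : F, s0 (ρ x⁻¹ v) (ρ x⁻¹ u)
      map_add' := by
        intro v w
        ext u
        simp [Finset.sum_add_distrib, mul_add]
      map_smul' := by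
        intro a v
        ext u
        simp only [hlin, map_smul, Pi.smul_apply, smul_eq_mul, RingHom.id_apply, ← Finset.mul_sum]
        ring }
  have hs : ∀ v u, s v u = ((Fintype.card F : ℕ) : ZMod r)⁻¹ * ∑ x : F, s0 (ρ x⁻¹ v) (ρ x⁻¹ u) :=
    fun _ _ => rfl
  refine ⟨s, ?_, ?_⟩
  · intro v
    have h1 : ∀ x : F, ∑ u, s0 (ρ x⁻¹ v) (ρ x⁻¹ u) • u = v := by
      intro x
      have h2 : ∑ u, s0 (ρ x⁻¹ v) (ρ x⁻¹ u) • u = ∑ w, s0 (ρ x⁻¹ v) w • ρ x w := by
        rw [← Equiv.sum_comp (perm ρ x) (fun u => s0 (ρ x⁻¹ v) (ρ x⁻¹ u) • u)]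
        refine Finset.sum_congr rfl fun w _ => ?_
        rw [perm_apply, inv_act]
      rw [h2]
      have h3 : ∑ w, s0 (ρ x⁻¹ v) w • ρ x w = ρ x (∑ w, s0 (ρ x⁻¹ v) w • w) := by
        rw [map_sum]
        refine Finset.sum_congr rfl fun w _ => ?_
        rw [hlin]
      rw [h3, hs0', act_inv]
    calc ∑ u, s v u • u = ∑ u, ((Fintype.card F : ℕ) : ZMod r)⁻¹ • ∑ x : F, s0 (ρ x⁻¹ v) (ρ x⁻¹ u) • u := by
          refine Finset.sum_congr rfl fun u _ => ?_
          rw [hs, mul_smul, Finset.sum_smul]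
      _ = ((Fintype.card F : ℕ) : ZMod r)⁻¹ • ∑ x : F, ∑ u, s0 (ρ x⁻¹ v) (ρ x⁻¹ u) • u := by
          rw [← Finset.smul_sum, Finset.sum_comm]
      _ = v := by
          rw [Finset.sum_congr rfl fun x _ => h1 x]
          rw [Finset.sum_const, Finset.card_univ, ← Nat.cast_smul_eq_nsmul (ZMod r), smul_smul,
            inv_mul_cancel₀ hF, one_smul]
  · intro y v u
    rw [hs, hs]
    congr 1
    rw [← Equiv.sum_comp (Equiv.mulLeft y)]
    refine Finset.sum_congr rfl fun x _ => ?_
    have h1 : (Equiv.mulLeft y x)⁻¹ = x⁻¹ * y⁻¹ := by simp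
    rw [h1, mul_act, mul_act, inv_act, inv_act]

omit [Finite F] in
theorem exists_lift_matrix [Fintype V] [DecidableEq V] [Module (ZMod r) V]
    (ρ : F →* AddMonoid.End V) {n : ℕ} (hn : n ≠ 0)
    (s : V →ₗ[ZMod r] (V → ZMod r)) (hs1 : ∀ v, ∑ u, s v u • u = v)
    (hs2 : ∀ x v u, s (ρ x v) (ρ x u) = s v u) :
    ∃ E : Matrix V V (ZMod (r ^ n)), E * E = E ∧ (∀ x v w, E (ρ x v) (ρ x w) = E v w) ∧
      ∀ v w, red r hn (E v w) = s w v := by
  let Λ : Subring (Matrix V V (ZMod (r ^ n))) :=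
    { carrier := {M | ∀ x v w, M (ρ x v) (ρ x w) = M v w}
      mul_mem' := by
        intro M N hM hN x v w
        rw [Matrix.mul_apply, Matrix.mul_apply]
        rw [← Equiv.sum_comp (perm ρ x)]
        refine Finset.sum_congr rfl fun u _ => ?_
        rw [perm_apply, hM, hN]
      one_mem' := by
        intro x v w
        rw [Matrix.one_apply, Matrix.one_apply]
        have : (ρ x v = ρ x w) ↔ v = w := (perm ρ x).injective.eq_iff
        simp only [this]
      add_mem' := by
        intro M N hM hN x v w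
        rw [Matrix.add_apply, Matrix.add_apply, hM, hN]
      zero_mem' := by
        intro x v w; rfl
      neg_mem' := by
        intro M hM x v w
        rw [Matrix.neg_apply, Matrix.neg_apply, hM] }
  let f : Λ →+* Matrix V V (ZMod r) := (RingHom.mapMatrix (red r hn)).comp Λ.subtype
  have hf : ∀ (M : Λ) v w, f M v w = red r hn ((M : Matrix V V (ZMod (r ^ n))) v w) := fun _ _ _ => rfl
  have hnil : ∀ M ∈ RingHom.ker f, IsNilpotent M := by
    intro M hM
    rw [RingHom.mem_ker] at hM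
    have h1 : ∀ v w, ∃ b, (M : Matrix V V (ZMod (r ^ n))) v w = (r : ZMod (r ^ n)) * b := by
      intro v w
      apply red_eq_zero hn
      rw [← hf, hM]; rfl
    choose b hb using h1
    refine ⟨n, ?_⟩
    apply Subtype.ext
    have h2 : (M : Matrix V V (ZMod (r ^ n))) = (r : ZMod (r ^ n)) • (Matrix.of b) := by
      ext v w
      rw [hb]; rfl
    rw [Subring.coe_pow, h2, smul_pow, r_pow, zero_smul]
    rfl
  choose c hc using red_surjective (r := r) hn
  let e : Matrix V V (ZMod r) := Matrix.of (fun v w => s w v)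
  have hes : ∀ v w, e v w = s w v := fun _ _ => rfl
  have he : e ∈ f.range := by
    refine ⟨⟨Matrix.of (fun v w => c (s w v)), ?_⟩, ?_⟩
    · intro x v w
      change c (s (ρ x w) (ρ x v)) = c (s w v)
      rw [hs2]
    · ext v w
      rw [hf]
      change red r hn (c (s w v)) = s w v
      rw [hc]
  have he' : IsIdempotentElem e := by
    rw [IsIdempotentElem]
    ext v w
    rw [Matrix.mul_apply]
    simp only [hes]
    have h1 : s w v = s (∑ u, s w u • u) v := by rw [hs1]
    rw [h1, map_sum, Finset.sum_apply]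
    refine Finset.sum_congr rfl fun u _ => ?_
    rw [map_smul, Pi.smul_apply, smul_eq_mul, mul_comm]
  obtain ⟨E, hE1, hE2⟩ := exists_isIdempotentElem_eq_of_ker_isNilpotent f hnil e he he'
  refine ⟨E, ?_, E.2, ?_⟩
  · have := congrArg Subtype.val hE1
    exact this
  · intro v w
    rw [← hf, hE2, hes]

/-- The fixed points of `A`. -/
def fix (ρ : F →* AddMonoid.End V) (A : Subgroup F) : AddSubgroup V where
  carrier := {v | ∀ x ∈ A, ρ x v = v}
  zero_mem' := fun x _ => map_zero _
  add_mem' := by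
    intro v w hv hw x hx
    rw [map_add, hv x hx, hw x hx]
  neg_mem' := by
    intro v hv x hx
    rw [map_neg, hv x hx]

theorem key_aux [Fintype V] [DecidableEq V] [Module (ZMod r) V] (ρ : F →* AddMonoid.End V)
    (hr : ¬ r ∣ Nat.card F) {n : ℕ} (hn : n ≠ 0) :
    ∃ t : F → ZMod (r ^ n), ∀ (A : Subgroup F) [Fintype A], ∃ m : ℕ,
      Nat.card (fix ρ A) = r ^ m ∧
      (Nat.card A : ZMod (r ^ n)) * m = ∑ x : A, t x := by
  obtain ⟨s, hs1, hs2⟩ := exists_section (r := r) ρ hr
  obtain ⟨E, hE1, hE2, hE3⟩ := exists_lift_matrix ρ hn s hs1 hs2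
  let R := ZMod (r ^ n)
  let T : (V → R) →ₗ[R] (V → R) := Matrix.toLin' E
  have hTa : ∀ φ v, T φ v = ∑ w, E v w * φ w := by
    intro φ v
    rw [Matrix.toLin'_apply]; rfl
  have hTT : ∀ φ, T (T φ) = T φ := by
    intro φ
    have : T ∘ₗ T = T := by rw [← Matrix.toLin'_mul, hE1]
    exact LinearMap.congr_fun this φ
  let L : F → (V → R) →ₗ[R] (V → R) := fun x => LinearMap.funLeft R R (ρ x⁻¹)
  have hLa : ∀ x φ v, L x φ v = φ (ρ x⁻¹ v) := fun x φ v => rfl
  have hTL : ∀ x φ, T (L x φ) = L x (T φ) := by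
    intro x φ
    ext v
    rw [hTa, hLa, hTa, ← Equiv.sum_comp (perm ρ x)]
    refine Finset.sum_congr rfl fun u _ => ?_
    rw [perm_apply, hLa, inv_act, ← hE2 x (ρ x⁻¹ v) u, act_inv]
  have hLm : ∀ x y φ, L (x * y) φ = L x (L y φ) := by
    intro x y φ
    ext v
    rw [hLa, hLa, hLa, mul_inv_rev, mul_act]
  refine ⟨fun x => LinearMap.trace R (V → R) (L x ∘ₗ T), ?_⟩
  intro A _
  -- the inverse of the order of `A`
  have hAr : ¬ r ∣ Nat.card A := fun h => hr (h.trans (Subgroup.card_subgroup_dvd_card A))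
  obtain ⟨ai, hai⟩ : ∃ ai : R, ai * (Nat.card A : R) = 1 := by
    have hcop : Nat.Coprime (Nat.card A) (r ^ n) := by
      apply Nat.Coprime.pow_right
      exact (((Fact.out : r.Prime).coprime_iff_not_dvd).mpr hAr).symm
    have hu := (ZMod.isUnit_iff_coprime (Nat.card A) (r ^ n)).mpr hcop
    obtain ⟨u, hu⟩ := hu
    exact ⟨((u⁻¹ : Rˣ) : R), by rw [← hu, Units.inv_mul]⟩
  let Q : (V → R) →ₗ[R] (V → R) := ai • ∑ x : A, L x ∘ₗ T
  have hQa : ∀ φ, Q φ = ai • ∑ x : A, L x (T φ) := by
    intro φ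
    simp only [Q, LinearMap.smul_apply, LinearMap.sum_apply, LinearMap.comp_apply]
  have hLQ : ∀ y ∈ A, ∀ φ, L y (Q φ) = Q φ := by
    intro y hy φ
    rw [hQa, map_smul, map_sum]
    congr 1
    have h1 : ∀ x : A, L y (L x (T φ)) = L ((⟨y, hy⟩ * x : A) : F) (T φ) := by
      intro x; rw [← hLm]; rfl
    rw [Finset.sum_congr rfl fun x _ => h1 x]
    exact Equiv.sum_comp (Equiv.mulLeft (⟨y, hy⟩ : A)) (fun x : A => L (x : F) (T φ))
  have hTQ : ∀ φ, T (Q φ) = Q φ := by
    intro φ
    rw [hQa, map_smul, map_sum]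
    congr 1
    refine Finset.sum_congr rfl fun x _ => ?_
    rw [hTL, hTT]
  have hQQ : ∀ φ, Q (Q φ) = Q φ := by
    intro φ
    rw [hQa (Q φ), hTQ]
    rw [Finset.sum_congr rfl fun (x : A) _ => hLQ x x.2 φ]
    rw [Finset.sum_const, Finset.card_univ, ← Nat.card_eq_fintype_card, ← Nat.cast_smul_eq_nsmul R,
      smul_smul, hai, one_smul]
  obtain ⟨hfree, htr⟩ := trace_idem (r := r) hn Q hQQ
  refine ⟨Module.finrank R (LinearMap.range Q), ?_, ?_⟩
  swap
  · rw [← htr]
    simp only [Q]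
    rw [map_smul, map_sum, smul_eq_mul, ← mul_assoc, mul_comm (Nat.card A : R) ai, hai, one_mul]
  -- the map to the fixed points
  let p : (V → R) →+ V :=
    { toFun := fun φ => ∑ u, red r hn (φ u) • u
      map_zero' := by simp
      map_add' := by intro φ ψ; simp [add_smul, Finset.sum_add_distrib] }
  have hpa : ∀ φ, p φ = ∑ u, red r hn (φ u) • u := fun _ => rfl
  have hps : ∀ (a : R) φ, p (a • φ) = red r hn a • p φ := by
    intro a φ
    rw [hpa, hpa, Finset.smul_sum]
    refine Finset.sum_congr rfl fun u _ => ?_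
    rw [Pi.smul_apply, smul_eq_mul, map_mul, mul_smul]
  have hpL : ∀ x φ, p (L x φ) = ρ x (p φ) := by
    intro x φ
    rw [hpa, hpa, map_sum, ← Equiv.sum_comp (perm ρ x)]
    refine Finset.sum_congr rfl fun u _ => ?_
    rw [perm_apply, hLa, inv_act]
    exact (ZMod.map_smul (ρ x) _ _).symm
  have hredT : ∀ φ v, red r hn (T φ v) = s (p φ) v := by
    intro φ v
    rw [hTa, map_sum, hpa, map_sum, Finset.sum_apply]
    refine Finset.sum_congr rfl fun u _ => ?_
    rw [map_mul, hE3, map_smul, Pi.smul_apply, smul_eq_mul, mul_comm]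
  have hpT : ∀ φ, p (T φ) = p φ := by
    intro φ
    rw [hpa]
    rw [Finset.sum_congr rfl fun u _ => by rw [hredT]]
    exact hs1 _
  let g : LinearMap.range Q →+ fix ρ A :=
    { toFun := fun φ => ⟨p φ.1, by
        obtain ⟨φ, ψ, rfl⟩ := φ
        intro x hx
        rw [← hpL, hLQ x hx]⟩
      map_zero' := by apply Subtype.ext; simp
      map_add' := by intro φ ψ; apply Subtype.ext; simp }
  have hga : ∀ φ, (g φ : V) = p φ.1 := fun _ => rfl
  refine card_of_surj hn g ?_ ?_
  · rintro ⟨v, hv⟩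
    choose c hc using red_surjective (r := r) hn
    refine ⟨⟨Q (fun u => c (s v u)), LinearMap.mem_range_self _ _⟩, ?_⟩
    apply Subtype.ext
    rw [hga]
    change p (Q _) = v
    have hpv : p (fun u => c (s v u)) = v := by
      rw [hpa]
      simp only [hc]
      exact hs1 v
    rw [hQa, hps, map_sum]
    have h1 : ∀ x : A, p (L x (T (fun u => c (s v u)))) = v := by
      intro x
      rw [hpL, hpT, hpv]
      exact hv x x.2
    rw [Finset.sum_congr rfl fun x _ => h1 x]
    rw [Finset.sum_const, Finset.card_univ, ← Nat.card_eq_fintype_card,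
      ← Nat.cast_smul_eq_nsmul (ZMod r), smul_smul]
    have h2 : red r hn ai * (Nat.card A : ZMod r) = 1 := by
      rw [← map_natCast (red r hn), ← map_mul, hai, map_one]
    rw [h2, one_smul]
  · rintro ⟨φ, hφ⟩
    have hQφ : Q φ = φ := by
      obtain ⟨ψ, rfl⟩ := hφ
      exact hQQ ψ
    constructor
    · intro h0
      have hp0 : p φ = 0 := by
        have := congrArg Subtype.val h0
        exact this
      have hTφ : T φ = φ := by rw [← hQφ, hTQ]
      have h1 : ∀ v, ∃ b, φ v = (r : R) * b := by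
        intro v
        apply red_eq_zero hn
        rw [← hTφ, hredT, hp0, map_zero]; rfl
      choose b hb using h1
      refine ⟨⟨Q b, LinearMap.mem_range_self _ _⟩, ?_⟩
      apply Subtype.ext
      change φ = (r : R) • Q b
      have h2 : φ = (r : R) • b := by
        ext v
        rw [hb]; rfl
      rw [← map_smul, ← h2, hQφ]
    · rintro ⟨⟨ψ, hψ⟩, hw⟩
      have hw' : φ = (r : R) • ψ := congrArg Subtype.val hw
      apply Subtype.ext
      rw [hga]
      change p φ = 0
      rw [hw', hps, red_r, zero_smul]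

theorem exists_exponent [Finite V] (hV : ∀ v : V, r • v = 0) (ρ : F →* AddMonoid.End V)
    (hr : ¬ r ∣ Nat.card F) :
    ∃ d : Subgroup F → ℕ, (∀ A, Nat.card (fix ρ A) = r ^ d A) ∧
      ∀ n, n ≠ 0 → ∃ t : F → ZMod (r ^ n), ∀ (A : Subgroup F) [Fintype A],
        (Nat.card A : ZMod (r ^ n)) * d A = ∑ x : A, t x := by
  classical
  have := Fintype.ofFinite F
  have := Fintype.ofFinite V
  let _ : Module (ZMod r) V := AddCommGroup.zmodModule hV
  obtain ⟨t0, ht0⟩ := key_aux (r := r) ρ hr one_ne_zero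
  choose d hd hd2 using fun A : Subgroup F => ht0 A
  refine ⟨d, hd, ?_⟩
  intro n hn
  obtain ⟨t, ht⟩ := key_aux (r := r) ρ hr hn
  refine ⟨t, ?_⟩
  intro A _
  obtain ⟨m, hm1, hm2⟩ := ht A
  have : d A = m := by
    rw [hd A] at hm1
    exact Nat.pow_right_injective (Fact.out : r.Prime).two_le hm1
  rw [this]; exact hm2

theorem sum_aux {F : Type*} [Group F] [Fintype F] {r n : ℕ} (d : Subgroup F → ℕ)
    (t : F → ZMod (r ^ n))
    (ht : ∀ (A : Subgroup F) [Fintype A], (Nat.card A : ZMod (r ^ n)) * d A = ∑ x : A, t x)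
    {K : Type*} [Fintype K] (Z : K → Subgroup F) :
      ((∑ i, Nat.card (Z i) * d (Z i) : ℕ) : ZMod (r ^ n)) =
        ∑ f : F, (Nat.card {i // f ∈ Z i} : ZMod (r ^ n)) * t f := by
  classical
  push_cast
  have h1 : ∀ i, (Nat.card (Z i) : ZMod (r ^ n)) * (d (Z i) : ZMod (r ^ n)) =
      ∑ f : F, if f ∈ Z i then t f else 0 := by
    intro i
    rw [ht (Z i)]
    rw [← Finset.sum_filter]
    rw [← Finset.sum_subtype (Finset.univ.filter (fun f => f ∈ Z i)) (by simp) t]
  rw [Finset.sum_congr rfl fun i _ => h1 i, Finset.sum_comm]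
  refine Finset.sum_congr rfl fun f _ => ?_
  rw [Nat.card_eq_fintype_card, Fintype.card_subtype, ← Finset.sum_filter, Finset.sum_const,
    nsmul_eq_mul]

/-- Wielandt's formula for elementary abelian groups, additive form. -/
theorem sum_eq_sum {F : Type*} [Group F] [Finite F] {r : ℕ} [Fact r.Prime] (d : Subgroup F → ℕ)
    (hd : ∀ n, n ≠ 0 → ∃ t : F → ZMod (r ^ n), ∀ (A : Subgroup F) [Fintype A],
        (Nat.card A : ZMod (r ^ n)) * d A = ∑ x : A, t x)
    {I J : Type*} [Fintype I] [Fintype J] (X : I → Subgroup F) (Y : J → Subgroup F)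
    (hXY : ∀ f : F, Nat.card {i // f ∈ X i} = Nat.card {j // f ∈ Y j}) :
    ∑ i, Nat.card (X i) * d (X i) = ∑ j, Nat.card (Y j) * d (Y j) := by
  classical
  have := Fintype.ofFinite F
  set a := ∑ i, Nat.card (X i) * d (X i) with ha
  set b := ∑ j, Nat.card (Y j) * d (Y j) with hb
  obtain ⟨t, ht⟩ := hd (a + b + 1) (by omega)
  have h1 : (a : ZMod (r ^ (a + b + 1))) = b := by
    rw [ha, hb, sum_aux d t ht X, sum_aux d t ht Y]
    refine Finset.sum_congr rfl fun f _ => ?_
    rw [hXY]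
  have hlt : a + b + 1 < r ^ (a + b + 1) := Nat.lt_pow_self (Fact.out : r.Prime).one_lt
  rw [ZMod.natCast_eq_natCast_iff] at h1
  exact Nat.ModEq.eq_of_lt_of_lt h1 (by omega) (by omega)

/-- **Wielandt's fixed point formula** for elementary abelian groups. -/
theorem prod_eq_prod [Finite V] (hV : ∀ v : V, r • v = 0) (ρ : F →* AddMonoid.End V)
    (hr : ¬ r ∣ Nat.card F)
    {I J : Type*} [Fintype I] [Fintype J] (X : I → Subgroup F) (Y : J → Subgroup F)
    (hXY : ∀ f : F, Nat.card {i // f ∈ X i} = Nat.card {j // f ∈ Y j}) :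
    ∏ i, Nat.card {v : V // ∀ x ∈ X i, ρ x v = v} ^ Nat.card (X i) =
      ∏ j, Nat.card {v : V // ∀ x ∈ Y j, ρ x v = v} ^ Nat.card (Y j) := by
  obtain ⟨d, hd1, hd2⟩ := exists_exponent (r := r) hV ρ hr
  have h1 : ∀ A : Subgroup F, Nat.card {v : V // ∀ x ∈ A, ρ x v = v} ^ Nat.card A =
      r ^ (Nat.card A * d A) := by
    intro A
    have h2 : Nat.card {v : V // ∀ x ∈ A, ρ x v = v} = r ^ d A := hd1 A
    rw [h2, ← pow_mul, mul_comm]
  simp only [h1]
  rw [Finset.prod_pow_eq_pow_sum, Finset.prod_pow_eq_pow_sum, sum_eq_sum (r := r) d hd2 X Y hXY]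

end Elem

end Cfsg.Agent.OddOrderCharacters.WielandtElem
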