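import Mathlib
import Cfsg.Agent.OddOrderCharacters.WielandtElem
import Cfsg.Agent.Solvable.Glauberman

/-!
# Wielandt's fixed point formula for coprime action on solvable groups

`F` and `H` are subgroups of a finite group, `F` normalises `H`, the orders are coprime, `H` is solvable.
If the families `X i`, `Y j` of subgroups of `F` cover each element equally often, then
`∏ i, |C_H(X i)| ^ |X i| = ∏ j, |C_H(Y j)| ^ |Y j|`.
-/

set_option autoImplicit false

namespace Cfsg.Agent.OddOrderCharacters.Wielandt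

open Cfsg.Agent.Solvable.Glauberman Cfsg.Agent.OddOrderCharacters
open scoped Pointwise

/-- An `A`-invariant coset of `N` in `H` contains an element centralised by `A` (coprime action, `H` solvable). -/
theorem exists_mem_centralizer {G : Type*} [Group G] [Finite G] (A H N : Subgroup G)
    (hAH : A ≤ Subgroup.normalizer (H : Set G)) (hAN : A ≤ Subgroup.normalizer (N : Set G)) (hNH : N ≤ H)
    (hcop : (Nat.card A).Coprime (Nat.card H)) (hsolv : Group.IsSolvable H)
    {k : G} (hk : k ∈ H) (hfix : ∀ a ∈ A, a * k * a⁻¹ * k⁻¹ ∈ N) :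
    ∃ n ∈ N, n * k ∈ Subgroup.centralizer (A : Set G) := by
  have hcopN : (Nat.card A).Coprime (Nat.card N) :=
    Nat.Coprime.coprime_dvd_right (Subgroup.card_dvd_of_le hNH) hcop
  have hsolvN : Group.IsSolvable N :=
    Group.isSolvable_of_isSolvable_injective (f := Subgroup.inclusion hNH) (Subgroup.inclusion_injective hNH)
  have hB : MulAut.conj k • A ≤ A ⊔ N := by
    intro g hg
    rw [Subgroup.mem_smul_pointwise_iff_exists] at hg
    obtain ⟨a, ha, rfl⟩ := hg
    change k * a * k⁻¹ ∈ A ⊔ N
    have h1 := N.inv_mem (hfix a ha)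
    have h2 : k * a * k⁻¹ = (a * k * a⁻¹ * k⁻¹)⁻¹ * a := by group
    rw [h2]
    exact Subgroup.mul_mem _ (Subgroup.mem_sup_right h1) (Subgroup.mem_sup_left ha)
  have hBcard : Nat.card (MulAut.conj k • A : Subgroup G) = Nat.card A :=
    Nat.card_congr (Subgroup.equivSMul (MulAut.conj k) A).symm.toEquiv
  obtain ⟨n, hn, hnA⟩ := exists_conj_of_le_sup A N hAN hcopN (Or.inr hsolvN) _ hB hBcard
  have hdisj : Disjoint A H := Subgroup.disjoint_of_coprime_natCard hcop
  refine ⟨n⁻¹, N.inv_mem hn, ?_⟩
  apply mem_centralizer_of_normalizes A H hAH hdisj (H.mul_mem (H.inv_mem (hNH hn)) hk)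
  intro a ha
  have h1 : k * a * k⁻¹ ∈ MulAut.conj n • A := by
    rw [hnA]
    exact Subgroup.smul_mem_pointwise_smul a (MulAut.conj k) A ha
  rw [Subgroup.mem_smul_pointwise_iff_exists] at h1
  obtain ⟨b, hb, hb2⟩ := h1
  have hb3 : n * b * n⁻¹ = k * a * k⁻¹ := hb2
  have h2 : n⁻¹ * k * a * (n⁻¹ * k)⁻¹ = b := by
    have h3 : n⁻¹ * k * a * (n⁻¹ * k)⁻¹ = n⁻¹ * (k * a * k⁻¹) * n := by group
    rw [h3, ← hb3]; group
  rw [h2]; exact hb

/-- Counting fixed points through a homomorphism `π` of `H` onto `V` with kernel `N`, compatible with the action. -/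
theorem card_inf_centralizer {G : Type*} [Group G] [Finite G] (A H N : Subgroup G)
    (hAH : A ≤ Subgroup.normalizer (H : Set G)) (hAN : A ≤ Subgroup.normalizer (N : Set G)) (hNH : N ≤ H)
    (hcop : (Nat.card A).Coprime (Nat.card H)) (hsolv : Group.IsSolvable H)
    {V : Type*} [Group V] (π : H →* V) (hπ : Function.Surjective π) (hker : ∀ h : H, π h = 1 ↔ (h : G) ∈ N)
    (act : G → V → V) (hact : ∀ a ∈ A, ∀ h h' : H, (h' : G) = a * h * a⁻¹ → π h' = act a (π h)) :
    Nat.card ↥(H ⊓ Subgroup.centralizer (A : Set G)) =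
      Nat.card ↥(N ⊓ Subgroup.centralizer (A : Set G)) * Nat.card {v : V // ∀ a ∈ A, act a v = v} := by
  set C := H ⊓ Subgroup.centralizer (A : Set G) with hC
  let f : C →* V := π.comp (Subgroup.inclusion inf_le_left)
  have hf : ∀ c : C, f c = π ⟨c, (Subgroup.mem_inf.mp c.2).1⟩ := fun _ => rfl
  have h1 : Nat.card f.ker * Nat.card f.range = Nat.card C := by
    rw [← Subgroup.index_ker f]
    exact Subgroup.card_mul_index f.ker
  have h2 : Nat.card f.ker = Nat.card ↥(N ⊓ Subgroup.centralizer (A : Set G)) := by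
    refine Nat.card_congr
      { toFun := fun c => ⟨c.1.1, ?_⟩
        invFun := fun n => ⟨⟨n.1, ?_⟩, ?_⟩
        left_inv := fun _ => rfl
        right_inv := fun _ => rfl }
    · refine Subgroup.mem_inf.mpr ⟨?_, (Subgroup.mem_inf.mp c.1.2).2⟩
      have h3 := c.2
      rw [MonoidHom.mem_ker, hf, hker] at h3
      exact h3
    · exact Subgroup.mem_inf.mpr ⟨hNH (Subgroup.mem_inf.mp n.2).1, (Subgroup.mem_inf.mp n.2).2⟩
    · rw [MonoidHom.mem_ker, hf, hker]
      exact (Subgroup.mem_inf.mp n.2).1
  have h3 : Nat.card f.range = Nat.card {v : V // ∀ a ∈ A, act a v = v} := by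
    refine Nat.card_congr (Equiv.subtypeEquivRight ?_)
    intro v
    rw [MonoidHom.mem_range]
    constructor
    · rintro ⟨c, rfl⟩ a ha
      rw [hf, ← hact a ha ⟨c, (Subgroup.mem_inf.mp c.2).1⟩ ⟨c, (Subgroup.mem_inf.mp c.2).1⟩]
      have := Subgroup.mem_centralizer_iff.mp (Subgroup.mem_inf.mp c.2).2 a ha
      change (c : G) = a * c * a⁻¹
      rw [this]; group
    · intro hv
      obtain ⟨h, rfl⟩ := hπ v
      have h4 : ∀ a ∈ A, a * (h : G) * a⁻¹ * (h : G)⁻¹ ∈ N := by
        intro a ha
        have h5 : a * (h : G) * a⁻¹ ∈ H := (Subgroup.mem_normalizer_iff.mp (hAH ha) h).mp h.2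
        have h6 := hact a ha h ⟨_, h5⟩ rfl
        rw [hv a ha] at h6
        have h7 : π (⟨_, h5⟩ * h⁻¹) = 1 := by rw [map_mul, h6, map_inv, mul_inv_cancel]
        rw [hker] at h7
        exact h7
      obtain ⟨n, hn, hnc⟩ := exists_mem_centralizer A H N hAH hAN hNH hcop hsolv h.2 h4
      have h8 : n * (h : G) ∈ H := H.mul_mem (hNH hn) h.2
      refine ⟨⟨n * h, Subgroup.mem_inf.mpr ⟨h8, hnc⟩⟩, ?_⟩
      rw [hf]
      have h9 : (⟨n * h, h8⟩ : H) = ⟨n, hNH hn⟩ * h := rfl
      change π ⟨n * h, h8⟩ = π h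
      rw [h9, map_mul, (hker ⟨n, hNH hn⟩).mpr hn, one_mul]
  rw [← h1, h2, h3]

/-- A nontrivial finite solvable group has a proper characteristic subgroup with elementary abelian quotient. -/
theorem exists_characteristic {H : Type*} [Group H] [Finite H] [Nontrivial H] (hsolv : Group.IsSolvable H) :
    ∃ (N : Subgroup H) (r : ℕ), N.Characteristic ∧ r.Prime ∧ r ∣ Nat.card H ∧ N ≠ ⊤ ∧
      (∀ h, h ^ r ∈ N) ∧ ∀ h k, h * k * h⁻¹ * k⁻¹ ∈ N := by
  have hab : Nontrivial (Abelianization H) := by
    have h1 : commutator H ≠ ⊤ := (Group.IsSolvable.commutator_lt_top_of_nontrivial H).ne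
    have h2 : Nontrivial (H ⧸ commutator H) := QuotientGroup.nontrivial_iff.mpr h1
    exact h2
  have hcard : Nat.card (Abelianization H) ≠ 1 := by
    intro h
    have := (Nat.card_eq_one_iff_unique.mp h).1
    exact not_subsingleton _ this
  obtain ⟨r, hr, hrd⟩ := Nat.exists_prime_and_dvd hcard
  have : Fact r.Prime := ⟨hr⟩
  let P : Subgroup (Abelianization H) := (powMonoidHom r : Abelianization H →* Abelianization H).range
  let N : Subgroup H := P.comap Abelianization.of
  have hmem : ∀ h, h ∈ N ↔ ∃ y : Abelianization H, y ^ r = Abelianization.of h := fun h => Iff.rfl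
  refine ⟨N, r, ?_, hr, ?_, ?_, ?_, ?_⟩
  · rw [Subgroup.characteristic_iff_le_comap]
    intro φ h hh
    rw [hmem] at hh
    rw [Subgroup.mem_comap, hmem]
    obtain ⟨y, hy⟩ := hh
    refine ⟨Abelianization.map φ.toMonoidHom y, ?_⟩
    rw [← map_pow, hy, Abelianization.map_of]
  · exact hrd.trans (Subgroup.card_quotient_dvd_card (commutator H))
  · intro htop
    have hPtop : Function.Surjective (powMonoidHom r : Abelianization H →* Abelianization H) := by
      intro y
      obtain ⟨h, rfl⟩ : ∃ h, Abelianization.of h = y := QuotientGroup.mk_surjective y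
      have : h ∈ N := by rw [htop]; trivial
      exact (hmem h).mp this
    have hfin : Finite (Abelianization H) := by
      change Finite (H ⧸ commutator H)
      infer_instance
    have hinj := Finite.injective_iff_surjective.mpr hPtop
    obtain ⟨y, hy⟩ := exists_prime_orderOf_dvd_card' (G := Abelianization H) r hrd
    have h1 : y ^ r = 1 := by rw [← hy]; exact pow_orderOf_eq_one y
    have h2 : y = 1 := by
      apply hinj
      change y ^ r = 1 ^ r
      rw [h1, one_pow]
    rw [h2, orderOf_one] at hy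
    exact hr.one_lt.ne hy
  · intro h
    rw [hmem]
    exact ⟨Abelianization.of h, by rw [map_pow]⟩
  · intro h k
    rw [hmem]
    refine ⟨1, ?_⟩
    rw [one_pow, map_mul, map_mul, map_mul, map_inv, map_inv]
    rw [mul_comm (Abelianization.of h), mul_assoc, mul_assoc, mul_inv_cancel_left, mul_inv_cancel]

theorem wielandt_aux {G : Type*} [Group G] [Finite G] (F : Subgroup G)
    {I J : Type*} [Fintype I] [Fintype J] (X : I → Subgroup G) (Y : J → Subgroup G)
    (hX : ∀ i, X i ≤ F) (hY : ∀ j, Y j ≤ F)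
    (hXY : ∀ f : G, Nat.card {i // f ∈ X i} = Nat.card {j // f ∈ Y j}) (n : ℕ) :
    ∀ H : Subgroup G, Nat.card H = n → F ≤ Subgroup.normalizer (H : Set G) →
    (Nat.card F).Coprime (Nat.card H) → Group.IsSolvable H →
    ∏ i, Nat.card ↥(H ⊓ Subgroup.centralizer (X i : Set G)) ^ Nat.card (X i) =
      ∏ j, Nat.card ↥(H ⊓ Subgroup.centralizer (Y j : Set G)) ^ Nat.card (Y j) := by
  induction n using Nat.strong_induction_on with
  | _ n ih =>
  intro H hHn hFH hcop hsolv
  rcases eq_or_ne H ⊥ with rfl | hH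
  · have h1 : ∀ A : Subgroup G, Nat.card ↥((⊥ : Subgroup G) ⊓ Subgroup.centralizer (A : Set G)) = 1 := by
      intro A
      rw [bot_inf_eq, Subgroup.card_bot]
    simp only [h1, one_pow, Finset.prod_const_one]
  have hnt : Nontrivial H := (Subgroup.nontrivial_iff_ne_bot H).mpr hH
  obtain ⟨N', r, hchar, hr, hrH, hNtop, hpow, hcomm⟩ := exists_characteristic (H := H) hsolv
  have : Fact r.Prime := ⟨hr⟩
  have hN'n : N'.Normal := inferInstance
  set N : Subgroup G := N'.map H.subtype with hN
  have hNH : N ≤ H := Subgroup.map_subtype_le N'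
  have hmemN : ∀ h : H, (h : G) ∈ N ↔ h ∈ N' := by
    intro h
    rw [hN, Subgroup.mem_map]
    constructor
    · rintro ⟨k, hk, hkh⟩
      have : k = h := Subtype.ext hkh
      rwa [← this]
    · intro hh
      exact ⟨h, hh, rfl⟩
  -- the action on `H`
  let φ : F →* MulAut H := (H.normalizerMonoidHom).comp (Subgroup.inclusion hFH)
  have hφ : ∀ (x : F) (h : H), ((φ x h : H) : G) = x * h * (x : G)⁻¹ := fun _ _ => rfl
  have hφN : ∀ x : F, N' ≤ N'.comap (φ x).toMonoidHom := by
    intro x
    exact Subgroup.characteristic_iff_le_comap.mp hchar (φ x)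
  have hFN : F ≤ Subgroup.normalizer (N : Set G) := by
    have key : ∀ x ∈ F, ∀ g ∈ N, x * g * x⁻¹ ∈ N := by
      intro x hx g hg
      have hgH : g ∈ H := hNH hg
      have h1 : φ ⟨x, hx⟩ ⟨g, hgH⟩ ∈ N' := hφN ⟨x, hx⟩ ((hmemN ⟨g, hgH⟩).mp hg)
      exact (hmemN _).mpr h1
    intro x hx
    rw [Subgroup.mem_normalizer_iff]
    intro g
    constructor
    · exact key x hx g
    · intro hg
      have h2 := key x⁻¹ (F.inv_mem hx) _ hg
      have h3 : x⁻¹ * (x * g * x⁻¹) * x⁻¹⁻¹ = g := by group
      rwa [h3] at h2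
  -- the quotient
  let _ : CommGroup (H ⧸ N') :=
    { (inferInstance : Group (H ⧸ N')) with
      mul_comm := by
        intro a b
        induction a using QuotientGroup.induction_on with
        | H a =>
        induction b using QuotientGroup.induction_on with
        | H b =>
        rw [← QuotientGroup.mk_mul, ← QuotientGroup.mk_mul, QuotientGroup.eq]
        have := hcomm b⁻¹ a⁻¹
        have h2 : (a * b)⁻¹ * (b * a) = b⁻¹ * a⁻¹ * b⁻¹⁻¹ * a⁻¹⁻¹ := by group
        rw [h2]; exact this }
  let V := Additive (H ⧸ N')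
  let ρ : F →* AddMonoid.End V :=
    { toFun := fun x => MonoidHom.toAdditive (QuotientGroup.map N' N' (φ x).toMonoidHom (hφN x))
      map_one' := by
        ext v
        induction v using Additive.rec with
        | ofMul v =>
        induction v using QuotientGroup.induction_on with
        | H v =>
        change Additive.ofMul (QuotientGroup.mk (φ 1 v)) = Additive.ofMul (QuotientGroup.mk v)
        rw [map_one]; rfl
      map_mul' := by
        intro x y
        ext v
        induction v using Additive.rec with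
        | ofMul v =>
        induction v using QuotientGroup.induction_on with
        | H v =>
        change Additive.ofMul (QuotientGroup.mk (φ (x * y) v)) =
          Additive.ofMul (QuotientGroup.mk (φ x (φ y v)))
        rw [map_mul]; rfl }
  have hV : ∀ v : V, r • v = 0 := by
    intro v
    induction v using Additive.rec with
    | ofMul v =>
    induction v using QuotientGroup.induction_on with
    | H v =>
    change Additive.ofMul ((QuotientGroup.mk v : H ⧸ N') ^ r) = Additive.ofMul 1
    congr 1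
    rw [← QuotientGroup.mk_pow, QuotientGroup.eq_one_iff]
    exact hpow v
  have hfinV : Finite V := inferInstanceAs (Finite (H ⧸ N'))
  have hrF : ¬ r ∣ Nat.card F := by
    intro h
    have := Nat.dvd_gcd h hrH
    rw [hcop] at this
    exact hr.one_lt.ne' (Nat.dvd_one.mp this)
  -- the elementary abelian case
  have helem := WielandtElem.prod_eq_prod (r := r) hV ρ hrF
    (fun i => (X i).subgroupOf F) (fun j => (Y j).subgroupOf F) (fun f => hXY f)
  -- counting
  have hcount : ∀ A : Subgroup G, A ≤ F →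
      Nat.card ↥(H ⊓ Subgroup.centralizer (A : Set G)) =
      Nat.card ↥(N ⊓ Subgroup.centralizer (A : Set G)) *
        Nat.card {v : V // ∀ x ∈ A.subgroupOf F, ρ x v = v} := by
    classical
    intro A hA
    have h1 := card_inf_centralizer A H N (hA.trans hFH) (hA.trans hFN) hNH
      (Nat.Coprime.coprime_dvd_left (Subgroup.card_dvd_of_le hA) hcop) hsolv
      (QuotientGroup.mk' N') (QuotientGroup.mk'_surjective N')
      (fun h => by
        rw [hmemN]
        exact QuotientGroup.eq_one_iff h)
      (fun a v => if ha : a ∈ F then (ρ ⟨a, ha⟩ (Additive.ofMul v)).toMul else v)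
      (by
        intro a ha h h' hh'
        rw [dif_pos (hA ha)]
        have h2 : h' = φ ⟨a, hA ha⟩ h := Subtype.ext (by rw [hh', hφ])
        rw [h2]; rfl)
    rw [h1]
    congr 1
    refine Nat.card_congr (Equiv.subtypeEquiv Additive.ofMul ?_)
    intro v
    constructor
    · intro hv x hx
      have h2 := hv x hx
      rw [dif_pos x.2] at h2
      exact congrArg Additive.ofMul h2
    · intro hv a ha
      rw [dif_pos (hA ha)]
      exact congrArg Additive.toMul (hv ⟨a, hA ha⟩ ha)
  -- induction
  have hNlt : Nat.card N < n := by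
    rw [← hHn]
    apply Nat.lt_of_le_of_ne (Subgroup.card_le_of_le hNH)
    intro h
    apply hNtop
    have h2 : N = H := Subgroup.eq_of_le_of_card_ge hNH h.ge
    rw [eq_top_iff]
    intro h _
    rw [← hmemN, h2]
    exact h.2
  have hsolvN : Group.IsSolvable N :=
    Group.isSolvable_of_isSolvable_injective (f := Subgroup.inclusion hNH) (Subgroup.inclusion_injective hNH)
  have hind := ih (Nat.card N) hNlt N rfl hFN
    (Nat.Coprime.coprime_dvd_right (Subgroup.card_dvd_of_le hNH) hcop) hsolvN
  have hcardsub : ∀ A : Subgroup G, A ≤ F → Nat.card (A.subgroupOf F) = Nat.card A := by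
    intro A hA
    exact Nat.card_congr (Subgroup.subgroupOfEquivOfLe hA).toEquiv
  calc ∏ i, Nat.card ↥(H ⊓ Subgroup.centralizer (X i : Set G)) ^ Nat.card (X i)
      = (∏ i, Nat.card ↥(N ⊓ Subgroup.centralizer (X i : Set G)) ^ Nat.card (X i)) *
        ∏ i, Nat.card {v : V // ∀ x ∈ (X i).subgroupOf F, ρ x v = v} ^ Nat.card ((X i).subgroupOf F) := by
        rw [← Finset.prod_mul_distrib]
        refine Finset.prod_congr rfl fun i _ => ?_
        rw [hcount _ (hX i), mul_pow, hcardsub _ (hX i)]
    _ = (∏ j, Nat.card ↥(N ⊓ Subgroup.centralizer (Y j : Set G)) ^ Nat.card (Y j)) *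
        ∏ j, Nat.card {v : V // ∀ x ∈ (Y j).subgroupOf F, ρ x v = v} ^ Nat.card ((Y j).subgroupOf F) := by
        rw [hind, helem]
    _ = ∏ j, Nat.card ↥(H ⊓ Subgroup.centralizer (Y j : Set G)) ^ Nat.card (Y j) := by
        rw [← Finset.prod_mul_distrib]
        refine Finset.prod_congr rfl fun j _ => ?_
        rw [hcount _ (hY j), mul_pow, hcardsub _ (hY j)]

/-- **Wielandt's fixed point formula**: `F` normalises the solvable group `H` of coprime order; if the families
`X i`, `Y j` of subgroups of `F` cover each element equally often then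
`∏ i, |C_H(X i)| ^ |X i| = ∏ j, |C_H(Y j)| ^ |Y j|`. -/
theorem wielandt {G : Type*} [Group G] [Finite G] (F H : Subgroup G)
    (hFH : F ≤ Subgroup.normalizer (H : Set G)) (hcop : (Nat.card F).Coprime (Nat.card H))
    (hsolv : Group.IsSolvable H)
    {I J : Type*} [Fintype I] [Fintype J] (X : I → Subgroup G) (Y : J → Subgroup G)
    (hX : ∀ i, X i ≤ F) (hY : ∀ j, Y j ≤ F)
    (hXY : ∀ f : G, Nat.card {i // f ∈ X i} = Nat.card {j // f ∈ Y j}) :
    ∏ i, Nat.card ↥(H ⊓ Subgroup.centralizer (X i : Set G)) ^ Nat.card (X i) =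
      ∏ j, Nat.card ↥(H ⊓ Subgroup.centralizer (Y j : Set G)) ^ Nat.card (Y j) :=
  wielandt_aux F X Y hX hY hXY (Nat.card H) H rfl hFH hcop hsolv

end Cfsg.Agent.OddOrderCharacters.Wielandt
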