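import Mathlib
import Cfsg.Prelude.Def_OddOrder
import Cfsg.Prelude.Def_OddOrderLocal

/-!
Basic API for `M_F`, `M_s`, `A₁(M)`, `A(M)`, `A₀(M)` and `R(x)` of `Def_OddOrderLocal`: containment in `M`,
invariance under conjugation by `M`, the identity is not in the sets, unfolding lemmas.
No deep facts about minimal simple groups are used here.
-/

set_option autoImplicit false

namespace Cfsg.Agent.OddOrderCharacters.TypeSetsBasic

open Cfsg

variable {G : Type*} [Group G]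

/-- the image in `G` of a normal subgroup of `M` is conjugation invariant under `M` -/
theorem map_subtype_conj_mem {M : Subgroup G} (N : Subgroup M) [hN : N.Normal] {m x : G}
    (hm : m ∈ M) (hx : x ∈ N.map M.subtype) : m * x * m⁻¹ ∈ N.map M.subtype := by
  obtain ⟨y, hy, rfl⟩ := hx
  exact ⟨⟨m, hm⟩ * y * ⟨m, hm⟩⁻¹, hN.conj_mem y hy _, rfl⟩

theorem map_subtype_le' {M : Subgroup G} (N : Subgroup M) : N.map M.subtype ≤ M := by
  rintro _ ⟨y, -, rfl⟩
  exact y.2

theorem fittingHallOf_le (M : Subgroup G) : fittingHallOf M ≤ M := map_subtype_le' _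

theorem fittingHallOf_conj_mem {M : Subgroup G} {m x : G} (hm : m ∈ M) (hx : x ∈ fittingHallOf M) :
    m * x * m⁻¹ ∈ fittingHallOf M := map_subtype_conj_mem _ hm hx

theorem le_normalizer_fittingHallOf (M : Subgroup G) :
    M ≤ Subgroup.normalizer (fittingHallOf M : Set G) :=
  Subgroup.le_normalizer_iff.2 fun _ hm _ hx => fittingHallOf_conj_mem hm hx

theorem fittingOf_le (M : Subgroup G) : fittingOf M ≤ M := map_subtype_le' _

theorem commutator_conj_mem {M : Subgroup G} {m x : G} (hm : m ∈ M) (hx : x ∈ ⁅M, M⁆) :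
    m * x * m⁻¹ ∈ ⁅M, M⁆ := by
  have h1 : m * x * m⁻¹ ∈ ⁅M, M⁆.map (MulAut.conj m).toMonoidHom :=
    ⟨x, hx, rfl⟩
  have h2 : M.map (MulAut.conj m).toMonoidHom = M := by
    ext y
    constructor
    · rintro ⟨z, hz, rfl⟩
      exact M.mul_mem (M.mul_mem hm hz) (M.inv_mem hm)
    · intro hy
      refine ⟨m⁻¹ * y * m, M.mul_mem (M.mul_mem (M.inv_mem hm) hy) hm, ?_⟩
      show m * (m⁻¹ * y * m) * m⁻¹ = y
      group
  rw [Subgroup.map_commutator, h2] at h1
  exact h1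

theorem commutator_le_self (M : Subgroup G) : ⁅M, M⁆ ≤ M :=
  Subgroup.commutator_le.2 fun a ha b hb => by
    rw [commutatorElement_def]
    exact M.mul_mem (M.mul_mem (M.mul_mem ha hb) (M.inv_mem ha)) (M.inv_mem hb)

/-- `M_s` is `M'` or `M_F`. -/
theorem typeCore_eq (M : Subgroup G) :
    typeCore M = ⁅M, M⁆ ∨ typeCore M = fittingHallOf M := by
  by_cases h : IsOfTypeIII M ∨ IsOfTypeIV M
  · exact Or.inl (if_pos h)
  · exact Or.inr (if_neg h)

theorem typeCore_of_three_or_four {M : Subgroup G} (h : IsOfTypeIII M ∨ IsOfTypeIV M) :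
    typeCore M = ⁅M, M⁆ := if_pos h

theorem typeCore_of_not {M : Subgroup G} (h : ¬ (IsOfTypeIII M ∨ IsOfTypeIV M)) :
    typeCore M = fittingHallOf M := if_neg h

theorem typeCore_le (M : Subgroup G) : typeCore M ≤ M := by
  rcases typeCore_eq M with h | h <;> rw [h]
  · exact commutator_le_self M
  · exact fittingHallOf_le M

theorem typeCore_conj_mem {M : Subgroup G} {m x : G} (hm : m ∈ M) (hx : x ∈ typeCore M) :
    m * x * m⁻¹ ∈ typeCore M := by
  rcases typeCore_eq M with h | h <;> rw [h] at hx ⊢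
  · exact commutator_conj_mem hm hx
  · exact fittingHallOf_conj_mem hm hx

theorem mem_typeA1 {M : Subgroup G} {x : G} : x ∈ typeA1 M ↔ x ∈ typeCore M ∧ x ≠ 1 := by
  show x ∈ ((typeCore M : Set G) \ {1}) ↔ _
  simp

theorem typeA_of_I {M : Subgroup G} (h : IsOfTypeI M) :
    typeA M = {a | a ∈ M ∧ a ≠ 1 ∧ ∃ x ∈ fittingHallOf M, x ≠ 1 ∧ a * x = x * a} := if_pos h

theorem typeA_of_not_I {M : Subgroup G} (h : ¬ IsOfTypeI M) :
    typeA M = {a | a ∈ ⁅M, M⁆ ∧ a ≠ 1 ∧ ∃ x ∈ typeCore M, x ≠ 1 ∧ a * x = x * a} := if_neg h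

theorem mem_typeA_of_I {M : Subgroup G} (h : IsOfTypeI M) {a : G} :
    a ∈ typeA M ↔ a ∈ M ∧ a ≠ 1 ∧ ∃ x ∈ fittingHallOf M, x ≠ 1 ∧ a * x = x * a := by
  rw [typeA_of_I h]; rfl

theorem mem_typeA_of_not_I {M : Subgroup G} (h : ¬ IsOfTypeI M) {a : G} :
    a ∈ typeA M ↔ a ∈ ⁅M, M⁆ ∧ a ≠ 1 ∧ ∃ x ∈ typeCore M, x ≠ 1 ∧ a * x = x * a := by
  rw [typeA_of_not_I h]; rfl

theorem mem_typeA0 {M : Subgroup G} {a : G} :
    a ∈ typeA0 M ↔ a ∈ typeA M ∨ (¬ IsOfTypeI M ∧ ∃ W₁ U W₂ : Subgroup G, IsTypePWith M W₁ U W₂ ∧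
      ∃ m ∈ M, ∃ w ∈ W₁ ⊔ W₂, w ∉ W₁ ∧ w ∉ W₂ ∧ a = m * w * m⁻¹) := Iff.rfl

theorem typeA_subset_typeA0 (M : Subgroup G) : typeA M ⊆ typeA0 M :=
  Set.subset_union_left

theorem typeA0_of_I {M : Subgroup G} (h : IsOfTypeI M) : typeA0 M = typeA M := by
  ext a
  rw [mem_typeA0]
  constructor
  · rintro (h1 | ⟨h1, -⟩)
    · exact h1
    · exact absurd h h1
  · exact Or.inl

theorem typeA_subset (M : Subgroup G) : typeA M ⊆ (M : Set G) := by
  intro a ha
  by_cases h : IsOfTypeI M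
  · exact ((mem_typeA_of_I h).1 ha).1
  · exact commutator_le_self M ((mem_typeA_of_not_I h).1 ha).1

theorem one_not_mem_typeA (M : Subgroup G) : (1 : G) ∉ typeA M := by
  intro ha
  by_cases h : IsOfTypeI M
  · exact ((mem_typeA_of_I h).1 ha).2.1 rfl
  · exact ((mem_typeA_of_not_I h).1 ha).2.1 rfl

theorem one_not_mem_typeA1 (M : Subgroup G) : (1 : G) ∉ typeA1 M := fun h => (mem_typeA1.1 h).2 rfl

theorem W₁_le {M W₁ U W₂ : Subgroup G} (h : IsTypePWith M W₁ U W₂) : W₁ ≤ M := h.W₁_compl.2.1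

theorem W₂_le_fittingHallOf {M W₁ U W₂ : Subgroup G} (h : IsTypePWith M W₁ U W₂) :
    W₂ ≤ fittingHallOf M := h.W₂_le.trans inf_le_left

theorem W₂_le {M W₁ U W₂ : Subgroup G} (h : IsTypePWith M W₁ U W₂) : W₂ ≤ M :=
  (W₂_le_fittingHallOf h).trans (fittingHallOf_le M)

theorem one_not_mem_typeA0 (M : Subgroup G) : (1 : G) ∉ typeA0 M := by
  rw [mem_typeA0]
  rintro (h | ⟨-, W₁, U, W₂, -, m, -, w, -, hw1, -, hw⟩)
  · exact one_not_mem_typeA M h
  · apply hw1
    have : w = 1 := by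
      have h2 : w = m⁻¹ * (m * w * m⁻¹) * m := by group
      rw [← hw] at h2
      simpa using h2
    rw [this]
    exact W₁.one_mem

theorem typeA0_subset (M : Subgroup G) : typeA0 M ⊆ (M : Set G) := by
  intro a
  rw [mem_typeA0]
  rintro (h | ⟨-, W₁, U, W₂, hP, m, hm, w, hw, -, -, rfl⟩)
  · exact typeA_subset M h
  · exact M.mul_mem (M.mul_mem hm ((sup_le (W₁_le hP) (W₂_le hP)) hw)) (M.inv_mem hm)

theorem conj_ne_one {g x : G} (hx : x ≠ 1) : g * x * g⁻¹ ≠ 1 :=
  fun h => hx (conj_eq_one_iff.1 h)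

theorem conj_commute {g a x : G} (h : a * x = x * a) :
    (g * a * g⁻¹) * (g * x * g⁻¹) = (g * x * g⁻¹) * (g * a * g⁻¹) := by
  have : g * (a * x) * g⁻¹ = g * (x * a) * g⁻¹ := by rw [h]
  calc (g * a * g⁻¹) * (g * x * g⁻¹) = g * (a * x) * g⁻¹ := by group
    _ = g * (x * a) * g⁻¹ := this
    _ = _ := by group

theorem typeA1_subset (M : Subgroup G) : typeA1 M ⊆ (M : Set G) := fun _ h =>
  typeCore_le M (mem_typeA1.1 h).1

theorem typeA1_conj_mem {M : Subgroup G} {m a : G} (hm : m ∈ M) (ha : a ∈ typeA1 M) :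
    m * a * m⁻¹ ∈ typeA1 M := by
  rw [mem_typeA1] at ha ⊢
  exact ⟨typeCore_conj_mem hm ha.1, conj_ne_one ha.2⟩

theorem typeA_conj_mem {M : Subgroup G} {m a : G} (hm : m ∈ M) (ha : a ∈ typeA M) :
    m * a * m⁻¹ ∈ typeA M := by
  by_cases h : IsOfTypeI M
  · rw [mem_typeA_of_I h] at ha ⊢
    obtain ⟨h1, h2, x, hx, hx1, hax⟩ := ha
    exact ⟨M.mul_mem (M.mul_mem hm h1) (M.inv_mem hm), conj_ne_one h2, m * x * m⁻¹,
      fittingHallOf_conj_mem hm hx, conj_ne_one hx1, conj_commute hax⟩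
  · rw [mem_typeA_of_not_I h] at ha ⊢
    obtain ⟨h1, h2, x, hx, hx1, hax⟩ := ha
    exact ⟨commutator_conj_mem hm h1, conj_ne_one h2, m * x * m⁻¹,
      typeCore_conj_mem hm hx, conj_ne_one hx1, conj_commute hax⟩

theorem typeA0_conj_mem {M : Subgroup G} {m a : G} (hm : m ∈ M) (ha : a ∈ typeA0 M) :
    m * a * m⁻¹ ∈ typeA0 M := by
  rw [mem_typeA0] at ha ⊢
  rcases ha with ha | ⟨h, W₁, U, W₂, hP, n, hn, w, hw, hw1, hw2, rfl⟩
  · exact Or.inl (typeA_conj_mem hm ha)
  · refine Or.inr ⟨h, W₁, U, W₂, hP, m * n, M.mul_mem hm hn, w, hw, hw1, hw2, ?_⟩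
    group

/-- The centraliser of the conjugated element. -/
theorem mem_centralizer_singleton {a c : G} :
    c ∈ Subgroup.centralizer ({a} : Set G) ↔ c * a = a * c := by
  rw [Subgroup.mem_centralizer_iff]
  constructor
  · intro h; exact (h a rfl).symm
  · rintro h b rfl
    exact h.symm

open scoped Classical in
theorem supportR_def (M : Subgroup G) (x : G) : supportR M x =
    if h : ¬ Subgroup.centralizer ({x} : Set G) ≤ M ∧
      ∃! L : Subgroup G, IsCoatom L ∧ Subgroup.centralizer ({x} : Set G) ≤ L then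
    fittingHallOf (Classical.choose h.2.exists) ⊓ Subgroup.centralizer ({x} : Set G)
  else ⊥ := rfl

theorem supportR_le_centralizer (M : Subgroup G) (x : G) :
    supportR M x ≤ Subgroup.centralizer ({x} : Set G) := by
  rw [supportR_def]
  split_ifs with h
  · exact inf_le_right
  · exact bot_le

theorem supportR_of_centralizer_le {M : Subgroup G} {x : G}
    (h : Subgroup.centralizer ({x} : Set G) ≤ M) : supportR M x = ⊥ := by
  rw [supportR_def]
  exact dif_neg fun h' => h'.1 h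

/-- If `C_G(x) ⊄ M` lies in the unique maximal subgroup `L` then `R(x) = C_{L_F}(x)`. -/
theorem supportR_of_unique {M L : Subgroup G} {x : G}
    (h : ¬ Subgroup.centralizer ({x} : Set G) ≤ M) (hL : IsCoatom L)
    (hxL : Subgroup.centralizer ({x} : Set G) ≤ L)
    (hu : ∀ L' : Subgroup G, IsCoatom L' → Subgroup.centralizer ({x} : Set G) ≤ L' → L' = L) :
    supportR M x = fittingHallOf L ⊓ Subgroup.centralizer ({x} : Set G) := by
  have hex : ∃! L : Subgroup G, IsCoatom L ∧ Subgroup.centralizer ({x} : Set G) ≤ L :=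
    ⟨L, ⟨hL, hxL⟩, fun L' hL' => hu L' hL'.1 hL'.2⟩
  have h2 : ¬ Subgroup.centralizer ({x} : Set G) ≤ M ∧
      ∃! L : Subgroup G, IsCoatom L ∧ Subgroup.centralizer ({x} : Set G) ≤ L := ⟨h, hex⟩
  rw [supportR_def]
  rw [dif_pos h2]
  have h3 := Classical.choose_spec h2.2.exists
  rw [hu _ h3.1 h3.2]

/-- A maximal subgroup of a simple group normalising a set `A ⊆ M` which contains a non-identity element is
the full normaliser of `A`. -/
theorem normalizer_eq_of_coatom [IsSimpleGroup G] {M : Subgroup G} (hM : IsCoatom M) {A : Set G}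
    (hAM : A ⊆ (M : Set G)) (hA : ∀ m ∈ M, ∀ a ∈ A, m * a * m⁻¹ ∈ A) {a : G} (ha : a ∈ A)
    (ha1 : a ≠ 1) : Subgroup.normalizer A = M := by
  have h1 : M ≤ Subgroup.normalizer A := Subgroup.le_set_normalizer_iff.2 hA
  rcases hM.le_iff.1 h1 with h2 | h2
  · exfalso
    have h3 : Subgroup.normalizer (Subgroup.closure A : Set G) = ⊤ :=
      top_le_iff.1 (h2 ▸ Subgroup.normalizer_le_normalizer_closure A)
    have h4 : (Subgroup.closure A).Normal := Subgroup.normalizer_eq_top_iff.1 h3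
    have h5 : Subgroup.closure A ≤ M := (Subgroup.closure_le M).2 hAM
    rcases h4.eq_bot_or_eq_top with h6 | h6
    · apply ha1
      have : a ∈ Subgroup.closure A := Subgroup.subset_closure ha
      rw [h6] at this
      exact Subgroup.mem_bot.1 this
    · rw [h6] at h5
      exact hM.1 (top_le_iff.1 h5)
  · exact h2

end Cfsg.Agent.OddOrderCharacters.TypeSetsBasic
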