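import Mathlib.RepresentationTheory.Character
import Mathlib.RepresentationTheory.Irreducible
import Mathlib.Analysis.Complex.Basic
import Cfsg.Prelude.Def_Characters
import Cfsg.Agent.Characters.Galois

/-!
# Twisting a complex representation by an automorphism of the field of complex numbers

For `σ : ℂ ≃+* ℂ` and a (irreducible) character `χ` of `G` the function `σ ∘ χ` is again a
(irreducible) character of `G`.
-/

set_option autoImplicit false
open Cfsg

namespace Cfsg.Agent.OddOrderCharacters.GaloisTwist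

universe u

variable {G : Type u} [Group G]

/-- The matrix representation obtained by applying `σ` to all matrix entries. -/
noncomputable def twist (σ : ℂ ≃+* ℂ) {n : ℕ} (ρ : Representation ℂ G (Fin n → ℂ)) :
    Representation ℂ G (Fin n → ℂ) where
  toFun g := Matrix.toLin' ((LinearMap.toMatrix' (ρ g)).map σ)
  map_one' := by
    rw [map_one, LinearMap.toMatrix'_one, Matrix.map_one σ (map_zero σ) (map_one σ),
      Matrix.toLin'_one]
    rfl
  map_mul' a b := by
    have h : ((LinearMap.toMatrix' (ρ a) * LinearMap.toMatrix' (ρ b)).map σ) =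
        (LinearMap.toMatrix' (ρ a)).map σ * (LinearMap.toMatrix' (ρ b)).map σ :=
      Matrix.map_mul (f := (σ : ℂ →+* ℂ))
    rw [map_mul, LinearMap.toMatrix'_mul, h, Matrix.toLin'_mul]
    rfl

theorem twist_apply (σ : ℂ ≃+* ℂ) {n : ℕ} (ρ : Representation ℂ G (Fin n → ℂ)) (g : G)
    (v : Fin n → ℂ) : twist σ ρ g (fun i => σ (v i)) = fun i => σ (ρ g v i) := by
  funext i
  show (Matrix.toLin' ((LinearMap.toMatrix' (ρ g)).map σ)) (fun i => σ (v i)) i = _
  rw [Matrix.toLin'_apply]
  have h : ρ g v = (LinearMap.toMatrix' (ρ g)).mulVec v := by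
    rw [LinearMap.toMatrix'_mulVec]
  rw [h]
  simp only [Matrix.mulVec, dotProduct, Matrix.map_apply, map_sum, map_mul]

theorem twist_character (σ : ℂ ≃+* ℂ) {n : ℕ} (ρ : Representation ℂ G (Fin n → ℂ)) (g : G) :
    (twist σ ρ).character g = σ (ρ.character g) := by
  have h1 : (twist σ ρ).character g = ((LinearMap.toMatrix' (ρ g)).map σ).trace := by
    show LinearMap.trace ℂ _ (Matrix.toLin' ((LinearMap.toMatrix' (ρ g)).map σ)) = _
    rw [Matrix.trace_toLin'_eq]
  have h2 : ρ.character g = (LinearMap.toMatrix' (ρ g)).trace := by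
    rw [Representation.character, LinearMap.trace_eq_matrix_trace ℂ (Pi.basisFun ℂ (Fin n))]
    rfl
  rw [h1, h2]
  simp only [Matrix.trace, Matrix.diag, Matrix.map_apply, map_sum]

/-- A Galois conjugate of a character is a character. -/
theorem isCharacter_map (σ : ℂ ≃+* ℂ) {χ : G → ℂ} (h : IsCharacter G χ) :
    IsCharacter G (fun g => σ (χ g)) := by
  obtain ⟨n, ρ, rfl⟩ := h
  exact ⟨n, twist σ ρ, funext fun g => twist_character σ ρ g⟩

/-- The twist of an irreducible representation is irreducible. -/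
theorem twist_isIrreducible (σ : ℂ ≃+* ℂ) {n : ℕ} (ρ : Representation ℂ G (Fin n → ℂ))
    (h : ρ.IsIrreducible) : (twist σ ρ).IsIrreducible := by
  -- the semilinear bijection `v ↦ σ ∘ v`
  let s : (Fin n → ℂ) →ₛₗ[(σ : ℂ →+* ℂ)] (Fin n → ℂ) :=
    { toFun := fun v i => σ (v i)
      map_add' := fun v w => by
        funext i
        simp
      map_smul' := fun c v => by
        funext i
        simp }
  have hs : ∀ v, s v = fun i => σ (v i) := fun _ => rfl
  have hsurj : Function.Surjective s := fun w =>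
    ⟨fun i => σ.symm (w i), by rw [hs]; funext i; simp⟩
  have hcomm : ∀ (g : G) (v : Fin n → ℂ), s (ρ g v) = twist σ ρ g (s v) := fun g v => by
    rw [hs, hs, twist_apply]
  have hmem : ∀ (τ : Subrepresentation (twist σ ρ)) (g : G) ⦃v : Fin n → ℂ⦄,
      v ∈ τ.toSubmodule.comap s → ρ g v ∈ τ.toSubmodule.comap s := by
    intro τ g v hv
    rw [Submodule.mem_comap, hcomm]
    exact τ.apply_mem_toSubmodule g hv
  have hinj : Function.Injective (fun S : Submodule ℂ (Fin n → ℂ) => S.comap s) := by
    intro S T hST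
    ext w
    obtain ⟨v, rfl⟩ := hsurj w
    have := congrArg (fun U : Submodule ℂ (Fin n → ℂ) => v ∈ U) hST
    exact this.to_iff
  refine
    { exists_pair_ne := ⟨⊥, ⊤, fun hbt => ?_⟩
      eq_bot_or_eq_top := fun τ => ?_ }
  · obtain ⟨x, y, hxy⟩ := h.exists_pair_ne
    have h1 : (⊥ : Submodule ℂ (Fin n → ℂ)) = ⊤ := congrArg Subrepresentation.toSubmodule hbt
    have hW : Subsingleton (Fin n → ℂ) :=
      (Submodule.subsingleton_iff ℂ).1 (subsingleton_of_bot_eq_top h1)
    exact hxy (Subrepresentation.toSubmodule_injective (Subsingleton.elim _ _))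
  · rcases h.eq_bot_or_eq_top ⟨τ.toSubmodule.comap s, hmem τ⟩ with h1 | h1
    · left
      apply Subrepresentation.toSubmodule_injective
      have h2 : τ.toSubmodule.comap s = ⊥ := congrArg Subrepresentation.toSubmodule h1
      show τ.toSubmodule = (⊥ : Submodule ℂ (Fin n → ℂ))
      rw [eq_bot_iff]
      intro w hw
      obtain ⟨v, rfl⟩ := hsurj w
      have h3 : v ∈ (⊥ : Submodule ℂ (Fin n → ℂ)) := by rw [← h2]; exact hw
      rw [Submodule.mem_bot] at h3
      rw [h3, map_zero]
      exact Submodule.zero_mem _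
    · right
      apply Subrepresentation.toSubmodule_injective
      apply hinj
      exact (congrArg Subrepresentation.toSubmodule h1 : τ.toSubmodule.comap s = ⊤)

/-- A Galois conjugate of an irreducible character is an irreducible character. -/
theorem isIrrCharacter_map (σ : ℂ ≃+* ℂ) {χ : G → ℂ} (h : IsIrrCharacter G χ) :
    IsIrrCharacter G (fun g => σ (χ g)) := by
  obtain ⟨n, ρ, hρ, rfl⟩ := h
  exact ⟨n, twist σ ρ, twist_isIrreducible σ ρ hρ, funext fun g => twist_character σ ρ g⟩

/-- An irreducible character is irreducible iff its Galois conjugate is. -/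
theorem isIrrCharacter_map_iff (σ : ℂ ≃+* ℂ) {χ : G → ℂ} :
    IsIrrCharacter G (fun g => σ (χ g)) ↔ IsIrrCharacter G χ := by
  refine ⟨fun h => ?_, isIrrCharacter_map σ⟩
  have h1 := isIrrCharacter_map σ.symm h
  simpa using h1

/-- The character value of the conjugate at `g` is the value of `χ` at the power `g ^ m` when `σ`
acts as the `m`-th power map on the roots of unity of order dividing the order of `g`. -/
theorem map_apply (σ : ℂ ≃+* ℂ) {n m : ℕ} (hn : n ≠ 0) (hσ : ∀ z : ℂ, z ^ n = 1 → σ z = z ^ m)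
    {χ : G → ℂ} (h : IsCharacter G χ) (g : G) (hg : g ^ n = 1) : σ (χ g) = χ (g ^ m) := by
  obtain ⟨d, ρ, rfl⟩ := h
  exact Cfsg.Agent.Characters.Galois.map_character (σ : ℂ →+* ℂ) hn hσ ρ g hg

/-- For `m` coprime to the order of `G` and `χ` a (irreducible) character, `g ↦ χ (g ^ m)` is a
(irreducible) character. -/
theorem isCharacter_pow [Finite G] {m : ℕ} (hm : m.Coprime (Nat.card G)) {χ : G → ℂ}
    (h : IsCharacter G χ) : IsCharacter G (fun g => χ (g ^ m)) := by
  obtain ⟨σ, hσ⟩ := Cfsg.Agent.Characters.Galois.exists_ringEquiv_complex Nat.card_pos.ne' hm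
  have h1 := isCharacter_map σ h
  have h2 : (fun g => σ (χ g)) = fun g => χ (g ^ m) :=
    funext fun g => map_apply σ Nat.card_pos.ne' hσ h g pow_card_eq_one'
  rwa [h2] at h1

theorem isIrrCharacter_pow [Finite G] {m : ℕ} (hm : m.Coprime (Nat.card G)) {χ : G → ℂ}
    (h : IsIrrCharacter G χ) : IsIrrCharacter G (fun g => χ (g ^ m)) := by
  obtain ⟨σ, hσ⟩ := Cfsg.Agent.Characters.Galois.exists_ringEquiv_complex Nat.card_pos.ne' hm
  have h1 := isIrrCharacter_map σ h
  obtain ⟨d, ρ, hρ, hχ⟩ := h
  have h2 : (fun g => σ (χ g)) = fun g => χ (g ^ m) :=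
    funext fun g => map_apply σ Nat.card_pos.ne' hσ ⟨d, ρ, hχ⟩ g pow_card_eq_one'
  rwa [h2] at h1

end Cfsg.Agent.OddOrderCharacters.GaloisTwist
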