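import Cfsg.Prelude.Def_OddOrderChar
import Cfsg.Agent.Characters.Core
import Cfsg.Agent.OddOrderCharacters.VChar
import Cfsg.Agent.OddOrderCharacters.GaloisTwist

/-!
# Field automorphisms of ℂ acting on class functions

`gal σ φ = σ ∘ φ`.  It preserves characters, irreducible characters, generalized characters, their inner
products, and commutes with complex conjugation (on generalized characters), induction, restriction, and
the Dade map.
-/

set_option autoImplicit false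
open Cfsg
open scoped ComplexConjugate

namespace Cfsg.Agent.OddOrderCharacters.Galois

/-- Apply the automorphism `σ` of `ℂ` to the values of a function. -/
def gal (σ : ℂ ≃+* ℂ) {X : Type*} (φ : X → ℂ) : X → ℂ := fun x => σ (φ x)

section basic

variable {X : Type*} (σ : ℂ ≃+* ℂ)

theorem gal_apply (φ : X → ℂ) (x : X) : gal σ φ x = σ (φ x) := rfl

theorem gal_zero : gal σ (0 : X → ℂ) = 0 := funext fun _ => map_zero σ

theorem gal_one : gal σ (1 : X → ℂ) = 1 := funext fun _ => map_one σ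

theorem gal_add (φ ψ : X → ℂ) : gal σ (φ + ψ) = gal σ φ + gal σ ψ := funext fun _ => map_add σ _ _

theorem gal_sub (φ ψ : X → ℂ) : gal σ (φ - ψ) = gal σ φ - gal σ ψ := funext fun _ => map_sub σ _ _

theorem gal_neg (φ : X → ℂ) : gal σ (-φ) = -gal σ φ := funext fun _ => map_neg σ _

theorem gal_mul (φ ψ : X → ℂ) : gal σ (φ * ψ) = gal σ φ * gal σ ψ := funext fun _ => map_mul σ _ _

theorem gal_smul (c : ℂ) (φ : X → ℂ) : gal σ (c • φ) = σ c • gal σ φ := funext fun _ => map_mul σ _ _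

theorem gal_zsmul (n : ℤ) (φ : X → ℂ) : gal σ (n • φ) = n • gal σ φ :=
  funext fun _ => map_zsmul σ _ _

theorem gal_nsmul (n : ℕ) (φ : X → ℂ) : gal σ (n • φ) = n • gal σ φ :=
  funext fun _ => map_nsmul σ _ _

theorem gal_sum {ι : Type*} (s : Finset ι) (f : ι → X → ℂ) :
    gal σ (∑ i ∈ s, f i) = ∑ i ∈ s, gal σ (f i) := by
  funext x
  rw [gal_apply, Finset.sum_apply, map_sum, Finset.sum_apply]
  rfl

theorem gal_symm_gal (φ : X → ℂ) : gal σ.symm (gal σ φ) = φ := funext fun _ => σ.symm_apply_apply _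

theorem gal_gal_symm (φ : X → ℂ) : gal σ (gal σ.symm φ) = φ := funext fun _ => σ.apply_symm_apply _

theorem gal_injective : Function.Injective (gal σ : (X → ℂ) → (X → ℂ)) :=
  Function.LeftInverse.injective (gal_symm_gal σ)

theorem gal_surjective : Function.Surjective (gal σ : (X → ℂ) → (X → ℂ)) :=
  Function.RightInverse.surjective (gal_gal_symm σ)

theorem gal_eq_iff {φ ψ : X → ℂ} : gal σ φ = gal σ ψ ↔ φ = ψ := (gal_injective σ).eq_iff

theorem gal_eq_zero_iff {φ : X → ℂ} : gal σ φ = 0 ↔ φ = 0 := by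
  rw [← gal_zero σ, gal_eq_iff, gal_zero]

theorem gal_apply_eq_zero_iff {φ : X → ℂ} {x : X} : gal σ φ x = 0 ↔ φ x = 0 :=
  map_eq_zero σ

theorem gal_comp {Y : Type*} (φ : X → ℂ) (f : Y → X) : gal σ (φ ∘ f) = gal σ φ ∘ f := rfl

theorem gal_trans (σ τ : ℂ ≃+* ℂ) (φ : X → ℂ) : gal (σ.trans τ) φ = gal τ (gal σ φ) := rfl

theorem gal_refl (φ : X → ℂ) : gal (RingEquiv.refl ℂ) φ = φ := rfl

theorem gal_intValue {φ : X → ℂ} {x : X} {n : ℤ} (h : φ x = n) : gal σ φ x = n := by
  rw [gal_apply, h, map_intCast]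

theorem gal_natValue {φ : X → ℂ} {x : X} {n : ℕ} (h : φ x = n) : gal σ φ x = n := by
  rw [gal_apply, h, map_natCast]

/-- Complex conjugation as an automorphism of the field. -/
theorem gal_conj (φ : X → ℂ) : gal (starRingAut : ℂ ≃+* ℂ) φ = conjFun φ := rfl

theorem gal_mem_zspan {S : Set (X → ℂ)} (hS : ∀ χ ∈ S, gal σ χ ∈ S) {α : X → ℂ}
    (h : α ∈ zspan S) : gal σ α ∈ zspan S := by
  refine VChar.zspan_induction (p := fun α => gal σ α ∈ zspan S) ?_ ?_ ?_ ?_ h
  · rw [gal_zero]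
    exact VChar.zspan_zero
  · intro χ hχ
    exact VChar.zspan_subset (hS χ hχ)
  · intro α _ β _ h1 h2
    rw [gal_add]
    exact VChar.zspan_add h1 h2
  · intro n α _ h1
    rw [gal_zsmul]
    exact VChar.zspan_zsmul n h1

theorem gal_mem_zspan_image {S : Set (X → ℂ)} {α : X → ℂ}
    (h : α ∈ zspan S) : gal σ α ∈ zspan (gal σ '' S) := by
  refine VChar.zspan_induction (p := fun α => gal σ α ∈ zspan (gal σ '' S)) ?_ ?_ ?_ ?_ h
  · rw [gal_zero]
    exact VChar.zspan_zero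
  · intro χ hχ
    exact VChar.zspan_subset ⟨χ, hχ, rfl⟩
  · intro α _ β _ h1 h2
    rw [gal_add]
    exact VChar.zspan_add h1 h2
  · intro n α _ h1
    rw [gal_zsmul]
    exact VChar.zspan_zsmul n h1

theorem gal_mem_zspanOn {S : Set (X → ℂ)} {A : Set X} (hS : ∀ χ ∈ S, gal σ χ ∈ S) {α : X → ℂ}
    (h : α ∈ zspanOn S A) : gal σ α ∈ zspanOn S A := by
  refine ⟨gal_mem_zspan σ hS h.1, fun x hx => ?_⟩
  rw [gal_apply, h.2 x hx, map_zero]

end basic

section group

universe u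

variable {G : Type u} [Group G] (σ : ℂ ≃+* ℂ)

theorem isCharacter_gal {χ : G → ℂ} (h : IsCharacter G χ) : IsCharacter G (gal σ χ) :=
  GaloisTwist.isCharacter_map σ h

theorem isIrr_gal {χ : G → ℂ} (h : IsIrrCharacter G χ) : IsIrrCharacter G (gal σ χ) :=
  GaloisTwist.isIrrCharacter_map σ h

theorem isIrr_gal_iff {χ : G → ℂ} : IsIrrCharacter G (gal σ χ) ↔ IsIrrCharacter G χ :=
  GaloisTwist.isIrrCharacter_map_iff σ

theorem isIrr_or_neg_gal {χ : G → ℂ} (h : IsIrrCharacter G χ ∨ IsIrrCharacter G (-χ)) :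
    IsIrrCharacter G (gal σ χ) ∨ IsIrrCharacter G (-gal σ χ) := by
  rcases h with h | h
  · exact Or.inl (isIrr_gal σ h)
  · right
    rw [← gal_neg]
    exact isIrr_gal σ h

theorem isGeneralizedCharacter_gal {φ : G → ℂ} (h : IsGeneralizedCharacter G φ) :
    IsGeneralizedCharacter G (gal σ φ) := by
  obtain ⟨χ, ψ, hχ, hψ, rfl⟩ := h
  exact ⟨gal σ χ, gal σ ψ, isCharacter_gal σ hχ, isCharacter_gal σ hψ, gal_sub σ χ ψ⟩

theorem isClassFunction_gal {φ : G → ℂ} (h : IsClassFunction G φ) :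
    IsClassFunction G (gal σ φ) := fun g x => by
  rw [gal_apply, h g x, gal_apply]

/-- `σ` commutes with complex conjugation on the values of generalized characters. -/
theorem map_conj_gen [Finite G] {φ : G → ℂ} (h : IsGeneralizedCharacter G φ) (g : G) :
    σ (conj (φ g)) = conj (σ (φ g)) := by
  have h1 := VChar.gen_apply_inv h g
  have h2 := VChar.gen_apply_inv (isGeneralizedCharacter_gal σ h) g
  rw [gal_apply, gal_apply, h1] at h2
  exact h2

theorem conjFun_gal [Finite G] {φ : G → ℂ} (h : IsGeneralizedCharacter G φ) :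
    conjFun (gal σ φ) = gal σ (conjFun φ) :=
  funext fun g => (map_conj_gen σ h g).symm

/-- Degrees are preserved. -/
theorem gal_apply_one {φ : G → ℂ} (h : IsGeneralizedCharacter G φ) : gal σ φ 1 = φ 1 := by
  obtain ⟨n, hn⟩ := VChar.gen_apply_one h
  rw [gal_apply, hn, map_intCast]

theorem classInner_gal_left [Fintype G] (φ : G → ℂ) {ψ : G → ℂ} (h : IsGeneralizedCharacter G ψ) :
    classInner (gal σ φ) (gal σ ψ) = σ (classInner φ ψ) := by
  show (Nat.card G : ℂ)⁻¹ * ∑ g : G, σ (φ g) * conj (σ (ψ g)) =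
    σ ((Nat.card G : ℂ)⁻¹ * ∑ g : G, φ g * conj (ψ g))
  rw [map_mul, map_inv₀, map_natCast, map_sum]
  congr 1
  refine Finset.sum_congr rfl fun g _ => ?_
  rw [map_mul, map_conj_gen σ h]

/-- Inner products of generalized characters are preserved. -/
theorem classInner_gal [Fintype G] {φ ψ : G → ℂ} (hφ : IsGeneralizedCharacter G φ)
    (hψ : IsGeneralizedCharacter G ψ) : classInner (gal σ φ) (gal σ ψ) = classInner φ ψ := by
  rw [classInner_gal_left σ φ hψ]
  obtain ⟨n, hn⟩ := VChar.gen_inner hφ hψ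
  rw [hn, map_intCast]

theorem extendByZero_gal (H : Subgroup G) (θ : H → ℂ) :
    extendByZero H (gal σ θ) = gal σ (extendByZero H θ) := by
  funext g
  by_cases hg : g ∈ H
  · have h1 : extendByZero H (gal σ θ) ((⟨g, hg⟩ : H) : G) = gal σ θ ⟨g, hg⟩ :=
      Function.Injective.extend_apply Subtype.val_injective _ _ _
    have h2 : extendByZero H θ ((⟨g, hg⟩ : H) : G) = θ ⟨g, hg⟩ :=
      Function.Injective.extend_apply Subtype.val_injective _ _ _
    rw [gal_apply]
    exact h1.trans (congrArg σ h2.symm)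
  · have hne : ¬ ∃ a : H, (a : G) = g := by
      rintro ⟨a, rfl⟩
      exact hg a.2
    have h1 : extendByZero H (gal σ θ) g = 0 := Function.extend_apply' _ _ _ hne
    have h2 : extendByZero H θ g = 0 := Function.extend_apply' _ _ _ hne
    rw [gal_apply, h1, h2, map_zero]

theorem indFun_gal [Fintype G] (H : Subgroup G) (θ : H → ℂ) :
    indFun H (gal σ θ) = gal σ (indFun H θ) := by
  funext g
  show (Nat.card H : ℂ)⁻¹ * ∑ x : G, extendByZero H (gal σ θ) (x⁻¹ * g * x) =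
    σ ((Nat.card H : ℂ)⁻¹ * ∑ x : G, extendByZero H θ (x⁻¹ * g * x))
  rw [map_mul, map_inv₀, map_natCast, map_sum, extendByZero_gal]
  rfl

theorem dadeIsometry_gal (A : Set G) (L : Subgroup G) (H : G → Subgroup G) (α : ↥L → ℂ) :
    dadeIsometry A L H (gal σ α) = gal σ (dadeIsometry A L H α) := by
  classical
  funext g
  show (if h : ∃ a : ↥L, (a : G) ∈ A ∧ ∃ x : G, ∃ u ∈ H (a : G), x * g * x⁻¹ = (a : G) * u
      then gal σ α (Classical.choose h) else 0) =
    σ (if h : ∃ a : ↥L, (a : G) ∈ A ∧ ∃ x : G, ∃ u ∈ H (a : G), x * g * x⁻¹ = (a : G) * u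
      then α (Classical.choose h) else 0)
  split_ifs with h
  · rfl
  · rw [map_zero]

theorem gal_mem_inducedIrrAbove [Fintype G] (K A : Subgroup G) {φ : G → ℂ}
    (h : φ ∈ inducedIrrAbove K A) : gal σ φ ∈ inducedIrrAbove K A := by
  obtain ⟨θ, hθ, hne, hA, rfl⟩ := h
  refine ⟨gal σ θ, isIrr_gal σ hθ, ?_, ?_, (indFun_gal σ K θ).symm⟩
  · intro h
    apply hne
    apply gal_injective σ
    rw [h]
    exact (gal_one σ).symm
  · intro a ha
    rw [gal_apply, hA a ha, gal_apply]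

theorem gal_mem_inducedIrrAbove_iff [Fintype G] (K A : Subgroup G) {φ : G → ℂ} :
    gal σ φ ∈ inducedIrrAbove K A ↔ φ ∈ inducedIrrAbove K A := by
  refine ⟨fun h => ?_, gal_mem_inducedIrrAbove σ K A⟩
  have := gal_mem_inducedIrrAbove σ.symm K A h
  rwa [gal_symm_gal] at this

/-- An isometry on a lattice stable under `σ`, conjugated by `σ`, is again an isometry. -/
theorem isLinearIsometryOn_gal {L : Type*} [Group L] [Fintype L] [Fintype G] {E : Set (L → ℂ)}
    {τ : (L → ℂ) → (G → ℂ)} (hτ : IsLinearIsometryOn E τ) (hE : ∀ α ∈ E, gal σ α ∈ E)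
    (hgen : ∀ α ∈ E, IsGeneralizedCharacter L α) :
    IsLinearIsometryOn E (fun α => gal σ.symm (τ (gal σ α))) := by
  refine ⟨?_, ?_, ?_, ?_⟩
  · intro α hα β hβ
    show gal σ.symm (τ (gal σ (α + β))) = gal σ.symm (τ (gal σ α)) + gal σ.symm (τ (gal σ β))
    rw [gal_add, hτ.1 _ (hE α hα) _ (hE β hβ), gal_add]
  · intro α hα n
    show gal σ.symm (τ (gal σ (n • α))) = n • gal σ.symm (τ (gal σ α))
    rw [gal_zsmul, hτ.2.1 _ (hE α hα), gal_zsmul]
  · intro α hα β hβ
    show classInner (gal σ.symm (τ (gal σ α))) (gal σ.symm (τ (gal σ β))) = classInner α β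
    rw [classInner_gal σ.symm (hτ.2.2.2 _ (hE α hα)) (hτ.2.2.2 _ (hE β hβ)),
      hτ.2.2.1 _ (hE α hα) _ (hE β hβ), classInner_gal σ (hgen α hα) (hgen β hβ)]
  · intro α hα
    exact isGeneralizedCharacter_gal σ.symm (hτ.2.2.2 _ (hE α hα))

/-- Values at `g` with `g ^ n = 1`: `σ` acts as the `m`-th power map. -/
theorem gal_apply_pow {n m : ℕ} (hn : n ≠ 0) (hσ : ∀ z : ℂ, z ^ n = 1 → σ z = z ^ m)
    {φ : G → ℂ} (h : IsGeneralizedCharacter G φ) (g : G) (hg : g ^ n = 1) :
    gal σ φ g = φ (g ^ m) := by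
  obtain ⟨χ, ψ, hχ, hψ, rfl⟩ := h
  rw [gal_apply, Pi.sub_apply, Pi.sub_apply, map_sub,
    GaloisTwist.map_apply σ hn hσ hχ g hg, GaloisTwist.map_apply σ hn hσ hψ g hg]

/-- If `σ` fixes all `n`-th roots of unity then it fixes the values at elements of order dividing
`n`. -/
theorem gal_apply_fixed {n : ℕ} (hn : n ≠ 0) (hσ : ∀ z : ℂ, z ^ n = 1 → σ z = z)
    {φ : G → ℂ} (h : IsGeneralizedCharacter G φ) (g : G) (hg : g ^ n = 1) :
    gal σ φ g = φ g := by
  have := gal_apply_pow σ (m := 1) hn (fun z hz => by rw [pow_one]; exact hσ z hz) h g hg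
  rwa [pow_one] at this

end group

/-- For coprime `a`, `b` and `k` coprime to `a` there is an automorphism of `ℂ` acting as the `k`-th
power map on the `a`-th roots of unity and trivially on the `b`-th roots of unity. -/
theorem exists_ringEquiv_coprime {a b k : ℕ} (ha : a ≠ 0) (hb : b ≠ 0) (hab : a.Coprime b)
    (hk : k.Coprime a) :
    ∃ σ : ℂ ≃+* ℂ, (∀ z : ℂ, z ^ a = 1 → σ z = z ^ k) ∧ (∀ z : ℂ, z ^ b = 1 → σ z = z) := by
  obtain ⟨m, hma, hmb⟩ := Nat.chineseRemainder hab k 1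
  have hmcop : m.Coprime (a * b) := by
    refine Nat.Coprime.mul_right ?_ ?_
    · rw [Nat.coprime_iff_gcd_eq_one] at hk ⊢
      rw [hma.gcd_eq, hk]
    · rw [Nat.coprime_iff_gcd_eq_one, hmb.gcd_eq, Nat.gcd_one_left]
  obtain ⟨σ, hσ⟩ := Cfsg.Agent.Characters.Galois.exists_ringEquiv_complex
    (Nat.mul_ne_zero ha hb) hmcop
  refine ⟨σ, fun z hz => ?_, fun z hz => ?_⟩
  · rw [hσ z (by rw [pow_mul, hz, one_pow])]
    have h1 : m % a = k % a := hma
    rw [pow_eq_pow_mod m hz, h1, ← pow_eq_pow_mod k hz]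
  · rw [hσ z (by rw [mul_comm, pow_mul, hz, one_pow])]
    have h1 : m % b = 1 % b := hmb
    rw [pow_eq_pow_mod m hz, h1, ← pow_eq_pow_mod 1 hz, pow_one]

end Cfsg.Agent.OddOrderCharacters.Galois
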