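import Mathlib
import Cfsg.Agent.OddOrderCharacters.CyclicTI

/-!
# The functions `(1 - φ)(1 - ψ)` on `W = W₁ × W₂`: inner products, induction, span
-/

set_option autoImplicit false
open Cfsg
open scoped ComplexConjugate
open Cfsg.Agent.OddOrderCharacters.CyclicTI

namespace Cfsg.Agent.OddOrderCharacters.CyclicTIAlpha

section inner

variable {G : Type*} [Group G] [Fintype G]

theorem ci_def (φ ψ : G → ℂ) :
    classInner φ ψ = (Nat.card G : ℂ)⁻¹ * ∑ g : G, φ g * conj (ψ g) := rfl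

theorem ci_add_left (φ₁ φ₂ ψ : G → ℂ) :
    classInner (fun g => φ₁ g + φ₂ g) ψ = classInner φ₁ ψ + classInner φ₂ ψ := by
  simp only [ci_def, add_mul, Finset.sum_add_distrib, mul_add]

theorem ci_sub_left (φ₁ φ₂ ψ : G → ℂ) :
    classInner (fun g => φ₁ g - φ₂ g) ψ = classInner φ₁ ψ - classInner φ₂ ψ := by
  simp only [ci_def, sub_mul, Finset.sum_sub_distrib, mul_sub]

theorem ci_add_right (φ ψ₁ ψ₂ : G → ℂ) :
    classInner φ (fun g => ψ₁ g + ψ₂ g) = classInner φ ψ₁ + classInner φ ψ₂ := by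
  simp only [ci_def, map_add, Finset.sum_add_distrib, mul_add]

theorem ci_sub_right (φ ψ₁ ψ₂ : G → ℂ) :
    classInner φ (fun g => ψ₁ g - ψ₂ g) = classInner φ ψ₁ - classInner φ ψ₂ := by
  simp only [ci_def, map_sub, Finset.sum_sub_distrib, mul_sub]

theorem ci_conj_symm (φ ψ : G → ℂ) : conj (classInner φ ψ) = classInner ψ φ := by
  simp only [ci_def, map_mul, map_sum, Complex.conj_conj, map_inv₀, Complex.conj_natCast]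
  congr 1
  exact Finset.sum_congr rfl fun g _ => mul_comm _ _

end inner

section alpha

variable {G : Type*} [Group G] {W₁ W₂ : Subgroup G} [Fintype ↥(W₁ ⊔ W₂)]

open scoped Classical in
/-- products of a character trivial on `W₂` and one trivial on `W₁` -/
theorem classInner_prod (hcomm : ∀ a ∈ W₁, ∀ b ∈ W₂, a * b = b * a)
    {φ φ' ψ ψ' : ↥(W₁ ⊔ W₂) →* ℂˣ}
    (hφ : ∀ w : ↥(W₁ ⊔ W₂), (w : G) ∈ W₂ → φ w = 1)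
    (hφ' : ∀ w : ↥(W₁ ⊔ W₂), (w : G) ∈ W₂ → φ' w = 1)
    (hψ : ∀ w : ↥(W₁ ⊔ W₂), (w : G) ∈ W₁ → ψ w = 1)
    (hψ' : ∀ w : ↥(W₁ ⊔ W₂), (w : G) ∈ W₁ → ψ' w = 1) :
    classInner (fun w => (φ w : ℂ) * (ψ w : ℂ)) (fun w => (φ' w : ℂ) * (ψ' w : ℂ)) =
      (if φ = φ' then 1 else 0) * (if ψ = ψ' then 1 else 0) := by
  have h := classInner_hom (φ * ψ) (φ' * ψ')
  simp only [MonoidHom.mul_apply, Units.val_mul, mul_eq_mul_iff hcomm hφ hφ' hψ hψ'] at h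
  rw [h]
  split_ifs <;> simp_all

omit [Fintype ↥(W₁ ⊔ W₂)] in
/-- The function `(1 - φ)(1 - ψ)` in terms of products. -/
theorem alpha_eq (φ ψ : ↥(W₁ ⊔ W₂) →* ℂˣ) :
    (fun w : ↥(W₁ ⊔ W₂) => 1 - (φ w : ℂ) - (ψ w : ℂ) + (φ w : ℂ) * (ψ w : ℂ)) =
    fun w => ((((1 : ↥(W₁ ⊔ W₂) →* ℂˣ) w : ℂ) * ((1 : ↥(W₁ ⊔ W₂) →* ℂˣ) w : ℂ) -
      (φ w : ℂ) * ((1 : ↥(W₁ ⊔ W₂) →* ℂˣ) w : ℂ)) -
      ((1 : ↥(W₁ ⊔ W₂) →* ℂˣ) w : ℂ) * (ψ w : ℂ)) + (φ w : ℂ) * (ψ w : ℂ) := by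
  funext w
  simp

omit [Fintype ↥(W₁ ⊔ W₂)] in
theorem one_trivial (X : Subgroup G) :
    ∀ w : ↥(W₁ ⊔ W₂), (w : G) ∈ X → (1 : ↥(W₁ ⊔ W₂) →* ℂˣ) w = 1 := fun _ _ => rfl

open scoped Classical in
/-- `⟨(1 - φ)(1 - ψ), φ'ψ'⟩` for arbitrary `φ', ψ'`. -/
theorem classInner_alpha_prod (hcomm : ∀ a ∈ W₁, ∀ b ∈ W₂, a * b = b * a)
    {φ φ' ψ ψ' : ↥(W₁ ⊔ W₂) →* ℂˣ}
    (hφ : ∀ w : ↥(W₁ ⊔ W₂), (w : G) ∈ W₂ → φ w = 1)
    (hφ' : ∀ w : ↥(W₁ ⊔ W₂), (w : G) ∈ W₂ → φ' w = 1)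
    (hψ : ∀ w : ↥(W₁ ⊔ W₂), (w : G) ∈ W₁ → ψ w = 1)
    (hψ' : ∀ w : ↥(W₁ ⊔ W₂), (w : G) ∈ W₁ → ψ' w = 1) :
    classInner (fun w => 1 - (φ w : ℂ) - (ψ w : ℂ) + (φ w : ℂ) * (ψ w : ℂ))
      (fun w => (φ' w : ℂ) * (ψ' w : ℂ)) =
      ((if 1 = φ' then 1 else 0) - (if φ = φ' then 1 else 0)) *
        ((if 1 = ψ' then 1 else 0) - (if ψ = ψ' then 1 else 0)) := by
  rw [alpha_eq, ci_add_left, ci_sub_left, ci_sub_left,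
    classInner_prod hcomm (one_trivial W₂) hφ' (one_trivial W₁) hψ',
    classInner_prod hcomm hφ hφ' (one_trivial W₁) hψ',
    classInner_prod hcomm (one_trivial W₂) hφ' hψ hψ',
    classInner_prod hcomm hφ hφ' hψ hψ']
  ring

open scoped Classical in
/-- The inner product of `(1 - φ)(1 - ψ)` and `(1 - φ')(1 - ψ')`, all four nontrivial. -/
theorem classInner_alpha_alpha (hcomm : ∀ a ∈ W₁, ∀ b ∈ W₂, a * b = b * a)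
    {φ φ' ψ ψ' : ↥(W₁ ⊔ W₂) →* ℂˣ}
    (hφ1 : φ ≠ 1) (hφ1' : φ' ≠ 1) (hψ1 : ψ ≠ 1) (hψ1' : ψ' ≠ 1)
    (hφ : ∀ w : ↥(W₁ ⊔ W₂), (w : G) ∈ W₂ → φ w = 1)
    (hφ' : ∀ w : ↥(W₁ ⊔ W₂), (w : G) ∈ W₂ → φ' w = 1)
    (hψ : ∀ w : ↥(W₁ ⊔ W₂), (w : G) ∈ W₁ → ψ w = 1)
    (hψ' : ∀ w : ↥(W₁ ⊔ W₂), (w : G) ∈ W₁ → ψ' w = 1) :
    classInner (fun w => 1 - (φ w : ℂ) - (ψ w : ℂ) + (φ w : ℂ) * (ψ w : ℂ))
      (fun w => 1 - (φ' w : ℂ) - (ψ' w : ℂ) + (φ' w : ℂ) * (ψ' w : ℂ)) =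
      1 + (if φ = φ' then 1 else 0) + (if ψ = ψ' then 1 else 0) +
        (if φ = φ' then 1 else 0) * (if ψ = ψ' then 1 else 0) := by
  rw [alpha_eq φ' ψ', ci_add_right, ci_sub_right, ci_sub_right,
    classInner_alpha_prod hcomm hφ (one_trivial W₂) hψ (one_trivial W₁),
    classInner_alpha_prod hcomm hφ hφ' hψ (one_trivial W₁),
    classInner_alpha_prod hcomm hφ (one_trivial W₂) hψ hψ',
    classInner_alpha_prod hcomm hφ hφ' hψ hψ']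
  rw [if_neg hφ1, if_neg hψ1, if_neg (Ne.symm hφ1'), if_neg (Ne.symm hψ1'), if_pos rfl]
  ring

end alpha

section induced

variable {G : Type*} [Group G] [Fintype G]

/-- A function induced from `W = W₁ ⊔ W₂` and vanishing on `W₁ ∪ W₂` agrees with the original
function off `W₁ ∪ W₂`, provided the original is a class function. -/
theorem indFun_apply_of_notMem {W₁ W₂ : Subgroup G} (hW : IsSelfNormalizingCyclic W₁ W₂)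
    (α : ↥(W₁ ⊔ W₂) → ℂ)
    (h0 : ∀ w : ↥(W₁ ⊔ W₂), ((w : G) ∈ W₁ ∨ (w : G) ∈ W₂) → α w = 0)
    (w : ↥(W₁ ⊔ W₂)) (hw₁ : (w : G) ∉ W₁) (hw₂ : (w : G) ∉ W₂) :
    indFun (W₁ ⊔ W₂) α w = α w := by
  classical
  have hN : (Nat.card ↥(W₁ ⊔ W₂) : ℂ) ≠ 0 := by exact_mod_cast Nat.card_pos.ne'
  rw [Cfsg.Agent.S0150.indFun_apply]
  have hterm : ∀ g : G, extendByZero (W₁ ⊔ W₂) α (g⁻¹ * w * g) =
      if g ∈ W₁ ⊔ W₂ then α w else 0 := by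
    intro g
    split_ifs with hg
    · have hcyc : IsCyclic ↥(W₁ ⊔ W₂) := hW.2.2.2.2.1
      have hcomm : ∀ x y : ↥(W₁ ⊔ W₂), x * y = y * x := by
        let := IsCyclic.commGroup (α := ↥(W₁ ⊔ W₂))
        exact fun x y => mul_comm x y
      have h2 : g⁻¹ * (w : G) * g = (w : G) := by
        have h3 := congrArg (Subtype.val : ↥(W₁ ⊔ W₂) → G) (hcomm w ⟨g, hg⟩)
        have h4 : (w : G) * g = g * w := h3
        rw [mul_assoc, h4, inv_mul_cancel_left]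
      rw [h2, Cfsg.Agent.S0150.extendByZero_coe]
    · by_contra hne
      have hmem : g⁻¹ * w * g ∈ W₁ ⊔ W₂ := by
        by_contra h
        exact hne (Cfsg.Agent.S0150.extendByZero_of_notMem _ _ h)
      have h2 : extendByZero (W₁ ⊔ W₂) α (g⁻¹ * w * g) = α ⟨g⁻¹ * w * g, hmem⟩ :=
        Cfsg.Agent.S0150.extendByZero_coe _ _ ⟨g⁻¹ * w * g, hmem⟩
      have h3 : ¬ (g⁻¹ * w * g ∈ W₁ ∨ g⁻¹ * w * g ∈ W₂) := fun h =>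
        hne (h2.trans (h0 ⟨g⁻¹ * w * g, hmem⟩ h))
      have h4 : g⁻¹ ∈ W₁ ⊔ W₂ := by
        refine mem_of_conj_mem hW w.2 hw₁ hw₂ ?_ ?_ ?_
        · rw [inv_inv]; exact hmem
        · rw [inv_inv]; exact fun h => h3 (Or.inl h)
        · rw [inv_inv]; exact fun h => h3 (Or.inr h)
      exact hg (by simpa using inv_mem h4)
  simp only [hterm]
  rw [Finset.sum_ite, Finset.sum_const_zero, add_zero, Finset.sum_const, nsmul_eq_mul]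
  have hc : (Finset.univ.filter (fun g : G => g ∈ W₁ ⊔ W₂)).card = Nat.card ↥(W₁ ⊔ W₂) := by
    rw [Nat.card_eq_fintype_card, Fintype.card_subtype]
  rw [hc, inv_mul_cancel_left₀ hN]

/-- Induction to `G` is an isometry on functions of `W` vanishing on `W₁ ∪ W₂`. -/
theorem classInner_indFun_indFun {W₁ W₂ : Subgroup G} [Fintype ↥(W₁ ⊔ W₂)]
    (hW : IsSelfNormalizingCyclic W₁ W₂) (α β : ↥(W₁ ⊔ W₂) → ℂ)
    (hα : ∀ w : ↥(W₁ ⊔ W₂), ((w : G) ∈ W₁ ∨ (w : G) ∈ W₂) → α w = 0)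
    (hβ : ∀ w : ↥(W₁ ⊔ W₂), ((w : G) ∈ W₁ ∨ (w : G) ∈ W₂) → β w = 0) :
    classInner (indFun (W₁ ⊔ W₂) α) (indFun (W₁ ⊔ W₂) β) = classInner α β := by
  rw [Cfsg.Agent.S0150.classInner_indFun _ _ _
    (fun g h => Cfsg.Agent.S0150.indFun_isClassFunction _ _ g h)]
  rw [ci_def, ci_def]
  congr 1
  refine Finset.sum_congr rfl fun w _ => ?_
  by_cases hw : (w : G) ∈ W₁ ∨ (w : G) ∈ W₂
  · rw [hα w hw, zero_mul, zero_mul]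
  · rw [not_or] at hw
    rw [indFun_apply_of_notMem hW β hβ w hw.1 hw.2]

end induced

section span

variable {W : Type*} [CommGroup W] [Fintype W]

/-- If `Σ_φ∈X` etc.: the point mass at `w₀` outside `W₁ ∪ W₂` as a combination of the functions
`(1 - φ)(1 - ψ)`. -/
theorem exists_pointMass (X₁ X₂ : Subgroup (W →* ℂˣ)) [Fintype X₁] [Fintype X₂] (w₀ : W)
    (h₁ : ∃ f ∈ X₁, f w₀ ≠ 1) (h₂ : ∃ f ∈ X₂, f w₀ ≠ 1)
    (hsep : ∀ w : W, (∀ f ∈ X₁, f w = 1) → (∀ f ∈ X₂, f w = 1) → w = 1) (w : W) [Decidable (w = w₀)] :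
    ∑ φ : X₁, ∑ ψ : X₂, conj ((φ : W →* ℂˣ) w₀ : ℂ) * conj ((ψ : W →* ℂˣ) w₀ : ℂ) *
      (1 - ((φ : W →* ℂˣ) w : ℂ) - ((ψ : W →* ℂˣ) w : ℂ) +
        ((φ : W →* ℂˣ) w : ℂ) * ((ψ : W →* ℂˣ) w : ℂ)) =
      if w = w₀ then (Nat.card X₁ : ℂ) * (Nat.card X₂ : ℂ) else 0 := by
  classical
  have key : ∀ (X : Subgroup (W →* ℂˣ)) [Fintype X], (∃ f ∈ X, f w₀ ≠ 1) →
      ∑ φ : X, conj ((φ : W →* ℂˣ) w₀ : ℂ) * (1 - ((φ : W →* ℂˣ) w : ℂ)) =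
        - (if (∀ f ∈ X, f (w * w₀⁻¹) = 1) then (Nat.card X : ℂ) else 0) := by
    intro X _ hX
    have e1 : ∀ φ : X, conj ((φ : W →* ℂˣ) w₀ : ℂ) * (1 - ((φ : W →* ℂˣ) w : ℂ)) =
        ((φ : W →* ℂˣ) w₀⁻¹ : ℂ) - ((φ : W →* ℂˣ) (w * w₀⁻¹) : ℂ) := by
      intro φ
      rw [conj_hom_apply, MonoidHom.inv_apply, ← map_inv, map_mul, Units.val_mul]
      ring
    rw [Finset.sum_congr rfl (fun φ _ => e1 φ), Finset.sum_sub_distrib,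
      sum_subgroup_hom, sum_subgroup_hom, if_neg, zero_sub]
    intro h
    obtain ⟨f, hf, hf1⟩ := hX
    apply hf1
    have := h f hf
    rwa [map_inv, inv_eq_one] at this
  have e2 : ∀ (φ : X₁) (ψ : X₂), conj ((φ : W →* ℂˣ) w₀ : ℂ) * conj ((ψ : W →* ℂˣ) w₀ : ℂ) *
      (1 - ((φ : W →* ℂˣ) w : ℂ) - ((ψ : W →* ℂˣ) w : ℂ) +
        ((φ : W →* ℂˣ) w : ℂ) * ((ψ : W →* ℂˣ) w : ℂ)) =
      (conj ((φ : W →* ℂˣ) w₀ : ℂ) * (1 - ((φ : W →* ℂˣ) w : ℂ))) *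
      (conj ((ψ : W →* ℂˣ) w₀ : ℂ) * (1 - ((ψ : W →* ℂˣ) w : ℂ))) := by
    intro φ ψ; ring
  simp only [e2]
  rw [← Finset.sum_mul_sum, key X₁ h₁, key X₂ h₂]
  by_cases hw : w = w₀
  · subst hw
    simp
  · rw [if_neg hw]
    by_cases ha : ∀ f ∈ X₁, f (w * w₀⁻¹) = 1
    · by_cases hb : ∀ f ∈ X₂, f (w * w₀⁻¹) = 1
      · exact absurd (mul_inv_eq_one.mp (hsep _ ha hb)) hw
      · rw [if_neg hb]; ring
    · rw [if_neg ha]; ring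

end span

/-- A class function orthogonal to all the functions induced from `(1 - φ)(1 - ψ)`, with `φ` trivial on
`W₂` and `ψ` trivial on `W₁`, vanishes on `W` off `W₁ ∪ W₂`. -/
theorem vanishes_of_orthogonal {G : Type*} [Group G] [Fintype G] (W₁ W₂ : Subgroup G)
    (hW : IsSelfNormalizingCyclic W₁ W₂) (θ : G → ℂ) (hθ : IsClassFunction G θ)
    (horth : ∀ φ ψ : ↥(W₁ ⊔ W₂) →* ℂˣ, φ ≠ 1 → ψ ≠ 1 →
      (∀ w : ↥(W₁ ⊔ W₂), (w : G) ∈ W₂ → φ w = 1) →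
      (∀ w : ↥(W₁ ⊔ W₂), (w : G) ∈ W₁ → ψ w = 1) →
      classInner (indFun (W₁ ⊔ W₂) (fun w => 1 - (φ w : ℂ) - (ψ w : ℂ) + (φ w : ℂ) * (ψ w : ℂ))) θ = 0)
    (w : ↥(W₁ ⊔ W₂)) (hw₁ : (w : G) ∉ W₁) (hw₂ : (w : G) ∉ W₂) : θ w = 0 := by
  classical
  obtain ⟨-, -, hdisj, hcomm, hcyc, -⟩ := id hW
  let := IsCyclic.commGroup (α := ↥(W₁ ⊔ W₂))
  have hfin : Fintype (↥(W₁ ⊔ W₂) →* ℂˣ) := Fintype.ofFinite _
  let X₁ : Subgroup (↥(W₁ ⊔ W₂) →* ℂˣ) :=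
    { carrier := {f | ∀ w : ↥(W₁ ⊔ W₂), (w : G) ∈ W₂ → f w = 1}
      mul_mem' := by
        intro f f' hf hf' w hw
        rw [MonoidHom.mul_apply, hf w hw, hf' w hw, one_mul]
      one_mem' := by intro w _; rfl
      inv_mem' := by
        intro f hf w hw
        rw [MonoidHom.inv_apply, hf w hw, inv_one] }
  let X₂ : Subgroup (↥(W₁ ⊔ W₂) →* ℂˣ) :=
    { carrier := {f | ∀ w : ↥(W₁ ⊔ W₂), (w : G) ∈ W₁ → f w = 1}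
      mul_mem' := by
        intro f f' hf hf' w hw
        rw [MonoidHom.mul_apply, hf w hw, hf' w hw, one_mul]
      one_mem' := by intro w _; rfl
      inv_mem' := by
        intro f hf w hw
        rw [MonoidHom.inv_apply, hf w hw, inv_one] }
  have hX₁ : ∀ v : ↥(W₁ ⊔ W₂), (∀ f ∈ X₁, f v = 1) → (v : G) ∈ W₂ := by
    intro v hv
    have h := CommGroup.forall_monoidHom_apply_eq_one_iff ℂ (W₂.subgroupOf (W₁ ⊔ W₂)) v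
    rw [Subgroup.mem_subgroupOf] at h
    exact h.mp fun φ hφ => hv φ fun y hy => hφ y (Subgroup.mem_subgroupOf.mpr hy)
  have hX₂ : ∀ v : ↥(W₁ ⊔ W₂), (∀ f ∈ X₂, f v = 1) → (v : G) ∈ W₁ := by
    intro v hv
    have h := CommGroup.forall_monoidHom_apply_eq_one_iff ℂ (W₁.subgroupOf (W₁ ⊔ W₂)) v
    rw [Subgroup.mem_subgroupOf] at h
    exact h.mp fun φ hφ => hv φ fun y hy => hφ y (Subgroup.mem_subgroupOf.mpr hy)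
  have h1 : ∃ f ∈ X₁, f w ≠ 1 := by
    by_contra h
    push Not at h
    exact hw₂ (hX₁ w h)
  have h2 : ∃ f ∈ X₂, f w ≠ 1 := by
    by_contra h
    push Not at h
    exact hw₁ (hX₂ w h)
  have hsep : ∀ v : ↥(W₁ ⊔ W₂), (∀ f ∈ X₁, f v = 1) → (∀ f ∈ X₂, f v = 1) → v = 1 := by
    intro v hv hv'
    have h3 : (v : G) ∈ W₁ ⊓ W₂ := ⟨hX₂ v hv', hX₁ v hv⟩
    rw [hdisj, Subgroup.mem_bot] at h3
    exact Subtype.ext h3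
  have hpm := exists_pointMass X₁ X₂ w h1 h2 hsep
  -- every `(1 - φ)(1 - ψ)` is orthogonal to the restriction of `θ`
  have horth' : ∀ (φ : X₁) (ψ : X₂), ∑ v : ↥(W₁ ⊔ W₂),
      (1 - ((φ : ↥(W₁ ⊔ W₂) →* ℂˣ) v : ℂ) - ((ψ : ↥(W₁ ⊔ W₂) →* ℂˣ) v : ℂ) +
        ((φ : ↥(W₁ ⊔ W₂) →* ℂˣ) v : ℂ) * ((ψ : ↥(W₁ ⊔ W₂) →* ℂˣ) v : ℂ)) * conj (θ v) = 0 := by
    rintro ⟨φ, hφ⟩ ⟨ψ, hψ⟩
    by_cases hφ1 : φ = 1
    · refine Finset.sum_eq_zero fun v _ => ?_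
      simp [hφ1]
    by_cases hψ1 : ψ = 1
    · refine Finset.sum_eq_zero fun v _ => ?_
      simp [hψ1]
    have h3 := horth φ ψ hφ1 hψ1 hφ hψ
    rw [Cfsg.Agent.S0150.classInner_indFun _ _ _ hθ, ci_def] at h3
    have hW0 : (Nat.card ↥(W₁ ⊔ W₂) : ℂ)⁻¹ ≠ 0 :=
      inv_ne_zero (by exact_mod_cast Nat.card_pos.ne')
    exact (mul_eq_zero.mp h3).resolve_left hW0
  have hsum : ∑ v : ↥(W₁ ⊔ W₂), (∑ φ : X₁, ∑ ψ : X₂,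
      conj ((φ : ↥(W₁ ⊔ W₂) →* ℂˣ) w : ℂ) * conj ((ψ : ↥(W₁ ⊔ W₂) →* ℂˣ) w : ℂ) *
      (1 - ((φ : ↥(W₁ ⊔ W₂) →* ℂˣ) v : ℂ) - ((ψ : ↥(W₁ ⊔ W₂) →* ℂˣ) v : ℂ) +
        ((φ : ↥(W₁ ⊔ W₂) →* ℂˣ) v : ℂ) * ((ψ : ↥(W₁ ⊔ W₂) →* ℂˣ) v : ℂ))) * conj (θ v) = 0 := by
    simp only [Finset.sum_mul]
    rw [Finset.sum_comm]
    refine Finset.sum_eq_zero fun φ _ => ?_
    rw [Finset.sum_comm]
    refine Finset.sum_eq_zero fun ψ _ => ?_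
    simp only [mul_assoc]
    rw [← Finset.mul_sum, ← Finset.mul_sum]
    have := horth' φ ψ
    rw [this, mul_zero, mul_zero]
  simp only [hpm, ite_mul, zero_mul, Finset.sum_ite_eq', Finset.mem_univ, if_true] at hsum
  have hc1 : (Nat.card X₁ : ℂ) ≠ 0 := by exact_mod_cast Nat.card_pos.ne'
  have hc2 : (Nat.card X₂ : ℂ) ≠ 0 := by exact_mod_cast Nat.card_pos.ne'
  have h4 := (mul_eq_zero.mp hsum).resolve_left (mul_ne_zero hc1 hc2)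
  exact (map_eq_zero _).mp h4

end Cfsg.Agent.OddOrderCharacters.CyclicTIAlpha
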