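import Mathlib
import Cfsg.Prelude.Def_OddOrderLocal
import Cfsg.Agent.OddOrderCharacters.CyclicTICoeff

/-!
Linear characters of an internal direct product `W = W₁ ⊔ W₂` (elementwise commuting, trivial
intersection), and a counting lemma for matrices `b i + c j` with few nonzero entries.
-/

set_option autoImplicit false

namespace Cfsg.Agent.OddOrderCharacters.CyclicTIChars

open Cfsg

universe u

/-- A finite commutative group has as many linear characters as elements. -/
theorem card_hom {H : Type u} [Group H] [Finite H] (hcomm : ∀ a b : H, a * b = b * a) :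
    Nat.card (H →* ℂˣ) = Nat.card H := by
  let _ : CommGroup H := { (inferInstance : Group H) with mul_comm := hcomm }
  exact CommGroup.card_monoidHom_of_hasEnoughRootsOfUnity H ℂ

/-- A finite group has finitely many linear characters. -/
theorem finite_hom {H : Type u} [Group H] [Finite H] (hcomm : ∀ a b : H, a * b = b * a) :
    Finite (H →* ℂˣ) := by
  apply Nat.finite_of_card_ne_zero
  rw [card_hom hcomm]
  exact Nat.card_pos.ne'

section Product

variable {G : Type u} [Group G] (W₁ W₂ : Subgroup G)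

theorem commute_subtype (hcomm : ∀ a ∈ W₁, ∀ b ∈ W₂, a * b = b * a) (m : W₁) (n : W₂) :
    Commute (W₁.subtype m) (W₂.subtype n) :=
  hcomm m m.2 n n.2

theorem noncommCoprod_inj (hdisj : W₁ ⊓ W₂ = ⊥) (hcomm : ∀ a ∈ W₁, ∀ b ∈ W₂, a * b = b * a) :
    Function.Injective (MonoidHom.noncommCoprod W₁.subtype W₂.subtype
      (commute_subtype W₁ W₂ hcomm)) := by
  rw [MonoidHom.noncommCoprod_injective]
  refine ⟨W₁.subtype_injective, W₂.subtype_injective, ?_⟩
  rw [Subgroup.range_subtype, Subgroup.range_subtype]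
  exact disjoint_iff.2 hdisj

theorem noncommCoprod_range_eq (hcomm : ∀ a ∈ W₁, ∀ b ∈ W₂, a * b = b * a) :
    (MonoidHom.noncommCoprod W₁.subtype W₂.subtype
      (commute_subtype W₁ W₂ hcomm)).range = W₁ ⊔ W₂ := by
  rw [MonoidHom.noncommCoprod_range, Subgroup.range_subtype, Subgroup.range_subtype]

/-- The isomorphism of the direct product with the join. -/
noncomputable def prodEquiv (hdisj : W₁ ⊓ W₂ = ⊥) (hcomm : ∀ a ∈ W₁, ∀ b ∈ W₂, a * b = b * a) :
    W₁ × W₂ ≃* ↥(W₁ ⊔ W₂) :=
  (MonoidHom.ofInjective (noncommCoprod_inj W₁ W₂ hdisj hcomm)).trans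
    (MulEquiv.subgroupCongr (noncommCoprod_range_eq W₁ W₂ hcomm))

theorem prodEquiv_coe (hdisj : W₁ ⊓ W₂ = ⊥) (hcomm : ∀ a ∈ W₁, ∀ b ∈ W₂, a * b = b * a)
    (x : W₁ × W₂) : ((prodEquiv W₁ W₂ hdisj hcomm x : ↥(W₁ ⊔ W₂)) : G) = (x.1 : G) * (x.2 : G) :=
  rfl

/-- The linear character of `W₁ ⊔ W₂` with given restrictions to `W₁` and `W₂`. -/
noncomputable def glue (hdisj : W₁ ⊓ W₂ = ⊥) (hcomm : ∀ a ∈ W₁, ∀ b ∈ W₂, a * b = b * a)
    (α : W₁ →* ℂˣ) (β : W₂ →* ℂˣ) : ↥(W₁ ⊔ W₂) →* ℂˣ :=
  (α.coprod β).comp (prodEquiv W₁ W₂ hdisj hcomm).symm.toMonoidHom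

variable {W₁ W₂}

theorem glue_prodEquiv (hdisj : W₁ ⊓ W₂ = ⊥) (hcomm : ∀ a ∈ W₁, ∀ b ∈ W₂, a * b = b * a)
    (α : W₁ →* ℂˣ) (β : W₂ →* ℂˣ) (x : W₁ × W₂) :
    glue W₁ W₂ hdisj hcomm α β (prodEquiv W₁ W₂ hdisj hcomm x) = α x.1 * β x.2 := by
  change (α.coprod β) ((prodEquiv W₁ W₂ hdisj hcomm).symm (prodEquiv W₁ W₂ hdisj hcomm x)) = _
  rw [MulEquiv.symm_apply_apply]
  rfl

theorem glue_left (hdisj : W₁ ⊓ W₂ = ⊥) (hcomm : ∀ a ∈ W₁, ∀ b ∈ W₂, a * b = b * a)
    (α : W₁ →* ℂˣ) (β : W₂ →* ℂˣ) (w : ↥(W₁ ⊔ W₂)) (hw : (w : G) ∈ W₁) :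
    glue W₁ W₂ hdisj hcomm α β w = α ⟨w, hw⟩ := by
  have h : w = prodEquiv W₁ W₂ hdisj hcomm (⟨w, hw⟩, 1) := by
    apply Subtype.ext
    rw [prodEquiv_coe]
    simp
  have h2 := glue_prodEquiv hdisj hcomm α β (⟨w, hw⟩, 1)
  rw [← h] at h2
  rw [h2, map_one, mul_one]

theorem glue_right (hdisj : W₁ ⊓ W₂ = ⊥) (hcomm : ∀ a ∈ W₁, ∀ b ∈ W₂, a * b = b * a)
    (α : W₁ →* ℂˣ) (β : W₂ →* ℂˣ) (w : ↥(W₁ ⊔ W₂)) (hw : (w : G) ∈ W₂) :
    glue W₁ W₂ hdisj hcomm α β w = β ⟨w, hw⟩ := by
  have h : w = prodEquiv W₁ W₂ hdisj hcomm (1, ⟨w, hw⟩) := by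
    apply Subtype.ext
    rw [prodEquiv_coe]
    simp
  have h2 := glue_prodEquiv hdisj hcomm α β (1, ⟨w, hw⟩)
  rw [← h] at h2
  rw [h2, map_one, one_mul]

theorem glue_eq_mul (hdisj : W₁ ⊓ W₂ = ⊥) (hcomm : ∀ a ∈ W₁, ∀ b ∈ W₂, a * b = b * a)
    (α : W₁ →* ℂˣ) (β : W₂ →* ℂˣ) :
    glue W₁ W₂ hdisj hcomm α β = glue W₁ W₂ hdisj hcomm α 1 * glue W₁ W₂ hdisj hcomm 1 β := by
  apply MonoidHom.ext
  intro w
  obtain ⟨x, rfl⟩ := (prodEquiv W₁ W₂ hdisj hcomm).surjective w
  change _ = glue W₁ W₂ hdisj hcomm α 1 _ * glue W₁ W₂ hdisj hcomm 1 β _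
  rw [glue_prodEquiv, glue_prodEquiv, glue_prodEquiv]
  simp

/-- Every linear character of `W₁ ⊔ W₂` is glued from unique characters of `W₁` and `W₂`. -/
theorem glue_bijective (hdisj : W₁ ⊓ W₂ = ⊥) (hcomm : ∀ a ∈ W₁, ∀ b ∈ W₂, a * b = b * a) :
    Function.Bijective (fun p : (W₁ →* ℂˣ) × (W₂ →* ℂˣ) => glue W₁ W₂ hdisj hcomm p.1 p.2) := by
  constructor
  · rintro ⟨α, β⟩ ⟨α', β'⟩ h
    change glue W₁ W₂ hdisj hcomm α β = glue W₁ W₂ hdisj hcomm α' β' at h
    refine Prod.ext ?_ ?_
    · apply MonoidHom.ext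
      intro w
      have := DFunLike.congr_fun h (⟨w, (le_sup_left : W₁ ≤ W₁ ⊔ W₂) w.2⟩ : ↥(W₁ ⊔ W₂))
      rw [glue_left _ _ _ _ _ w.2, glue_left _ _ _ _ _ w.2] at this
      exact this
    · apply MonoidHom.ext
      intro w
      have := DFunLike.congr_fun h (⟨w, (le_sup_right : W₂ ≤ W₁ ⊔ W₂) w.2⟩ : ↥(W₁ ⊔ W₂))
      rw [glue_right _ _ _ _ _ w.2, glue_right _ _ _ _ _ w.2] at this
      exact this
  · intro ω
    refine ⟨(ω.comp (Subgroup.inclusion le_sup_left), ω.comp (Subgroup.inclusion le_sup_right)), ?_⟩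
    apply MonoidHom.ext
    intro w
    obtain ⟨x, rfl⟩ := (prodEquiv W₁ W₂ hdisj hcomm).surjective w
    change glue W₁ W₂ hdisj hcomm _ _ _ = _
    rw [glue_prodEquiv]
    change ω (Subgroup.inclusion le_sup_left x.1) * ω (Subgroup.inclusion le_sup_right x.2) = _
    rw [← map_mul]
    rfl

end Product

/-- A matrix `b i + c j` of size `m × n`, `m + 2 ≤ n`, with fewer than `2 m` nonzero entries is zero, or
has just one nonzero column and this one is constant, or just one nonzero row and this one is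
constant. -/
theorem few_nonzero {I J : Type*} [Finite I] [Finite J] (b : I → ℂ) (c : J → ℂ)
    (hm : 0 < Nat.card I) (hmn : Nat.card I + 2 ≤ Nat.card J)
    (hfew : Nat.card {p : I × J // b p.1 + c p.2 ≠ 0} < 2 * Nat.card I) :
    (∀ i j, b i + c j = 0) ∨
    (∃ j₀, ∃ a : ℂ, (∀ i, b i + c j₀ = a) ∧ ∀ i j, j ≠ j₀ → b i + c j = 0) ∨
    (∃ i₀, ∃ a : ℂ, (∀ j, b i₀ + c j = a) ∧ ∀ i j, i ≠ i₀ → b i + c j = 0) := by
  classical
  have := Fintype.ofFinite I
  have := Fintype.ofFinite J
  rw [Nat.card_eq_fintype_card] at hm hmn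
  rw [Nat.card_eq_fintype_card (α := J)] at hmn
  have hcount : Nat.card {p : I × J // b p.1 + c p.2 ≠ 0} =
      ∑ i : I, (Finset.univ.filter fun j : J => b i + c j ≠ 0).card := by
    rw [Nat.card_eq_fintype_card, Fintype.card_subtype]
    rw [Finset.card_filter, ← Finset.univ_product_univ, Finset.sum_product]
    refine Finset.sum_congr rfl fun i _ => ?_
    rw [Finset.card_filter]
  rw [hcount, Nat.card_eq_fintype_card] at hfew
  -- a row with at most one nonzero entry
  obtain ⟨i₀, -, hi₀⟩ : ∃ i₀ ∈ (Finset.univ : Finset I),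
      (Finset.univ.filter fun j : J => b i₀ + c j ≠ 0).card < 2 := by
    apply Finset.exists_lt_of_sum_lt
    rw [Finset.sum_const, Finset.card_univ, smul_eq_mul, mul_comm]
    exact hfew
  rcases Nat.lt_or_ge (Finset.univ.filter fun j : J => b i₀ + c j ≠ 0).card 1 with h0 | h1
  · -- all entries of the row vanish
    have hz : ∀ j, c j = - b i₀ := by
      intro j
      by_contra hne
      have : j ∈ Finset.univ.filter fun j : J => b i₀ + c j ≠ 0 := by
        rw [Finset.mem_filter]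
        refine ⟨Finset.mem_univ _, fun h => hne ?_⟩
        linear_combination h
      have := Finset.card_pos.2 ⟨j, this⟩
      omega
    by_cases hall : ∀ i, b i = b i₀
    · left
      intro i j
      rw [hall i, hz j]
      ring
    · push Not at hall
      obtain ⟨i₁, hi₁⟩ := hall
      right; right
      refine ⟨i₁, b i₁ - b i₀, fun j => by rw [hz j]; ring, ?_⟩
      intro i j hi
      by_contra hne
      have hrow : ∀ k : I, b k ≠ b i₀ →
          (Finset.univ.filter fun j : J => b k + c j ≠ 0).card = Fintype.card J := by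
        intro k hk
        rw [Finset.filter_true_of_mem, Finset.card_univ]
        intro j _ h
        rw [hz j] at h
        apply hk
        linear_combination h
      have hi' : b i ≠ b i₀ := by
        intro h
        apply hne
        rw [h, hz j]
        ring
      have hle : ∑ k ∈ ({i, i₁} : Finset I), (Finset.univ.filter fun j : J => b k + c j ≠ 0).card ≤
          ∑ k : I, (Finset.univ.filter fun j : J => b k + c j ≠ 0).card :=
        Finset.sum_le_sum_of_subset (Finset.subset_univ _)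
      rw [Finset.sum_pair hi, hrow i hi', hrow i₁ hi₁] at hle
      omega
  · -- exactly one nonzero entry in the row
    have h1' : (Finset.univ.filter fun j : J => b i₀ + c j ≠ 0).card = 1 := by omega
    obtain ⟨j₀, hj₀⟩ := Finset.card_eq_one.1 h1'
    have hj₀mem : b i₀ + c j₀ ≠ 0 := by
      have : j₀ ∈ Finset.univ.filter fun j : J => b i₀ + c j ≠ 0 := by
        rw [hj₀]; exact Finset.mem_singleton_self _
      exact (Finset.mem_filter.1 this).2
    have hz : ∀ j, j ≠ j₀ → c j = - b i₀ := by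
      intro j hj
      by_contra hne
      have : j ∈ Finset.univ.filter fun j : J => b i₀ + c j ≠ 0 := by
        rw [Finset.mem_filter]
        refine ⟨Finset.mem_univ _, fun h => hne ?_⟩
        linear_combination h
      rw [hj₀, Finset.mem_singleton] at this
      exact hj this
    right; left
    have hall : ∀ i, b i = b i₀ := by
      by_contra hcon
      push Not at hcon
      obtain ⟨i₁, hi₁⟩ := hcon
      have hpos : ∀ i : I, 1 ≤ (Finset.univ.filter fun j : J => b i + c j ≠ 0).card := by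
        intro i
        by_cases hi : b i = b i₀
        · refine Finset.card_pos.2 ⟨j₀, ?_⟩
          rw [Finset.mem_filter, hi]
          exact ⟨Finset.mem_univ _, hj₀mem⟩
        · obtain ⟨j, hj⟩ : ∃ j : J, j ≠ j₀ := by
            have : 1 < Fintype.card J := by omega
            have := Fintype.one_lt_card_iff_nontrivial.1 this
            exact exists_ne j₀
          refine Finset.card_pos.2 ⟨j, ?_⟩
          rw [Finset.mem_filter, hz j hj]
          refine ⟨Finset.mem_univ _, fun h => hi ?_⟩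
          linear_combination h
      have hbig : Fintype.card J - 1 ≤ (Finset.univ.filter fun j : J => b i₁ + c j ≠ 0).card := by
        rw [← Finset.card_univ, ← Finset.card_erase_of_mem (Finset.mem_univ j₀)]
        apply Finset.card_le_card
        intro j hj
        rw [Finset.mem_erase] at hj
        rw [Finset.mem_filter, hz j hj.1]
        refine ⟨Finset.mem_univ _, fun h => hi₁ ?_⟩
        linear_combination h
      have hsum : ∑ i : I, (Finset.univ.filter fun j : J => b i + c j ≠ 0).card =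
          (Finset.univ.filter fun j : J => b i₁ + c j ≠ 0).card +
            ∑ i ∈ Finset.univ.erase i₁, (Finset.univ.filter fun j : J => b i + c j ≠ 0).card :=
        (Finset.add_sum_erase _ _ (Finset.mem_univ i₁)).symm
      have hsum2 : Fintype.card I - 1 ≤
          ∑ i ∈ Finset.univ.erase i₁, (Finset.univ.filter fun j : J => b i + c j ≠ 0).card := by
        have := Finset.card_nsmul_le_sum (Finset.univ.erase i₁)
          (fun i => (Finset.univ.filter fun j : J => b i + c j ≠ 0).card) 1 (fun i _ => hpos i)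
        rw [Finset.card_erase_of_mem (Finset.mem_univ _), Finset.card_univ, smul_eq_mul,
          mul_one] at this
        exact this
      omega
    refine ⟨j₀, b i₀ + c j₀, fun i => by rw [hall i], fun i j hj => ?_⟩
    rw [hall i, hz j hj]
    ring

end Cfsg.Agent.OddOrderCharacters.CyclicTIChars
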