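import Cfsg.Agent.OddOrderCharacters.PF4Fam

/-!
# Peterfalvi (4.3)–(4.5): existence of the family `μ_ij`, `δ_j`
-/

set_option autoImplicit false

open scoped ComplexConjugate
open Cfsg

namespace Cfsg.Agent.OddOrderCharacters.PF4

open Cfsg.Agent.OddOrderCharacters.PFDefs Cfsg.Agent.OddOrderCharacters.PF4Fam

universe u

variable {G : Type u} [Group G]

/-- Linear characters of `W ≤ L` seen as linear characters of `W.subgroupOf L`. -/
noncomputable def down {L W : Subgroup G} (h : W ≤ L) (ω : ↥W →* ℂˣ) :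
    ↥(W.subgroupOf L) →* ℂˣ :=
  ω.comp (Subgroup.subgroupOfEquivOfLe h).toMonoidHom

theorem down_apply {L W : Subgroup G} (h : W ≤ L) (ω : ↥W →* ℂˣ) (w : ↥(W.subgroupOf L)) :
    down h ω w = ω ⟨(w : ↥L), Subgroup.mem_subgroupOf.1 w.2⟩ := rfl

theorem down_mk {L W : Subgroup G} (h : W ≤ L) (ω : ↥W →* ℂˣ) (w : ↥W) (hw : (w : G) ∈ L) :
    down h ω ⟨⟨w, hw⟩, Subgroup.mem_subgroupOf.2 w.2⟩ = ω w := rfl

/-- The inverse of `down`. -/
noncomputable def up {L W : Subgroup G} (h : W ≤ L) (ω : ↥(W.subgroupOf L) →* ℂˣ) :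
    ↥W →* ℂˣ :=
  ω.comp (Subgroup.subgroupOfEquivOfLe h).symm.toMonoidHom

theorem up_apply {L W : Subgroup G} (h : W ≤ L) (ω : ↥(W.subgroupOf L) →* ℂˣ) (w : ↥W) :
    up h ω w = ω ⟨⟨w, h w.2⟩, Subgroup.mem_subgroupOf.2 w.2⟩ := rfl

theorem down_up {L W : Subgroup G} (h : W ≤ L) (ω : ↥(W.subgroupOf L) →* ℂˣ) :
    down h (up h ω) = ω := by
  ext w
  rfl

theorem up_down {L W : Subgroup G} (h : W ≤ L) (ω : ↥W →* ℂˣ) : up h (down h ω) = ω := by
  ext w
  rfl

theorem down_injective {L W : Subgroup G} (h : W ≤ L) :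
    Function.Injective (down h : (↥W →* ℂˣ) → _) := by
  intro a b hab
  rw [← up_down h a, hab, up_down]

theorem down_mul {L W : Subgroup G} (h : W ≤ L) (a b : ↥W →* ℂˣ) :
    down h (a * b) = down h a * down h b := by
  ext w
  rfl

theorem down_one {L W : Subgroup G} (h : W ≤ L) : down h (1 : ↥W →* ℂˣ) = 1 := by
  ext w
  rfl

theorem down_mem_lin₁ {L W Z : Subgroup G} (h : W ≤ L) {φ : ↥W →* ℂˣ} :
    down h φ ∈ lin₁ (W.subgroupOf L) (Z.subgroupOf L) ↔ φ ∈ lin₁ W Z := by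
  constructor
  · intro hφ w hw
    exact hφ ⟨⟨w, h w.2⟩, Subgroup.mem_subgroupOf.2 w.2⟩ (Subgroup.mem_subgroupOf.2 hw)
  · intro hφ w hw
    exact hφ _ (Subgroup.mem_subgroupOf.1 hw)

theorem colSum_down {X : Type*} {L W Z : Subgroup G} (h : W ≤ L)
    (f : (↥(W.subgroupOf L) →* ℂˣ) → (X → ℂ)) (ω : ↥W →* ℂˣ) :
    colSum (W.subgroupOf L) (Z.subgroupOf L) f (down h ω) =
      colSum W Z (fun ω => f (down h ω)) ω := by
  show ∑ᶠ φ ∈ lin₁ (W.subgroupOf L) (Z.subgroupOf L), f (φ * down h ω) =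
    ∑ᶠ φ ∈ lin₁ W Z, f (down h (φ * ω))
  symm
  refine finsum_mem_eq_of_bijOn (down h) ⟨?_, ?_, ?_⟩ ?_
  · intro φ hφ
    exact (down_mem_lin₁ h).2 hφ
  · exact (down_injective h).injOn
  · intro φ hφ
    refine ⟨up h φ, ?_, down_up h φ⟩
    rw [← down_mem_lin₁ h, down_up]
    exact hφ
  · intro φ _
    rw [down_mul]

/-- Peterfalvi (4.3)–(4.5): the irreducible characters `μ_ij` and the signs `δ_j`. -/
theorem exists_primeTIFam [Fintype G] {L K W W₁ W₂ : Subgroup G} [Fintype ↥L]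
    (h : PrimeTIHyp L K W W₁ W₂) :
    ∃ (μ : (↥W →* ℂˣ) → (↥L → ℂ)) (δ : (↥W →* ℂˣ) → ℤ), PrimeTIFam L K W W₁ W₂ μ δ := by
  have hKL : K ≤ L := h.le
  have hW₁L : W₁ ≤ L := by rw [← h.sup_L]; exact le_sup_right
  have hW₂L : W₂ ≤ L := h.W₂_le.trans hKL
  have hWL : W ≤ L := by rw [← h.sup_eq]; exact sup_le hW₁L hW₂L
  have hnorm : (K.subgroupOf L).Normal := ⟨fun n hn g =>
    Subgroup.mem_subgroupOf.2 (h.normal g g.2 n (Subgroup.mem_subgroupOf.1 hn))⟩
  have hsup : W₁.subgroupOf L ⊔ W₂.subgroupOf L = W.subgroupOf L := by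
    rw [← Subgroup.subgroupOf_sup hW₁L hW₂L, h.sup_eq]
  have hinf : K.subgroupOf L ⊓ W₁.subgroupOf L = ⊥ := by
    rw [eq_bot_iff]
    intro x hx
    have hx' : (x : G) ∈ K ⊓ W₁ := Subgroup.mem_inf.2
      ⟨Subgroup.mem_subgroupOf.1 (Subgroup.mem_inf.1 hx).1,
        Subgroup.mem_subgroupOf.1 (Subgroup.mem_inf.1 hx).2⟩
    rw [h.inf_eq, Subgroup.mem_bot] at hx'
    exact Subgroup.mem_bot.2 (Subtype.ext hx')
  have htop : K.subgroupOf L ⊔ W₁.subgroupOf L = ⊤ := by
    rw [← Subgroup.subgroupOf_sup hKL hW₁L, h.sup_L, Subgroup.subgroupOf_self]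
  have hne₁ : W₁.subgroupOf L ≠ ⊥ := by
    intro h0
    apply h.W₁_ne
    rw [Subgroup.subgroupOf_eq_bot] at h0
    rw [eq_bot_iff]
    intro x hx
    exact (Subgroup.disjoint_def.1 h0 hx (hW₁L hx) : x = 1) ▸ Subgroup.one_mem _
  have hne₂ : W₂.subgroupOf L ≠ ⊥ := by
    intro h0
    apply h.W₂_ne
    rw [Subgroup.subgroupOf_eq_bot] at h0
    rw [eq_bot_iff]
    intro x hx
    exact (Subgroup.disjoint_def.1 h0 hx (hW₂L hx) : x = 1) ▸ Subgroup.one_mem _
  have hcyc₁ : IsCyclic (W₁.subgroupOf L) := by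
    have := h.W₁_cyclic
    exact isCyclic_of_surjective (Subgroup.subgroupOfEquivOfLe hW₁L).symm
      (Subgroup.subgroupOfEquivOfLe hW₁L).symm.surjective
  have hcyc₂ : IsCyclic (W₂.subgroupOf L) := by
    have := h.W₂_cyclic
    exact isCyclic_of_surjective (Subgroup.subgroupOfEquivOfLe hW₂L).symm
      (Subgroup.subgroupOfEquivOfLe hW₂L).symm.surjective
  have hcard₁ : Nat.card (W₁.subgroupOf L) = Nat.card W₁ :=
    Nat.card_congr (Subgroup.subgroupOfEquivOfLe hW₁L).toEquiv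
  have hcardW : Nat.card (W.subgroupOf L) = Nat.card W :=
    Nat.card_congr (Subgroup.subgroupOfEquivOfLe hWL).toEquiv
  have hhall : Nat.Coprime (Nat.card (W₁.subgroupOf L)) (W₁.subgroupOf L).index := by
    rw [hcard₁]
    exact h.W₁_hall
  have hle : W₂.subgroupOf L ≤ K.subgroupOf L := fun x hx =>
    Subgroup.mem_subgroupOf.2 (h.W₂_le (Subgroup.mem_subgroupOf.1 hx))
  have hcent : ∀ x ∈ W₁.subgroupOf L, x ≠ 1 →
      K.subgroupOf L ⊓ Subgroup.centralizer ({x} : Set ↥L) = W₂.subgroupOf L := by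
    intro x hx hx1
    have h1 := h.centralizer_eq x (Subgroup.mem_subgroupOf.1 hx)
      (fun h0 => hx1 (Subtype.ext h0))
    ext y
    rw [Subgroup.mem_inf, Subgroup.mem_subgroupOf, Subgroup.mem_subgroupOf, ← h1,
      Subgroup.mem_inf, Subgroup.mem_centralizer_singleton_iff,
      Subgroup.mem_centralizer_singleton_iff, Subtype.ext_iff]
    rfl
  have hodd : Odd (Nat.card ↥(W.subgroupOf L)) := by
    rw [hcardW]
    exact h.odd
  obtain ⟨μ, δ, hinj, hirr, hone, hsgn, hsgn1, hagree, hres, hind, hval, hdeg, hvan⟩ :=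
    exists_family (K.subgroupOf L) (W.subgroupOf L) (W₁.subgroupOf L) (W₂.subgroupOf L)
      hsup hinf htop hne₁ hcyc₁ hhall hne₂ hcyc₂ hle hcent hodd
  have hag : ∀ ω ω' : ↥W →* ℂˣ, (∀ w : ↥W, (w : G) ∈ W₂ → ω w = ω' w) →
      ∀ w : ↥(W.subgroupOf L), (w : ↥L) ∈ W₂.subgroupOf L → down hWL ω w = down hWL ω' w :=
    fun ω ω' hω w hw => hω _ (Subgroup.mem_subgroupOf.1 hw)
  refine ⟨fun ω => μ (down hWL ω), fun ω => δ (down hWL ω), ?_⟩
  exact
    { injective := fun a b hab => down_injective hWL (hinj hab)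
      irr := fun ω => hirr _
      map_one := by
        show μ (down hWL 1) = fun _ => 1
        rw [down_one]
        exact hone
      sign := fun ω => hsgn _
      sign_one := by
        show δ (down hWL 1) = 1
        rw [down_one]
        exact hsgn1
      sign_congr := fun ω ω' hω => (hagree _ _ (hag ω ω' hω)).1
      restrict_congr := fun ω ω' hω k hk =>
        (hagree _ _ (hag ω ω' hω)).2.1 k (Subgroup.mem_subgroupOf.2 hk)
      restrict_irr := fun ω => hres _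
      ind_restrict := fun ω => by
        show indFun (K.subgroupOf L) (fun k => μ (down hWL ω) k) = _
        rw [hind, colSum_down]
      eq_on := fun ω w hw hw2 => by
        have := hval (down hWL ω) ⟨⟨w, hw⟩, Subgroup.mem_subgroupOf.2 w.2⟩
          (fun h0 => hw2 (Subgroup.mem_subgroupOf.1 h0))
        rw [down_mk] at this
        exact this
      ind_sub := fun ω ω' hω α hα => by
        have h1 := (hagree _ _ (hag ω ω' hω)).2.2
        rw [← h1]
        congr 1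
        funext w
        rw [hα w (Subgroup.mem_subgroupOf.1 w.2), down_apply, down_apply]
      degree := fun ω => by
        obtain ⟨n, hn⟩ := hdeg (down hWL ω)
        exact ⟨n, by rw [hn, hcard₁]⟩
      vanish := fun θ hθ hne w hw hw2 => by
        have h1 := (hvan θ hθ (fun ω => by
          have := hne (up hWL ω)
          rwa [down_up] at this)).1 ⟨⟨w, hw⟩, Subgroup.mem_subgroupOf.2 w.2⟩
          (fun h0 => hw2 (Subgroup.mem_subgroupOf.1 h0))
        exact h1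
      other_induced := fun θ hθ hne => (hvan θ hθ (fun ω => by
          have := hne (up hWL ω)
          rwa [down_up] at this)).2 }

end Cfsg.Agent.OddOrderCharacters.PF4
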