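import Mathlib
import Cfsg.Prelude.Def_OddOrderChar
import Cfsg.Prelude.Def_OddOrderLocal
import Cfsg.Agent.Characters.Core
import Cfsg.Agent.Characters.Linear
import Cfsg.Agent.OddOrderCharacters.VChar
import Cfsg.Agent.OddOrderCharacters.IndRes
import Cfsg.Agent.OddOrderCharacters.CyclicTIAlpha
import Cfsg.Agent.OddOrderCharacters.CyclicTIChars
import Cfsg.Agent.OddOrderCharacters.PivotMain

/-!
# Existence of the cyclic TI family (Peterfalvi (3.5)): tools

* `eq_on_of`: the values of a family on `W` outside `W₁ ∪ W₂` are forced by the other properties;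
* `comb`: the class function with given integer coordinates.
-/

set_option autoImplicit false

open scoped ComplexConjugate
open Cfsg Matrix
open Cfsg.Agent.Characters.Core
open Cfsg.Agent.OddOrderCharacters.CyclicTI
open Cfsg.Agent.OddOrderCharacters.CyclicTIAlpha
open Cfsg.Agent.OddOrderCharacters.CyclicTIChars
open Cfsg.Agent.OddOrderCharacters.VChar
open Cfsg.Agent.OddOrderCharacters.IndRes
open Cfsg.Agent.OddOrderCharacters.Pivot

namespace Cfsg.Agent.OddOrderCharacters.CyclicTIExist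

universe u

/-- The function `(1 - φ)(1 - ψ)`. -/
noncomputable def alf {W : Type*} [Group W] (φ ψ : W →* ℂˣ) : W → ℂ :=
  fun w => 1 - (φ w : ℂ) - (ψ w : ℂ) + (φ w : ℂ) * (ψ w : ℂ)

theorem alf_def {W : Type*} [Group W] (φ ψ : W →* ℂˣ) :
    alf φ ψ = fun w => 1 - (φ w : ℂ) - (ψ w : ℂ) + (φ w : ℂ) * (ψ w : ℂ) := rfl

/-- `(1 - φ)(1 - ψ)` is a generalized character. -/
theorem gen_alf {W : Type*} [Group W] (φ ψ : W →* ℂˣ) :
    IsGeneralizedCharacter W (alf φ ψ) := by
  have h1 : IsGeneralizedCharacter W (fun w => (φ w : ℂ)) :=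
    gen_of_irr (Cfsg.Agent.Characters.Linear.isIrrCharacter_hom φ)
  have h2 : IsGeneralizedCharacter W (fun w => (ψ w : ℂ)) :=
    gen_of_irr (Cfsg.Agent.Characters.Linear.isIrrCharacter_hom ψ)
  have h : alf φ ψ = (1 : W → ℂ) - (fun w => (φ w : ℂ)) - (fun w => (ψ w : ℂ)) +
      (fun w => (φ w : ℂ)) * (fun w => (ψ w : ℂ)) := by
    funext w; simp [alf]
  rw [h]
  exact gen_add (gen_sub (gen_sub gen_one h1) h2) (gen_mul h1 h2)

/-- The class function with coordinates `m` with respect to the irreducible characters. -/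
noncomputable def comb {G : Type u} [Group G] [Fintype (IrrCharacter G)]
    (m : IrrCharacter G → ℤ) : G → ℂ :=
  ∑ χ : IrrCharacter G, m χ • (χ : G → ℂ)

section comb

variable {G : Type u} [Group G] [Fintype (IrrCharacter G)]

theorem comb_add (m m' : IrrCharacter G → ℤ) : comb (m + m') = comb m + comb m' := by
  simp only [comb, Pi.add_apply, add_smul, Finset.sum_add_distrib]

theorem comb_neg (m : IrrCharacter G → ℤ) : comb (-m) = -comb m := by
  simp only [comb, Pi.neg_apply, neg_smul, Finset.sum_neg_distrib]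

theorem gen_comb [Finite G] (m : IrrCharacter G → ℤ) : IsGeneralizedCharacter G (comb m) :=
  isGeneralizedCharacter_iff.mpr ⟨m, rfl⟩

theorem exists_comb [Finite G] {θ : G → ℂ} (hθ : IsGeneralizedCharacter G θ) :
    ∃ m : IrrCharacter G → ℤ, θ = comb m :=
  isGeneralizedCharacter_iff.mp hθ

theorem classInner_comb [Fintype G] (m m' : IrrCharacter G → ℤ) :
    classInner (comb m) (comb m') = ((m ⬝ᵥ m' : ℤ) : ℂ) := by
  have h : ∀ m : IrrCharacter G → ℤ, comb m =
      ∑ χ : IrrCharacter G, ((m χ : ℤ) : ℂ) • (χ : G → ℂ) := by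
    intro m
    simp only [comb]
    refine Finset.sum_congr rfl fun χ _ => ?_
    funext g
    simp [zsmul_eq_mul]
  rw [h, h, classInner_sum_smul_sum_smul]
  simp only [dotProduct]
  push_cast
  refine Finset.sum_congr rfl fun χ _ => ?_
  rw [map_intCast]

end comb

/-- The values on `W` off `W₁ ∪ W₂` of an orthonormal family satisfying the induction identity. -/
theorem eq_on_of {G : Type u} [Group G] [Fintype G] (W₁ W₂ : Subgroup G)
    (hW : IsSelfNormalizingCyclic W₁ W₂) (χ : (↥(W₁ ⊔ W₂) →* ℂˣ) → (G → ℂ))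
    (hcf : ∀ ω, IsClassFunction G (χ ω))
    (horth : ∀ ω ω', classInner (χ ω) (χ ω') =
      @ite ℂ (ω = ω') (Classical.propDecidable (ω = ω')) 1 0)
    (hone : χ 1 = fun _ => 1)
    (hind : ∀ φ ψ : ↥(W₁ ⊔ W₂) →* ℂˣ, φ ≠ 1 → ψ ≠ 1 →
      (∀ w : ↥(W₁ ⊔ W₂), (w : G) ∈ W₂ → φ w = 1) → (∀ w : ↥(W₁ ⊔ W₂), (w : G) ∈ W₁ → ψ w = 1) →
      indFun (W₁ ⊔ W₂) (fun w => 1 - (φ w : ℂ) - (ψ w : ℂ) + (φ w : ℂ) * (ψ w : ℂ)) =
        fun g => 1 - χ φ g - χ ψ g + χ (φ * ψ) g)
    (ω : ↥(W₁ ⊔ W₂) →* ℂˣ) (w : ↥(W₁ ⊔ W₂)) (hw₁ : (w : G) ∉ W₁) (hw₂ : (w : G) ∉ W₂) :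
    χ ω w = (ω w : ℂ) := by
  classical
  -- the function `ω` cut off at `W₁ ∪ W₂`
  let α : ↥(W₁ ⊔ W₂) → ℂ := fun w => if ((w : G) ∈ W₁ ∨ (w : G) ∈ W₂) then 0 else (ω w : ℂ)
  have hα0 : ∀ w : ↥(W₁ ⊔ W₂), ((w : G) ∈ W₁ ∨ (w : G) ∈ W₂) → α w = 0 := fun w hw => if_pos hw
  have hα1 : α w = (ω w : ℂ) := if_neg (by rw [not_or]; exact ⟨hw₁, hw₂⟩)
  have key : (χ ω - indFun (W₁ ⊔ W₂) α) w = 0 := by
    refine vanishes_of_orthogonal W₁ W₂ hW (χ ω - indFun (W₁ ⊔ W₂) α) ?_ ?_ w hw₁ hw₂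
    · intro g h
      simp only [Pi.sub_apply]
      rw [hcf ω g h, isClassFunction_indFun _ α g h]
    · intro φ ψ hφ1 hψ1 hφ hψ
      rw [classInner_sub_right]
      have h1 : classInner (indFun (W₁ ⊔ W₂)
          (fun w => 1 - (φ w : ℂ) - (ψ w : ℂ) + (φ w : ℂ) * (ψ w : ℂ))) (χ ω) =
          (if 1 = ω then 1 else 0) - (if φ = ω then 1 else 0) - (if ψ = ω then 1 else 0) +
            (if φ * ψ = ω then 1 else 0) := by
        have h2 : (fun g => 1 - χ φ g - χ ψ g + χ (φ * ψ) g) = χ 1 - χ φ - χ ψ + χ (φ * ψ) := by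
          funext g
          simp [hone]
        rw [hind φ ψ hφ1 hψ1 hφ hψ, h2, classInner_add_left, classInner_sub_left,
          classInner_sub_left, horth, horth, horth, horth]
        congr
      have h3 : classInner (indFun (W₁ ⊔ W₂)
          (fun w => 1 - (φ w : ℂ) - (ψ w : ℂ) + (φ w : ℂ) * (ψ w : ℂ)))
          (indFun (W₁ ⊔ W₂) α) =
          (if 1 = ω then 1 else 0) - (if φ = ω then 1 else 0) - (if ψ = ω then 1 else 0) +
            (if φ * ψ = ω then 1 else 0) := by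
        rw [classInner_indFun_indFun hW _ _ (alpha_eq_zero hφ hψ) hα0]
        have h4 : classInner (fun w => 1 - (φ w : ℂ) - (ψ w : ℂ) + (φ w : ℂ) * (ψ w : ℂ)) α =
            classInner (fun w => 1 - (φ w : ℂ) - (ψ w : ℂ) + (φ w : ℂ) * (ψ w : ℂ))
              (fun w => (ω w : ℂ)) := by
          rw [ci_def, ci_def]
          congr 1
          refine Finset.sum_congr rfl fun v _ => ?_
          by_cases hv : (v : G) ∈ W₁ ∨ (v : G) ∈ W₂
          · rw [alpha_eq_zero hφ hψ v hv, zero_mul, zero_mul]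
          · have : α v = (ω v : ℂ) := if_neg hv
            rw [this]
        rw [h4]
        have h5 : (fun w : ↥(W₁ ⊔ W₂) => 1 - (φ w : ℂ) - (ψ w : ℂ) + (φ w : ℂ) * (ψ w : ℂ)) =
            (fun w => ((1 : ↥(W₁ ⊔ W₂) →* ℂˣ) w : ℂ)) - (fun w => (φ w : ℂ)) -
              (fun w => (ψ w : ℂ)) + (fun w => ((φ * ψ) w : ℂ)) := by
          funext v
          simp
        rw [h5, classInner_add_left, classInner_sub_left, classInner_sub_left,
          classInner_hom, classInner_hom, classInner_hom, classInner_hom]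
      rw [h1, h3, sub_self]
  rw [Pi.sub_apply, sub_eq_zero] at key
  rw [key, indFun_apply_of_notMem hW α hα0 w hw₁ hw₂, hα1]

end Cfsg.Agent.OddOrderCharacters.CyclicTIExist
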