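import Mathlib
import Cfsg.Agent.OddOrderCharacters.PFDefs
import Cfsg.Agent.OddOrderCharacters.CyclicTIAlpha
import Cfsg.Agent.OddOrderCharacters.CyclicTICoeff
import Cfsg.Agent.OddOrderCharacters.CyclicTIUnique
import Cfsg.Agent.OddOrderCharacters.VChar
import Cfsg.Agent.OddOrderCharacters.PF3bBasic

/-!
# Peterfalvi §3: properties of the cyclic TI family `η_ij`
-/

set_option autoImplicit false
open Cfsg
open scoped ComplexConjugate
open Cfsg.Agent.OddOrderCharacters.PFDefs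
open Cfsg.Agent.Characters.Core

namespace Cfsg.Agent.OddOrderCharacters.PF3b

variable {G : Type*} [Group G] [Fintype G] {W W₁ W₂ : Subgroup G}
  {η : (↥W →* ℂˣ) → (G → ℂ)}

/-- A function on `W` vanishing off `V` induces a function vanishing off the conjugates of `V`. -/
theorem indFun_eq_zero_off {α : ↥W → ℂ} (hα : ∀ w : ↥W, (w : G) ∉ cycTIset W W₁ W₂ → α w = 0)
    {g : G} (hg : g ∉ classSupport (cycTIset W W₁ W₂) ⊤) : indFun W α g = 0 := by
  rw [indFun_apply]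
  rw [Finset.sum_eq_zero, mul_zero]
  intro x _
  by_cases hx : x⁻¹ * g * x ∈ W
  · rw [extendByZero_of_mem W α hx]
    apply hα
    intro hV
    exact hg ⟨x, Subgroup.mem_top x, x⁻¹ * g * x, hV, by group⟩
  · exact extendByZero_of_notMem W α hx

theorem alpha_eq_zero_off {φ ψ : ↥W →* ℂˣ} (hφ : φ ∈ lin₁ W W₂) (hψ : ψ ∈ lin₁ W W₁) (w : ↥W)
    (hw : (w : G) ∉ cycTIset W W₁ W₂) : (1 - (φ w : ℂ)) * (1 - (ψ w : ℂ)) = 0 := by
  have h : (w : G) ∈ W₁ ∨ (w : G) ∈ W₂ := by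
    by_contra hcon
    exact hw ⟨w.2, hcon⟩
  rcases h with h | h
  · rw [hψ w h]; simp
  · rw [hφ w h]; simp

/-! ### Basic properties -/

section basic

variable (hη : CyclicTIFam W W₁ W₂ η)
include hη

theorem eta_gen (ω : ↥W →* ℂˣ) : IsGeneralizedCharacter G (η ω) :=
  VChar.gen_of_irr_or_neg (hη.irr_or_neg ω)

theorem eta_classFun (ω : ↥W →* ℂˣ) : IsClassFunction G (η ω) :=
  VChar.gen_isClassFunction (eta_gen hη ω)

theorem eta_norm (ω : ↥W →* ℂˣ) : classInner (η ω) (η ω) = 1 := by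
  rw [hη.orthonormal, if_pos rfl]

theorem eta_orth {ω ω' : ↥W →* ℂˣ} (hne : ω ≠ ω') : classInner (η ω) (η ω') = 0 := by
  rw [hη.orthonormal, if_neg hne]

theorem eta_injective : Function.Injective η := by
  intro ω ω' h
  by_contra hne
  have h1 := eta_orth hη hne
  rw [h, eta_norm hη] at h1
  exact one_ne_zero h1

theorem eta_ne_zero (ω : ↥W →* ℂˣ) : η ω ≠ 0 := by
  intro h
  have h1 := eta_norm hη ω
  rw [h, classInner_zero_left] at h1
  exact zero_ne_one h1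

theorem eta_apply (ω : ↥W →* ℂˣ) (w : ↥W) (hw : (w : G) ∈ cycTIset W W₁ W₂) :
    η ω w = (ω w : ℂ) :=
  hη.eq_on ω w (fun h => hw.2 (Or.inl h)) (fun h => hw.2 (Or.inr h))

/-- An irreducible character or its negative that is not orthogonal to `η ω` is `± η ω`. -/
theorem eq_or_eq_neg {χ : G → ℂ} (hχ : IsIrrCharacter G χ ∨ IsIrrCharacter G (-χ)) {ω : ↥W →* ℂˣ}
    (hne : classInner χ (η ω) ≠ 0) : χ = η ω ∨ χ = -η ω :=
  CyclicTIUnique.eq_or_eq_neg_of_inner_ne_zero hχ (hη.irr_or_neg ω) hne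

theorem eta_one_ne_zero (ω : ↥W →* ℂˣ) : η ω 1 ≠ 0 := by
  rcases hη.irr_or_neg ω with h | h
  · exact isIrr_apply_one_ne_zero h
  · have := isIrr_apply_one_ne_zero h
    intro h0
    apply this
    rw [Pi.neg_apply, h0, neg_zero]

/-- `η ω 1` is an integer. -/
theorem eta_one_int (ω : ↥W →* ℂˣ) : ∃ n : ℤ, n ≠ 0 ∧ η ω 1 = n := by
  obtain ⟨n, hn⟩ := VChar.gen_apply_one (eta_gen hη ω)
  refine ⟨n, ?_, hn⟩
  rintro rfl
  exact eta_one_ne_zero hη ω (by rw [hn]; simp)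

/-- The induction formula, also for trivial `φ` or `ψ`. -/
theorem ind_alpha {φ ψ : ↥W →* ℂˣ} (hφ : φ ∈ lin₁ W W₂) (hψ : ψ ∈ lin₁ W W₁) :
    indFun W (fun w => (1 - (φ w : ℂ)) * (1 - (ψ w : ℂ))) = η 1 - η φ - η ψ + η (φ * ψ) := by
  have hfun : (fun w : ↥W => (1 - (φ w : ℂ)) * (1 - (ψ w : ℂ))) =
      fun w : ↥W => 1 - (φ w : ℂ) - (ψ w : ℂ) + (φ w : ℂ) * (ψ w : ℂ) := by
    funext w; ring
  have hzero : ∀ α : ↥W → ℂ, (∀ w, α w = 0) → indFun W α = 0 := by
    intro α hα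
    have : α = 0 := funext hα
    subst this
    funext g
    show (Nat.card W : ℂ)⁻¹ * ∑ x : G, extendByZero W 0 (x⁻¹ * g * x) = 0
    have h0 : ∀ y : G, extendByZero W (0 : ↥W → ℂ) y = 0 := by
      intro y
      by_cases hy : y ∈ W
      · rw [extendByZero_of_mem W 0 hy]; rfl
      · exact extendByZero_of_notMem W 0 hy
    simp [h0]
  by_cases hφ1 : φ = 1
  · subst hφ1
    rw [hzero _ (fun w => by simp), show (1 : ↥W →* ℂˣ) * ψ = ψ from MonoidHom.ext fun w => one_mul _]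
    abel
  by_cases hψ1 : ψ = 1
  · subst hψ1
    rw [hzero _ (fun w => by simp), show φ * (1 : ↥W →* ℂˣ) = φ from MonoidHom.ext fun w => mul_one _]
    abel
  rw [hfun, hη.induced_eq φ ψ hφ1 hψ1 hφ hψ, hη.map_one]
  rfl

/-- `η_ij = η_i0 + η_0j - 1` off the conjugates of `V`. -/
theorem eta_mul_apply {φ ψ : ↥W →* ℂˣ} (hφ : φ ∈ lin₁ W W₂) (hψ : ψ ∈ lin₁ W W₁) {g : G}
    (hg : g ∉ classSupport (cycTIset W W₁ W₂) ⊤) : η (φ * ψ) g = η φ g + η ψ g - 1 := by
  have h1 := congrFun (ind_alpha hη hφ hψ) g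
  rw [indFun_eq_zero_off (fun w hw => alpha_eq_zero_off hφ hψ w hw) hg, hη.map_one] at h1
  simp only [Pi.add_apply, Pi.sub_apply] at h1
  linear_combination -h1

/-- The rectangle rule. -/
theorem coeff_mul {θ : G → ℂ} (hθ : IsClassFunction G θ)
    (hV : ∀ v ∈ cycTIset W W₁ W₂, θ v = 0) {φ ψ : ↥W →* ℂˣ}
    (hφ : φ ∈ lin₁ W W₂) (hψ : ψ ∈ lin₁ W W₁) :
    classInner θ (η (φ * ψ)) + classInner θ (η 1) = classInner θ (η φ) + classInner θ (η ψ) := by
  have h0 := CyclicTICoeff.classInner_indFun_eq_zero W θ hθ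
    (fun w => (1 - (φ w : ℂ)) * (1 - (ψ w : ℂ))) (fun w => by
      by_cases hw : (w : G) ∈ cycTIset W W₁ W₂
      · exact Or.inl (hV w hw)
      · exact Or.inr (alpha_eq_zero_off hφ hψ w hw))
  rw [ind_alpha hη hφ hψ, classInner_add_right, classInner_sub_right, classInner_sub_right] at h0
  linear_combination h0

theorem coeff_exchange {θ : G → ℂ} (hθ : IsClassFunction G θ)
    (hV : ∀ v ∈ cycTIset W W₁ W₂, θ v = 0) {φ φ' ψ ψ' : ↥W →* ℂˣ}
    (hφ : φ ∈ lin₁ W W₂) (hφ' : φ' ∈ lin₁ W W₂) (hψ : ψ ∈ lin₁ W W₁) (hψ' : ψ' ∈ lin₁ W W₁) :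
    classInner θ (η (φ * ψ)) + classInner θ (η (φ' * ψ')) =
      classInner θ (η (φ * ψ')) + classInner θ (η (φ' * ψ)) := by
  linear_combination coeff_mul hη hθ hV hφ hψ + coeff_mul hη hθ hV hφ' hψ' -
    coeff_mul hη hθ hV hφ hψ' - coeff_mul hη hθ hV hφ' hψ

end basic

/-! ### Values on `V` and coefficients -/

section V

variable (hη : CyclicTIFam W W₁ W₂ η) (hW : CyclicTIHyp W W₁ W₂)
include hη hW

/-- (3.9)(a): a class function orthogonal to all the `η ω` vanishes on `V`. -/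
theorem vanish_of_orthogonal {θ : G → ℂ} (hθ : IsClassFunction G θ)
    (horth : ∀ ω, classInner θ (η ω) = 0) {v : G} (hv : v ∈ cycTIset W W₁ W₂) : θ v = 0 := by
  obtain ⟨hsup, hodd, hsn⟩ := hW
  subst hsup
  refine CyclicTIAlpha.vanishes_of_orthogonal W₁ W₂ hsn θ hθ ?_ ⟨v, hv.1⟩
    (fun h => hv.2 (Or.inl h)) (fun h => hv.2 (Or.inr h))
  intro φ ψ hφ1 hψ1 hφ hψ
  rw [hη.induced_eq φ ψ hφ1 hψ1 hφ hψ]
  have e : (fun g => 1 - η φ g - η ψ g + η (φ * ψ) g) = η 1 - η φ - η ψ + η (φ * ψ) := by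
    rw [hη.map_one]
    rfl
  have h0 : ∀ ω, classInner (η ω) θ = 0 := fun ω => by
    rw [← classInner_conj_symm, horth, map_zero]
  rw [e, classInner_add_left, classInner_sub_left, classInner_sub_left, h0, h0, h0, h0]
  simp

/-- Values on `V` are determined by the coefficients. -/
theorem apply_eq_sum [Fintype (↥W →* ℂˣ)] {θ : G → ℂ} (hθ : IsClassFunction G θ) (w : ↥W)
    (hw : (w : G) ∈ cycTIset W W₁ W₂) : θ w = ∑ ω, classInner θ (η ω) * (ω w : ℂ) := by
  classical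
  have hcl : IsClassFunction G (θ - ∑ ω, classInner θ (η ω) • η ω) := by
    intro g h
    simp only [Pi.sub_apply, Finset.sum_apply, Pi.smul_apply]
    rw [hθ g h]
    congr 1
    refine Finset.sum_congr rfl fun ω _ => ?_
    rw [eta_classFun hη ω g h]
  have horth : ∀ ω', classInner (θ - ∑ ω, classInner θ (η ω) • η ω) (η ω') = 0 := by
    intro ω'
    rw [classInner_sub_left, classInner_sum_left]
    have : ∀ ω, classInner (classInner θ (η ω) • η ω) (η ω') =
        if ω = ω' then classInner θ (η ω') else 0 := by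
      intro ω
      rw [classInner_smul_left, hη.orthonormal]
      by_cases h : ω = ω'
      · subst h; simp
      · simp [h]
    simp only [this]
    simp
  have h := vanish_of_orthogonal hη hW hcl horth hw
  rw [Pi.sub_apply, sub_eq_zero] at h
  rw [h, Finset.sum_apply]
  refine Finset.sum_congr rfl fun ω _ => ?_
  rw [Pi.smul_apply, smul_eq_mul, eta_apply hη ω w hw]

theorem apply_eq_finsum {θ : G → ℂ} (hθ : IsClassFunction G θ) (w : ↥W)
    (hw : (w : G) ∈ cycTIset W W₁ W₂) : θ w = ∑ᶠ ω, classInner θ (η ω) * (ω w : ℂ) := by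
  have := PF3bBasic.finite_hom hW
  have := Fintype.ofFinite (↥W →* ℂˣ)
  rw [finsum_eq_sum_of_fintype]
  exact apply_eq_sum hη hW hθ w hw

/-- Two class functions with the same coefficients agree on `V`. -/
theorem eq_on_of_coeff_eq {θ θ' : G → ℂ} (hθ : IsClassFunction G θ) (hθ' : IsClassFunction G θ')
    (h : ∀ ω, classInner θ (η ω) = classInner θ' (η ω)) {v : G} (hv : v ∈ cycTIset W W₁ W₂) :
    θ v = θ' v := by
  rw [apply_eq_finsum hη hW hθ ⟨v, hv.1⟩ hv, apply_eq_finsum hη hW hθ' ⟨v, hv.1⟩ hv]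
  simp only [h]

theorem classInner_indFun_eta [Fintype ↥W] (α : ↥W → ℂ)
    (hα : ∀ w : ↥W, (w : G) ∉ cycTIset W W₁ W₂ → α w = 0) (ω : ↥W →* ℂˣ) :
    classInner (indFun W α) (η ω) = classInner α (fun w => (ω w : ℂ)) := by
  rw [Cfsg.Agent.S0150.classInner_indFun W α (η ω) (fun g h => eta_classFun hη ω g h),
    classInner_def, classInner_def]
  congr 1
  refine Finset.sum_congr rfl fun w _ => ?_
  by_cases hw : (w : G) ∈ cycTIset W W₁ W₂
  · rw [eta_apply hη ω w hw]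
  · rw [hα w hw, zero_mul, zero_mul]

/-- The value of an induced function at an element of `V`. -/
theorem indFun_apply_V (α : ↥W → ℂ) (hα : ∀ w : ↥W, (w : G) ∉ cycTIset W W₁ W₂ → α w = 0)
    (w : ↥W) (hw : (w : G) ∈ cycTIset W W₁ W₂) : indFun W α w = α w := by
  obtain ⟨hsup, hodd, hsn⟩ := hW
  subst hsup
  exact CyclicTIAlpha.indFun_apply_of_notMem hsn α (fun w hw => hα w (fun h => h.2 hw)) w
    (fun h => hw.2 (Or.inl h)) (fun h => hw.2 (Or.inr h))

theorem indFun_classFun (α : ↥W → ℂ) : IsClassFunction G (indFun W α) :=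
  fun g h => Cfsg.Agent.S0150.indFun_isClassFunction W α g h

/-- For a function supported on `V`, induction to `G` is the linear map `ω ↦ η ω`. -/
theorem indFun_eq_sum [Fintype (↥W →* ℂˣ)] [Fintype ↥W] (α : ↥W → ℂ)
    (hα : ∀ w : ↥W, (w : G) ∉ cycTIset W W₁ W₂ → α w = 0) :
    indFun W α = ∑ ω : ↥W →* ℂˣ, classInner α (fun w => (ω w : ℂ)) • η ω := by
  classical
  -- both sides are class functions; the difference `D` is orthogonal to all `η`, so it vanishes on `V`,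
  -- hence is orthogonal to `Ind α`; so its norm is zero
  set S := ∑ ω : ↥W →* ℂˣ, classInner α (fun w => (ω w : ℂ)) • η ω with hS
  have hScl : IsClassFunction G S := by
    intro g h
    rw [hS]
    simp only [Finset.sum_apply, Pi.smul_apply]
    refine Finset.sum_congr rfl fun ω _ => ?_
    rw [eta_classFun hη ω g h]
  have hSη : ∀ ω', classInner S (η ω') = classInner α (fun w => (ω' w : ℂ)) := by
    intro ω'
    rw [hS, classInner_sum_left]
    have : ∀ ω, classInner (classInner α (fun w => (ω w : ℂ)) • η ω) (η ω') =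
        if ω = ω' then classInner α (fun w => (ω' w : ℂ)) else 0 := by
      intro ω
      rw [classInner_smul_left, hη.orthonormal]
      by_cases h : ω = ω'
      · subst h; simp
      · simp [h]
    simp only [this]
    simp
  have hDη : ∀ ω, classInner (indFun W α - S) (η ω) = 0 := by
    intro ω
    rw [classInner_sub_left, classInner_indFun_eta hη hW α hα, hSη, sub_self]
  have hDcl : IsClassFunction G (indFun W α - S) := by
    intro g h
    rw [Pi.sub_apply, Pi.sub_apply, indFun_classFun hη hW α g h, hScl g h]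
  have hDV : ∀ v ∈ cycTIset W W₁ W₂, (indFun W α - S) v = 0 := fun v hv =>
    vanish_of_orthogonal hη hW hDcl hDη hv
  have hDI : classInner (indFun W α - S) (indFun W α) = 0 := by
    refine CyclicTICoeff.classInner_indFun_eq_zero W _ hDcl α fun w => ?_
    by_cases hw : (w : G) ∈ cycTIset W W₁ W₂
    · exact Or.inl (hDV w hw)
    · exact Or.inr (hα w hw)
  have hDS : classInner (indFun W α - S) S = 0 := by
    conv_lhs => rw [hS]
    rw [classInner_sum_right]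
    refine Finset.sum_eq_zero fun ω _ => ?_
    rw [classInner_smul_right, ← hS, hDη, mul_zero]
  have hDD : classInner (indFun W α - S) (indFun W α - S) = 0 := by
    rw [classInner_sub_right, hDI, hDS, sub_zero]
  exact sub_eq_zero.mp (classInner_self_eq_zero hDD)

theorem indFun_eq_finsum [Fintype ↥W] (α : ↥W → ℂ)
    (hα : ∀ w : ↥W, (w : G) ∉ cycTIset W W₁ W₂ → α w = 0) :
    indFun W α = ∑ᶠ ω : ↥W →* ℂˣ, classInner α (fun w => (ω w : ℂ)) • η ω := by
  have := PF3bBasic.finite_hom hW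
  have := Fintype.ofFinite (↥W →* ℂˣ)
  rw [finsum_eq_sum_of_fintype]
  exact indFun_eq_sum hη hW α hα

/-- (3.9)(b): a signed irreducible character equal to `ω` on `V` is `η ω`. -/
theorem eq_of_eq_on {χ : G → ℂ} (hχ : IsIrrCharacter G χ ∨ IsIrrCharacter G (-χ)) {ω : ↥W →* ℂˣ}
    (h : ∀ w : ↥W, (w : G) ∈ cycTIset W W₁ W₂ → χ w = (ω w : ℂ)) : χ = η ω := by
  obtain ⟨hsup, hodd, hsn⟩ := hW
  subst hsup
  exact CyclicTIUnique.eq_of_eq_on hsn hodd (cyclicTIFam_to hη) hχ ω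
    (fun w h1 h2 => h w ⟨w.2, fun h3 => h3.elim h1 h2⟩)

/-- Uniqueness of the family. -/
theorem fam_unique {η' : (↥W →* ℂˣ) → (G → ℂ)} (hη' : CyclicTIFam W W₁ W₂ η') : η' = η :=
  funext fun ω => eq_of_eq_on hη hW (hη'.irr_or_neg ω) (fun w hw => eta_apply hη' ω w hw)

/-- On a conjugate of `V`. -/
theorem eta_conj_apply (ω : ↥W →* ℂˣ) (g : G) {v : G} (hv : v ∈ cycTIset W W₁ W₂) :
    η ω (g * v * g⁻¹) = (ω ⟨v, hv.1⟩ : ℂ) := by
  rw [eta_classFun hη ω v g]
  exact eta_apply hη ω ⟨v, hv.1⟩ hv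

/-- The `η ω` have absolute value one on conjugates of `V`. -/
theorem norm_eta_of_mem_classSupport (ω : ↥W →* ℂˣ) {g : G}
    (hg : g ∈ classSupport (cycTIset W W₁ W₂) ⊤) : ‖η ω g‖ = 1 := by
  obtain ⟨m, -, v, hv, rfl⟩ := hg
  rw [eta_conj_apply hη hW ω m hv]
  exact CyclicTI.norm_hom_apply ω _

open scoped Classical in
/-- `Σ_{g ∈ V^G} |η(g)|² = |G| (1 - 1/w₁)(1 - 1/w₂)`. -/
theorem sum_norm_sq_classSupport (ω : ↥W →* ℂˣ) :
    (∑ g : G, if g ∈ classSupport (cycTIset W W₁ W₂) ⊤ then ‖η ω g‖ ^ 2 else 0) =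
      (Nat.card G : ℝ) * (1 - 1 / (Nat.card W₁ : ℝ)) * (1 - 1 / (Nat.card W₂ : ℝ)) := by
  have h1 : ∀ g : G, (if g ∈ classSupport (cycTIset W W₁ W₂) ⊤ then ‖η ω g‖ ^ 2 else 0) =
      if g ∈ classSupport (cycTIset W W₁ W₂) ⊤ then (1 : ℝ) else 0 := by
    intro g
    split_ifs with hg
    · rw [norm_eta_of_mem_classSupport hη hW ω hg, one_pow]
    · rfl
  rw [Finset.sum_congr rfl fun g _ => h1 g, Finset.sum_boole]
  have h2 : (Finset.univ.filter fun g : G => g ∈ classSupport (cycTIset W W₁ W₂) ⊤).card =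
      (classSupport (cycTIset W W₁ W₂) ⊤).ncard := by
    rw [← Set.ncard_coe_finset]
    congr 1
    ext g
    simp
  rw [h2]
  have h3 := PF3bBasic.ncard_classSupport hW (L := ⊤) le_top
  rw [PF3bBasic.card_eq hW, Subgroup.card_top] at h3
  have hw1 : (Nat.card W₁ : ℝ) ≠ 0 := by
    have := PF3bBasic.three_le₁ hW
    exact_mod_cast (by omega : Nat.card W₁ ≠ 0)
  have hw2 : (Nat.card W₂ : ℝ) ≠ 0 := by
    have := PF3bBasic.three_le₂ hW
    exact_mod_cast (by omega : Nat.card W₂ ≠ 0)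
  have h4 : (Nat.card W₁ : ℝ) * Nat.card W₂ * ((classSupport (cycTIset W W₁ W₂) ⊤).ncard : ℝ) =
      ((Nat.card W₁ : ℝ) - 1) * ((Nat.card W₂ : ℝ) - 1) * Nat.card G := by
    have e1 : ((Nat.card W₁ - 1 : ℕ) : ℝ) = (Nat.card W₁ : ℝ) - 1 := by
      rw [Nat.cast_sub (by have := PF3bBasic.three_le₁ hW; omega)]; simp
    have e2 : ((Nat.card W₂ - 1 : ℕ) : ℝ) = (Nat.card W₂ : ℝ) - 1 := by
      rw [Nat.cast_sub (by have := PF3bBasic.three_le₂ hW; omega)]; simp
    rw [← e1, ← e2]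
    exact_mod_cast h3
  field_simp
  linear_combination h4

/-- Column sums vanish on `V`. -/
theorem colSum_apply_cycTIset (ω : ↥W →* ℂˣ) {v : G} (hv : v ∈ cycTIset W W₁ W₂) :
    colSum W W₂ η ω v = 0 := by
  have hfin := PF3bBasic.finite_lin₁ hW W₂
  have h1 : colSum W W₂ η ω v = ∑ᶠ φ ∈ lin₁ W W₂, η (φ * ω) v := by
    show (∑ᶠ φ ∈ lin₁ W W₂, η (φ * ω)) v = _
    rw [finsum_mem_eq_finite_toFinset_sum _ hfin, finsum_mem_eq_finite_toFinset_sum _ hfin,
      Finset.sum_apply]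
  rw [h1]
  have h2 : ∀ φ ∈ lin₁ W W₂, η (φ * ω) v = (φ ⟨v, hv.1⟩ : ℂ) * (ω ⟨v, hv.1⟩ : ℂ) := by
    intro φ _
    rw [eta_apply hη (φ * ω) ⟨v, hv.1⟩ hv, MonoidHom.mul_apply, Units.val_mul]
  rw [finsum_mem_congr rfl h2, ← finsum_mem_mul, PF3bBasic.finsum_lin₁_apply hW, if_neg,
    zero_mul]
  exact fun h => hv.2 (Or.inr h)

end V

end Cfsg.Agent.OddOrderCharacters.PF3b
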