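import Mathlib
import Cfsg.Agent.OddOrderCharacters.PFDefs
import Cfsg.Agent.OddOrderCharacters.CyclicTIUnique
import Cfsg.Agent.OddOrderCharacters.VChar

/-!
# Peterfalvi (3.8), (3.9): uniqueness in the cyclic TI family `η`

* `eq_in_cycTIiso` (3.9)(a): a signed irreducible character equal to `ω` on `V = W \ (W₁ ∪ W₂)` is `η ω`;
* `unique`, `unique_symm`: the family is determined by `(W, W₁, W₂)`, and it is the same for
  `(W, W₂, W₁)`;
* `eq_signed_sub` : a generalized character of norm 2 equal to `ω₁ - ω₂` on `V`, where `ω₁` and `ω₂`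
  have the same restriction to `W₁` (or to `W₂`), is `η ω₁ - η ω₂`;
* `bessel`, `bessel_int`: Bessel's inequality for an orthonormal family.
-/

set_option autoImplicit false

namespace Cfsg.Agent.OddOrderCharacters.PF3bUnique

open Cfsg
open scoped ComplexConjugate
open Cfsg.Agent.Characters.Core
open Cfsg.Agent.OddOrderCharacters.PFDefs
open Cfsg.Agent.OddOrderCharacters.CyclicTIUnique
open Cfsg.Agent.OddOrderCharacters.CyclicTIChars
open Cfsg.Agent.OddOrderCharacters.CyclicTICoeff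
open Cfsg.Agent.OddOrderCharacters.VChar

universe u

section bessel

variable {G : Type u} [Group G] [Fintype G]

open Classical in
/-- Bessel's inequality for an indexed orthonormal family. -/
theorem bessel {ι : Type*} (s : Finset ι) (f : ι → G → ℂ)
    (hf : ∀ i ∈ s, ∀ j ∈ s, classInner (f i) (f j) = if i = j then 1 else 0) (v : G → ℂ) :
    ∑ i ∈ s, ‖classInner v (f i)‖ ^ 2 ≤ (classInner v v).re := by
  set p : G → ℂ := ∑ i ∈ s, classInner v (f i) • f i with hp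
  have h1 : classInner p v = ∑ i ∈ s, ((‖classInner v (f i)‖ ^ 2 : ℝ) : ℂ) := by
    rw [hp, classInner_sum_left]
    refine Finset.sum_congr rfl fun i _ => ?_
    rw [classInner_smul_left, ← classInner_conj_symm v (f i), Complex.mul_conj,
      Complex.normSq_eq_norm_sq]
  have h2 : classInner v p = ∑ i ∈ s, ((‖classInner v (f i)‖ ^ 2 : ℝ) : ℂ) := by
    rw [← classInner_conj_symm p v, h1, map_sum]
    refine Finset.sum_congr rfl fun i _ => ?_
    rw [Complex.conj_ofReal]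
  have h3 : classInner p p = ∑ i ∈ s, ((‖classInner v (f i)‖ ^ 2 : ℝ) : ℂ) := by
    have h4 : ∀ i ∈ s, classInner (f i) p = conj (classInner v (f i)) := by
      intro i hi
      rw [hp, classInner_sum_right, Finset.sum_eq_single i]
      · rw [classInner_smul_right, hf i hi i hi, if_pos rfl, mul_one]
      · intro j hj hji
        rw [classInner_smul_right, hf i hi j hj, if_neg (Ne.symm hji), mul_zero]
      · intro h; exact absurd hi h
    have h5 : classInner p p = ∑ i ∈ s, classInner v (f i) * classInner (f i) p := by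
      conv_lhs => rw [hp]
      rw [classInner_sum_left]
      refine Finset.sum_congr rfl fun i _ => ?_
      rw [classInner_smul_left]
    rw [h5]
    refine Finset.sum_congr rfl fun i hi => ?_
    rw [h4 i hi, Complex.mul_conj, Complex.normSq_eq_norm_sq]
  have h6 := classInner_self_re_nonneg (v - p)
  rw [classInner_sub_left, classInner_sub_right, classInner_sub_right, h1, h2, h3, sub_self,
    sub_zero, Complex.sub_re] at h6
  have h7 : (∑ i ∈ s, ((‖classInner v (f i)‖ ^ 2 : ℝ) : ℂ)).re =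
      ∑ i ∈ s, ‖classInner v (f i)‖ ^ 2 := by
    rw [← Complex.ofReal_sum, Complex.ofReal_re]
  rw [h7] at h6
  linarith

open Classical in
/-- Integer form of Bessel's inequality. -/
theorem bessel_int {ι : Type*} (s : Finset ι) (f : ι → G → ℂ)
    (hf : ∀ i ∈ s, ∀ j ∈ s, classInner (f i) (f j) = if i = j then 1 else 0) (v : G → ℂ)
    (a : ι → ℤ) (ha : ∀ i ∈ s, classInner v (f i) = a i) (n : ℤ) (hn : classInner v v = n) :
    ∑ i ∈ s, (a i) ^ 2 ≤ n := by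
  have h := bessel s f hf v
  rw [hn, Complex.intCast_re] at h
  have h2 : ∑ i ∈ s, ‖classInner v (f i)‖ ^ 2 = ((∑ i ∈ s, (a i) ^ 2 : ℤ) : ℝ) := by
    rw [Int.cast_sum]
    refine Finset.sum_congr rfl fun i hi => ?_
    rw [ha i hi, Complex.norm_intCast, sq_abs]
    push_cast
    rfl
  rw [h2] at h
  exact_mod_cast h

end bessel

section family

variable {G : Type u} [Group G] [Fintype G] {W W₁ W₂ : Subgroup G}
  {η : (↥W →* ℂˣ) → (G → ℂ)}

omit [Fintype G] in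
theorem CyclicTIHyp.symm (h : CyclicTIHyp W W₁ W₂) : CyclicTIHyp W W₂ W₁ where
  sup_eq := by rw [sup_comm]; exact h.sup_eq
  odd := h.odd
  selfNormalizing := by
    obtain ⟨h₁, h₂, h₃, h₄, h₅, h₆⟩ := h.selfNormalizing
    refine ⟨h₂, h₁, by rw [inf_comm]; exact h₃, fun a ha b hb => (h₄ b hb a ha).symm, ?_, ?_⟩
    · rw [sup_comm]; exact h₅
    · intro X hX hne
      rw [sup_comm] at hX ⊢
      rw [Set.union_comm] at hX
      exact h₆ X hX hne

/-- Peterfalvi (3.9)(a): a signed irreducible character that agrees with `ω` on `V` is `η ω`. -/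
theorem eq_in_cycTIiso (hyp : CyclicTIHyp W W₁ W₂) (hη : CyclicTIFam W W₁ W₂ η) {θ : G → ℂ}
    (hθ : IsIrrCharacter G θ ∨ IsIrrCharacter G (-θ)) (ω : ↥W →* ℂˣ)
    (hV : ∀ w : ↥W, (w : G) ∉ W₁ → (w : G) ∉ W₂ → θ w = (ω w : ℂ)) : θ = η ω := by
  obtain ⟨h, hodd, hW⟩ := hyp
  subst h
  exact eq_of_eq_on hW hodd (cyclicTIFam_to hη) hθ ω hV

/-- The cyclic TI family is unique. -/
theorem unique (hyp : CyclicTIHyp W W₁ W₂) (hη : CyclicTIFam W W₁ W₂ η)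
    {η' : (↥W →* ℂˣ) → (G → ℂ)} (hη' : CyclicTIFam W W₁ W₂ η') : η' = η := by
  funext ω
  exact eq_in_cycTIiso hyp hη (hη'.irr_or_neg ω) ω (hη'.eq_on ω)

/-- The family of `(W, W₂, W₁)` is that of `(W, W₁, W₂)`. -/
theorem unique_symm (hyp : CyclicTIHyp W W₁ W₂) (hη : CyclicTIFam W W₁ W₂ η)
    {η' : (↥W →* ℂˣ) → (G → ℂ)} (hη' : CyclicTIFam W W₂ W₁ η') : η' = η :=
  unique hyp hη hη'.symm

omit [Fintype G] in
/-- There is an element of `W` outside `W₁ ∪ W₂`. -/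
theorem exists_mem_cycTIset (hyp : CyclicTIHyp W W₁ W₂) :
    ∃ w : ↥W, (w : G) ∉ W₁ ∧ (w : G) ∉ W₂ := by
  obtain ⟨h, hodd, hW⟩ := hyp
  subst h
  exact exists_off hW.1 hW.2.1 hW.2.2.1

theorem inner_self_eta (hη : CyclicTIFam W W₁ W₂ η) (ω : ↥W →* ℂˣ) :
    classInner (η ω) (η ω) = 1 := by
  rw [hη.orthonormal, if_pos rfl]

theorem inner_ne_eta (hη : CyclicTIFam W W₁ W₂ η) {ω ω' : ↥W →* ℂˣ} (h : ω ≠ ω') :
    classInner (η ω) (η ω') = 0 := by
  rw [hη.orthonormal, if_neg h]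

theorem gen_eta (hη : CyclicTIFam W W₁ W₂ η) (ω : ↥W →* ℂˣ) : IsGeneralizedCharacter G (η ω) :=
  gen_of_irr_or_neg (hη.irr_or_neg ω)

theorem eta_injective (hη : CyclicTIFam W W₁ W₂ η) : Function.Injective η := by
  intro ω ω' h
  by_contra hne
  have h1 := inner_ne_eta hη hne
  rw [h, inner_self_eta hη] at h1
  exact one_ne_zero h1

/-- Arithmetic behind `eq_signed_sub`. -/
theorem arith_aux (x₀ y₀ x₁ y₁ x₂ y₂ : ℤ)
    (hsum : x₀ ^ 2 + y₀ ^ 2 + (x₁ ^ 2 + y₁ ^ 2) + (x₂ ^ 2 + y₂ ^ 2) ≤ 2)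
    (h1 : x₀ - y₀ + (y₁ - x₁) = 2) (h2 : x₀ - y₀ + (y₂ - x₂) = 2) : x₀ = 1 ∧ y₀ = -1 := by
  have sq : ∀ x : ℤ, x ≤ x ^ 2 ∧ -x ≤ x ^ 2 := by
    intro x
    constructor
    · rcases le_or_gt x 0 with h | h
      · nlinarith [sq_nonneg x]
      · nlinarith
    · rcases le_or_gt 0 x with h | h
      · nlinarith [sq_nonneg x]
      · nlinarith
  have a0 := sq x₀
  have b0 := sq y₀
  have a1 := sq x₁
  have b1 := sq y₁
  have a2 := sq x₂
  have b2 := sq y₂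
  have hD : x₀ - y₀ = 2 := by omega
  have hs1 : x₁ = y₁ := by omega
  have hs2 : x₂ = y₂ := by omega
  have h3 : (x₀ + y₀) ^ 2 ≤ 0 := by nlinarith [sq_nonneg x₁, sq_nonneg y₁, sq_nonneg x₂, sq_nonneg y₂]
  have h4 : x₀ + y₀ = 0 := by
    have : (x₀ + y₀) ^ 2 = 0 := le_antisymm h3 (sq_nonneg _)
    exact pow_eq_zero_iff (two_ne_zero) |>.mp this
  omega

/-- A generalized character of norm 2 that agrees with `ω₁ - ω₂` on `V`, where `ω₁ ≠ ω₂` have the same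
restriction to `W₁`, is `η ω₁ - η ω₂` (Peterfalvi, used in (4.8), (10.5), (10.10), (11.8)). -/
theorem eq_sub_of_agree₁ (hyp : CyclicTIHyp W W₁ W₂) (hη : CyclicTIFam W W₁ W₂ η) {θ : G → ℂ}
    (hgen : IsGeneralizedCharacter G θ) (hnorm : classInner θ θ = 2) {ω₁ ω₂ : ↥W →* ℂˣ}
    (hne : ω₁ ≠ ω₂) (hagree : ∀ w : ↥W, (w : G) ∈ W₁ → ω₁ w = ω₂ w)
    (hV : ∀ w : ↥W, (w : G) ∉ W₁ → (w : G) ∉ W₂ → θ w = (ω₁ w : ℂ) - (ω₂ w : ℂ)) :
    θ = η ω₁ - η ω₂ := by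
  classical
  obtain ⟨hsup, hodd, hW⟩ := hyp
  subst hsup
  have hχ := cyclicTIFam_to hη
  obtain ⟨h₁, h₂, hdisj, hcomm, hcyc, -⟩ := hW
  have habel : ∀ a b : ↥(W₁ ⊔ W₂), a * b = b * a := by
    intro a b
    let _ := IsCyclic.commGroup (α := ↥(W₁ ⊔ W₂))
    exact mul_comm a b
  have hab₁ : ∀ a b : W₁, a * b = b * a := by
    intro a b
    have := congrArg (Subtype.val) (habel ⟨a, Subgroup.mem_sup_left a.2⟩ ⟨b, Subgroup.mem_sup_left b.2⟩)
    exact Subtype.ext this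
  have hodd₁ : Odd (Nat.card W₁) :=
    hodd.of_dvd_nat (Subgroup.card_dvd_of_le le_sup_left)
  have hne₁ : Nat.card W₁ ≠ 1 := fun h => h₁ (Subgroup.card_eq_one.mp h)
  -- coefficients
  have hcoef : ∀ ω, ∃ a : ℤ, classInner θ (η ω) = a := fun ω => gen_inner hgen (gen_eta hη ω)
  choose a ha using hcoef
  obtain ⟨ρ, hρ⟩ : ∃ ρ : G → ℂ, ρ = η ω₁ - η ω₂ := ⟨_, rfl⟩
  have hcl : IsClassFunction G (θ - ρ) := by
    rw [hρ]
    exact gen_isClassFunction (gen_sub hgen (gen_sub (gen_eta hη ω₁) (gen_eta hη ω₂)))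
  have hclV : ∀ w : ↥(W₁ ⊔ W₂), (w : G) ∉ W₁ → (w : G) ∉ W₂ → (θ - ρ) w = 0 := by
    intro w hw₁ hw₂
    rw [Pi.sub_apply, hV w hw₁ hw₂, hρ, Pi.sub_apply, hη.eq_on ω₁ w hw₁ hw₂,
      hη.eq_on ω₂ w hw₁ hw₂, sub_self]
  set b : (↥(W₁ ⊔ W₂) →* ℂˣ) → ℂ := fun ω' => classInner (θ - ρ) (η ω') with hb
  have hbmul : ∀ φ ψ : ↥(W₁ ⊔ W₂) →* ℂˣ, (∀ w : ↥(W₁ ⊔ W₂), (w : G) ∈ W₂ → φ w = 1) →
      (∀ w : ↥(W₁ ⊔ W₂), (w : G) ∈ W₁ → ψ w = 1) → b (φ * ψ) + b 1 = b φ + b ψ :=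
    fun φ ψ hφ hψ => coeff_mul W₁ W₂ η hχ (θ - ρ) hcl hclV φ ψ hφ hψ
  let gl : (W₁ →* ℂˣ) → (W₂ →* ℂˣ) → (↥(W₁ ⊔ W₂) →* ℂˣ) := glue W₁ W₂ hdisj hcomm
  have hgl : ∀ α β, b (gl α β) + b 1 = b (gl α 1) + b (gl 1 β) := by
    intro α β
    have h3 : gl α β = gl α 1 * gl 1 β := glue_eq_mul hdisj hcomm α β
    rw [h3]
    apply hbmul
    · intro w hw
      show glue W₁ W₂ hdisj hcomm α 1 w = 1
      rw [glue_right hdisj hcomm α 1 w hw]; rfl
    · intro w hw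
      show glue W₁ W₂ hdisj hcomm 1 β w = 1
      rw [glue_left hdisj hcomm 1 β w hw]; rfl
  have hrect : ∀ α α' β β', b (gl α β) + b (gl α' β') = b (gl α β') + b (gl α' β) := by
    intro α α' β β'
    linear_combination hgl α β + hgl α' β' - hgl α β' - hgl α' β
  have hbij := glue_bijective hdisj hcomm
  have hinj : ∀ α α' β β', gl α β = gl α' β' → α = α' ∧ β = β' := by
    intro α α' β β' h
    have := hbij.1 (show (fun p : (W₁ →* ℂˣ) × (W₂ →* ℂˣ) => glue W₁ W₂ hdisj hcomm p.1 p.2) (α, β) =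
      (fun p : (W₁ →* ℂˣ) × (W₂ →* ℂˣ) => glue W₁ W₂ hdisj hcomm p.1 p.2) (α', β') from h)
    exact ⟨congrArg Prod.fst this, congrArg Prod.snd this⟩
  obtain ⟨⟨α₀, β₁⟩, hω₁⟩ := hbij.2 ω₁
  change gl α₀ β₁ = ω₁ at hω₁
  obtain ⟨⟨α₀', β₂⟩, hω₂⟩ := hbij.2 ω₂
  change gl α₀' β₂ = ω₂ at hω₂
  have hα : α₀' = α₀ := by
    apply MonoidHom.ext
    intro w
    have h3 := hagree ⟨w, Subgroup.mem_sup_left w.2⟩ w.2
    rw [← hω₁, ← hω₂] at h3
    change glue W₁ W₂ hdisj hcomm α₀ β₁ _ = glue W₁ W₂ hdisj hcomm α₀' β₂ _ at h3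
    rw [glue_left hdisj hcomm _ _ _ w.2, glue_left hdisj hcomm _ _ _ w.2] at h3
    exact h3.symm
  subst hα
  have hβ : β₁ ≠ β₂ := by
    rintro rfl
    exact hne (hω₁.symm.trans hω₂)
  obtain ⟨α₁, hα₁, -⟩ := exists_third hab₁ hodd₁ hne₁ α₀' α₀'
  obtain ⟨α₂, hα₂, hα₁₂⟩ := exists_third hab₁ hodd₁ hne₁ α₀' α₁
  have hbval : ∀ ω', ω' ≠ ω₁ → ω' ≠ ω₂ → b ω' = a ω' := by
    intro ω' h1 h2
    show classInner (θ - ρ) (η ω') = a ω'
    rw [classInner_sub_left, ha, hρ, classInner_sub_left, inner_ne_eta hη (Ne.symm h1),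
      inner_ne_eta hη (Ne.symm h2), sub_zero, sub_zero]
  have hb₁ : b ω₁ = a ω₁ - 1 := by
    show classInner (θ - ρ) (η ω₁) = a ω₁ - 1
    rw [classInner_sub_left, ha, hρ, classInner_sub_left, inner_self_eta hη,
      inner_ne_eta hη (Ne.symm hne), sub_zero]
  have hb₂ : b ω₂ = a ω₂ + 1 := by
    show classInner (θ - ρ) (η ω₂) = a ω₂ + 1
    rw [classInner_sub_left, ha, hρ, classInner_sub_left, inner_self_eta hη,
      inner_ne_eta hη hne]
    ring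
  have hα1val : ∀ (α : W₁ →* ℂˣ) (β : W₂ →* ℂˣ), α ≠ α₀' → b (gl α β) = a (gl α β) := by
    intro α β hα
    apply hbval
    · rw [← hω₁]; intro h; exact hα (hinj _ _ _ _ h).1
    · rw [← hω₂]; intro h; exact hα (hinj _ _ _ _ h).1
  have hrel : ∀ α : W₁ →* ℂˣ, α ≠ α₀' →
      a ω₁ - a ω₂ + (a (gl α β₂) - a (gl α β₁)) = 2 := by
    intro α hα
    have h3 := hrect α₀' α β₁ β₂
    rw [hω₁, hω₂, hb₁, hb₂, hα1val α β₁ hα, hα1val α β₂ hα] at h3
    have h4 : ((a ω₁ - a ω₂ + (a (gl α β₂) - a (gl α β₁)) : ℤ) : ℂ) = ((2 : ℤ) : ℂ) := by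
      push_cast
      linear_combination h3
    exact_mod_cast h4
  -- Bessel
  have hbes : (a ω₁) ^ 2 + (a ω₂) ^ 2 + ((a (gl α₁ β₁)) ^ 2 + (a (gl α₁ β₂)) ^ 2) +
      ((a (gl α₂ β₁)) ^ 2 + (a (gl α₂ β₂)) ^ 2) ≤ 2 := by
    have h3 := bessel_int ((({α₀', α₁, α₂} : Finset (W₁ →* ℂˣ)) ×ˢ ({β₁, β₂} : Finset (W₂ →* ℂˣ))))
      (fun p => η (gl p.1 p.2)) (by
        intro p _ q _
        show classInner (η (gl p.1 p.2)) (η (gl q.1 q.2)) = _
        by_cases hpq : p = q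
        · rw [hpq, if_pos rfl, inner_self_eta hη]
        · rw [if_neg hpq]
          apply inner_ne_eta hη
          intro h
          apply hpq
          exact Prod.ext (hinj _ _ _ _ h).1 (hinj _ _ _ _ h).2) θ (fun p => a (gl p.1 p.2))
      (fun p _ => ha _) 2 (by rw [hnorm]; norm_num)
    have hni : α₀' ∉ ({α₁, α₂} : Finset (W₁ →* ℂˣ)) := by
      rw [Finset.mem_insert, Finset.mem_singleton]
      rintro (h | h)
      · exact hα₁ h.symm
      · exact hα₂ h.symm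
    rw [Finset.sum_product, Finset.sum_insert hni, Finset.sum_pair (Ne.symm hα₁₂),
      Finset.sum_pair hβ, Finset.sum_pair hβ, Finset.sum_pair hβ] at h3
    dsimp only at h3
    rw [hω₁, hω₂] at h3
    linarith
  obtain ⟨e1, e2⟩ := arith_aux _ _ _ _ _ _ hbes (hrel α₁ hα₁) (hrel α₂ hα₂)
  have hz : classInner (θ - ρ) (θ - ρ) = 0 := by
    have hθρ : classInner θ ρ = 2 := by
      rw [hρ, classInner_sub_right, ha, ha, e1, e2]
      norm_num
    have hρθ : classInner ρ θ = 2 := by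
      rw [← classInner_conj_symm θ ρ, hθρ]
      exact Complex.conj_ofReal 2
    have hρρ : classInner ρ ρ = 2 := by
      rw [hρ, classInner_sub_left, classInner_sub_right, classInner_sub_right, inner_self_eta hη,
        inner_self_eta hη, inner_ne_eta hη hne, inner_ne_eta hη (Ne.symm hne)]
      norm_num
    rw [classInner_sub_left, classInner_sub_right, classInner_sub_right, hnorm, hθρ, hρθ, hρρ]
    norm_num
  rw [← hρ]
  exact sub_eq_zero.mp (classInner_self_eq_zero hz)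

/-- As `eq_sub_of_agree₁`, for `ω₁`, `ω₂` with the same restriction to `W₂`. -/
theorem eq_sub_of_agree₂ (hyp : CyclicTIHyp W W₁ W₂) (hη : CyclicTIFam W W₁ W₂ η) {θ : G → ℂ}
    (hgen : IsGeneralizedCharacter G θ) (hnorm : classInner θ θ = 2) {ω₁ ω₂ : ↥W →* ℂˣ}
    (hne : ω₁ ≠ ω₂) (hagree : ∀ w : ↥W, (w : G) ∈ W₂ → ω₁ w = ω₂ w)
    (hV : ∀ w : ↥W, (w : G) ∉ W₁ → (w : G) ∉ W₂ → θ w = (ω₁ w : ℂ) - (ω₂ w : ℂ)) :
    θ = η ω₁ - η ω₂ :=
  eq_sub_of_agree₁ (CyclicTIHyp.symm hyp) hη.symm hgen hnorm hne hagree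
    (fun w h2 h1 => hV w h1 h2)

/-- `eq_signed_sub_cTIiso`: a generalized character of norm 2 that agrees with `e (ω₁ - ω₂)`, `e = ±1`,
on `V`, where `ω₁ ≠ ω₂` have the same restriction to `W₁` or the same restriction to `W₂`, is
`e (η ω₁ - η ω₂)`. -/
theorem eq_signed_sub_cTIiso (hyp : CyclicTIHyp W W₁ W₂) (hη : CyclicTIFam W W₁ W₂ η) {θ : G → ℂ}
    (hgen : IsGeneralizedCharacter G θ) (hnorm : classInner θ θ = 2) {ω₁ ω₂ : ↥W →* ℂˣ}
    (hne : ω₁ ≠ ω₂) (hagree : (∀ w : ↥W, (w : G) ∈ W₁ → ω₁ w = ω₂ w) ∨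
      (∀ w : ↥W, (w : G) ∈ W₂ → ω₁ w = ω₂ w)) {e : ℤ} (he : e = 1 ∨ e = -1)
    (hV : ∀ w : ↥W, (w : G) ∉ W₁ → (w : G) ∉ W₂ → θ w = (e : ℂ) * ((ω₁ w : ℂ) - (ω₂ w : ℂ))) :
    θ = (e : ℂ) • (η ω₁ - η ω₂) := by
  rcases he with rfl | rfl
  · have hV' : ∀ w : ↥W, (w : G) ∉ W₁ → (w : G) ∉ W₂ → θ w = (ω₁ w : ℂ) - (ω₂ w : ℂ) := by
      intro w h1 h2
      rw [hV w h1 h2]
      push_cast
      ring
    rw [Int.cast_one, one_smul]
    rcases hagree with h | h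
    · exact eq_sub_of_agree₁ hyp hη hgen hnorm hne h hV'
    · exact eq_sub_of_agree₂ hyp hη hgen hnorm hne h hV'
  · have hV' : ∀ w : ↥W, (w : G) ∉ W₁ → (w : G) ∉ W₂ → θ w = (ω₂ w : ℂ) - (ω₁ w : ℂ) := by
      intro w h1 h2
      rw [hV w h1 h2]
      push_cast
      ring
    have hgoal : ((-1 : ℤ) : ℂ) • (η ω₁ - η ω₂) = η ω₂ - η ω₁ := by
      rw [Int.cast_neg, Int.cast_one, neg_one_smul, neg_sub]
    rw [hgoal]
    rcases hagree with h | h
    · exact eq_sub_of_agree₁ hyp hη hgen hnorm hne.symm (fun w hw => (h w hw).symm) hV'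
    · exact eq_sub_of_agree₂ hyp hη hgen hnorm hne.symm (fun w hw => (h w hw).symm) hV'

end family

end Cfsg.Agent.OddOrderCharacters.PF3bUnique
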