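import Mathlib
import Cfsg.Agent.OddOrderCharacters.PFDefs
import Cfsg.Agent.OddOrderCharacters.CyclicTIUnique
import Cfsg.Agent.OddOrderCharacters.PF3bUnique
import Cfsg.Agent.Characters.Galois
import Cfsg.Agent.OddOrderCharacters.ClassSum

/-!
# Peterfalvi (3.9): Galois action on the cyclic TI family `η`

* `cfAut_cycTIiso`: `σ ∘ η ω = η (σ ∘ ω)` for `σ : ℂ ≃+* ℂ`; `conj_cycTIiso`: `conjFun (η ω) = η ω⁻¹`;
* `cycTIiso_aut_exists` (3.9)(b): for `k` prime to the order of `ω`, `η (ω ^ k)` is a Galois conjugate of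
  `η ω`, and they agree at elements of order prime to that of `ω`;
* `cint_cycTIiso_coprime` (3.9)(c): `η ω g` is a rational integer if `g` has order prime to that of `ω`.
-/

set_option autoImplicit false

namespace Cfsg.Agent.OddOrderCharacters.PF3bGalois

open Cfsg
open scoped ComplexConjugate
open Cfsg.Agent.Characters.Core
open Cfsg.Agent.OddOrderCharacters.PFDefs
open Cfsg.Agent.OddOrderCharacters.CyclicTIUnique
open Cfsg.Agent.OddOrderCharacters.PF3bUnique

universe u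

section general

variable {X : Type u} [Group X]

theorem isIntegral_of_irr_or_neg [Finite X] {α : X → ℂ}
    (hα : IsIrrCharacter X α ∨ IsIrrCharacter X (-α)) (g : X) : IsIntegral ℤ (α g) := by
  have key : ∀ β : X → ℂ, IsIrrCharacter X β → IsIntegral ℤ (β g) := by
    rintro β ⟨n, ρ, -, rfl⟩
    exact ClassSum.character_isIntegral ρ g
  rcases hα with h | h
  · exact key α h
  · have := (key _ h).neg
    rwa [Pi.neg_apply, neg_neg] at this

/-- The action of a field automorphism on the values of a signed irreducible character. -/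
theorem map_irr_or_neg {α : X → ℂ}
    (hα : IsIrrCharacter X α ∨ IsIrrCharacter X (-α)) (σ : ℂ ≃+* ℂ) {n m : ℕ}
    (hn : n ≠ 0) (hσ : ∀ z : ℂ, z ^ n = 1 → σ z = z ^ m) (g : X) (hg : g ^ n = 1) :
    σ (α g) = α (g ^ m) := by
  rcases hα with h | h
  · exact GaloisTwist.map_apply σ hn hσ (isIrr_isCharacter h) g hg
  · have := GaloisTwist.map_apply σ hn hσ (isIrr_isCharacter h) g hg
    rw [Pi.neg_apply, Pi.neg_apply, map_neg] at this
    exact neg_injective this

theorem orderOf_hom_ne_zero [Finite X] (ω : X →* ℂˣ) : orderOf ω ≠ 0 := by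
  intro h0
  have hcard : Nat.card X ≠ 0 := Nat.card_pos.ne'
  have : orderOf ω ∣ Nat.card X := by
    apply orderOf_dvd_of_pow_eq_one
    apply MonoidHom.ext
    intro w
    change (ω w) ^ (Nat.card X) = 1
    rw [← map_pow, pow_card_eq_one', map_one]
  rw [h0, zero_dvd_iff] at this
  exact hcard this

theorem val_pow_orderOf (ω : X →* ℂˣ) (w : X) : (ω w : ℂ) ^ (orderOf ω) = 1 := by
  have h6 : (ω ^ (orderOf ω)) w = 1 := by
    have h7 := pow_orderOf_eq_one ω
    exact DFunLike.congr_fun h7 w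
  rw [← Units.val_pow_eq_pow_val]
  exact congrArg Units.val h6

/-- For `k` prime to `a` and `n` prime to `a` there is an automorphism of `ℂ` acting as the `k`-th power on
`a`-th roots of unity and trivially on `n`-th roots of unity. -/
theorem exists_aut {a n k : ℕ} (ha : a ≠ 0) (hn : n ≠ 0) (hka : k.Coprime a) (hna : n.Coprime a) :
    ∃ τ : ℂ ≃+* ℂ, (∀ z : ℂ, z ^ a = 1 → τ z = z ^ k) ∧ (∀ z : ℂ, z ^ n = 1 → τ z = z) := by
  obtain ⟨l, hl₁, hl₂⟩ := Nat.chineseRemainder hna 1 k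
  have hln : l.Coprime n := by
    have := hl₁.gcd_eq
    rw [Nat.Coprime, this]; exact Nat.gcd_one_left _
  have hla : l.Coprime a := by
    have := hl₂.gcd_eq
    rw [Nat.Coprime, this]; exact hka
  obtain ⟨τ, hτ⟩ := Cfsg.Agent.Characters.Galois.exists_ringEquiv_complex
    (mul_ne_zero hn ha) (hln.mul_right hla)
  refine ⟨τ, fun z hz => ?_, fun z hz => ?_⟩
  · rw [hτ z (by rw [mul_comm, pow_mul, hz, one_pow])]
    exact pow_eq_pow_of_modEq hl₂ hz
  · rw [hτ z (by rw [pow_mul, hz, one_pow])]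
    have := pow_eq_pow_of_modEq hl₁ hz
    rw [this, pow_one]

end general

section family

variable {G : Type u} [Group G] [Fintype G] {W W₁ W₂ : Subgroup G}
  {η : (↥W →* ℂˣ) → (G → ℂ)}

/-- Peterfalvi (3.9)(a), second part: `σ ∘ η ω = η (σ ∘ ω)`. -/
theorem cfAut_cycTIiso (hyp : CyclicTIHyp W W₁ W₂) (hη : CyclicTIFam W W₁ W₂ η) (σ : ℂ ≃+* ℂ)
    (ω : ↥W →* ℂˣ) : (fun g => σ (η ω g)) = η (mapHom σ ω) := by
  obtain ⟨h, hodd, hW⟩ := hyp
  subst h
  exact map_family hW hodd (cyclicTIFam_to hη) σ ω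

/-- The complex conjugate of `η ω` is `η ω⁻¹`. -/
theorem conj_cycTIiso (hyp : CyclicTIHyp W W₁ W₂) (hη : CyclicTIFam W W₁ W₂ η) (ω : ↥W →* ℂˣ) :
    conjFun (η ω) = η ω⁻¹ := by
  obtain ⟨h, hodd, hW⟩ := hyp
  subst h
  exact conj_family hW hodd (cyclicTIFam_to hη) ω

/-- If `σ` acts as the `k`-th power on the roots of unity of order dividing that of `ω` then
`σ ∘ η ω = η (ω ^ k)`. -/
theorem cfAut_cycTIiso_pow (hyp : CyclicTIHyp W W₁ W₂) (hη : CyclicTIFam W W₁ W₂ η)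
    (σ : ℂ ≃+* ℂ) (ω : ↥W →* ℂˣ) {k : ℕ}
    (hσ : ∀ z : ℂ, z ^ (orderOf ω) = 1 → σ z = z ^ k) : (fun g => σ (η ω g)) = η (ω ^ k) := by
  rw [cfAut_cycTIiso hyp hη]
  congr 1
  apply MonoidHom.ext
  intro w
  apply Units.ext
  rw [mapHom_apply, hσ _ (val_pow_orderOf ω w), ← Units.val_pow_eq_pow_val]
  rfl

/-- Peterfalvi (3.9)(b). -/
theorem cycTIiso_aut_exists (hyp : CyclicTIHyp W W₁ W₂) (hη : CyclicTIFam W W₁ W₂ η)
    (ω : ↥W →* ℂˣ) {k : ℕ} (hk : k.Coprime (orderOf ω)) :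
    (∃ σ : ℂ ≃+* ℂ, (fun g => σ (η ω g)) = η (ω ^ k)) ∧
      ∀ g : G, (orderOf g).Coprime (orderOf ω) → η (ω ^ k) g = η ω g := by
  have ha := orderOf_hom_ne_zero ω
  constructor
  · obtain ⟨σ, hσ⟩ := Cfsg.Agent.Characters.Galois.exists_ringEquiv_complex ha hk
    exact ⟨σ, cfAut_cycTIiso_pow hyp hη σ ω hσ⟩
  · intro g hg
    have hn : orderOf g ≠ 0 := (orderOf_pos g).ne'
    obtain ⟨τ, hτ₁, hτ₂⟩ := exists_aut ha hn hk hg
    have h1 := congrFun (cfAut_cycTIiso_pow hyp hη τ ω hτ₁) g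
    have h2 : τ (η ω g) = η ω (g ^ 1) :=
      map_irr_or_neg (hη.irr_or_neg ω) τ hn (fun z hz => by rw [hτ₂ z hz, pow_one]) g
        (pow_orderOf_eq_one g)
    rw [pow_one] at h2
    rw [← h1]
    exact h2

/-- The value of `η ω` at `g` does not change when `ω` is replaced by a power `ω ^ k` and `g` by `g ^ k`
for `k` prime to both orders: more precisely `σ (η ω g) = η ω (g ^ k) = η (ω ^ k) g`. -/
theorem eta_pow_apply (hyp : CyclicTIHyp W W₁ W₂) (hη : CyclicTIFam W W₁ W₂ η)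
    (ω : ↥W →* ℂˣ) {k : ℕ} (g : G) (hk : k.Coprime (orderOf ω)) (hk' : k.Coprime (orderOf g)) :
    η (ω ^ k) g = η ω (g ^ k) := by
  have ha := orderOf_hom_ne_zero ω
  have hn : orderOf g ≠ 0 := (orderOf_pos g).ne'
  obtain ⟨σ, hσ⟩ := Cfsg.Agent.Characters.Galois.exists_ringEquiv_complex
    (mul_ne_zero ha hn) (hk.mul_right hk')
  have h1 := congrFun (cfAut_cycTIiso_pow hyp hη σ ω (k := k)
    (fun z hz => hσ z (by rw [pow_mul, hz, one_pow]))) g
  have h2 : σ (η ω g) = η ω (g ^ k) :=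
    map_irr_or_neg (hη.irr_or_neg ω) σ hn
      (fun z hz => hσ z (by rw [mul_comm, pow_mul, hz, one_pow])) g (pow_orderOf_eq_one g)
  rw [← h1]
  exact h2

/-- Peterfalvi (3.9)(c): the values of `η ω` at elements of order prime to that of `ω` are rational
integers. -/
theorem cint_cycTIiso_coprime (hyp : CyclicTIHyp W W₁ W₂) (hη : CyclicTIFam W W₁ W₂ η)
    (ω : ↥W →* ℂˣ) (g : G) (hg : (orderOf g).Coprime (orderOf ω)) : ∃ n : ℤ, η ω g = n := by
  apply Cfsg.Agent.Characters.Galois.exists_int_of_forall_ringEquiv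
  · exact isIntegral_of_irr_or_neg (hη.irr_or_neg ω) g
  intro σ
  have hn : orderOf g ≠ 0 := (orderOf_pos g).ne'
  have ha := orderOf_hom_ne_zero ω
  obtain ⟨m, hm, hσ⟩ := Cfsg.Agent.Characters.Galois.exists_pow_of_ringHom (σ : ℂ →+* ℂ) hn
  obtain ⟨τ, hτ₁, hτ₂⟩ := exists_aut hn ha hm hg.symm
  have h1 : σ (η ω g) = η ω (g ^ m) :=
    map_irr_or_neg (hη.irr_or_neg ω) σ hn hσ g (pow_orderOf_eq_one g)
  have h2 : τ (η ω g) = η ω (g ^ m) :=
    map_irr_or_neg (hη.irr_or_neg ω) τ hn hτ₁ g (pow_orderOf_eq_one g)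
  have h3 := congrFun (cfAut_cycTIiso_pow hyp hη τ ω (k := 1)
    (fun z hz => by rw [hτ₂ z hz, pow_one])) g
  have h4 : ω ^ 1 = ω := MonoidHom.ext fun w => by rw [MonoidHom.pow_apply, pow_one]
  rw [h4] at h3
  rw [h1, ← h2]
  exact h3

end family

end Cfsg.Agent.OddOrderCharacters.PF3bGalois
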