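import Mathlib.RepresentationTheory.Character
import Mathlib.Analysis.Complex.Basic
import Mathlib.LinearAlgebra.Prod
import Cfsg.Prelude.Def_Characters
import Cfsg.Prelude.Def_OddOrderChar
import Cfsg.Agent.S0158

/-!
# A small self-contained kit for `classInner` and generalized characters

Sesquilinearity and positivity of `Cfsg.classInner`, closure of generalized characters under
integer combinations, integrality of inner products, and the extension of a map on an
orthogonal set of functions to a linear isometry on its integer span.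
-/

set_option autoImplicit false

open scoped ComplexConjugate
open Cfsg

namespace Cfsg.Agent.OddOrderCharacters.InnerLite

section inner

variable {G : Type*} [Group G] [Fintype G]

theorem ci_def (a b : G → ℂ) : classInner a b = (Nat.card G : ℂ)⁻¹ * ∑ g : G, a g * conj (b g) :=
  rfl

theorem ci_add_left (a b c : G → ℂ) : classInner (a + b) c = classInner a c + classInner b c := by
  simp only [ci_def, Pi.add_apply, add_mul, Finset.sum_add_distrib, mul_add]

theorem ci_smul_left (z : ℂ) (a b : G → ℂ) : classInner (z • a) b = z * classInner a b := by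
  simp only [ci_def, Pi.smul_apply, smul_eq_mul, mul_assoc, ← Finset.mul_sum]
  ring

theorem ci_conj_symm (a b : G → ℂ) : conj (classInner a b) = classInner b a := by
  simp only [ci_def, map_mul, map_inv₀, map_natCast, map_sum, Complex.conj_conj]
  congr 1
  exact Finset.sum_congr rfl (fun g _ => mul_comm _ _)

theorem ci_zero_left (b : G → ℂ) : classInner 0 b = 0 := by
  simp [ci_def]

theorem ci_neg_left (a b : G → ℂ) : classInner (-a) b = -classInner a b := by
  have := ci_smul_left (-1) a b
  simpa using this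

theorem ci_sub_left (a b c : G → ℂ) : classInner (a - b) c = classInner a c - classInner b c := by
  rw [sub_eq_add_neg, ci_add_left, ci_neg_left, sub_eq_add_neg]

theorem ci_zsmul_left (n : ℤ) (a b : G → ℂ) : classInner (n • a) b = n * classInner a b := by
  rw [← ci_smul_left]
  congr 1
  ext x; simp

theorem ci_nsmul_left (n : ℕ) (a b : G → ℂ) : classInner (n • a) b = n * classInner a b := by
  rw [← ci_smul_left]
  congr 1
  ext x; simp

theorem ci_sum_left {ι : Type*} (s : Finset ι) (f : ι → G → ℂ) (b : G → ℂ) :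
    classInner (∑ i ∈ s, f i) b = ∑ i ∈ s, classInner (f i) b := by
  classical
  induction s using Finset.induction_on with
  | empty => simp [ci_zero_left]
  | insert i s hi ih => rw [Finset.sum_insert hi, Finset.sum_insert hi, ci_add_left, ih]

theorem ci_add_right (a b c : G → ℂ) : classInner a (b + c) = classInner a b + classInner a c := by
  rw [← ci_conj_symm, ci_add_left, map_add, ci_conj_symm, ci_conj_symm]

theorem ci_smul_right (z : ℂ) (a b : G → ℂ) : classInner a (z • b) = conj z * classInner a b := by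
  rw [← ci_conj_symm, ci_smul_left, map_mul, ci_conj_symm]

theorem ci_zero_right (a : G → ℂ) : classInner a 0 = 0 := by
  simp [ci_def]

theorem ci_neg_right (a b : G → ℂ) : classInner a (-b) = -classInner a b := by
  rw [← ci_conj_symm, ci_neg_left, map_neg, ci_conj_symm]

theorem ci_sub_right (a b c : G → ℂ) : classInner a (b - c) = classInner a b - classInner a c := by
  rw [← ci_conj_symm, ci_sub_left, map_sub, ci_conj_symm, ci_conj_symm]

theorem ci_zsmul_right (n : ℤ) (a b : G → ℂ) : classInner a (n • b) = n * classInner a b := by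
  rw [← ci_conj_symm, ci_zsmul_left, map_mul, ci_conj_symm]; simp

theorem ci_nsmul_right (n : ℕ) (a b : G → ℂ) : classInner a (n • b) = n * classInner a b := by
  rw [← ci_conj_symm, ci_nsmul_left, map_mul, ci_conj_symm]; simp

theorem ci_sum_right {ι : Type*} (s : Finset ι) (a : G → ℂ) (f : ι → G → ℂ) :
    classInner a (∑ i ∈ s, f i) = ∑ i ∈ s, classInner a (f i) := by
  rw [← ci_conj_symm, ci_sum_left, map_sum]
  exact Finset.sum_congr rfl (fun i _ => ci_conj_symm _ _)

theorem ci_self (a : G → ℂ) :
    classInner a a = (((Nat.card G : ℝ)⁻¹ * ∑ g : G, ‖a g‖ ^ 2 : ℝ) : ℂ) := by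
  rw [ci_def]
  push_cast
  congr 1
  refine Finset.sum_congr rfl (fun g _ => ?_)
  rw [Complex.mul_conj, Complex.normSq_eq_norm_sq]
  push_cast
  rfl

theorem ci_self_im (a : G → ℂ) : (classInner a a).im = 0 := by
  rw [ci_self, Complex.ofReal_im]

theorem ci_self_re_nonneg (a : G → ℂ) : 0 ≤ (classInner a a).re := by
  rw [ci_self, Complex.ofReal_re]
  positivity

theorem eq_zero_of_ci_self_re_le {a : G → ℂ} (h : (classInner a a).re ≤ 0) : a = 0 := by
  rw [ci_self, Complex.ofReal_re] at h
  have hc : 0 < (Nat.card G : ℝ)⁻¹ := by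
    have : 0 < Nat.card G := Nat.card_pos
    positivity
  have h2 : ∑ g : G, ‖a g‖ ^ 2 ≤ 0 := by
    by_contra hcon
    push Not at hcon
    have := mul_pos hc hcon
    linarith
  have h3 : ∑ g : G, ‖a g‖ ^ 2 = 0 :=
    le_antisymm h2 (Finset.sum_nonneg (fun g _ => by positivity))
  rw [Finset.sum_eq_zero_iff_of_nonneg (fun g _ => by positivity)] at h3
  funext g
  have := h3 g (Finset.mem_univ g)
  simpa using this

theorem eq_zero_of_ci_self {a : G → ℂ} (h : classInner a a = 0) : a = 0 :=
  eq_zero_of_ci_self_re_le (by rw [h]; simp)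

theorem ci_conjFun (a b : G → ℂ) :
    classInner (conjFun a) (conjFun b) = conj (classInner a b) := by
  simp only [ci_def, conjFun, map_mul, map_inv₀, map_natCast, map_sum]

end inner

section gen

variable {G : Type*} [Group G]

theorem isCharacter_add' {χ ψ : G → ℂ} (hχ : IsCharacter G χ) (hψ : IsCharacter G ψ) :
    IsCharacter G (χ + ψ) := by
  obtain ⟨n, ρ, rfl⟩ := hχ
  obtain ⟨m, σ, rfl⟩ := hψ
  -- the direct sum transported to `Fin (n + m) → ℂ`
  let e : ((Fin n → ℂ) × (Fin m → ℂ)) ≃ₗ[ℂ] (Fin (n + m) → ℂ) :=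
    LinearEquiv.ofFinrankEq _ _ (by simp)
  let T : Representation ℂ G (Fin (n + m) → ℂ) :=
    { toFun := fun g => e.conj ((ρ g).prodMap (σ g))
      map_one' := by
        refine LinearMap.ext fun x => ?_
        simp [LinearEquiv.conj_apply]
      map_mul' := by
        intro a b
        refine LinearMap.ext fun x => ?_
        simp [LinearEquiv.conj_apply] }
  refine ⟨n + m, T, ?_⟩
  funext g
  change LinearMap.trace ℂ _ (e.conj ((ρ g).prodMap (σ g))) = _
  rw [LinearMap.trace_conj', LinearMap.trace_prodMap']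
  rfl

theorem isCharacter_zero' : IsCharacter G (0 : G → ℂ) := by
  refine ⟨0, 1, ?_⟩
  funext g
  simp [Representation.character]

theorem gen_zero : IsGeneralizedCharacter G (0 : G → ℂ) :=
  ⟨0, 0, isCharacter_zero', isCharacter_zero', by simp⟩

theorem gen_add {a b : G → ℂ} (ha : IsGeneralizedCharacter G a) (hb : IsGeneralizedCharacter G b) :
    IsGeneralizedCharacter G (a + b) := by
  obtain ⟨x, y, hx, hy, rfl⟩ := ha
  obtain ⟨z, w, hz, hw, rfl⟩ := hb
  exact ⟨x + z, y + w, isCharacter_add' hx hz, isCharacter_add' hy hw, by abel⟩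

theorem gen_neg {a : G → ℂ} (ha : IsGeneralizedCharacter G a) :
    IsGeneralizedCharacter G (-a) := by
  obtain ⟨x, y, hx, hy, rfl⟩ := ha
  exact ⟨y, x, hy, hx, by abel⟩

theorem gen_sub {a b : G → ℂ} (ha : IsGeneralizedCharacter G a) (hb : IsGeneralizedCharacter G b) :
    IsGeneralizedCharacter G (a - b) := by
  rw [sub_eq_add_neg]; exact gen_add ha (gen_neg hb)

theorem gen_nsmul {a : G → ℂ} (n : ℕ) (ha : IsGeneralizedCharacter G a) :
    IsGeneralizedCharacter G (n • a) := by
  induction n with
  | zero => rw [zero_smul]; exact gen_zero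
  | succ n ih => rw [succ_nsmul]; exact gen_add ih ha

theorem gen_zsmul {a : G → ℂ} (n : ℤ) (ha : IsGeneralizedCharacter G a) :
    IsGeneralizedCharacter G (n • a) := by
  obtain ⟨m, rfl | rfl⟩ := n.eq_nat_or_neg
  · rw [natCast_zsmul]; exact gen_nsmul m ha
  · rw [neg_smul, natCast_zsmul]; exact gen_neg (gen_nsmul m ha)

theorem gen_sum {ι : Type*} (s : Finset ι) {f : ι → G → ℂ}
    (hf : ∀ i ∈ s, IsGeneralizedCharacter G (f i)) : IsGeneralizedCharacter G (∑ i ∈ s, f i) := by
  classical
  induction s using Finset.induction_on with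
  | empty => simpa using gen_zero
  | insert i s hi ih =>
    rw [Finset.sum_insert hi]
    exact gen_add (hf i (Finset.mem_insert_self _ _))
      (ih (fun j hj => hf j (Finset.mem_insert_of_mem hj)))

variable [Fintype G]

theorem ci_char_nat {a b : G → ℂ} (ha : IsCharacter G a) (hb : IsCharacter G b) :
    ∃ n : ℕ, classInner a b = n := by
  obtain ⟨n, ρ, rfl⟩ := ha
  obtain ⟨m, σ, rfl⟩ := hb
  refine ⟨Module.finrank ℂ (Representation.IntertwiningMap σ ρ), ?_⟩
  have hne : (Nat.card G : ℂ) ≠ 0 := by exact_mod_cast Nat.card_pos.ne'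
  have : Invertible (Nat.card G : ℂ) := invertibleOfNonzero hne
  rw [← Representation.card_inv_mul_sum_char_mul_char_eq_finrank σ ρ, ci_def]
  congr 1
  refine Finset.sum_congr rfl (fun g _ => ?_)
  rw [Cfsg.Agent.S0158.char_inv]

theorem ci_gen_int {a b : G → ℂ} (ha : IsGeneralizedCharacter G a)
    (hb : IsGeneralizedCharacter G b) : ∃ n : ℤ, classInner a b = n := by
  obtain ⟨x, y, hx, hy, rfl⟩ := ha
  obtain ⟨z, w, hz, hw, rfl⟩ := hb
  obtain ⟨n1, h1⟩ := ci_char_nat hx hz
  obtain ⟨n2, h2⟩ := ci_char_nat hx hw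
  obtain ⟨n3, h3⟩ := ci_char_nat hy hz
  obtain ⟨n4, h4⟩ := ci_char_nat hy hw
  refine ⟨(n1 : ℤ) - n2 - (n3 - n4), ?_⟩
  rw [ci_sub_left, ci_sub_right, ci_sub_right, h1, h2, h3, h4]
  push_cast
  ring

end gen

end Cfsg.Agent.OddOrderCharacters.InnerLite
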