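import Cfsg.Agent.OddOrderCharacters.Galois
import Cfsg.Agent.OddOrderCharacters.CoherenceBasic
import Cfsg.Agent.OddOrderCharacters.VChar
import Cfsg.Agent.OddOrderCharacters.DadeBasic

/-!
# Peterfalvi (5.9)(a): coherence and field automorphisms

If `τ₁` extends `τ` (for instance the Dade map or induction) coherently to `ℤ[S]`, where `S` is closed
under the field automorphism `σ` and has at least two irreducible members, then
`σ (τ₁ χ) = τ₁ (σ χ)` for every irreducible `χ ∈ S`.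
-/

set_option autoImplicit false

open scoped ComplexConjugate
open Cfsg
open Cfsg.Agent.OddOrderCharacters.Galois
open Cfsg.Agent.Characters.Core

namespace Cfsg.Agent.OddOrderCharacters.PF5Gal

universe u v

variable {L : Type u} [Group L] [Fintype L] {G : Type v} [Group G] [Fintype G]

/-- Norm one generalized characters are irreducible up to sign. -/
theorem isom_gal_irr {S : Set (L → ℂ)} {τ₁ : (L → ℂ) → (G → ℂ)}
    (hτ₁ : IsLinearIsometryOn (zspan S) τ₁) {χ : L → ℂ} (hχ : χ ∈ S) (hχi : IsIrrCharacter L χ) :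
    IsIrrCharacter G (τ₁ χ) ∨ IsIrrCharacter G (-τ₁ χ) :=
  CoherenceBasic.isom_irr hτ₁ (CoherenceBasic.mem_zspan hχ) hχi

/-- **Peterfalvi (5.9)(a)** (`cfAut_Dade_coherent`), abstract form. -/
theorem gal_coherent (σ : ℂ ≃+* ℂ) {S : Set (L → ℂ)} {τ τ₁ : (L → ℂ) → (G → ℂ)}
    (hgal : ∀ φ ∈ S, gal σ φ ∈ S)
    (hτ : ∀ α ∈ zspanOn S {1}ᶜ, τ (gal σ α) = gal σ (τ α))
    (hτ1 : ∀ α ∈ zspanOn S {1}ᶜ, τ α 1 = 0)
    (hτ₁ : IsLinearIsometryOn (zspan S) τ₁)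
    (hext : ∀ α ∈ zspanOn S {1}ᶜ, τ₁ α = τ α)
    {χ ζ : L → ℂ} (hχ : χ ∈ S) (hχi : IsIrrCharacter L χ) (hζ : ζ ∈ S) (hζi : IsIrrCharacter L ζ)
    (hne : ζ ≠ χ) : gal σ (τ₁ χ) = τ₁ (gal σ χ) := by
  obtain ⟨a, ha0, ha⟩ := isIrr_apply_one hχi
  obtain ⟨b, hb0, hb⟩ := isIrr_apply_one hζi
  have zχ : χ ∈ zspan S := CoherenceBasic.mem_zspan hχ
  have zζ : ζ ∈ zspan S := CoherenceBasic.mem_zspan hζ
  have zχ' : gal σ χ ∈ zspan S := CoherenceBasic.mem_zspan (hgal χ hχ)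
  have zζ' : gal σ ζ ∈ zspan S := CoherenceBasic.mem_zspan (hgal ζ hζ)
  have hχg : IsGeneralizedCharacter L χ := VChar.gen_of_irr hχi
  have hζg : IsGeneralizedCharacter L ζ := VChar.gen_of_irr hζi
  have gX := CoherenceBasic.isom_gen hτ₁ zχ
  have gZ := CoherenceBasic.isom_gen hτ₁ zζ
  -- the four signed irreducibles
  have iX := isIrr_or_neg_gal (σ := σ) (CoherenceBasic.isom_irr hτ₁ zχ hχi)
  have iX' := CoherenceBasic.isom_irr hτ₁ zχ' (isIrr_gal (σ := σ) hχi)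
  have iZ' := CoherenceBasic.isom_irr hτ₁ zζ' (isIrr_gal (σ := σ) hζi)
  have oXZ : classInner (gal σ (τ₁ ζ)) (gal σ (τ₁ χ)) = 0 := by
    rw [classInner_gal σ gZ gX, CoherenceBasic.isom_inner hτ₁ zζ zχ]
    exact classInner_irr_ne hζi hχi hne
  have oX'Z' : classInner (τ₁ (gal σ χ)) (τ₁ (gal σ ζ)) = 0 := by
    rw [CoherenceBasic.isom_inner hτ₁ zχ' zζ', classInner_gal σ hχg hζg]
    exact classInner_irr_ne hχi hζi hne.symm
  have nX : classInner (gal σ (τ₁ χ)) (gal σ (τ₁ χ)) = 1 := by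
    rw [classInner_gal σ gX gX, CoherenceBasic.isom_inner hτ₁ zχ zχ, classInner_irr_self hχi]
  -- the main relation
  have hα : (b : ℤ) • χ - (a : ℤ) • ζ ∈ zspanOn S {1}ᶜ :=
    CoherenceBasic.zspanOn_cross zχ zζ (by rw [ha]; norm_cast) (by rw [hb]; norm_cast)
  have hα' := gal_mem_zspanOn (σ := σ) hgal hα
  have e1 : τ₁ ((b : ℤ) • χ - (a : ℤ) • ζ) = (b : ℤ) • τ₁ χ - (a : ℤ) • τ₁ ζ := by
    rw [CoherenceBasic.isom_sub hτ₁ (CoherenceBasic.zspan_zsmul _ zχ)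
      (CoherenceBasic.zspan_zsmul _ zζ), CoherenceBasic.isom_zsmul hτ₁ _ zχ,
      CoherenceBasic.isom_zsmul hτ₁ _ zζ]
  have e2 : τ₁ (gal σ ((b : ℤ) • χ - (a : ℤ) • ζ)) =
      (b : ℤ) • τ₁ (gal σ χ) - (a : ℤ) • τ₁ (gal σ ζ) := by
    rw [gal_sub, gal_zsmul, gal_zsmul, CoherenceBasic.isom_sub hτ₁
      (CoherenceBasic.zspan_zsmul _ zχ') (CoherenceBasic.zspan_zsmul _ zζ'),
      CoherenceBasic.isom_zsmul hτ₁ _ zχ', CoherenceBasic.isom_zsmul hτ₁ _ zζ']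
  have e3 : (b : ℤ) • gal σ (τ₁ χ) - (a : ℤ) • gal σ (τ₁ ζ) =
      (b : ℤ) • τ₁ (gal σ χ) - (a : ℤ) • τ₁ (gal σ ζ) := by
    rw [← e2, hext _ hα', hτ _ hα, ← hext _ hα, e1, gal_sub, gal_zsmul, gal_zsmul]
  have e4 := congrArg (fun f => classInner f (gal σ (τ₁ χ))) e3
  simp only [classInner_sub_left, CoherenceBasic.classInner_zsmul_left, nX, oXZ] at e4
  have ha0' : (a : ℂ) ≠ 0 := by exact_mod_cast ha0.ne'
  have hb0' : (b : ℂ) ≠ 0 := by exact_mod_cast hb0.ne'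
  rcases CoherenceBasic.signed_inner iX' iX with h1 | ⟨h1, -⟩ | ⟨h1, h1'⟩
  · -- ⟨X', X⟩ = 0
    rw [h1] at e4
    rcases CoherenceBasic.signed_inner iZ' iX with h2 | ⟨h2, h2'⟩ | ⟨h2, h2'⟩
    · rw [h2] at e4
      exfalso; apply hb0'
      simpa using e4
    · rw [h2'] at e4
      exfalso
      have : ((b + a : ℕ) : ℂ) = 0 := by push_cast; push_cast at e4; linear_combination e4
      have h5 : b + a = 0 := by exact_mod_cast this
      omega
    · rw [h2'] at e4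
      exfalso
      have hab : (b : ℂ) = a := by push_cast at e4; linear_combination e4
      -- value at 1
      have hmem : χ - gal σ ζ ∈ zspanOn S {1}ᶜ := by
        rw [VChar.mem_zspanOn_one_iff]
        refine ⟨CoherenceBasic.zspan_sub zχ zζ', ?_⟩
        rw [Pi.sub_apply, gal_apply_one σ hζg, ha, hb, hab, sub_self]
      have h3 := hτ1 _ hmem
      rw [← hext _ hmem, CoherenceBasic.isom_sub hτ₁ zχ zζ', Pi.sub_apply, h2, Pi.neg_apply,
        gal_apply_one σ gX] at h3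
      apply CoherenceBasic.signed_apply_one_ne_zero (CoherenceBasic.isom_irr hτ₁ zχ hχi)
      linear_combination h3 / 2
  · exact h1.symm
  · -- X' = -X
    rw [h1'] at e4
    have h2 : classInner (τ₁ (gal σ ζ)) (gal σ (τ₁ χ)) = 0 := by
      have h3 : gal σ (τ₁ χ) = -τ₁ (gal σ χ) := by rw [h1, neg_neg]
      rw [h3, classInner_neg_right, VChar.classInner_comm_eq_zero oX'Z', neg_zero]
    rw [h2] at e4
    exfalso; apply hb0'
    push_cast at e4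
    linear_combination e4 / 2

/-- Complex conjugation version: no second irreducible is needed when `χ` is not real. -/
theorem conj_coherent {S : Set (L → ℂ)} {τ τ₁ : (L → ℂ) → (G → ℂ)}
    (hconj : ∀ φ ∈ S, conjFun φ ∈ S)
    (hτ : ∀ α ∈ zspanOn S {1}ᶜ, τ (conjFun α) = conjFun (τ α))
    (hτ1 : ∀ α ∈ zspanOn S {1}ᶜ, τ α 1 = 0)
    (hτ₁ : IsLinearIsometryOn (zspan S) τ₁)
    (hext : ∀ α ∈ zspanOn S {1}ᶜ, τ₁ α = τ α)
    {χ : L → ℂ} (hχ : χ ∈ S) (hχi : IsIrrCharacter L χ) (hne : conjFun χ ≠ χ) :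
    conjFun (τ₁ χ) = τ₁ (conjFun χ) := by
  have := gal_coherent (starRingAut : ℂ ≃+* ℂ) (S := S) (τ := τ) (τ₁ := τ₁)
    (fun φ hφ => by rw [gal_conj]; exact hconj φ hφ)
    (fun α hα => by rw [gal_conj, gal_conj]; exact hτ α hα) hτ1 hτ₁ hext hχ hχi
    (hconj χ hχ) (VChar.isIrr_conjFun hχi) hne
  rwa [gal_conj, gal_conj] at this

end Cfsg.Agent.OddOrderCharacters.PF5Gal

namespace Cfsg.Agent.OddOrderCharacters.PF5Gal

universe u

variable {G : Type u} [Group G] [Fintype G] {A : Set G} {L : Subgroup G} [Fintype ↥L]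
  {R : G → Subgroup G}

/-- **Peterfalvi (5.9)(a)** for the Dade map. -/
theorem cfAut_Dade_coherent (hD : DadeHypothesis A L R) (σ : ℂ ≃+* ℂ) {S : Set (↥L → ℂ)}
    {τ₁ : (↥L → ℂ) → (G → ℂ)} (hgal : ∀ φ ∈ S, gal σ φ ∈ S)
    (hτ₁ : IsLinearIsometryOn (zspan S) τ₁)
    (hext : ∀ α ∈ zspanOn S {1}ᶜ, τ₁ α = dadeIsometry A L R α)
    {χ ζ : ↥L → ℂ} (hχ : χ ∈ S) (hχi : IsIrrCharacter ↥L χ) (hζ : ζ ∈ S)
    (hζi : IsIrrCharacter ↥L ζ) (hne : ζ ≠ χ) : gal σ (τ₁ χ) = τ₁ (gal σ χ) :=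
  gal_coherent σ hgal (fun _ _ => dadeIsometry_gal (σ := σ) A L R _)
    (fun _ _ => DadeBasic.dadeIsometry_one hD _) hτ₁ hext hχ hχi hζ hζi hne

omit [Fintype G] [Fintype ↥L] in
/-- The Dade map commutes with complex conjugation. -/
theorem dadeIsometry_conjFun (A : Set G) (L : Subgroup G) (R : G → Subgroup G) (α : ↥L → ℂ) :
    dadeIsometry A L R (conjFun α) = conjFun (dadeIsometry A L R α) := by
  have := dadeIsometry_gal (σ := (starRingAut : ℂ ≃+* ℂ)) A L R α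
  rwa [gal_conj, gal_conj] at this

/-- **Peterfalvi (5.9)(a)** for the Dade map and complex conjugation
(`cfConjC_Dade_coherent`). -/
theorem cfConjC_Dade_coherent (hD : DadeHypothesis A L R) {S : Set (↥L → ℂ)}
    {τ₁ : (↥L → ℂ) → (G → ℂ)} (hconj : ∀ φ ∈ S, conjFun φ ∈ S)
    (hτ₁ : IsLinearIsometryOn (zspan S) τ₁)
    (hext : ∀ α ∈ zspanOn S {1}ᶜ, τ₁ α = dadeIsometry A L R α)
    {χ : ↥L → ℂ} (hχ : χ ∈ S) (hχi : IsIrrCharacter ↥L χ) (hne : conjFun χ ≠ χ) :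
    conjFun (τ₁ χ) = τ₁ (conjFun χ) :=
  conj_coherent hconj (fun _ _ => dadeIsometry_conjFun A L R _)
    (fun _ _ => DadeBasic.dadeIsometry_one hD _) hτ₁ hext hχ hχi hne

end Cfsg.Agent.OddOrderCharacters.PF5Gal
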