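import Mathlib
import Cfsg.Agent.OddOrderCharacters.PFDefs
import Cfsg.Agent.OddOrderCharacters.Galois
import Cfsg.Agent.OddOrderCharacters.VChar
import Cfsg.Agent.OddOrderCharacters.PF3bUnique
import Cfsg.Agent.OddOrderCharacters.PF3bGalois

/-!
# Peterfalvi (3.9)(c): the family `η_ij` and field automorphisms
-/

set_option autoImplicit false
open Cfsg
open scoped ComplexConjugate
open Cfsg.Agent.OddOrderCharacters.PFDefs Cfsg.Agent.OddOrderCharacters.Galois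

namespace Cfsg.Agent.OddOrderCharacters.PF3bGal

variable {G : Type*} [Group G] {W W₁ W₂ : Subgroup G}
  {η : (↥W →* ℂˣ) → (G → ℂ)}

section hom

/-- the Galois twist of a linear character -/
def galHom (σ : ℂ ≃+* ℂ) (ω : ↥W →* ℂˣ) : ↥W →* ℂˣ :=
  (Units.map (σ.toRingHom : ℂ →* ℂ)).comp ω

theorem galHom_apply (σ : ℂ ≃+* ℂ) (ω : ↥W →* ℂˣ) (w : ↥W) : (galHom σ ω w : ℂ) = σ (ω w) := rfl

theorem galHom_one (σ : ℂ ≃+* ℂ) : galHom σ (1 : ↥W →* ℂˣ) = 1 := by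
  apply MonoidHom.ext
  intro w
  apply Units.ext
  rw [galHom_apply]
  exact map_one σ

theorem galHom_mul (σ : ℂ ≃+* ℂ) (ω ω' : ↥W →* ℂˣ) : galHom σ (ω * ω') = galHom σ ω * galHom σ ω' := by
  apply MonoidHom.ext
  intro w
  apply Units.ext
  rw [galHom_apply]
  exact map_mul σ _ _

theorem galHom_symm_galHom (σ : ℂ ≃+* ℂ) (ω : ↥W →* ℂˣ) : galHom σ.symm (galHom σ ω) = ω := by
  apply MonoidHom.ext
  intro w
  apply Units.ext
  rw [galHom_apply, galHom_apply, RingEquiv.symm_apply_apply]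

theorem galHom_galHom_symm (σ : ℂ ≃+* ℂ) (ω : ↥W →* ℂˣ) : galHom σ (galHom σ.symm ω) = ω := by
  apply MonoidHom.ext
  intro w
  apply Units.ext
  rw [galHom_apply, galHom_apply, RingEquiv.apply_symm_apply]

theorem galHom_injective (σ : ℂ ≃+* ℂ) :
    Function.Injective (galHom σ : (↥W →* ℂˣ) → (↥W →* ℂˣ)) :=
  Function.LeftInverse.injective (galHom_symm_galHom σ)

theorem galHom_surjective (σ : ℂ ≃+* ℂ) :
    Function.Surjective (galHom σ : (↥W →* ℂˣ) → (↥W →* ℂˣ)) :=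
  Function.RightInverse.surjective (galHom_galHom_symm σ)

theorem galHom_apply_eq_one_iff (σ : ℂ ≃+* ℂ) (ω : ↥W →* ℂˣ) (w : ↥W) :
    galHom σ ω w = 1 ↔ ω w = 1 := by
  rw [← Units.val_eq_one, ← Units.val_eq_one, galHom_apply]
  exact EmbeddingLike.map_eq_one_iff

theorem galHom_mem_iff (σ : ℂ ≃+* ℂ) (ω : ↥W →* ℂˣ) :
    galHom σ ω ∈ lin₁ W W₂ ↔ ω ∈ lin₁ W W₂ := by
  constructor
  · intro h w hw
    exact (galHom_apply_eq_one_iff σ ω w).mp (h w hw)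
  · intro h w hw
    exact (galHom_apply_eq_one_iff σ ω w).mpr (h w hw)

theorem galHom_eq_pow (σ : ℂ ≃+* ℂ) {n k : ℕ} (hσ : ∀ z : ℂ, z ^ n = 1 → σ z = z ^ k)
    {ω : ↥W →* ℂˣ} (hω : ω ^ n = 1) : galHom σ ω = ω ^ k := by
  apply MonoidHom.ext
  intro w
  apply Units.ext
  have h1 : (ω w : ℂ) ^ n = 1 := by
    have h2 : (ω ^ n) w = 1 := by rw [hω]; rfl
    rw [← Units.val_pow_eq_pow_val]
    exact congrArg Units.val h2
  rw [galHom_apply, hσ _ h1, ← Units.val_pow_eq_pow_val]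
  rfl

theorem galHom_conj [Finite ↥W] (ω : ↥W →* ℂˣ) : galHom (starRingAut : ℂ ≃+* ℂ) ω = ω⁻¹ := by
  apply MonoidHom.ext
  intro w
  apply Units.ext
  rw [galHom_apply]
  have hfin : IsOfFinOrder (ω w) := MonoidHom.isOfFinOrder ω (isOfFinOrder_of_finite w)
  have hnorm : ‖(ω w : ℂ)‖ = 1 := by
    obtain ⟨n, hn, hn1⟩ := isOfFinOrder_iff_pow_eq_one.mp hfin
    have h3 : (ω w : ℂ) ^ n = 1 := by
      rw [← Units.val_pow_eq_pow_val, hn1, Units.val_one]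
    exact Complex.norm_eq_one_of_pow_eq_one h3 hn.ne'
  have h4 : (starRingEnd ℂ) (ω w : ℂ) = (ω w : ℂ)⁻¹ := (Complex.inv_eq_conj hnorm).symm
  rw [MonoidHom.inv_apply, Units.val_inv_eq_inv_val, ← h4]
  rfl

/-- no nontrivial linear character of a group of odd order is real -/
theorem inv_ne_of_odd (hodd : Odd (Nat.card ↥W)) {ω : ↥W →* ℂˣ} (hω : ω ≠ 1) : ω⁻¹ ≠ ω := by
  intro h
  apply hω
  apply MonoidHom.ext
  intro w
  have h1 : (ω w)⁻¹ = ω w := DFunLike.congr_fun h w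
  have h2 : (ω w) ^ 2 = 1 := by rw [sq]; nth_rewrite 1 [← h1]; exact inv_mul_cancel _
  have h3 : (ω w) ^ (Nat.card ↥W) = 1 := by rw [← map_pow, pow_card_eq_one', map_one]
  have h4 := pow_gcd_eq_one.mpr ⟨h2, h3⟩
  have h5 : Nat.gcd 2 (Nat.card ↥W) = 1 := Nat.coprime_two_left.mpr hodd
  rw [h5, pow_one] at h4
  exact h4

end hom

section finsum

variable {X : Type*}

theorem finite_lin₁ [Finite G] (hab : IsCyclic ↥W) : (lin₁ W W₂).Finite := by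
  have hc : ∀ a b : ↥W, a * b = b * a := by
    intro a b
    let _ := IsCyclic.commGroup (α := ↥W)
    exact mul_comm a b
  have := CyclicTIChars.finite_hom hc
  exact Set.toFinite _

theorem gal_finsum_mem {ι : Type*} (σ : ℂ ≃+* ℂ) {s : Set ι} (hs : s.Finite) (f : ι → X → ℂ) :
    gal σ (∑ᶠ i ∈ s, f i) = ∑ᶠ i ∈ s, gal σ (f i) := by
  let F : (X → ℂ) →+ (X → ℂ) :=
    { toFun := gal σ
      map_zero' := gal_zero σ
      map_add' := gal_add σ }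
  exact F.map_finsum_mem f hs

/-- Galois equivariance of column sums for any equivariant family. -/
theorem gal_colSum_of [Finite G] (hab : IsCyclic ↥W) (σ : ℂ ≃+* ℂ)
    (f : (↥W →* ℂˣ) → (X → ℂ)) (hf : ∀ ω, gal σ (f ω) = f (galHom σ ω)) (ω : ↥W →* ℂˣ) :
    gal σ (colSum W W₂ f ω) = colSum W W₂ f (galHom σ ω) := by
  show gal σ (∑ᶠ φ ∈ lin₁ W W₂, f (φ * ω)) = ∑ᶠ φ ∈ lin₁ W W₂, f (φ * galHom σ ω)
  rw [gal_finsum_mem σ (finite_lin₁ hab)]
  apply finsum_mem_eq_of_bijOn (galHom σ)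
  · refine ⟨fun φ hφ => (galHom_mem_iff σ φ).mpr hφ, (galHom_injective σ).injOn, fun φ hφ => ?_⟩
    refine ⟨galHom σ.symm φ, (galHom_mem_iff σ.symm φ).mpr hφ, galHom_galHom_symm σ φ⟩
  · intro φ _
    rw [hf, galHom_mul]

end finsum

section gal

variable [Fintype G] (hη : CyclicTIFam W W₁ W₂ η) (hW : CyclicTIHyp W W₁ W₂)
include hη hW

/-- (3.9)(c): `η` commutes with field automorphisms -/
theorem gal_eta (σ : ℂ ≃+* ℂ) (ω : ↥W →* ℂˣ) : gal σ (η ω) = η (galHom σ ω) :=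
  PF3bGalois.cfAut_cycTIiso hW hη σ ω

theorem conjFun_eta (ω : ↥W →* ℂˣ) : conjFun (η ω) = η ω⁻¹ :=
  PF3bGalois.conj_cycTIiso hW hη ω

theorem conjFun_eta_ne {ω : ↥W →* ℂˣ} (hω : ω ≠ 1) : conjFun (η ω) ≠ η ω := by
  rw [conjFun_eta hη hW]
  intro h
  exact inv_ne_of_odd hW.odd hω (PF3bUnique.eta_injective hη h)

theorem gal_colSum (σ : ℂ ≃+* ℂ) (ω : ↥W →* ℂˣ) :
    gal σ (colSum W W₂ η ω) = colSum W W₂ η (galHom σ ω) := by
  have hc : IsCyclic ↥W := by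
    have := hW.selfNormalizing.2.2.2.2.1
    rwa [hW.sup_eq] at this
  exact gal_colSum_of hc σ η (gal_eta hη hW σ) ω

theorem conjFun_colSum (ω : ↥W →* ℂˣ) : conjFun (colSum W W₂ η ω) = colSum W W₂ η ω⁻¹ := by
  have h := gal_colSum hη hW (starRingAut : ℂ ≃+* ℂ) ω
  rw [galHom_conj] at h
  exact h

theorem eta_inv_apply (ω : ↥W →* ℂˣ) (g : G) : η ω⁻¹ g = conj (η ω g) := by
  rw [← conjFun_eta hη hW]
  rfl

/-- all `η` of the same degree along a Galois orbit -/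
theorem eta_galHom_one (σ : ℂ ≃+* ℂ) (ω : ↥W →* ℂˣ) : η (galHom σ ω) 1 = η ω 1 := by
  rw [← gal_eta hη hW]
  exact gal_apply_one σ (PF3bUnique.gen_eta hη ω)

/-- (3.9)(c)/(d): S1508 -/
theorem eta_int {ω : ↥W →* ℂˣ} {g : G} (hg : Nat.Coprime (orderOf g) (orderOf ω)) :
    ∃ n : ℤ, η ω g = n :=
  PF3bGalois.cint_cycTIiso_coprime hW hη ω g hg

/-- powers of `g` prime to its order give Galois conjugates -/
theorem eta_pow {ω : ↥W →* ℂˣ} {g : G} {n k : ℕ} (hk : k.Coprime n) (hn : n ≠ 0) (hg : g ^ n = 1)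
    (hω : ω ^ n = 1) : η (ω ^ k) g = η ω (g ^ k) := by
  obtain ⟨σ, hσ⟩ := Cfsg.Agent.Characters.Galois.exists_ringEquiv_complex hn hk
  rw [← galHom_eq_pow σ hσ hω, ← gal_eta hη hW]
  exact PF3bGalois.map_irr_or_neg (hη.irr_or_neg ω) σ hn hσ g hg

/-- uniqueness of the family -/
theorem fam_unique {η' : (↥W →* ℂˣ) → (G → ℂ)} (hη' : CyclicTIFam W W₁ W₂ η') : η' = η :=
  PF3bUnique.unique hW hη hη'

end gal

end Cfsg.Agent.OddOrderCharacters.PF3bGal
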