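import Mathlib.RepresentationTheory.Character
import Mathlib.RepresentationTheory.Irreducible
import Mathlib.Analysis.Complex.Basic
import Mathlib.Analysis.Complex.Polynomial.Basic
import Mathlib.GroupTheory.FiniteAbelian.Duality
import Mathlib.RingTheory.RootsOfUnity.AlgebraicallyClosed
import Cfsg.Prelude.Def_Characters
import Cfsg.Agent.Characters.Core
import Cfsg.Agent.Characters.Linear
import Cfsg.Agent.CharactersDeep.NormalInd
import Cfsg.Agent.S0198

/-!
# Exceptional characters attached to an abelian subgroup `W` and a subset `W ∖ Z`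

Let `W` be an abelian subgroup of the finite group `L` and `Z` a subgroup of `L` such that an
element `g` of `L` conjugating some element of `W ∖ Z` into `W` lies in `W`.  Induction is an
isometry on the functions on `W` vanishing on `Z`, and each linear character `ω` of `W` gives
an irreducible character `μ ω` of `L`, up to a sign depending on the restriction of `ω` to `Z`
(Peterfalvi, (4.3)).
-/

set_option autoImplicit false

open scoped ComplexConjugate
open Cfsg

namespace Cfsg.Agent.OddOrderCharacters.PrimeTI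

open Cfsg.Agent.Characters.Core hiding indFun_apply extendByZero_of_mem
open Cfsg.Agent.Characters.Linear
open Cfsg.Agent.CharactersDeep.NormalInd (indFun_apply extendByZero_of_mem extendByZero_of_not_mem
  extendByZero_coe classInner_indFun indFun_isClassFunction indFun_one)

universe u

/-! ### Generalities -/

section general

variable {G : Type u} [Group G]

/-- Functions induced from characters are characters. -/
theorem isCharacter_indFun [Fintype G] (H : Subgroup G) {θ : H → ℂ} (hθ : IsCharacter H θ) :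
    IsCharacter G (indFun H θ) := by
  classical
  have : Finite (IrrCharacter G) := finite_irr
  have : Fintype (IrrCharacter G) := Fintype.ofFinite _
  have : Fintype H := Fintype.ofFinite _
  rw [isCharacter_iff]
  have h : ∀ χ : IrrCharacter G, ∃ n : ℕ, classInner (indFun H θ) (χ : G → ℂ) = n := by
    intro χ
    rw [classInner_indFun H θ _ (isIrr_isClassFunction χ.2)]
    exact classInner_isNat hθ (isCharacter_comp H.subtype (isIrr_isCharacter χ.2))
  choose m hm using h
  refine ⟨m, ?_⟩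
  conv_lhs => rw [classFunction_eq_sum (indFun_isClassFunction H θ)]
  refine Finset.sum_congr rfl fun χ _ => ?_
  rw [hm χ, Nat.cast_smul_eq_nsmul]

theorem indFun_sub [Fintype G] (H : Subgroup G) (θ η : H → ℂ) :
    indFun H (fun h => θ h - η h) = indFun H θ - indFun H η := by
  funext g
  rw [Pi.sub_apply, indFun_apply, indFun_apply, indFun_apply, ← mul_sub, ← Finset.sum_sub_distrib]
  congr 1
  refine Finset.sum_congr rfl fun x _ => ?_
  by_cases h : x⁻¹ * g * x ∈ H
  · rw [extendByZero_of_mem H _ h, extendByZero_of_mem H _ h, extendByZero_of_mem H _ h]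
  · rw [extendByZero_of_not_mem H _ h, extendByZero_of_not_mem H _ h,
      extendByZero_of_not_mem H _ h, sub_zero]

/-- Irreducible characters of abelian groups are homomorphisms to the nonzero complex numbers. -/
theorem exists_hom_of_comm [Finite G] (hc : IsMulCommutative G) {χ : G → ℂ}
    (hχ : IsIrrCharacter G χ) : ∃ ω : G →* ℂˣ, χ = fun w => (ω w : ℂ) := by
  apply exists_hom_of_isIrrCharacter hχ
  obtain ⟨n, ρ, hρ, rfl⟩ := hχ
  have := hc
  have := hρ
  rw [Representation.char_one,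
    Representation.IsIrreducible.finrank_eq_one_of_isMulCommutative ρ, Nat.cast_one]

theorem hom_ext {ω ω' : G →* ℂˣ}
    (h : (fun w => (ω w : ℂ)) = fun w => (ω' w : ℂ)) : ω = ω' := by
  ext g
  exact congrFun h g

theorem classInner_hom [Fintype G] (ω ω' : G →* ℂˣ) [Decidable (ω = ω')] :
    classInner (fun w => (ω w : ℂ)) (fun w => (ω' w : ℂ)) = if ω = ω' then 1 else 0 := by
  classical
  rw [classInner_irr (isIrrCharacter_hom ω) (isIrrCharacter_hom ω')]
  by_cases h : ω = ω'
  · rw [if_pos h, if_pos (by rw [h])]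
  · rw [if_neg h, if_neg (fun h' => h (hom_ext h'))]

/-- A function on an abelian group orthogonal to all linear characters is zero. -/
theorem eq_zero_of_classInner_hom [Fintype G] (hc : IsMulCommutative G) {f : G → ℂ}
    (h : ∀ ω : G →* ℂˣ, classInner f (fun w => (ω w : ℂ)) = 0) : f = 0 := by
  apply classFunction_eq_zero
  · intro g h
    have : h * g * h⁻¹ = g := by
      rw [hc.is_comm.comm h g, mul_inv_cancel_right]
    rw [this]
  · intro χ hχ
    obtain ⟨ω, rfl⟩ := exists_hom_of_comm hc hχ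
    exact h ω

theorem exists_hom_ne_one [Finite G] (hc : IsMulCommutative G) (Z : Subgroup G) {w : G}
    (hw : w ∉ Z) : ∃ φ : G →* ℂˣ, (∀ z ∈ Z, φ z = 1) ∧ φ w ≠ 1 := by
  let _ : CommGroup G := { (inferInstance : Group G) with mul_comm := hc.is_comm.comm }
  by_contra hcon
  push Not at hcon
  exact hw ((CommGroup.forall_monoidHom_apply_eq_one_iff (M := ℂ) Z w).1 hcon)

instance finite_hom_units [Finite G] : Finite (G →* ℂˣ) := by
  have : Finite (IrrCharacter G) := finite_irr
  exact Finite.of_injective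
    (fun f : G →* ℂˣ => (⟨fun w => (f w : ℂ), isIrrCharacter_hom f⟩ : IrrCharacter G))
    (fun f f' h => hom_ext (congrArg Subtype.val h))

end general

/-! ### The setting -/

variable {L : Type u} [Group L]

/-- Two linear characters of `W` agree on the elements of `Z`. -/
def Agree (W Z : Subgroup L) (ω ω' : ↥W →* ℂˣ) : Prop :=
  ∀ w : ↥W, (w : L) ∈ Z → ω w = ω' w

theorem agree_def {W Z : Subgroup L} {ω ω' : ↥W →* ℂˣ} :
    Agree W Z ω ω' ↔ ∀ w : ↥W, (w : L) ∈ Z → ω w = ω' w := Iff.rfl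

theorem Agree.refl {W Z : Subgroup L} (ω : ↥W →* ℂˣ) : Agree W Z ω ω := fun _ _ => rfl

theorem Agree.symm {W Z : Subgroup L} {ω ω' : ↥W →* ℂˣ} (h : Agree W Z ω ω') :
    Agree W Z ω' ω := fun w hw => (h w hw).symm

theorem Agree.trans {W Z : Subgroup L} {ω ω' ω'' : ↥W →* ℂˣ} (h : Agree W Z ω ω')
    (h' : Agree W Z ω' ω'') : Agree W Z ω ω'' := fun w hw => (h w hw).trans (h' w hw)

/-- `f` vanishes off `Z` if its inner products with linear characters of the abelian group `W`
depend only on their restrictions to `Z`. -/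
theorem vanish_off [Finite L] {W Z : Subgroup L} [Fintype W] (hc : IsMulCommutative W)
    {f : W → ℂ} (h : ∀ ω ω' : ↥W →* ℂˣ, Agree W Z ω ω' →
      classInner f (fun w => (ω w : ℂ)) = classInner f (fun w => (ω' w : ℂ)))
    (w : W) (hw : (w : L) ∉ Z) : f w = 0 := by
  obtain ⟨φ, hφ, hφw⟩ := exists_hom_ne_one hc (Z.subgroupOf W) (w := w)
    (by rwa [Subgroup.mem_subgroupOf])
  have h1 : (fun v : W => f v * (1 - conj (φ v : ℂ))) = 0 := by
    apply eq_zero_of_classInner_hom hc
    intro ω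
    have h2 : classInner (fun v : W => f v * (1 - conj (φ v : ℂ))) (fun w => (ω w : ℂ)) =
        classInner f (fun w => (ω w : ℂ)) - classInner f (fun w => ((φ * ω) w : ℂ)) := by
      show (Nat.card W : ℂ)⁻¹ * ∑ v : W, f v * (1 - conj (φ v : ℂ)) * conj (ω v : ℂ) =
        (Nat.card W : ℂ)⁻¹ * ∑ v : W, f v * conj (ω v : ℂ) -
        (Nat.card W : ℂ)⁻¹ * ∑ v : W, f v * conj (((φ * ω) v : ℂˣ) : ℂ)
      rw [← mul_sub, ← Finset.sum_sub_distrib]
      congr 1
      refine Finset.sum_congr rfl fun v _ => ?_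
      rw [MonoidHom.mul_apply, Units.val_mul, map_mul]
      ring
    rw [h2, h ω (φ * ω), sub_self]
    intro v hv
    rw [MonoidHom.mul_apply, hφ v (by rwa [Subgroup.mem_subgroupOf]), one_mul]
  have h3 := congrFun h1 w
  have h4 : (1 : ℂ) - conj (φ w : ℂ) ≠ 0 := by
    intro h0
    apply hφw
    have h5 : conj (φ w : ℂ) = 1 := (sub_eq_zero.1 h0).symm
    have h6 : (φ w : ℂ) = 1 := by
      rw [← Complex.conj_conj (φ w : ℂ), h5, map_one]
    exact Units.ext h6
  exact (mul_eq_zero.1 h3).resolve_right h4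

variable [Fintype L] {W Z : Subgroup L}

/-- The value of an induced function on `W ∖ Z`. -/
theorem indFun_apply_of_notMem (hc : IsMulCommutative W)
    (hTI : ∀ g : L, ∀ w ∈ W, w ∉ Z → g * w * g⁻¹ ∈ W → g ∈ W) (θ : W → ℂ) (w : W)
    (hw : (w : L) ∉ Z) : indFun W θ w = θ w := by
  classical
  have hterm : ∀ g : L, extendByZero W θ (g⁻¹ * w * g) = if g ∈ W then θ w else 0 := by
    intro g
    split_ifs with hg
    · have h1 : g⁻¹ * w * g = w := by
        have h2 := hc.is_comm.comm w ⟨g, hg⟩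
        have h3 : (w : L) * g = g * w := congrArg Subtype.val h2
        rw [mul_assoc, h3, inv_mul_cancel_left]
      rw [h1, extendByZero_coe]
    · apply extendByZero_of_not_mem
      intro h
      apply hg
      have := hTI g⁻¹ w w.2 hw (by rwa [inv_inv])
      simpa using this
  rw [indFun_apply]
  simp only [hterm]
  rw [Finset.sum_ite, Finset.sum_const_zero, add_zero, Finset.sum_const, nsmul_eq_mul]
  have hW : (Nat.card W : ℂ) ≠ 0 := by exact_mod_cast Nat.card_pos.ne'
  have hcard : (Finset.univ.filter (fun g : L => g ∈ W)).card = Nat.card W := by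
    rw [Nat.card_eq_fintype_card, Fintype.card_subtype]
  rw [hcard, inv_mul_cancel_left₀ hW]

/-- Induction is an isometry on the functions on `W` vanishing on `Z`. -/
theorem classInner_indFun_indFun [Fintype W] (hc : IsMulCommutative W)
    (hTI : ∀ g : L, ∀ w ∈ W, w ∉ Z → g * w * g⁻¹ ∈ W → g ∈ W) (θ η : W → ℂ)
    (hθ : ∀ w : W, (w : L) ∈ Z → θ w = 0) :
    classInner (indFun W θ) (indFun W η) = classInner θ η := by
  rw [classInner_indFun _ _ _ (indFun_isClassFunction _ _)]
  show (Nat.card W : ℂ)⁻¹ * ∑ w : W, θ w * conj (indFun W η w) =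
    (Nat.card W : ℂ)⁻¹ * ∑ w : W, θ w * conj (η w)
  congr 1
  refine Finset.sum_congr rfl fun w _ => ?_
  by_cases hw : (w : L) ∈ Z
  · rw [hθ w hw, zero_mul, zero_mul]
  · rw [indFun_apply_of_notMem hc hTI η w hw]

theorem classInner_indFun_hom_sub [DecidableEq (↥W →* ℂˣ)] (hc : IsMulCommutative W)
    (hTI : ∀ g : L, ∀ w ∈ W, w ∉ Z → g * w * g⁻¹ ∈ W → g ∈ W) {a b c d : ↥W →* ℂˣ}
    (hab : Agree W Z a b) :
    classInner (indFun W (fun w => (a w : ℂ) - (b w : ℂ)))
      (indFun W (fun w => (c w : ℂ) - (d w : ℂ))) =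
      ((if a = c then 1 else 0) - (if a = d then 1 else 0)) -
        ((if b = c then 1 else 0) - (if b = d then 1 else 0)) := by
  have : Fintype W := Fintype.ofFinite _
  rw [classInner_indFun_indFun hc hTI _ _ (fun w hw => by rw [hab w hw, sub_self])]
  have e : ∀ a b : ↥W →* ℂˣ, (fun w => (a w : ℂ) - (b w : ℂ)) =
    (fun w => (a w : ℂ)) - (fun w => (b w : ℂ)) := fun _ _ => rfl
  rw [e, e, classInner_sub_left, classInner_sub_right, classInner_sub_right,
    classInner_hom, classInner_hom, classInner_hom, classInner_hom]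

/-- The exceptional characters attached to the linear characters of `W` with given restriction
to `Z`. -/
theorem exists_fibre (hc : IsMulCommutative W)
    (hTI : ∀ g : L, ∀ w ∈ W, w ∉ Z → g * w * g⁻¹ ∈ W → g ∈ W) (ω₀ : ↥W →* ℂˣ) :
    ∃ (m : (↥W →* ℂˣ) → (L → ℂ)) (d : ℂ), (d = 1 ∨ d = -1) ∧
      (∀ ω, Agree W Z ω ω₀ → IsIrrCharacter L (m ω)) ∧
      (∀ ω ω', Agree W Z ω ω₀ → Agree W Z ω' ω₀ → m ω = m ω' → ω = ω') ∧
      (∀ ω ω', Agree W Z ω ω₀ → Agree W Z ω' ω₀ →
        indFun W (fun w => (ω w : ℂ) - (ω' w : ℂ)) = d • (m ω - m ω')) := by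
  classical
  have : Fintype W := Fintype.ofFinite _
  let F := {ω : ↥W →* ℂˣ // Agree W Z ω ω₀}
  have hF : Finite F := Subtype.finite
  let e : F ≃ Fin (Nat.card F) := Finite.equivFin F
  let o : F := ⟨ω₀, Agree.refl ω₀⟩
  let τ : Fin (Nat.card F) → (L → ℂ) := fun i =>
    indFun W (fun w => (((e.symm i).1 w : ℂˣ) : ℂ) - (ω₀ w : ℂ))
  have hτ : ∀ i, τ i = indFun W (fun w => (((e.symm i).1 w : ℂˣ) : ℂ)) -
      indFun W (fun w => (ω₀ w : ℂ)) := fun i => indFun_sub W _ _
  have h0 : τ (e o) = 0 := by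
    rw [hτ, Equiv.symm_apply_apply, sub_self]
  have hgen : ∀ i, IsGeneralizedCharacter L (τ i) := fun i =>
    ⟨_, _, isCharacter_indFun W (isCharacter_hom _), isCharacter_indFun W (isCharacter_hom _),
      hτ i⟩
  have hone : ∀ i, τ i 1 = 0 := by
    intro i
    show indFun W _ 1 = 0
    rw [indFun_one, map_one, map_one, sub_self, mul_zero]
  have hgram : ∀ i j, i ≠ e o → j ≠ e o → classInner (τ i) (τ j) = if i = j then 2 else 1 := by
    intro i j hi hj
    have hi' : (e.symm i).1 ≠ ω₀ := by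
      intro h
      apply hi
      rw [← Equiv.symm_apply_eq]
      exact Subtype.ext h
    have hj' : (e.symm j).1 ≠ ω₀ := by
      intro h
      apply hj
      rw [← Equiv.symm_apply_eq]
      exact Subtype.ext h
    show classInner (indFun W _) (indFun W _) = _
    rw [classInner_indFun_hom_sub hc hTI (e.symm i).2, if_neg hi', if_neg hj'.symm,
      if_pos rfl]
    by_cases hij : i = j
    · subst hij
      rw [if_pos rfl, if_pos rfl]
      norm_num
    · have hij' : (e.symm i).1 ≠ (e.symm j).1 := by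
        intro h
        exact hij (e.symm.injective (Subtype.ext h))
      rw [if_neg hij, if_neg hij']
      norm_num
  obtain ⟨ε, hε, μ, hμirr, hμinj, hμ⟩ :=
    Cfsg.Agent.S0198.result (Nat.card F) (e o) τ h0 hgen hone hgram
  refine ⟨fun ω => if h : Agree W Z ω ω₀ then μ (e ⟨ω, h⟩) else 0, ε, hε, ?_, ?_, ?_⟩
  · intro ω h
    simp only [dif_pos h]
    exact hμirr _
  · intro ω ω' h h' heq
    simp only [dif_pos h, dif_pos h'] at heq
    exact congrArg Subtype.val (e.injective (hμinj heq))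
  · intro ω ω' h h'
    simp only [dif_pos h, dif_pos h']
    have h1 := hμ (e ⟨ω, h⟩)
    have h2 := hμ (e ⟨ω', h'⟩)
    rw [hτ, Equiv.symm_apply_apply] at h1 h2
    rw [indFun_sub, ← sub_sub_sub_cancel_right _ _ (indFun W (fun w => (ω₀ w : ℂ))), h1, h2,
      ← smul_sub, sub_sub_sub_cancel_right]

/-- Peterfalvi (4.3), for an abelian subgroup `W` and a proper subgroup `Z` of `W` such that
elements conjugating some element of `W ∖ Z` into `W` lie in `W`. -/
theorem exists_exceptional (hc : IsMulCommutative W)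
    (hTI : ∀ g : L, ∀ w ∈ W, w ∉ Z → g * w * g⁻¹ ∈ W → g ∈ W)
    (hne : ∃ w ∈ W, w ∉ Z) :
    ∃ (μ : (↥W →* ℂˣ) → (L → ℂ)) (δ : (↥W →* ℂˣ) → ℂ), Function.Injective μ ∧
      (∀ ω, IsIrrCharacter L (μ ω)) ∧ (∀ ω, δ ω = 1 ∨ δ ω = -1) ∧
      (∀ ω ω' : ↥W →* ℂˣ, (∀ w : ↥W, (w : L) ∈ Z → ω w = ω' w) → δ ω = δ ω' ∧
        indFun W (fun w => (ω w : ℂ) - (ω' w : ℂ)) = δ ω • (μ ω - μ ω')) ∧
      (∀ ω, ∀ w : ↥W, (w : L) ∉ Z → μ ω w = δ ω * (ω w : ℂ)) ∧
      (∀ θ : L → ℂ, IsIrrCharacter L θ → (∀ ω, θ ≠ μ ω) →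
        ∀ w : ↥W, (w : L) ∉ Z → θ w = 0) ∧
      (∀ (A : Subgroup L), A ≤ W → A ⊓ Z = ⊥ →
        ∀ ω, ∃ n : ℤ, μ ω 1 - δ ω = n * (Nat.card A : ℂ)) := by
  classical
  have : Fintype W := Fintype.ofFinite _
  -- representatives
  let s : Setoid (↥W →* ℂˣ) := ⟨Agree W Z, ⟨Agree.refl, Agree.symm, Agree.trans⟩⟩
  let r : (↥W →* ℂˣ) → (↥W →* ℂˣ) := fun ω => (Quotient.mk s ω).out
  have hr : ∀ ω, Agree W Z ω (r ω) := fun ω =>
    (Quotient.exact (Quotient.out_eq (Quotient.mk s ω))).symm
  have hr' : ∀ ω ω', Agree W Z ω ω' → r ω = r ω' := fun ω ω' h => by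
    show (Quotient.mk s ω).out = (Quotient.mk s ω').out
    rw [Quotient.sound (s := s) h]
  choose m d hd hirr hinj hind using exists_fibre (Z := Z) hc hTI
  let μ : (↥W →* ℂˣ) → (L → ℂ) := fun ω => m (r ω) ω
  let δ : (↥W →* ℂˣ) → ℂ := fun ω => d (r ω)
  have hμirr : ∀ ω, IsIrrCharacter L (μ ω) := fun ω => hirr (r ω) ω (hr ω)
  have hδ : ∀ ω, δ ω = 1 ∨ δ ω = -1 := fun ω => hd (r ω)
  have hδδ : ∀ ω, δ ω * δ ω = 1 := fun ω => by
    rcases hδ ω with h | h <;> rw [h] <;> norm_num
  have hδc : ∀ ω, conj (δ ω) = δ ω := fun ω => by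
    rcases hδ ω with h | h <;> rw [h] <;> simp
  have hδ0 : ∀ ω, δ ω ≠ 0 := fun ω h => by
    have := hδδ ω
    rw [h, mul_zero] at this
    exact zero_ne_one this
  have hδeq : ∀ ω ω', Agree W Z ω ω' → δ ω = δ ω' := fun ω ω' h => by
    show d (r ω) = d (r ω')
    rw [hr' ω ω' h]
  have hinjf : ∀ ω ω', Agree W Z ω ω' → μ ω = μ ω' → ω = ω' := fun ω ω' h heq => by
    apply hinj (r ω) ω ω' (hr ω) (h.symm.trans (hr ω))
    have h1 : μ ω' = m (r ω) ω' := by
      show m (r ω') ω' = m (r ω) ω'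
      rw [hr' ω ω' h]
    rw [← h1]
    exact heq
  have hind' : ∀ ω ω', Agree W Z ω ω' →
      indFun W (fun w => (ω w : ℂ) - (ω' w : ℂ)) = δ ω • (μ ω - μ ω') := fun ω ω' h => by
    have h1 := hind (r ω) ω ω' (hr ω) (h.symm.trans (hr ω))
    rw [h1]
    show d (r ω) • (m (r ω) ω - m (r ω) ω') = d (r ω) • (m (r ω) ω - m (r ω') ω')
    rw [hr' ω ω' h]
  -- a nontrivial linear character trivial on `Z`
  obtain ⟨w₀, hw₀, hw₀Z⟩ := hne
  obtain ⟨φ, hφ, hφw⟩ := exists_hom_ne_one hc (Z.subgroupOf W) (w := ⟨w₀, hw₀⟩)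
    (by rwa [Subgroup.mem_subgroupOf])
  have hφ1 : φ ≠ 1 := fun h => hφw (by rw [h]; rfl)
  have hagφ : ∀ ω : ↥W →* ℂˣ, Agree W Z ω (φ * ω) := fun ω w hw => by
    rw [MonoidHom.mul_apply, hφ w (by rwa [Subgroup.mem_subgroupOf]), one_mul]
  have hneφ : ∀ ω : ↥W →* ℂˣ, ω ≠ φ * ω := fun ω h => hφw (by
    have h1 := DFunLike.congr_fun h ⟨w₀, hw₀⟩
    rw [MonoidHom.mul_apply] at h1
    exact right_eq_mul.1 h1)
  -- injectivity
  have hμinj : Function.Injective μ := by
    intro ω ω' heq
    by_contra hne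
    by_cases hag : Agree W Z ω ω'
    · exact hne (hinjf ω ω' hag heq)
    have h1 := classInner_indFun_hom_sub hc hTI (c := ω') (d := φ * ω') (hagφ ω)
    have n1 : ω ≠ φ * ω' := fun h => hag (by rw [h]; exact (hagφ ω').symm)
    have n2 : φ * ω ≠ ω' := fun h => hag (by rw [← h]; exact hagφ ω)
    have n3 : φ * ω ≠ φ * ω' := fun h => hne (by
      ext w
      have h1 := DFunLike.congr_fun h w
      rw [MonoidHom.mul_apply, MonoidHom.mul_apply] at h1
      rw [mul_left_cancel h1])
    rw [if_neg hne, if_neg n1, if_neg n2, if_neg n3, hind' _ _ (hagφ ω), hind' _ _ (hagφ ω'),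
      classInner_smul_left, classInner_smul_right, sub_zero, sub_zero, mul_eq_zero,
      or_iff_right (hδ0 ω), mul_eq_zero, hδc, or_iff_right (hδ0 ω'), classInner_sub_left,
      classInner_sub_right, classInner_sub_right, heq, classInner_irr_self (hμirr ω'),
      classInner_irr_ne (hμirr ω') (hμirr (φ * ω'))
        (fun h => hneφ ω' (hinjf _ _ (hagφ ω') h)),
      classInner_irr_ne (hμirr (φ * ω)) (hμirr ω')
        (fun h => hneφ ω (hinjf _ _ (hagφ ω) (heq.trans h.symm))),
      classInner_irr (hμirr (φ * ω)) (hμirr (φ * ω'))] at h1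
    split_ifs at h1 <;> norm_num at h1
  -- restrictions
  have hres : ∀ (χ : L → ℂ), IsIrrCharacter L χ → ∀ η η' : ↥W →* ℂˣ, Agree W Z η η' →
      classInner (fun w : W => χ w) (fun w => (η w : ℂ)) -
        classInner (fun w : W => χ w) (fun w => (η' w : ℂ)) =
      δ η * ((if μ η = χ then 1 else 0) - (if μ η' = χ then 1 else 0)) := by
    intro χ hχ η η' h
    have e : (fun w => (η w : ℂ)) - (fun w => (η' w : ℂ)) =
      (fun w => (η w : ℂ) - (η' w : ℂ)) := rfl
    rw [← classInner_sub_right, e, ← classInner_conj_symm,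
      ← classInner_indFun W _ χ (isIrr_isClassFunction hχ), hind' η η' h, classInner_smul_left,
      classInner_sub_left, classInner_irr (hμirr η) hχ, classInner_irr (hμirr η') hχ, map_mul,
      hδc, map_sub]
    congr 2 <;> split_ifs <;> simp
  have hval : ∀ ω, ∀ w : ↥W, (w : L) ∉ Z → δ ω * μ ω w = (ω w : ℂ) := by
    intro ω w hw
    have h1 : (fun v : W => δ ω * μ ω v - (ω v : ℂ)) w = 0 := by
      refine vanish_off (f := fun v : W => δ ω * μ ω v - (ω v : ℂ)) hc ?_ w hw
      intro η η' h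
      have e : (fun v : W => δ ω * μ ω v - (ω v : ℂ)) =
        (δ ω • (fun v : W => μ ω v)) - (fun v : W => (ω v : ℂ)) := rfl
      rw [e, classInner_sub_left, classInner_sub_left, classInner_smul_left,
        classInner_smul_left, classInner_hom, classInner_hom]
      have h2 := hres (μ ω) (hμirr ω) η η' h
      have h3 : δ ω * (δ η * ((if μ η = μ ω then 1 else 0) - (if μ η' = μ ω then 1 else 0))) =
          (if ω = η then (1 : ℂ) else 0) - (if ω = η' then 1 else 0) := by
        by_cases h4 : ω = η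
        · subst h4
          rw [← mul_assoc, hδδ, one_mul, if_pos rfl, if_pos rfl]
          by_cases h5 : ω = η'
          · rw [if_pos h5, if_pos (by rw [h5])]
          · rw [if_neg h5, if_neg (fun h6 => h5 (hμinj h6).symm)]
        · rw [if_neg h4, if_neg (fun h6 => h4 (hμinj h6).symm)]
          by_cases h5 : ω = η'
          · subst h5
            rw [if_pos rfl, if_pos rfl, hδeq η ω h, ← mul_assoc, hδδ, one_mul]
          · rw [if_neg h5, if_neg (fun h6 => h5 (hμinj h6).symm)]
            ring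
      rw [← h2] at h3
      linear_combination h3
    exact sub_eq_zero.1 h1
  refine ⟨μ, δ, hμinj, hμirr, hδ, fun ω ω' h => ⟨hδeq ω ω' h, hind' ω ω' h⟩, ?_, ?_, ?_⟩
  · intro ω w hw
    rw [← hval ω w hw, ← mul_assoc, hδδ, one_mul]
  · intro θ hθ hne w hw
    refine vanish_off (f := fun v : W => θ v) hc ?_ w hw
    intro η η' h
    have h2 := hres θ hθ η η' h
    rw [if_neg (hne η).symm, if_neg (hne η').symm, sub_zero, mul_zero] at h2
    exact sub_eq_zero.1 h2
  · intro A hAW hAZ ω
    have : Fintype A := Fintype.ofFinite _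
    obtain ⟨p, hp⟩ := classInner_isNat (G := A)
      (isCharacter_comp A.subtype (isIrr_isCharacter (hμirr ω))) isCharacter_one
    obtain ⟨q, hq⟩ := classInner_isNat (G := A)
      (isCharacter_comp (Subgroup.inclusion hAW) (isCharacter_hom ω)) isCharacter_one
    have hA : (Nat.card A : ℂ) ≠ 0 := by exact_mod_cast Nat.card_pos.ne'
    have h1 : δ ω * p - q = (Nat.card A : ℂ)⁻¹ * (δ ω * μ ω 1 - 1) := by
      rw [← hp, ← hq]
      show δ ω * ((Nat.card A : ℂ)⁻¹ * ∑ x : A, μ ω x * conj (1 : ℂ)) -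
        (Nat.card A : ℂ)⁻¹ * ∑ x : A, (ω (Subgroup.inclusion hAW x) : ℂ) * conj (1 : ℂ) = _
      rw [mul_left_comm, ← mul_sub, Finset.mul_sum, ← Finset.sum_sub_distrib,
        Finset.sum_eq_single (1 : A)]
      · simp
      · intro x _ hx
        have hxZ : (x : L) ∉ Z := by
          intro hxZ
          apply hx
          have h2 : (x : L) ∈ A ⊓ Z := ⟨x.2, hxZ⟩
          rw [hAZ, Subgroup.mem_bot] at h2
          exact Subtype.ext h2
        have h3 := hval ω (Subgroup.inclusion hAW x) hxZ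
        rw [← h3]
        simp
      · intro h
        exact absurd (Finset.mem_univ _) h
    have h2 : δ ω * μ ω 1 - 1 = (Nat.card A : ℂ) * (δ ω * p - q) := by
      rw [h1, mul_inv_cancel_left₀ hA]
    rcases hδ ω with h | h
    · refine ⟨p - q, ?_⟩
      rw [h] at h2 ⊢
      push_cast
      linear_combination h2
    · refine ⟨p + q, ?_⟩
      rw [h] at h2 ⊢
      push_cast
      linear_combination -h2

end Cfsg.Agent.OddOrderCharacters.PrimeTI
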