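import Mathlib.GroupTheory.Complement
import Mathlib.GroupTheory.Index
import Mathlib.GroupTheory.OrderOfElement
import Mathlib.GroupTheory.SpecificGroups.Cyclic
import Mathlib.GroupTheory.Subgroup.Centralizer

/-!
# The group-theoretic part of Peterfalvi (4.3)

`L = K ⋊ W₁` with `W₁` a cyclic Hall subgroup, `W₂ = C_K(x)` for every `x ∈ W₁#`.  Then
`W = W₁ ⊔ W₂` is abelian if `W₂` is, and an element conjugating an element of `W ∖ W₂` into `W`
lies in `W`.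
-/

set_option autoImplicit false

namespace Cfsg.Agent.OddOrderCharacters.PrimeTIGroup

variable {L : Type*} [Group L]

theorem commute_of_mem {K W₁ W₂ : Subgroup L}
    (hC : ∀ x ∈ W₁, x ≠ 1 → K ⊓ Subgroup.centralizer ({x} : Set L) = W₂) {x y : L}
    (hx : x ∈ W₁) (hy : y ∈ W₂) : x * y = y * x := by
  by_cases h1 : x = 1
  · rw [h1, one_mul, mul_one]
  · rw [← hC x hx h1] at hy
    exact (Subgroup.mem_centralizer_singleton_iff.1 hy.2).symm

theorem mem_sup_iff {W₁ W₂ : Subgroup L} (hcomm : ∀ x ∈ W₁, ∀ y ∈ W₂, x * y = y * x) {w : L} :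
    w ∈ W₁ ⊔ W₂ ↔ ∃ x ∈ W₁, ∃ y ∈ W₂, x * y = w := by
  have hle : W₁ ≤ Subgroup.normalizer (W₂ : Set L) := by
    intro x hx
    rw [Subgroup.mem_normalizer_iff]
    intro h
    constructor
    · intro hh
      rw [hcomm x hx h hh, mul_inv_cancel_right]
      exact hh
    · intro hh
      have h1 := hcomm x⁻¹ (inv_mem hx) _ hh
      have h2 : h = x * h * x⁻¹ := by
        have h3 : x⁻¹ * (x * h * x⁻¹) = h * x⁻¹ := by group
        have h4 : x * h * x⁻¹ * x⁻¹ = x⁻¹ * (x * h * x⁻¹) := h1.symm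
        rw [h3] at h4
        have := mul_right_cancel h4
        exact this.symm
      rw [h2]
      exact hh
  rw [← SetLike.mem_coe, Subgroup.coe_mul_of_left_le_normalizer_right W₁ W₂ hle, Set.mem_mul]
  rfl

theorem isMulCommutative_sup {W₁ W₂ : Subgroup L} (h₁ : IsMulCommutative W₁)
    (h₂ : IsMulCommutative W₂) (hcomm : ∀ x ∈ W₁, ∀ y ∈ W₂, x * y = y * x) :
    IsMulCommutative ↥(W₁ ⊔ W₂) := by
  refine ⟨⟨?_⟩⟩
  rintro ⟨a, ha⟩ ⟨b, hb⟩
  obtain ⟨x, hx, y, hy, rfl⟩ := (mem_sup_iff hcomm).1 ha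
  obtain ⟨u, hu, v, hv, rfl⟩ := (mem_sup_iff hcomm).1 hb
  apply Subtype.ext
  show x * y * (u * v) = u * v * (x * y)
  have e1 : x * u = u * x := congrArg Subtype.val (h₁.is_comm.comm ⟨x, hx⟩ ⟨u, hu⟩)
  have e2 : y * v = v * y := congrArg Subtype.val (h₂.is_comm.comm ⟨y, hy⟩ ⟨v, hv⟩)
  calc x * y * (u * v) = x * (y * u) * v := by group
    _ = x * (u * y) * v := by rw [hcomm u hu y hy]
    _ = (x * u) * (y * v) := by group
    _ = (u * x) * (v * y) := by rw [e1, e2]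
    _ = u * (x * v) * y := by group
    _ = u * (v * x) * y := by rw [hcomm x hx v hv]
    _ = u * v * (x * y) := by group

/-- An element of `L` conjugating some element of `W ∖ W₂` into `W = W₁ ⊔ W₂` lies in `W`. -/
theorem mem_of_conj_mem [Finite L] (K W₁ W₂ : Subgroup L) [hK : K.Normal] (hKW₁ : K ⊓ W₁ = ⊥)
    (hKW₁' : K ⊔ W₁ = ⊤) (hW₁c : IsMulCommutative W₁)
    (hcop : Nat.Coprime (Nat.card W₁) (Nat.card W₂))
    (hC : ∀ x ∈ W₁, x ≠ 1 → K ⊓ Subgroup.centralizer ({x} : Set L) = W₂) (g w : L)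
    (hw : w ∈ W₁ ⊔ W₂) (hw2 : w ∉ W₂) (hg : g * w * g⁻¹ ∈ W₁ ⊔ W₂) : g ∈ W₁ ⊔ W₂ := by
  have hcomm : ∀ x ∈ W₁, ∀ y ∈ W₂, x * y = y * x := fun x hx y hy => commute_of_mem hC hx hy
  have hpow : ∀ v ∈ W₁ ⊔ W₂, v ^ Nat.card W₂ ∈ W₁ := by
    intro v hv
    obtain ⟨x, hx, y, hy, rfl⟩ := (mem_sup_iff hcomm).1 hv
    have h1 : Commute x y := hcomm x hx y hy
    have h2 : y ^ Nat.card W₂ = 1 := by
      have := pow_card_eq_one' (G := W₂) (x := ⟨y, hy⟩)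
      exact congrArg Subtype.val this
    rw [h1.mul_pow, h2, mul_one]
    exact pow_mem hx _
  -- the `W₁`-part of `w`
  have hx1 : w ^ Nat.card W₂ ≠ 1 := by
    intro h
    obtain ⟨x, hx, y, hy, rfl⟩ := (mem_sup_iff hcomm).1 hw
    have h1 : Commute x y := hcomm x hx y hy
    have h2 : y ^ Nat.card W₂ = 1 := by
      have := pow_card_eq_one' (G := W₂) (x := ⟨y, hy⟩)
      exact congrArg Subtype.val this
    rw [h1.mul_pow, h2, mul_one] at h
    have h3 : orderOf x ∣ Nat.card W₂ := orderOf_dvd_of_pow_eq_one h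
    have h4 : orderOf x ∣ Nat.card W₁ := by
      have : orderOf (⟨x, hx⟩ : W₁) ∣ Nat.card W₁ := orderOf_dvd_natCard _
      rwa [Subgroup.orderOf_mk] at this
    have h5 : orderOf x = 1 := Nat.eq_one_of_dvd_coprimes hcop h4 h3
    rw [orderOf_eq_one_iff] at h5
    apply hw2
    rw [h5, one_mul]
    exact hy
  have hx := hpow w hw
  have hgx : g * w ^ Nat.card W₂ * g⁻¹ ∈ W₁ := by
    rw [← conj_pow]
    exact hpow _ hg
  -- `g = k * h`
  have hgtop : g ∈ K ⊔ W₁ := by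
    rw [hKW₁']
    exact Subgroup.mem_top g
  obtain ⟨k, hk, h, hh, rfl⟩ := Subgroup.mem_sup_of_normal_left.1 hgtop
  have e1 : h * w ^ Nat.card W₂ = w ^ Nat.card W₂ * h :=
    congrArg Subtype.val (hW₁c.is_comm.comm ⟨h, hh⟩ ⟨_, hx⟩)
  have hkx : k * w ^ Nat.card W₂ * k⁻¹ ∈ W₁ := by
    have e2 : k * h * w ^ Nat.card W₂ * (k * h)⁻¹ = k * w ^ Nat.card W₂ * k⁻¹ := by
      calc k * h * w ^ Nat.card W₂ * (k * h)⁻¹ = k * (h * w ^ Nat.card W₂) * h⁻¹ * k⁻¹ := by group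
        _ = k * (w ^ Nat.card W₂ * h) * h⁻¹ * k⁻¹ := by rw [e1]
        _ = k * w ^ Nat.card W₂ * k⁻¹ := by group
    rwa [e2] at hgx
  have hk1 : k * w ^ Nat.card W₂ * k⁻¹ * (w ^ Nat.card W₂)⁻¹ ∈ K ⊓ W₁ := by
    refine Subgroup.mem_inf.2 ⟨?_, mul_mem hkx (inv_mem hx)⟩
    have e3 : k * w ^ Nat.card W₂ * k⁻¹ * (w ^ Nat.card W₂)⁻¹ =
        k * (w ^ Nat.card W₂ * k⁻¹ * (w ^ Nat.card W₂)⁻¹) := by group
    rw [e3]
    exact mul_mem hk (hK.conj_mem _ (inv_mem hk) _)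
  rw [hKW₁, Subgroup.mem_bot, mul_inv_eq_one, mul_inv_eq_iff_eq_mul] at hk1
  have hk2 : k ∈ W₂ := by
    rw [← hC _ hx hx1]
    exact Subgroup.mem_inf.2 ⟨hk, Subgroup.mem_centralizer_singleton_iff.2 hk1⟩
  rw [sup_comm]
  exact Subgroup.mul_mem_sup hk2 hh

theorem card_coprime [Finite L] (K W₁ W₂ : Subgroup L) [hK : K.Normal] (hKW₁ : K ⊓ W₁ = ⊥)
    (hKW₁' : K ⊔ W₁ = ⊤) (hHall : Nat.Coprime (Nat.card W₁) W₁.index) (hW₂K : W₂ ≤ K) :
    Nat.Coprime (Nat.card W₁) (Nat.card W₂) := by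
  have h1 : Subgroup.IsComplement' K W₁ := by
    apply Subgroup.isComplement'_of_disjoint_and_mul_eq_univ
    · rw [disjoint_iff]
      exact hKW₁
    · rw [← Subgroup.normal_mul, hKW₁', Subgroup.coe_top]
  rw [h1.index_eq_card] at hHall
  exact Nat.Coprime.coprime_dvd_right (Subgroup.card_dvd_of_le hW₂K) hHall

end Cfsg.Agent.OddOrderCharacters.PrimeTIGroup
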