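import Mathlib.GroupTheory.FiniteAbelian.Duality
import Mathlib.RingTheory.RootsOfUnity.AlgebraicallyClosed
import Cfsg.Agent.OddOrderCharacters.PFDefs
import Cfsg.Agent.OddOrderCharacters.PrimeTI
import Cfsg.Agent.OddOrderCharacters.PrimeTIGroup
import Cfsg.Agent.OddOrderCharacters.IndRes
import Cfsg.Agent.S1513

/-!
# Peterfalvi (4.3)–(4.5), for subgroups of a group `L` (type version)
-/

set_option autoImplicit false

open scoped ComplexConjugate
open Cfsg

namespace Cfsg.Agent.OddOrderCharacters.PF4Type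

open Cfsg.Agent.Characters.Core Cfsg.Agent.Characters.Linear
open Cfsg.Agent.OddOrderCharacters.PFDefs Cfsg.Agent.OddOrderCharacters.PrimeTIGroup
open Cfsg.Agent.OddOrderCharacters.IndRes (res isCharacter_res isCharacter_indFun
  classInner_indFun_left isClassFunction_indFun indFun_apply_one indFun_eq_zero_of_forall_apply)
open Cfsg.Agent.OddOrderCharacters.PrimeTI (exists_exceptional finite_hom_units)

universe u

section general

variable {G : Type u} [Group G]

/-- A character of degree zero is zero. -/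
theorem char_eq_zero {χ : G → ℂ} (hχ : IsCharacter G χ) (h1 : χ 1 = 0) : χ = 0 := by
  obtain ⟨n, ρ, rfl⟩ := hχ
  rw [Representation.char_one] at h1
  have hn : n = 0 := by
    have : ((n : ℕ) : ℂ) = 0 := by simpa using h1
    exact_mod_cast this
  subst hn
  funext g
  have : ρ g = 0 := Subsingleton.elim _ _
  rw [Representation.character, this, map_zero]
  rfl

/-- A nonzero character has an irreducible constituent. -/
theorem exists_irr_constituent [Fintype G] {χ : G → ℂ} (hχ : IsCharacter G χ) (h0 : χ ≠ 0) :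
    ∃ φ : G → ℂ, IsIrrCharacter G φ ∧ classInner χ φ ≠ 0 := by
  by_contra hcon
  push Not at hcon
  exact h0 (classFunction_eq_zero (isCharacter_isClassFunction hχ) hcon)

/-- If `[L : K]` distinct irreducible characters of `L` have the same restriction `χ` to `K`, then
`χ` is irreducible and induces to their sum. -/
theorem restrict_family [Fintype G] (K : Subgroup G) {ι : Type*} [Fintype ι] [Nonempty ι]
    (f : ι → G → ℂ) (hirr : ∀ i, IsIrrCharacter G (f i)) (hinj : Function.Injective f)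
    (hcard : Fintype.card ι = K.index) (χ : K → ℂ) (hres : ∀ i, (fun k : K => f i k) = χ) :
    IsIrrCharacter K χ ∧ indFun K χ = ∑ i, f i := by
  classical
  have : Fintype K := Fintype.ofFinite _
  have : Finite (IrrCharacter G) := finite_irr
  have : Fintype (IrrCharacter G) := Fintype.ofFinite _
  obtain ⟨i₀⟩ := ‹Nonempty ι›
  have hχ : IsCharacter K χ := by
    rw [← hres i₀]
    exact isCharacter_res K (isIrr_isCharacter (hirr i₀))
  obtain ⟨n, hn⟩ := classInner_isNat hχ hχ
  have hm : ∀ ψ : IrrCharacter G, ∃ m : ℕ, classInner (indFun K χ) (ψ : G → ℂ) = m := fun ψ =>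
    classInner_isNat (isCharacter_indFun K hχ) (isIrr_isCharacter ψ.2)
  choose m hm using hm
  have hmf : ∀ i, m ⟨f i, hirr i⟩ = n := by
    intro i
    have h := hm ⟨f i, hirr i⟩
    have e : res K (f i) = χ := hres i
    rw [classInner_indFun_left K χ (isIrr_isClassFunction (hirr i)), e, hn] at h
    exact_mod_cast h.symm
  have hexp : indFun K χ = ∑ ψ : IrrCharacter G, (m ψ : ℂ) • (ψ : G → ℂ) := by
    conv_lhs => rw [classFunction_eq_sum (isClassFunction_indFun K χ)]
    exact Finset.sum_congr rfl fun ψ _ => by rw [hm ψ]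
  choose d hd0 hd using fun ψ : IrrCharacter G => isIrr_apply_one ψ.2
  have hF : Function.Injective (fun i => (⟨f i, hirr i⟩ : IrrCharacter G)) := fun i j h =>
    hinj (congrArg Subtype.val h)
  have hχ1 : ∀ i, χ 1 = d ⟨f i, hirr i⟩ := fun i => by
    rw [← hd ⟨f i, hirr i⟩, ← hres i]
    rfl
  have hdd : ∀ i, d ⟨f i, hirr i⟩ = d ⟨f i₀, hirr i₀⟩ := fun i => by
    have h := (hχ1 i).symm.trans (hχ1 i₀)
    exact_mod_cast h
  have hdeg : K.index * d ⟨f i₀, hirr i₀⟩ = ∑ ψ, m ψ * d ψ := by
    have h : (K.index : ℂ) * χ 1 = ∑ ψ, (m ψ : ℂ) * d ψ := by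
      rw [← indFun_apply_one, hexp, Finset.sum_apply]
      exact Finset.sum_congr rfl fun ψ _ => by rw [Pi.smul_apply, hd ψ, smul_eq_mul]
    rw [hχ1 i₀] at h
    exact_mod_cast h
  have hsplit : ∑ ψ, m ψ * d ψ = ∑ i, m ⟨f i, hirr i⟩ * d ⟨f i, hirr i⟩ +
      ∑ ψ ∈ (Finset.univ.image (fun i => (⟨f i, hirr i⟩ : IrrCharacter G)))ᶜ, m ψ * d ψ := by
    rw [← Finset.sum_add_sum_compl (Finset.univ.image
      (fun i => (⟨f i, hirr i⟩ : IrrCharacter G))), Finset.sum_image (fun i _ j _ h => hF h)]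
  have hsum : ∑ i, m ⟨f i, hirr i⟩ * d ⟨f i, hirr i⟩ = n * (K.index * d ⟨f i₀, hirr i₀⟩) := by
    rw [Finset.sum_congr rfl (fun i _ => by rw [hmf i, hdd i]), Finset.sum_const, Finset.card_univ,
      hcard, smul_eq_mul]
    ring
  rw [hsplit, hsum] at hdeg
  have hpos : 0 < K.index * d ⟨f i₀, hirr i₀⟩ :=
    Nat.mul_pos (Nat.pos_of_ne_zero Subgroup.FiniteIndex.index_ne_zero) (hd0 _)
  have hn0 : n ≠ 0 := by
    rintro rfl
    have h0 : χ = 0 := classInner_self_eq_zero (by rw [hn]; simp)
    have h1 := hχ1 i₀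
    rw [h0] at h1
    have h2 : ((d ⟨f i₀, hirr i₀⟩ : ℕ) : ℂ) = 0 := h1.symm
    have h3 : d ⟨f i₀, hirr i₀⟩ = 0 := by exact_mod_cast h2
    exact (hd0 ⟨f i₀, hirr i₀⟩).ne' h3
  have hn1 : n = 1 := by
    have h1 : n * (K.index * d ⟨f i₀, hirr i₀⟩) ≤ 1 * (K.index * d ⟨f i₀, hirr i₀⟩) := by
      rw [one_mul]; omega
    have := Nat.le_of_mul_le_mul_right h1 hpos
    omega
  subst hn1
  refine ⟨(isIrr_iff_classInner_self hχ).2 (by rw [hn]; simp), ?_⟩
  have hrest : ∑ ψ ∈ (Finset.univ.image (fun i => (⟨f i, hirr i⟩ : IrrCharacter G)))ᶜ,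
      m ψ * d ψ = 0 := by omega
  rw [hexp, ← Finset.sum_add_sum_compl (Finset.univ.image
      (fun i => (⟨f i, hirr i⟩ : IrrCharacter G))), Finset.sum_image (fun i _ j _ h => hF h),
      Finset.sum_eq_zero (s := (Finset.univ.image
        (fun i => (⟨f i, hirr i⟩ : IrrCharacter G)))ᶜ), add_zero]
  · exact Finset.sum_congr rfl fun i _ => by rw [hmf i, Nat.cast_one, one_smul]
  · intro ψ hψ
    have h1 := Finset.sum_eq_zero_iff.1 hrest ψ hψ
    have h2 : m ψ = 0 := by
      rcases Nat.mul_eq_zero.1 h1 with h | h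
      · exact h
      · exact absurd h (hd0 ψ).ne'
    rw [h2, Nat.cast_zero, zero_smul]

end general

section lin

variable {L : Type u} [Group L] [Finite L]

/-- `|W : Z|` linear characters of the abelian group `W` are trivial on the subgroup `Z`. -/
theorem card_lin₁ {W Z : Subgroup L} (hc : IsMulCommutative W) :
    Nat.card (lin₁ W Z) = Z.relIndex W := by
  let _ : CommGroup W := { (inferInstance : Group W) with mul_comm := hc.is_comm.comm }
  have h1 := CommGroup.card_domRestrictHom_ker (M := ℂ) (Z.subgroupOf W)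
  have h2 : Nat.card (lin₁ W Z) = Nat.card (MonoidHom.domRestrictHom (Z.subgroupOf W) ℂˣ).ker := by
    refine Nat.card_congr (Equiv.subtypeEquivRight fun φ => ?_)
    constructor
    · intro h
      show MonoidHom.domRestrictHom (Z.subgroupOf W) ℂˣ φ = 1
      ext z
      have := h z.1 (Subgroup.mem_subgroupOf.1 z.2)
      show ((φ z.1 : ℂˣ) : ℂ) = 1
      rw [this]
      rfl
    · intro h w hw
      have h3 : MonoidHom.domRestrictHom (Z.subgroupOf W) ℂˣ φ = 1 := h
      exact DFunLike.congr_fun h3 ⟨w, Subgroup.mem_subgroupOf.2 hw⟩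
  rw [h2, h1]
  rfl

theorem card_hom {W : Subgroup L} (hc : IsMulCommutative W) :
    Nat.card (↥W →* ℂˣ) = Nat.card W := by
  let _ : CommGroup W := { (inferInstance : Group W) with mul_comm := hc.is_comm.comm }
  exact CommGroup.card_monoidHom_of_hasEnoughRootsOfUnity W ℂ

end lin

end Cfsg.Agent.OddOrderCharacters.PF4Type
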