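import Cfsg.Agent.OddOrderCharacters.PFDefs
import Cfsg.Agent.OddOrderCharacters.DadeBasic
import Cfsg.Agent.OddOrderCharacters.VChar
import Cfsg.Agent.S1525

/-!
# Peterfalvi (7.1)–(7.5): the map `rho`, right inverse of the Dade map

`rho A L R χ` is the average of `χ` over the cosets `a R(a)`, `a ∈ A` (zero off `A`).
-/

set_option autoImplicit false

namespace Cfsg.Agent.OddOrderCharacters.PF7Rho

open scoped ComplexConjugate
open Cfsg Cfsg.Agent.Characters.Core
open Cfsg.Agent.OddOrderCharacters.PFDefs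
open Cfsg.Agent.OddOrderCharacters.VChar (classInner_self_eq)

variable {G : Type*} [Group G] {A : Set G} {L : Subgroup G} {R : G → Subgroup G}

theorem rho_mem (χ : G → ℂ) {a : L} (ha : (a : G) ∈ A) :
    rho A L R χ a = (Nat.card (R a) : ℂ)⁻¹ * ∑ᶠ u ∈ (R a : Set G), χ (a * u) := if_pos ha

theorem rho_not_mem (χ : G → ℂ) {a : L} (ha : (a : G) ∉ A) : rho A L R χ a = 0 := if_neg ha

theorem rho_mem_sum [Fintype G] (χ : G → ℂ)
    {a : L} (ha : (a : G) ∈ A) [DecidablePred (· ∈ R (a : G))] :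
    rho A L R χ a = (Nat.card (R a) : ℂ)⁻¹ * ∑ u : G, if u ∈ R (a : G) then χ (a * u) else 0 := by
  classical
  rw [rho_mem χ ha, DadeBasic.finsum_mem_eq_sum_ite]
  congr 1

section linear

variable [Finite G]

/-- If the averaged function is constant, equal to `c`, on the coset `a R(a)`, the average is `c`. -/
theorem rho_of_const (χ : G → ℂ) {a : L} (ha : (a : G) ∈ A) (c : ℂ)
    (h : ∀ u ∈ R (a : G), χ (a * u) = c) : rho A L R χ a = c := by
  classical
  have := Fintype.ofFinite G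
  rw [rho_mem χ ha]
  have h1 : ∑ᶠ u ∈ (R (a : G) : Set G), χ (a * u) = ∑ᶠ u ∈ (R (a : G) : Set G), c :=
    finsum_mem_congr rfl h
  have h2 : ∑ᶠ u ∈ (R (a : G) : Set G), c = (Nat.card (R (a : G)) : ℂ) * c := by
    rw [DadeBasic.finsum_mem_eq_sum_ite, ← Finset.sum_filter, Finset.sum_const, nsmul_eq_mul,
      Nat.card_eq_fintype_card, Fintype.card_subtype]
    rfl
  rw [h1, h2, inv_mul_cancel_left₀]
  exact Nat.cast_ne_zero.mpr Nat.card_pos.ne'

theorem rho_add (χ ψ : G → ℂ) : rho A L R (χ + ψ) = rho A L R χ + rho A L R ψ := by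
  classical
  have := Fintype.ofFinite G
  funext a
  rw [Pi.add_apply]
  by_cases ha : (a : G) ∈ A
  · rw [rho_mem _ ha, rho_mem _ ha, rho_mem _ ha, ← mul_add,
      ← finsum_mem_add_distrib (Set.toFinite _)]
    rfl
  · rw [rho_not_mem _ ha, rho_not_mem _ ha, rho_not_mem _ ha, add_zero]

omit [Finite G] in
theorem rho_smul (c : ℂ) (χ : G → ℂ) : rho A L R (c • χ) = c • rho A L R χ := by
  funext a
  rw [Pi.smul_apply, smul_eq_mul]
  by_cases ha : (a : G) ∈ A
  · rw [rho_mem _ ha, rho_mem _ ha, mul_left_comm]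
    congr 1
    have : ∀ u : G, (c • χ) (a * u) = c • χ (a * u) := fun _ => rfl
    simp_rw [this]
    rw [← smul_eq_mul, smul_finsum]
    refine finsum_congr fun u => ?_
    rw [smul_finsum]
  · rw [rho_not_mem _ ha, rho_not_mem _ ha, mul_zero]

omit [Finite G] in
theorem rho_zero : rho A L R (0 : G → ℂ) = 0 := by
  have := rho_smul (A := A) (L := L) (R := R) 0 0
  simpa using this

omit [Finite G] in
theorem rho_neg (χ : G → ℂ) : rho A L R (-χ) = -rho A L R χ := by
  have := rho_smul (A := A) (L := L) (R := R) (-1) χ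
  simpa using this

theorem rho_sub (χ ψ : G → ℂ) : rho A L R (χ - ψ) = rho A L R χ - rho A L R ψ := by
  rw [sub_eq_add_neg, rho_add, rho_neg, ← sub_eq_add_neg]

omit [Finite G] in
theorem rho_zsmul (n : ℤ) (χ : G → ℂ) : rho A L R (n • χ) = n • rho A L R χ := by
  have h1 : n • χ = (n : ℂ) • χ := (Int.cast_smul_eq_zsmul ℂ n χ).symm
  have h2 : n • rho A L R χ = (n : ℂ) • rho A L R χ := (Int.cast_smul_eq_zsmul ℂ n _).symm
  rw [h1, h2, rho_smul]

theorem rho_sum {ι : Type*} (s : Finset ι) (f : ι → G → ℂ) :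
    rho A L R (∑ i ∈ s, f i) = ∑ i ∈ s, rho A L R (f i) := by
  classical
  induction s using Finset.induction_on with
  | empty => simp [rho_zero]
  | insert i s hi ih => rw [Finset.sum_insert hi, Finset.sum_insert hi, rho_add, ih]

theorem rho_conjFun (χ : G → ℂ) : rho A L R (conjFun χ) = conjFun (rho A L R χ) := by
  classical
  have := Fintype.ofFinite G
  funext a
  show _ = conj (rho A L R χ a)
  by_cases ha : (a : G) ∈ A
  · rw [rho_mem _ ha, rho_mem _ ha, map_mul, map_inv₀, Complex.conj_natCast,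
      DadeBasic.finsum_mem_eq_sum_ite, DadeBasic.finsum_mem_eq_sum_ite, map_sum]
    congr 1
    refine Finset.sum_congr rfl fun u _ => ?_
    split_ifs
    · rfl
    · rw [map_zero]
  · rw [rho_not_mem _ ha, rho_not_mem _ ha, map_zero]

end linear

/-- `χ^ρ` is a class function on `L`. -/
theorem rho_isClassFunction [Finite G] (hD : DadeHypothesis A L R) {χ : G → ℂ}
    (hχ : IsClassFunction G χ) : IsClassFunction L (rho A L R χ) := by
  classical
  have := Fintype.ofFinite G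
  intro a x
  have hconj : ((x * a * x⁻¹ : L) : G) = (x : G) * (a : G) * (x : G)⁻¹ := rfl
  by_cases ha : (a : G) ∈ A
  · have hb : (x : G) * (a : G) * (x : G)⁻¹ ∈ A := hD.conj_mem x x.2 a ha
    rw [rho_mem χ ha, rho_mem χ (a := x * a * x⁻¹) (by rw [hconj]; exact hb), hconj,
      DadeBasic.card_H_conj hD ha hb, DadeBasic.finsum_mem_eq_sum_ite,
      DadeBasic.finsum_mem_eq_sum_ite]
    congr 1
    refine (Equiv.sum_comp (MulAut.conj (x : G)).toEquiv _).symm.trans ?_
    refine Finset.sum_congr rfl fun u _ => ?_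
    have h1 : (MulAut.conj (x : G)).toEquiv u = (x : G) * u * (x : G)⁻¹ := rfl
    rw [h1]
    have h2 : ((x : G) * u * (x : G)⁻¹ ∈ (R ((x : G) * a * (x : G)⁻¹) : Set G)) ↔
        u ∈ (R (a : G) : Set G) := by
      constructor
      · intro h
        have h3 := DadeBasic.conj_mem_H' hD (x := (x : G)⁻¹) hb
          (by
            have : (x : G)⁻¹ * ((x : G) * a * (x : G)⁻¹) * (x : G)⁻¹⁻¹ = a := by group
            rw [this]; exact ha) h
        have h4 : (x : G)⁻¹ * ((x : G) * a * (x : G)⁻¹) * (x : G)⁻¹⁻¹ = a := by group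
        have h5 : (x : G)⁻¹ * ((x : G) * u * (x : G)⁻¹) * (x : G)⁻¹⁻¹ = u := by group
        rw [h4, h5] at h3
        exact h3
      · intro h
        exact DadeBasic.conj_mem_H' hD ha hb h
    by_cases hu : u ∈ (R (a : G) : Set G)
    · rw [if_pos hu, if_pos (h2.mpr hu)]
      have h6 : (x : G) * a * (x : G)⁻¹ * ((x : G) * u * (x : G)⁻¹) =
          (x : G) * (a * u) * (x : G)⁻¹ := by group
      rw [h6]
      exact hχ _ _
    · rw [if_neg hu, if_neg (fun h => hu (h2.mp h))]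
  · have hb : ¬ (x : G) * (a : G) * (x : G)⁻¹ ∈ A := by
      intro h
      have h1 := hD.conj_mem (x : G)⁻¹ (inv_mem x.2) _ h
      have h2 : (x : G)⁻¹ * ((x : G) * a * (x : G)⁻¹) * (x : G)⁻¹⁻¹ = a := by group
      rw [h2] at h1
      exact ha h1
    rw [rho_not_mem χ ha, rho_not_mem χ (a := x * a * x⁻¹) (by rw [hconj]; exact hb)]

section fintype

variable [Fintype G] [Fintype L]

/-- Peterfalvi (7.2)(a): Dade reciprocity. -/
theorem dade_reciprocity (hD : DadeHypothesis A L R) {α : L → ℂ} (hα : IsClassFunction L α)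
    (hαA : ∀ x : L, (x : G) ∉ A → α x = 0) {χ : G → ℂ} (hχ : IsClassFunction G χ) :
    classInner (dadeIsometry A L R α) χ = classInner α (rho A L R χ) :=
  DadeBasic.classInner_dadeIsometry_left hD hα hαA hχ fun _ ha => rho_mem χ ha

theorem dade_reciprocity' (hD : DadeHypothesis A L R) {α : L → ℂ} (hα : IsClassFunction L α)
    (hαA : ∀ x : L, (x : G) ∉ A → α x = 0) {χ : G → ℂ} (hχ : IsClassFunction G χ) :
    classInner χ (dadeIsometry A L R α) = classInner (rho A L R χ) α := by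
  rw [← classInner_conj_symm, dade_reciprocity hD hα hαA hχ, classInner_conj_symm]

omit [Fintype L] in
/-- Peterfalvi (7.2)(b). -/
theorem rho_dadeIsometry (hD : DadeHypothesis A L R) {α : L → ℂ} (hα : IsClassFunction L α)
    (hαA : ∀ x : L, (x : G) ∉ A → α x = 0) : rho A L R (dadeIsometry A L R α) = α := by
  funext a
  by_cases ha : (a : G) ∈ A
  · refine rho_of_const _ ha _ fun u hu => ?_
    exact DadeBasic.dadeIsometry_apply hD hα a ha hu (x := 1) (by group)
  · rw [rho_not_mem _ ha, hαA a ha]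

/-- Peterfalvi (7.3). -/
theorem norm_rho_le (hD : DadeHypothesis A L R) {χ : G → ℂ} (hχ : IsClassFunction G χ) :
    (classInner (rho A L R χ) (rho A L R χ)).re ≤
      (Nat.card G : ℝ)⁻¹ * ∑ᶠ g ∈ dadeSupport A R, ‖χ g‖ ^ 2 := by
  classical
  have h := Cfsg.Agent.S1525.result A L R hD χ hχ (rho A L R χ) (fun a ha => rho_mem χ ha)
  refine le_trans (le_of_eq ?_) h
  rw [classInner_self_eq, Complex.ofReal_re]
  congr 1
  rw [DadeBasic.finsum_mem_eq_sum_ite]
  refine Finset.sum_congr rfl fun a _ => ?_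
  by_cases ha : (a : G) ∈ A
  · rw [if_pos (show a ∈ {a : L | (a : G) ∈ A} from ha)]
  · rw [if_neg (show ¬ a ∈ {a : L | (a : G) ∈ A} from ha), rho_not_mem χ ha]
    simp

/-- The averaging formula for a real class function that is constant on the cosets
`a R(a)`. -/
theorem sum_supp_of_const (hD : DadeHypothesis A L R) (f : G → ℝ)
    (hf : ∀ g h : G, f (h * g * h⁻¹) = f g)
    (hc : ∀ a ∈ A, ∀ u ∈ R a, f (a * u) = f a) :
    (Nat.card G : ℝ)⁻¹ * ∑ᶠ g ∈ dadeSupport A R, f g =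
      (Nat.card L : ℝ)⁻¹ * ∑ᶠ a ∈ {a : L | (a : G) ∈ A}, f a := by
  classical
  have h := DadeBasic.sum_classFunction_supp hD
    (T := fun g => if g ∈ dadeSupport A R then (f g : ℂ) else 0) ?_ ?_
  · rw [DadeBasic.finsum_mem_eq_sum_ite, DadeBasic.finsum_mem_eq_sum_ite]
    have e1 : ((((Nat.card G : ℝ)⁻¹ * ∑ g : G, if g ∈ dadeSupport A R then f g else 0 : ℝ)) : ℂ) =
        (Nat.card G : ℂ)⁻¹ * ∑ g : G, if g ∈ dadeSupport A R then (f g : ℂ) else 0 := by
      push_cast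
      congr 1
      refine Finset.sum_congr rfl fun g _ => ?_
      split_ifs <;> simp
    have e2 : ((((Nat.card L : ℝ)⁻¹ * ∑ a : L, if a ∈ {a : L | (a : G) ∈ A} then f a else 0 : ℝ))
        : ℂ) = (Nat.card L : ℂ)⁻¹ * ∑ a : L, if (a : G) ∈ A then (Nat.card (R (a : G)) : ℂ)⁻¹ *
          ∑ᶠ u ∈ (R (a : G) : Set G), (if ((a : G) * u) ∈ dadeSupport A R then
            (f (a * u) : ℂ) else 0) else 0 := by
      push_cast
      congr 1
      refine Finset.sum_congr rfl fun a _ => ?_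
      by_cases ha : (a : G) ∈ A
      · rw [if_pos (show a ∈ {a : L | (a : G) ∈ A} from ha), if_pos ha]
        have h3 : ∀ u ∈ R (a : G), (fun g => if g ∈ dadeSupport A R then (f g : ℂ) else 0)
            ((a : G) * u) = (f a : ℂ) := by
          intro u hu
          show (if ((a : G) * u) ∈ dadeSupport A R then (f ((a : G) * u) : ℂ) else 0) = _
          rw [if_pos, hc _ ha u hu]
          exact ⟨a, ha, u, hu, 1, by group⟩
        have h4 := rho_of_const (A := A) (R := R)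
          (fun g => if g ∈ dadeSupport A R then (f g : ℂ) else 0) ha (f a : ℂ) h3
        rw [rho_mem _ ha] at h4
        exact h4.symm
      · rw [if_neg (show ¬ a ∈ {a : L | (a : G) ∈ A} from ha), if_neg ha]
        simp
    have : ((((Nat.card G : ℝ)⁻¹ * ∑ g : G, if g ∈ dadeSupport A R then f g else 0 : ℝ)) : ℂ) =
      ((((Nat.card L : ℝ)⁻¹ * ∑ a : L, if a ∈ {a : L | (a : G) ∈ A} then f a else 0 : ℝ))
        : ℂ) := by
      rw [e1, e2]
      exact h
    exact_mod_cast this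
  · intro g x
    show (if x * g * x⁻¹ ∈ dadeSupport A R then (f (x * g * x⁻¹) : ℂ) else 0) =
      if g ∈ dadeSupport A R then (f g : ℂ) else 0
    have h1 : x * g * x⁻¹ ∈ dadeSupport A R ↔ g ∈ dadeSupport A R :=
      DadeBasic.conj_mem_supp_iff x
    simp only [h1, hf]
  · intro g hg
    exact if_neg hg

/-- `|Ã|/|G| = |A|/|L|`. -/
theorem card_dadeSupport (hD : DadeHypothesis A L R) :
    (Nat.card (dadeSupport A R) : ℝ) / Nat.card G = (Nat.card A : ℝ) / Nat.card L := by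
  classical
  have h := sum_supp_of_const hD (fun _ => 1) (fun _ _ => rfl) (fun _ _ _ _ => rfl)
  have h1 : ∀ {X : Type _} [Fintype X] (S : Set X), ∑ᶠ x ∈ S, (1 : ℝ) = Nat.card S := by
    intro X _ S
    rw [DadeBasic.finsum_mem_eq_sum_ite, ← Finset.sum_filter, Finset.sum_const, nsmul_eq_mul,
      mul_one, Nat.card_eq_fintype_card, Fintype.card_subtype]
  have h2 : ∑ᶠ a ∈ {a : L | (a : G) ∈ A}, (1 : ℝ) = Nat.card A := by
    rw [h1]
    congr 1
    refine Nat.card_congr ⟨fun a => ⟨a.1, a.2⟩, fun a => ⟨⟨a.1, hD.subset a.2⟩, a.2⟩, ?_, ?_⟩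
    · intro a; rfl
    · intro a; rfl
  rw [h2, h1] at h
  rw [div_eq_inv_mul, div_eq_inv_mul]
  exact h

/-- `‖1^ρ‖² = |A|/|L|`; more generally `|Ã|/|G|`. -/
theorem norm_rho_one (hD : DadeHypothesis A L R) :
    (classInner (rho A L R (fun _ => 1)) (rho A L R (fun _ => 1))).re =
      (Nat.card A : ℝ) / Nat.card L := by
  classical
  rw [classInner_self_eq, Complex.ofReal_re, div_eq_inv_mul]
  congr 1
  have h1 : ∀ a : L, ‖rho A L R (fun _ => 1) a‖ ^ 2 = if (a : G) ∈ A then (1 : ℝ) else 0 := by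
    intro a
    by_cases ha : (a : G) ∈ A
    · rw [if_pos ha, rho_of_const _ ha 1 (fun _ _ => rfl)]
      simp
    · rw [if_neg ha, rho_not_mem _ ha]
      simp
  rw [Finset.sum_congr rfl fun a _ => h1 a, ← Finset.sum_filter, Finset.sum_const, nsmul_eq_mul,
    mul_one]
  congr 1
  rw [← Fintype.card_subtype, ← Nat.card_eq_fintype_card]
  refine Nat.card_congr ⟨fun a => ⟨a.1, a.2⟩, fun a => ⟨⟨a.1, hD.subset a.2⟩, a.2⟩, ?_, ?_⟩
  · intro a; rfl
  · intro a; rfl

end fintype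

/-- Peterfalvi (7.5), real form: for a family of Dade pairs with pairwise disjoint supports. -/
theorem dade_cover_inequality [Fintype G] {ι : Type*} [Fintype ι] (A : ι → Set G)
    (L : ι → Subgroup G) [∀ i, Fintype (L i)] (R : ι → G → Subgroup G)
    (hD : ∀ i, DadeHypothesis (A i) (L i) (R i))
    (hdisj : ∀ i j, i ≠ j → Disjoint (dadeSupport (A i) (R i)) (dadeSupport (A j) (R j)))
    {χ : G → ℂ} (hχ : IsClassFunction G χ) (hnorm : classInner χ χ = 1) :
    (Nat.card G : ℝ)⁻¹ *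
        (∑ᶠ g ∈ (⋃ i, dadeSupport (A i) (R i))ᶜ, ‖χ g‖ ^ 2 -
          Nat.card ↥((⋃ i, dadeSupport (A i) (R i))ᶜ)) +
      ∑ i, ((classInner (rho (A i) (L i) (R i) χ) (rho (A i) (L i) (R i) χ)).re -
        (Nat.card (A i) : ℝ) / Nat.card (L i)) ≤ 0 := by
  classical
  have hsplit : ∀ f : G → ℝ, ∑ g : G, f g =
      ∑ᶠ g ∈ (⋃ i, dadeSupport (A i) (R i))ᶜ, f g +
        ∑ i, ∑ᶠ g ∈ dadeSupport (A i) (R i), f g := by
    intro f
    have e1 : ∑ g : G, f g = ∑ᶠ g ∈ (Set.univ : Set G), f g := by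
      rw [finsum_mem_univ, finsum_eq_sum_of_fintype]
    have e2 : ∑ᶠ g ∈ (⋃ i, dadeSupport (A i) (R i)), f g =
        ∑ i, ∑ᶠ g ∈ dadeSupport (A i) (R i), f g := by
      rw [finsum_mem_iUnion (fun i j hij => hdisj i j hij) (fun i => Set.toFinite _),
        finsum_eq_sum_of_fintype]
    rw [e1, ← Set.union_compl_self (⋃ i, dadeSupport (A i) (R i)),
      finsum_mem_union disjoint_compl_right (Set.toFinite _) (Set.toFinite _), e2, add_comm]
  have h1 : (Nat.card G : ℝ)⁻¹ * ∑ g : G, ‖χ g‖ ^ 2 = 1 := by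
    rw [classInner_self_eq] at hnorm
    exact_mod_cast hnorm
  have hG0 : (Nat.card G : ℝ) ≠ 0 := Nat.cast_ne_zero.mpr Nat.card_pos.ne'
  have hcard : ∀ S : Set G, ∑ᶠ g ∈ S, (1 : ℝ) = Nat.card S := by
    intro S
    rw [DadeBasic.finsum_mem_eq_sum_ite, ← Finset.sum_filter, Finset.sum_const, nsmul_eq_mul,
      mul_one, Nat.card_eq_fintype_card, Fintype.card_subtype]
  have h2 : (Nat.card G : ℝ)⁻¹ * ∑ g : G, (1 : ℝ) = 1 := by
    rw [Finset.sum_const, nsmul_eq_mul, mul_one, Finset.card_univ, ← Nat.card_eq_fintype_card,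
      inv_mul_cancel₀ hG0]
  rw [hsplit] at h1 h2
  have h3 : ∀ i, (classInner (rho (A i) (L i) (R i) χ) (rho (A i) (L i) (R i) χ)).re ≤
      (Nat.card G : ℝ)⁻¹ * ∑ᶠ g ∈ dadeSupport (A i) (R i), ‖χ g‖ ^ 2 :=
    fun i => norm_rho_le (hD i) hχ
  have h4 : ∀ i, (Nat.card (A i) : ℝ) / Nat.card (L i) =
      (Nat.card G : ℝ)⁻¹ * ∑ᶠ g ∈ dadeSupport (A i) (R i), (1 : ℝ) := by
    intro i
    rw [hcard, ← card_dadeSupport (hD i), div_eq_inv_mul]
  rw [mul_add, Finset.mul_sum, hcard] at h2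
  rw [mul_add, Finset.mul_sum] at h1
  rw [Finset.sum_sub_distrib, mul_sub]
  have h5 := Finset.sum_le_sum (s := Finset.univ) fun i (_ : i ∈ Finset.univ) => h3 i
  have h6 : ∑ i, (Nat.card (A i) : ℝ) / Nat.card (L i) =
      ∑ i, (Nat.card G : ℝ)⁻¹ * ∑ᶠ g ∈ dadeSupport (A i) (R i), (1 : ℝ) :=
    Finset.sum_congr rfl fun i _ => h4 i
  rw [h6]
  linarith

/-! ### Names used in the PF7 skeleton -/

section skel

variable [Fintype G] [Fintype L]

omit [Fintype G] [Fintype L] in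
theorem rho_of_mem (χ : G → ℂ) {a : ↥L} (ha : (a : G) ∈ A) :
    rho A L R χ a = (Nat.card (R a) : ℂ)⁻¹ * ∑ᶠ u ∈ (R a : Set G), χ (a * u) := if_pos ha

omit [Fintype G] [Fintype L] in
theorem rho_of_notMem (χ : G → ℂ) {a : ↥L} (ha : (a : G) ∉ A) : rho A L R χ a = 0 := if_neg ha

omit [Fintype L] in
theorem rho_one {a : ↥L} (ha : (a : G) ∈ A) : rho A L R (1 : G → ℂ) a = 1 :=
  rho_of_const _ ha 1 (fun _ _ => rfl)

/-- (7.2)(a) -/
theorem rho_reciprocity (hD : DadeHypothesis A L R) {α : ↥L → ℂ} (hα : IsClassFunction ↥L α)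
    (hαA : ∀ a : ↥L, (a : G) ∉ A → α a = 0) {χ : G → ℂ} (hχ : IsClassFunction G χ) :
    classInner (dadeIsometry A L R α) χ = classInner α (rho A L R χ) :=
  dade_reciprocity hD hα hαA hχ

omit [Fintype L] in
/-- (7.5) -/
theorem cover_inequality {ι : Type*} [Fintype ι] (A : ι → Set G) (L : ι → Subgroup G)
    [∀ i, Fintype ↥(L i)] (R : ι → G → Subgroup G) (hD : ∀ i, DadeHypothesis (A i) (L i) (R i))
    (hdisj : ∀ i j, i ≠ j → Disjoint (dadeSupport (A i) (R i)) (dadeSupport (A j) (R j)))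
    {χ : G → ℂ} (hχ : IsClassFunction G χ) (hχ1 : classInner χ χ = 1) :
    (Nat.card G : ℝ)⁻¹ * (∑ᶠ g ∈ (⋃ i, dadeSupport (A i) (R i))ᶜ, ‖χ g‖ ^ 2 -
        (Nat.card ↥(⋃ i, dadeSupport (A i) (R i))ᶜ : ℝ)) +
      ∑ i, ((classInner (rho (A i) (L i) (R i) χ) (rho (A i) (L i) (R i) χ)).re -
        (Nat.card ↥(A i) : ℝ) / Nat.card ↥(L i)) ≤ 0 :=
  dade_cover_inequality A L R hD hdisj hχ hχ1

end skel

end Cfsg.Agent.OddOrderCharacters.PF7Rho
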