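import Cfsg.Agent.OddOrderCharacters.TypeSetsBasic
import Cfsg.Agent.OddOrderLocal.FittingHall
import Cfsg.Agent.S0030

/-!
The types of Def_OddOrderLocal are mutually exclusive, for every finite group: type I excludes type P,
type II excludes types III and IV, and so on.  Elementary; nothing about minimal simple groups is used.
-/

set_option autoImplicit false

namespace Cfsg.Agent.OddOrderCharacters.TypeExclusive

open Cfsg Cfsg.Agent.OddOrderCharacters.TypeSetsBasic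

universe u

variable {G : Type u} [Group G]

/-- order of a complement -/
theorem card_mul_of_isComplIn {A B M : Subgroup G} (h : IsComplIn A B M) :
    Nat.card A * Nat.card B = Nat.card M := by
  obtain ⟨hA, hB, hAB, hM⟩ := h
  rw [← Nat.card_prod]
  refine Nat.card_congr (Equiv.ofBijective
    (fun ab : A × B => (⟨(ab.1 : G) * ab.2, M.mul_mem (hA ab.1.2) (hB ab.2.2)⟩ : M)) ⟨?_, ?_⟩)
  · rintro ⟨a, b⟩ ⟨a', b'⟩ hab
    have h1 : (a : G) * b = a' * b' := congrArg Subtype.val hab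
    have h2 : (a' : G)⁻¹ * a = b' * (b : G)⁻¹ := by
      rw [inv_mul_eq_iff_eq_mul, ← mul_assoc, ← h1]; group
    have h3 : (a' : G)⁻¹ * a ∈ A ⊓ B :=
      ⟨A.mul_mem (A.inv_mem a'.2) a.2, h2 ▸ B.mul_mem b'.2 (B.inv_mem b.2)⟩
    rw [hAB, Subgroup.mem_bot] at h3
    have h4 : (a : G) = a' := (inv_mul_eq_one.1 h3).symm
    rw [h3] at h2
    have h5 : (b' : G) = b := mul_inv_eq_one.1 h2.symm
    exact Prod.ext (Subtype.ext h4) (Subtype.ext h5.symm)
  · rintro ⟨m, hm⟩
    obtain ⟨a, ha, b, hb, rfl⟩ := hM m hm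
    exact ⟨(⟨a, ha⟩, ⟨b, hb⟩), rfl⟩

/-- A `p`-element of `M` is conjugate in `M` into any subgroup of `M` whose index in `M` is prime to `p`. -/
theorem exists_conj_mem [Finite G] {M W : Subgroup G} {p : ℕ} (hp : p.Prime)
    (hpW : ¬ p ∣ W.relIndex M) {y : G} (hy : y ∈ M) (hyp : ∃ n, orderOf y = p ^ n) :
    ∃ m ∈ M, m * y * m⁻¹ ∈ W := by
  have := Fact.mk hp
  -- a Sylow subgroup of `W` is a Sylow subgroup of `M`
  obtain ⟨P⟩ : Nonempty (Sylow p (W.subgroupOf M)) := inferInstance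
  have hidx : ¬ p ∣ (W.subgroupOf M).index := hpW
  set P' : Subgroup M := (P : Subgroup (W.subgroupOf M)).map (W.subgroupOf M).subtype with hP'
  have hP'g : IsPGroup p P' := P.2.map _
  have hP'i : ¬ p ∣ P'.index := by
    have h1 : P'.index = (P : Subgroup (W.subgroupOf M)).index * (W.subgroupOf M).index := by
      rw [hP', Subgroup.index_map, Subgroup.ker_subtype, sup_bot_eq, Subgroup.range_subtype]
    rw [h1, hp.dvd_mul]
    rintro (h2 | h2)
    · exact P.not_dvd_index h2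
    · exact hidx h2
  let Q : Sylow p M := hP'g.toSylow hP'i
  have hQ : (Q : Subgroup M) = P' := rfl
  have hzp : IsPGroup p (Subgroup.zpowers (⟨y, hy⟩ : M)) := by
    obtain ⟨n, hn⟩ := hyp
    refine IsPGroup.of_card (n := n) ?_
    rw [Nat.card_zpowers, ← hn]
    exact Subgroup.orderOf_mk y hy
  obtain ⟨R, hR⟩ := hzp.exists_le_sylow
  obtain ⟨g, hg⟩ := MulAction.exists_smul_eq M R Q
  refine ⟨g, g.2, ?_⟩
  have h1 : (g * ⟨y, hy⟩ * g⁻¹ : M) ∈ (Q : Subgroup M) := by
    rw [← hg, Sylow.coe_subgroup_smul]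
    exact Subgroup.smul_mem_pointwise_smul _ (MulAut.conj g) _ (hR (Subgroup.mem_zpowers _))
  rw [hQ] at h1
  obtain ⟨z, -, hz⟩ := h1
  have h2 : ((g * ⟨y, hy⟩ * g⁻¹ : M) : G) ∈ W := by
    rw [← hz]
    exact z.2
  exact h2

/-- Type F (Frobenius type) excludes type P. -/
theorem not_isOfTypeP_of_isOfTypeF [Finite G] {M : Subgroup G} (hI : IsOfTypeF M) : ¬ IsOfTypeP M := by
  rintro ⟨W₁, U', W₂, hP⟩
  obtain ⟨-, -, -, -, U, -, hUc, -, U₀, hU₀U, hexp, hfree⟩ := hI
  -- a prime `p` dividing the order of `W₁`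
  have hW₁ : Nat.card W₁ ≠ 1 := fun h => hP.W₁_ne (Subgroup.card_eq_one.1 h)
  obtain ⟨p, hp, hpW⟩ := Nat.exists_prime_and_dvd hW₁
  have := Fact.mk hp
  -- `p` divides the order of `U`
  have h1 : Nat.card (fittingHallOf M) * Nat.card U = Nat.card M := by
    have := hUc.card_mul_card
    rw [← this]
    congr 1
    exact Nat.card_congr
      ((fittingHall M).equivMapOfInjective M.subtype M.subtype_injective).symm.toEquiv
  have h2 : Nat.card (fittingHallOf M) * Nat.card U' = Nat.card ↥⁅M, M⁆ :=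
    card_mul_of_isComplIn hP.U_compl
  have h3 : Nat.card ↥⁅M, M⁆ * Nat.card W₁ = Nat.card M := card_mul_of_isComplIn hP.W₁_compl
  have h4 : Nat.card U = Nat.card U' * Nat.card W₁ := by
    have h5 : Nat.card (fittingHallOf M) * Nat.card U =
        Nat.card (fittingHallOf M) * (Nat.card U' * Nat.card W₁) := by
      rw [h1, ← h3, ← h2, mul_assoc]
    exact Nat.eq_of_mul_eq_mul_left Nat.card_pos h5
  have h5 : p ∣ Nat.card U := h4 ▸ hpW.mul_left _
  -- an element of order `p` in `U₀`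
  obtain ⟨u, hu⟩ := exists_prime_orderOf_dvd_card' p h5
  have h6 : p ∣ Monoid.exponent U := hu ▸ Monoid.order_dvd_exponent u
  rw [← hexp] at h6
  have h7 : p ∣ Nat.card U₀ := h6.trans Group.exponent_dvd_nat_card
  obtain ⟨y, hy⟩ := exists_prime_orderOf_dvd_card' p h7
  have hyM : orderOf ((y : M) : G) = p := by
    rw [Subgroup.orderOf_coe, Subgroup.orderOf_coe, hy]
  have hpi : ¬ p ∣ W₁.relIndex M := fun h =>
    hp.one_lt.ne' (Nat.eq_one_of_dvd_coprimes hP.W₁_hall hpW h)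
  obtain ⟨m, hm, hmy⟩ := exists_conj_mem hp hpi (y : M).2 ⟨1, by rw [hyM, pow_one]⟩
  have hy1 : ((y : M) : G) ≠ 1 := by
    intro h
    rw [h, orderOf_one] at hyM
    exact hp.one_lt.ne hyM
  have hx1 : m * (y : M) * m⁻¹ ≠ (1 : G) := conj_ne_one hy1
  have h8 := hP.W₂_centralizer _ hmy hx1
  obtain ⟨w, hw1⟩ := (Subgroup.ne_bot_iff_exists_ne_one).1 hP.selfNormalizing.2.1
  have hwW : (w : G) ∈ ⁅M, M⁆ ⊓ Subgroup.centralizer {m * ((y : M) : G) * m⁻¹} := h8.symm ▸ w.2
  have hc := mem_centralizer_singleton.1 hwW.2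
  have hwH : m⁻¹ * (w : G) * (m⁻¹)⁻¹ ∈ fittingHallOf M :=
    fittingHallOf_conj_mem (M.inv_mem hm) (W₂_le_fittingHallOf hP w.2)
  obtain ⟨v, hv, hvw⟩ := hwH
  have h9 : (y : M) * v = v * (y : M) := by
    apply Subtype.ext
    have hvw' : (v : G) = m⁻¹ * w * m := by
      have : (v : G) = m⁻¹ * (w : G) * (m⁻¹)⁻¹ := hvw
      simpa using this
    show ((y : M) : G) * (v : G) = (v : G) * ((y : M) : G)
    rw [hvw']
    have : m⁻¹ * ((w : G) * (m * (y : M) * m⁻¹)) * m = m⁻¹ * ((m * (y : M) * m⁻¹) * (w : G)) * m := by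
      rw [hc]
    calc ((y : M) : G) * (m⁻¹ * w * m) = m⁻¹ * ((m * (y : M) * m⁻¹) * (w : G)) * m := by group
      _ = m⁻¹ * ((w : G) * (m * (y : M) * m⁻¹)) * m := this.symm
      _ = _ := by group
  have h10 := hfree (y : M) y.2 (fun h => hy1 (by rw [h]; rfl)) v hv h9
  apply hw1
  apply Subtype.ext
  have hvw' : (v : G) = m⁻¹ * (w : G) * (m⁻¹)⁻¹ := hvw
  rw [h10] at hvw'
  have : m⁻¹ * (w : G) * (m⁻¹)⁻¹ = 1 := hvw'.symm
  exact conj_eq_one_iff.1 this

/-- Type I excludes type P. -/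
theorem not_isOfTypeP_of_isOfTypeI [Finite G] {M : Subgroup G} (hI : IsOfTypeI M) : ¬ IsOfTypeP M :=
  not_isOfTypeP_of_isOfTypeF hI.1

theorem isOfTypeP_of_II {M : Subgroup G} (h : IsOfTypeII M) : IsOfTypeP M := by
  obtain ⟨W₁, U, W₂, hP, -⟩ := h
  exact ⟨W₁, U, W₂, hP⟩

theorem isOfTypeP_of_III {M : Subgroup G} (h : IsOfTypeIII M) : IsOfTypeP M := by
  obtain ⟨W₁, U, W₂, hP, -⟩ := h
  exact ⟨W₁, U, W₂, hP⟩

theorem isOfTypeP_of_IV {M : Subgroup G} (h : IsOfTypeIV M) : IsOfTypeP M := by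
  obtain ⟨W₁, U, W₂, hP, -⟩ := h
  exact ⟨W₁, U, W₂, hP⟩

theorem isOfTypeP_of_V {M : Subgroup G} (h : IsOfTypeV M) : IsOfTypeP M := by
  obtain ⟨W₁, U, W₂, hP, -⟩ := h
  exact ⟨W₁, U, W₂, hP⟩

/-- The order of `U` in type P data is `[M' : M_F]`, hence prime to the order of `M_F`. -/
theorem coprime_card_U [Finite G] {M W₁ U W₂ : Subgroup G}
    (hP : IsTypePWith M W₁ U W₂) : (Nat.card U).Coprime (Nat.card (fittingHallOf M)) := by
  have hHall : (Nat.card (fittingHallOf M)).Coprime ((fittingHallOf M).relIndex M) :=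
    Cfsg.Agent.OddOrderLocal.FittingHall.fittingHallOf_coprime_relIndex M
  have h2 : Nat.card (fittingHallOf M) * Nat.card U = Nat.card ↥⁅M, M⁆ :=
    card_mul_of_isComplIn hP.U_compl
  have h3 : Nat.card ↥⁅M, M⁆ * Nat.card W₁ = Nat.card M := card_mul_of_isComplIn hP.W₁_compl
  have h4 : (fittingHallOf M).relIndex M * Nat.card (fittingHallOf M) = Nat.card M := by
    have := Subgroup.index_mul_card ((fittingHallOf M).subgroupOf M)
    rw [Nat.card_congr (Subgroup.subgroupOfEquivOfLe (fittingHallOf_le M)).toEquiv] at this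
    exact this
  have h5 : (fittingHallOf M).relIndex M = Nat.card U * Nat.card W₁ := by
    have h6 : Nat.card (fittingHallOf M) * (fittingHallOf M).relIndex M =
        Nat.card (fittingHallOf M) * (Nat.card U * Nat.card W₁) := by
      rw [← mul_assoc, h2, h3, mul_comm, h4]
    exact Nat.eq_of_mul_eq_mul_left Nat.card_pos h6
  rw [h5] at hHall
  exact (Nat.Coprime.coprime_mul_right_right hHall).symm

/-- The complements `U`, `U'` in two choices of type P data for `M` are conjugate in `M_F`. -/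
theorem exists_conj_U [Finite G] {M W₁ U W₂ W₁' U' W₂' : Subgroup G}
    (hP : IsTypePWith M W₁ U W₂) (hP' : IsTypePWith M W₁' U' W₂') :
    ∃ h ∈ fittingHallOf M, U' = U.map (MulAut.conj h).toMonoidHom := by
  have h1 : U ≤ Subgroup.normalizer (fittingHallOf M : Set G) :=
    (hP.U_compl.2.1.trans (commutator_le_self M)).trans (le_normalizer_fittingHallOf M)
  have hUn := hP.U_nilpotent
  have h2 : Group.IsSolvable U := inferInstance
  have h3 : U' ≤ fittingHallOf M ⊔ U := by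
    intro x hx
    obtain ⟨a, ha, b, hb, rfl⟩ := hP.U_compl.2.2.2 x (hP'.U_compl.2.1 hx)
    exact Subgroup.mul_mem_sup ha hb
  have h4 : Nat.card U' = Nat.card U := by
    have h5 := card_mul_of_isComplIn hP.U_compl
    have h6 := card_mul_of_isComplIn hP'.U_compl
    exact Nat.eq_of_mul_eq_mul_left Nat.card_pos (h6.trans h5.symm)
  obtain ⟨d, hd, hdU⟩ := Cfsg.Agent.S0030.exists_conj_eq U (fittingHallOf M) U' h1
    (coprime_card_U hP) (Or.inl h2) h3 h4
  exact ⟨d, hd, hdU.symm⟩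

theorem normalizer_map_conj_le {M U : Subgroup G} {h : G} (hh : h ∈ M)
    (hU : Subgroup.normalizer (U : Set G) ≤ M) :
    Subgroup.normalizer ((U.map (MulAut.conj h).toMonoidHom : Subgroup G) : Set G) ≤ M := by
  intro n hn
  have h1 : h⁻¹ * n * h ∈ Subgroup.normalizer (U : Set G) := by
    rw [Subgroup.mem_normalizer_iff]
    rw [Subgroup.mem_normalizer_iff] at hn
    intro u
    have h2 : ∀ v : G, v ∈ U ↔ h * v * h⁻¹ ∈ U.map (MulAut.conj h).toMonoidHom := by
      intro v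
      constructor
      · intro hv
        exact ⟨v, hv, rfl⟩
      · rintro ⟨w, hw, hwv⟩
        have h3 : h * w * h⁻¹ = h * v * h⁻¹ := hwv
        have h4 : w = v := by
          have := mul_right_cancel h3
          exact mul_left_cancel this
        rwa [← h4]
    rw [h2, hn, h2 (h⁻¹ * n * h * u * (h⁻¹ * n * h)⁻¹)]
    have h5 : h * (h⁻¹ * n * h * u * (h⁻¹ * n * h)⁻¹) * h⁻¹ = n * (h * u * h⁻¹) * n⁻¹ := by group
    rw [h5]
  have h2 : n = h * (h⁻¹ * n * h) * h⁻¹ := by group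
  rw [h2]
  exact M.mul_mem (M.mul_mem hh (hU h1)) (M.inv_mem hh)

/-- Type II excludes types III and IV. -/
theorem not_three_or_four_of_isOfTypeII [Finite G] {M : Subgroup G}
    (hII : IsOfTypeII M) : ¬ (IsOfTypeIII M ∨ IsOfTypeIV M) := by
  obtain ⟨W₁, U, W₂, hP, -, -, -, -, hN, -⟩ := hII
  rintro (⟨W₁', U', W₂', hP', -, -, -, -, hN'⟩ | ⟨W₁', U', W₂', hP', -, -, -, -, hN'⟩)
  all_goals
    obtain ⟨d, hd, rfl⟩ := exists_conj_U hP' hP
    exact hN (normalizer_map_conj_le (fittingHallOf_le M hd) hN')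

/-- Type I excludes types III and IV. -/
theorem not_three_or_four_of_isOfTypeI [Finite G] {M : Subgroup G} (hI : IsOfTypeI M) :
    ¬ (IsOfTypeIII M ∨ IsOfTypeIV M) := by
  rintro (h | h)
  · exact not_isOfTypeP_of_isOfTypeI hI (isOfTypeP_of_III h)
  · exact not_isOfTypeP_of_isOfTypeI hI (isOfTypeP_of_IV h)

theorem typeCore_of_I [Finite G] {M : Subgroup G} (hI : IsOfTypeI M) : typeCore M = fittingHallOf M :=
  typeCore_of_not (not_three_or_four_of_isOfTypeI hI)

theorem typeCore_of_II [Finite G] {M : Subgroup G} (hII : IsOfTypeII M) :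
    typeCore M = fittingHallOf M :=
  typeCore_of_not (not_three_or_four_of_isOfTypeII hII)

/-- Type III excludes type IV. -/
theorem not_isOfTypeIV_of_III [Finite G] {M : Subgroup G} (h3 : IsOfTypeIII M) : ¬ IsOfTypeIV M := by
  obtain ⟨W₁, U, W₂, hP, -, -, -, hc, -⟩ := h3
  rintro ⟨W₁', U', W₂', hP', -, -, -, hc', -⟩
  obtain ⟨d, hd, rfl⟩ := exists_conj_U hP hP'
  apply hc'
  have := hc
  exact ⟨⟨fun a b => by
    obtain ⟨x, hx, hxa⟩ := a.2
    obtain ⟨y, hy, hyb⟩ := b.2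
    apply Subtype.ext
    show (a : G) * (b : G) = (b : G) * (a : G)
    rw [← hxa, ← hyb, ← map_mul, ← map_mul]
    congr 1
    exact congrArg Subtype.val (hc.is_comm.comm ⟨x, hx⟩ ⟨y, hy⟩)⟩⟩

/-- Type V excludes types II, III and IV: `U = 1` or not. -/
theorem not_two_three_four_of_isOfTypeV [Finite G] {M : Subgroup G} (h5 : IsOfTypeV M) :
    ¬ (IsOfTypeII M ∨ IsOfTypeIII M ∨ IsOfTypeIV M) := by
  obtain ⟨W₁, U, W₂, hP, hU, -⟩ := h5
  rintro (⟨W₁', U', W₂', hP', hU', -⟩ | ⟨W₁', U', W₂', hP', hU', -⟩ | ⟨W₁', U', W₂', hP', hU', -⟩)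
  all_goals
    obtain ⟨d, hd, rfl⟩ := exists_conj_U hP hP'
    apply hU'
    rw [hU, Subgroup.map_bot]

end Cfsg.Agent.OddOrderCharacters.TypeExclusive
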