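import Mathlib.LinearAlgebra.LinearIndependent.Lemmas
import Mathlib.LinearAlgebra.FiniteDimensional.Lemmas
import Mathlib.LinearAlgebra.Dimension.Constructions
import Cfsg.Agent.OddOrderCharacters.InnerLite

/-!
# Extending a map on an orthogonal set to a linear isometry on its integer span
-/

set_option autoImplicit false

open scoped ComplexConjugate
open Cfsg Cfsg.Agent.OddOrderCharacters.InnerLite

namespace Cfsg.Agent.OddOrderCharacters.CoherenceExt

section zspan

variable {X : Type*} {S T : Set (X → ℂ)}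

theorem zs_mem {a : X → ℂ} (h : a ∈ S) : a ∈ zspan S := Submodule.subset_span h

theorem zs_zero : (0 : X → ℂ) ∈ zspan S := Submodule.zero_mem _

theorem zs_add {a b : X → ℂ} (ha : a ∈ zspan S) (hb : b ∈ zspan S) : a + b ∈ zspan S :=
  Submodule.add_mem _ ha hb

theorem zs_neg {a : X → ℂ} (ha : a ∈ zspan S) : -a ∈ zspan S := Submodule.neg_mem _ ha

theorem zs_sub {a b : X → ℂ} (ha : a ∈ zspan S) (hb : b ∈ zspan S) : a - b ∈ zspan S :=
  Submodule.sub_mem _ ha hb

theorem zs_zsmul {a : X → ℂ} (n : ℤ) (ha : a ∈ zspan S) : n • a ∈ zspan S :=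
  Submodule.smul_mem _ n ha

theorem zs_nsmul {a : X → ℂ} (n : ℕ) (ha : a ∈ zspan S) : n • a ∈ zspan S := by
  rw [← natCast_zsmul]; exact zs_zsmul _ ha

theorem zs_mono (h : S ⊆ T) : zspan S ⊆ zspan T := Submodule.span_mono h

theorem zs_le (h : S ⊆ zspan T) : zspan S ⊆ zspan T := by
  intro a ha
  exact Submodule.span_le.mpr h ha

theorem zs_induction {p : (X → ℂ) → Prop} (hS : ∀ a ∈ S, p a) (h0 : p 0)
    (hadd : ∀ a ∈ zspan S, ∀ b ∈ zspan S, p a → p b → p (a + b))
    (hsmul : ∀ (n : ℤ), ∀ a ∈ zspan S, p a → p (n • a)) {a : X → ℂ} (ha : a ∈ zspan S) : p a := by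
  refine Submodule.span_induction (p := fun x _ => p x) (fun x hx => hS x hx) h0
    (fun x y hx hy h1 h2 => hadd x hx y hy h1 h2) (fun n x hx h => hsmul n x hx h) ha

variable {A : Set X}

theorem zo_zero : (0 : X → ℂ) ∈ zspanOn S A := ⟨zs_zero, fun _ _ => rfl⟩

theorem zo_add {a b : X → ℂ} (ha : a ∈ zspanOn S A) (hb : b ∈ zspanOn S A) :
    a + b ∈ zspanOn S A :=
  ⟨zs_add ha.1 hb.1, fun x hx => by rw [Pi.add_apply, ha.2 x hx, hb.2 x hx, add_zero]⟩

theorem zo_neg {a : X → ℂ} (ha : a ∈ zspanOn S A) : -a ∈ zspanOn S A :=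
  ⟨zs_neg ha.1, fun x hx => by rw [Pi.neg_apply, ha.2 x hx, neg_zero]⟩

theorem zo_sub {a b : X → ℂ} (ha : a ∈ zspanOn S A) (hb : b ∈ zspanOn S A) :
    a - b ∈ zspanOn S A :=
  ⟨zs_sub ha.1 hb.1, fun x hx => by rw [Pi.sub_apply, ha.2 x hx, hb.2 x hx, sub_zero]⟩

theorem zo_zsmul {a : X → ℂ} (n : ℤ) (ha : a ∈ zspanOn S A) : n • a ∈ zspanOn S A :=
  ⟨zs_zsmul n ha.1, fun x hx => by rw [Pi.smul_apply, ha.2 x hx, smul_zero]⟩

theorem zo_nsmul {a : X → ℂ} (n : ℕ) (ha : a ∈ zspanOn S A) : n • a ∈ zspanOn S A := by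
  rw [← natCast_zsmul]; exact zo_zsmul _ ha

theorem zo_mono (h : S ⊆ T) : zspanOn S A ⊆ zspanOn T A := fun _ ha => ⟨zs_mono h ha.1, ha.2⟩

theorem zo_span {U : Set (X → ℂ)} (h : U ⊆ zspanOn S A) : zspan U ⊆ zspanOn S A := by
  intro a ha
  exact zs_induction (p := fun x => x ∈ zspanOn S A) h zo_zero
    (fun x _ y _ hx hy => zo_add hx hy) (fun n x _ hx => zo_zsmul n hx) ha

end zspan

section isom

variable {L : Type*} [Group L] [Fintype L] {G : Type*} [Group G] [Fintype G]
  {E : Set (L → ℂ)} {τ : (L → ℂ) → (G → ℂ)}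

theorem io_mono {E' : Set (L → ℂ)} (h : IsLinearIsometryOn E τ) (hE : E' ⊆ E) :
    IsLinearIsometryOn E' τ :=
  ⟨fun a ha b hb => h.1 a (hE ha) b (hE hb), fun a ha n => h.2.1 a (hE ha) n,
    fun a ha b hb => h.2.2.1 a (hE ha) b (hE hb), fun a ha => h.2.2.2 a (hE ha)⟩

/-- Additivity for sets closed under integer scalars. -/
theorem io_sub (h : IsLinearIsometryOn E τ) (hE : ∀ a ∈ E, ∀ n : ℤ, n • a ∈ E)
    {a b : L → ℂ} (ha : a ∈ E) (hb : b ∈ E) : τ (a - b) = τ a - τ b := by
  have h1 : a - b = a + (-1 : ℤ) • b := by rw [neg_one_zsmul, sub_eq_add_neg]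
  rw [h1, h.1 a ha _ (hE b hb _), h.2.1 b hb, neg_one_zsmul, sub_eq_add_neg]

theorem io_nsmul (h : IsLinearIsometryOn E τ) {a : L → ℂ} (ha : a ∈ E) (n : ℕ) :
    τ (n • a) = n • τ a := by
  have := h.2.1 a ha (n : ℤ)
  simpa only [natCast_zsmul] using this

theorem io_zero (h : IsLinearIsometryOn E τ) {a : L → ℂ} (ha : a ∈ E) : τ 0 = 0 := by
  have := h.2.1 a ha 0
  simpa using this

/-- Two linear maps agreeing on `T` agree on `zspan T`. -/
theorem io_ext {T : Set (L → ℂ)} {τ' : (L → ℂ) → (G → ℂ)} (h : IsLinearIsometryOn (zspan T) τ)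
    (h' : IsLinearIsometryOn (zspan T) τ') (heq : ∀ a ∈ T, τ a = τ' a) {a : L → ℂ}
    (ha : a ∈ zspan T) : τ a = τ' a := by
  refine zs_induction (p := fun x => τ x = τ' x) heq ?_ ?_ ?_ ha
  · rw [io_zero h zs_zero, io_zero h' zs_zero]
  · intro x hx y hy h1 h2
    rw [h.1 x hx y hy, h'.1 x hx y hy, h1, h2]
  · intro n x hx h1
    rw [h.2.1 x hx, h'.2.1 x hx, h1]

end isom

section finite

variable {L : Type*} [Group L] [Fintype L]

theorem ci_self_ne {a : L → ℂ} (h : a ≠ 0) : classInner a a ≠ 0 :=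
  fun h0 => h (eq_zero_of_ci_self h0)

theorem linearIndependent_of_orthogonal {S : Set (L → ℂ)}
    (horth : ∀ a ∈ S, ∀ b ∈ S, a ≠ b → classInner a b = 0) (hne : ∀ a ∈ S, a ≠ 0) :
    LinearIndependent ℂ (fun a : S => (a : L → ℂ)) := by
  classical
  rw [linearIndependent_iff']
  intro s g hg i hi
  have h1 : classInner (∑ j ∈ s, g j • (j : L → ℂ)) (i : L → ℂ) = 0 := by
    rw [hg, ci_zero_left]
  rw [ci_sum_left, Finset.sum_eq_single i] at h1
  · rw [ci_smul_left] at h1
    rcases mul_eq_zero.mp h1 with h | h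
    · exact h
    · exact absurd h (ci_self_ne (hne _ i.2))
  · intro j _ hj
    rw [ci_smul_left, horth _ j.2 _ i.2 (fun h => hj (Subtype.ext h)), mul_zero]
  · intro h; exact absurd hi h

theorem finite_of_orthogonal {S : Set (L → ℂ)}
    (horth : ∀ a ∈ S, ∀ b ∈ S, a ≠ b → classInner a b = 0) (hne : ∀ a ∈ S, a ≠ 0) :
    S.Finite :=
  (linearIndependent_of_orthogonal horth hne).setFinite

end finite

section ext

variable {L : Type*} [Group L] [Fintype L] {G : Type*} [Group G] [Fintype G]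

/-- `θ ↦ classInner θ a` as a linear functional. -/
noncomputable def innerL (a : L → ℂ) : (L → ℂ) →ₗ[ℂ] ℂ where
  toFun θ := classInner θ a
  map_add' x y := ci_add_left x y a
  map_smul' c x := ci_smul_left c x a

theorem innerL_apply (a θ : L → ℂ) : innerL a θ = classInner θ a := rfl

/-- Extension of `f` from the orthogonal finite set `T`. -/
noncomputable def extMap (T : Finset (L → ℂ)) (f : (L → ℂ) → (G → ℂ)) :
    (L → ℂ) →ₗ[ℂ] (G → ℂ) :=
  ∑ a ∈ T, ((classInner a a)⁻¹ • innerL a).smulRight (f a)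

theorem extMap_apply (T : Finset (L → ℂ)) (f : (L → ℂ) → (G → ℂ)) (θ : L → ℂ) :
    extMap T f θ = ∑ a ∈ T, ((classInner a a)⁻¹ * classInner θ a) • f a := by
  simp only [extMap, LinearMap.sum_apply, LinearMap.smulRight_apply, LinearMap.smul_apply,
    innerL_apply, smul_eq_mul]

theorem extMap_self {T : Finset (L → ℂ)} (horth : ∀ a ∈ T, ∀ b ∈ T, a ≠ b → classInner a b = 0)
    (hne : ∀ a ∈ T, a ≠ 0) (f : (L → ℂ) → (G → ℂ)) {a : L → ℂ} (ha : a ∈ T) :
    extMap T f a = f a := by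
  rw [extMap_apply, Finset.sum_eq_single a]
  · rw [inv_mul_cancel₀ (ci_self_ne (hne a ha)), one_smul]
  · intro b hb hba
    rw [horth a ha b hb (Ne.symm hba), mul_zero, zero_smul]
  · intro h; exact absurd ha h

theorem extMap_isometry {T : Finset (L → ℂ)}
    (horth : ∀ a ∈ T, ∀ b ∈ T, a ≠ b → classInner a b = 0) (hne : ∀ a ∈ T, a ≠ 0)
    (f : (L → ℂ) → (G → ℂ)) (hf : ∀ a ∈ T, ∀ b ∈ T, classInner (f a) (f b) = classInner a b)
    (hg : ∀ a ∈ T, IsGeneralizedCharacter G (f a)) :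
    IsLinearIsometryOn (zspan (T : Set (L → ℂ))) (extMap T f) := by
  have hz : ∀ (n : ℤ) (x : L → ℂ), extMap T f (n • x) = n • extMap T f x :=
    fun n x => map_zsmul _ n x
  refine ⟨fun a _ b _ => map_add _ a b, fun a _ n => hz n a, ?_, ?_⟩
  · intro α hα β hβ
    refine zs_induction (p := fun x => classInner (extMap T f x) (extMap T f β) = classInner x β)
      ?_ ?_ ?_ ?_ hα
    · intro a ha
      refine zs_induction (p := fun x => classInner (extMap T f a) (extMap T f x) =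
        classInner a x) ?_ ?_ ?_ ?_ hβ
      · intro b hb
        rw [extMap_self horth hne f ha, extMap_self horth hne f hb, hf a ha b hb]
      · rw [map_zero, ci_zero_right, ci_zero_right]
      · intro x _ y _ hx hy
        rw [map_add, ci_add_right, ci_add_right, hx, hy]
      · intro n x _ hx
        rw [hz, ci_zsmul_right, ci_zsmul_right, hx]
    · rw [map_zero, ci_zero_left, ci_zero_left]
    · intro x _ y _ hx hy
      rw [map_add, ci_add_left, ci_add_left, hx, hy]
    · intro n x _ hx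
      rw [hz, ci_zsmul_left, ci_zsmul_left, hx]
  · intro α hα
    refine zs_induction (p := fun x => IsGeneralizedCharacter G (extMap T f x))
      ?_ ?_ ?_ ?_ hα
    · intro a ha
      rw [extMap_self horth hne f ha]; exact hg a ha
    · rw [map_zero]; exact gen_zero
    · intro x _ y _ hx hy
      rw [map_add]; exact gen_add hx hy
    · intro n x _ hx
      rw [hz]; exact gen_zsmul n hx

/-- Extension of a map on an orthogonal set of nonzero functions to a linear isometry on the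
integer span; the extension is even given as a `ℂ`-linear map. -/
theorem exists_ext {S : Set (L → ℂ)}
    (horth : ∀ a ∈ S, ∀ b ∈ S, a ≠ b → classInner a b = 0) (hne : ∀ a ∈ S, a ≠ 0)
    (f : (L → ℂ) → (G → ℂ)) (hf : ∀ a ∈ S, ∀ b ∈ S, classInner (f a) (f b) = classInner a b)
    (hg : ∀ a ∈ S, IsGeneralizedCharacter G (f a)) :
    ∃ τ₁ : (L → ℂ) →ₗ[ℂ] (G → ℂ), IsLinearIsometryOn (zspan S) τ₁ ∧ ∀ a ∈ S, τ₁ a = f a := by
  have hfin := finite_of_orthogonal horth hne
  obtain ⟨T, rfl⟩ := hfin.exists_finset_coe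
  exact ⟨extMap T f, extMap_isometry horth hne f hf hg, fun a ha => extMap_self horth hne f ha⟩

end ext

section bessel

variable {G : Type*} [Group G] [Fintype G]

open Classical in
/-- The orthogonal projection of `v` onto the span of the orthonormal finite set `R`. -/
noncomputable def proj (R : Finset (G → ℂ)) (v : G → ℂ) : G → ℂ :=
  ∑ α ∈ R, classInner v α • α

theorem proj_def (R : Finset (G → ℂ)) (v : G → ℂ) : proj R v = ∑ α ∈ R, classInner v α • α := rfl

theorem ci_proj_left (R : Finset (G → ℂ)) (v w : G → ℂ) :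
    classInner (proj R v) w = ∑ α ∈ R, classInner v α * classInner α w := by
  rw [proj_def, ci_sum_left]
  exact Finset.sum_congr rfl (fun α _ => ci_smul_left _ _ _)

open Classical in
theorem ci_proj_mem {R : Finset (G → ℂ)}
    (hR : ∀ α ∈ R, ∀ β ∈ R, classInner α β = if α = β then 1 else 0) (v : G → ℂ)
    {β : G → ℂ} (hβ : β ∈ R) : classInner (proj R v) β = classInner v β := by
  rw [ci_proj_left, Finset.sum_eq_single β]
  · rw [hR β hβ β hβ, if_pos rfl, mul_one]
  · intro α hα hne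
    rw [hR α hα β hβ, if_neg hne, mul_zero]
  · intro h; exact absurd hβ h

theorem ci_proj_self_right (R : Finset (G → ℂ)) (v : G → ℂ) :
    classInner (proj R v) v = ((∑ α ∈ R, ‖classInner v α‖ ^ 2 : ℝ) : ℂ) := by
  rw [ci_proj_left]
  push_cast
  refine Finset.sum_congr rfl (fun α _ => ?_)
  rw [← ci_conj_symm v α, Complex.mul_conj, Complex.normSq_eq_norm_sq]
  push_cast
  rfl

theorem ci_self_proj (R : Finset (G → ℂ)) (v : G → ℂ) :
    classInner v (proj R v) = ((∑ α ∈ R, ‖classInner v α‖ ^ 2 : ℝ) : ℂ) := by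
  rw [← ci_conj_symm, ci_proj_self_right, Complex.conj_ofReal]

open Classical in
theorem ci_proj_proj {R : Finset (G → ℂ)}
    (hR : ∀ α ∈ R, ∀ β ∈ R, classInner α β = if α = β then 1 else 0) (v : G → ℂ) :
    classInner (proj R v) (proj R v) = ((∑ α ∈ R, ‖classInner v α‖ ^ 2 : ℝ) : ℂ) := by
  rw [ci_proj_left]
  push_cast
  refine Finset.sum_congr rfl (fun α hα => ?_)
  rw [← ci_conj_symm (proj R v) α, ci_proj_mem hR v hα, Complex.mul_conj,
    Complex.normSq_eq_norm_sq]
  push_cast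
  rfl

open Classical in
theorem ci_sub_proj {R : Finset (G → ℂ)}
    (hR : ∀ α ∈ R, ∀ β ∈ R, classInner α β = if α = β then 1 else 0) (v : G → ℂ) :
    classInner (proj R v - v) (proj R v - v) =
      classInner v v - ((∑ α ∈ R, ‖classInner v α‖ ^ 2 : ℝ) : ℂ) := by
  rw [ci_sub_left, ci_sub_right, ci_sub_right, ci_proj_proj hR, ci_proj_self_right, ci_self_proj]
  ring

open Classical in
/-- Bessel's inequality. -/
theorem bessel {R : Finset (G → ℂ)}
    (hR : ∀ α ∈ R, ∀ β ∈ R, classInner α β = if α = β then 1 else 0) (v : G → ℂ) :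
    ∑ α ∈ R, ‖classInner v α‖ ^ 2 ≤ (classInner v v).re := by
  have h := ci_self_re_nonneg (proj R v - v)
  rw [ci_sub_proj hR, Complex.sub_re, Complex.ofReal_re] at h
  linarith

end bessel

end Cfsg.Agent.OddOrderCharacters.CoherenceExt
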