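import Cfsg.Agent.OddOrderCharacters.CoherenceStep

/-!
# The main step of the coherence extension criterion
-/

set_option autoImplicit false

open scoped ComplexConjugate
open Cfsg Cfsg.Agent.OddOrderCharacters.InnerLite Cfsg.Agent.OddOrderCharacters.CoherenceExt
open Cfsg.Agent.OddOrderCharacters.CoherenceStep

namespace Cfsg.Agent.OddOrderCharacters.CoherenceMain

variable {L : Type*} [Group L] [Fintype L] {G : Type*} [Group G] [Fintype G]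
variable {S : Set (L → ℂ)} {τ : (L → ℂ) → (G → ℂ)} {R : (L → ℂ) → Finset (G → ℂ)}

theorem main_step (hS : IsCoherenceSystem S τ R) (d n : (L → ℂ) → ℕ)
    (hd : ∀ φ ∈ S, φ 1 = (d φ : ℂ)) (hn : ∀ φ ∈ S, classInner φ φ = (n φ : ℂ))
    (S₁ : Finset (L → ℂ)) (hS₁ : ↑S₁ ⊆ S) (hS₁c : ∀ φ ∈ S₁, conjFun φ ∈ S₁)
    {τ₁ : (L → ℂ) → (G → ℂ)} (hτ₁ : IsLinearIsometryOn (zspan (S₁ : Set (L → ℂ))) τ₁)
    (hext : ∀ α ∈ zspanOn (S₁ : Set (L → ℂ)) {1}ᶜ, τ₁ α = τ α)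
    (χ : L → ℂ) (hχ : χ ∈ S) (hχ₁ : χ ∉ S₁) (hχ₂ : conjFun χ ∉ S₁) (χ₁ : L → ℂ)
    (hχ₁S : χ₁ ∈ S₁) (a : ℕ) (ha : d χ = d χ₁ * a)
    (hineq : (2 * d χ * d χ₁ : ℝ) < ∑ φ ∈ S₁, ((d φ : ℝ) ^ 2 / (n φ : ℝ))) :
    proj (R χ) (τ (χ - a • χ₁)) = τ (χ - a • χ₁) + a • τ₁ χ₁ ∧
      classInner (proj (R χ) (τ (χ - a • χ₁))) (proj (R χ) (τ (χ - a • χ₁))) = n χ := by
  classical
  have hcχ : conjFun χ ∈ S := hS.conj_mem χ hχ
  have hneχ : χ ≠ conjFun χ := fun h => hS.conj_ne χ hχ h.symm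
  have hχ₁' : χ₁ ∈ S := hS₁ hχ₁S
  -- orthogonality relations
  have oχ : ∀ ξ ∈ S₁, classInner ξ χ = 0 := fun ξ hξ =>
    hS.orthogonal ξ (hS₁ hξ) χ hχ (fun h => hχ₁ (h ▸ hξ))
  have oχc : ∀ ξ ∈ S₁, classInner ξ (conjFun χ) = 0 := fun ξ hξ =>
    hS.orthogonal ξ (hS₁ hξ) _ hcχ (fun h => hχ₂ (h ▸ hξ))
  have oχ' : ∀ ξ ∈ S₁, classInner χ ξ = 0 := fun ξ hξ => by
    rw [← ci_conj_symm, oχ ξ hξ, map_zero]
  have oχc' : ∀ ξ ∈ S₁, classInner (conjFun χ) ξ = 0 := fun ξ hξ => by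
    rw [← ci_conj_symm, oχc ξ hξ, map_zero]
  -- degrees
  have hd1 : (d χ₁ : ℝ) ≠ 0 := by
    have := one_ne_zero_of_mem hS hχ₁'
    rw [hd _ hχ₁'] at this
    exact_mod_cast this
  have hnpos : ∀ φ ∈ S, (n φ : ℂ) ≠ 0 := fun φ hφ => by
    rw [← hn φ hφ]; exact ci_self_ne (ne_zero_of_mem hS hφ)
  -- the vector v
  have hmv : χ - a • χ₁ ∈ zspanOn S {1}ᶜ := by
    refine ⟨zs_sub (zs_mem hχ) (zs_nsmul a (zs_mem hχ₁')), fun x hx => ?_⟩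
    have hx1 : x = 1 := by simpa using hx
    subst hx1
    rw [Pi.sub_apply, Pi.smul_apply, hd χ hχ, hd χ₁ hχ₁', ha]
    push_cast
    simp [mul_comm]
  have hmδ : χ - conjFun χ ∈ zspanOn S {1}ᶜ := conj_sub_mem hS (hd χ hχ) hχ hcχ
  set v := τ (χ - a • χ₁) with hv
  set X := proj (R χ) v with hX
  have hR := hS.orthonormal χ hχ
  -- Peterfalvi (5.4)
  have hA := Cfsg.Agent.S1515.result S τ R hS χ hχ (a • χ₁) (zs_nsmul a (zs_mem hχ₁'))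
    (by rw [ci_nsmul_right, oχ' χ₁ hχ₁S, mul_zero]) (by rw [ci_nsmul_right, oχc' χ₁ hχ₁S, mul_zero])
    τ (io_mono hS.isometry (zo_span (by
      intro x hx
      rcases hx with rfl | hx
      · exact hmv
      · rw [Set.mem_singleton_iff] at hx; rw [hx]; exact hmδ))) (fun _ => rfl)
  have hA1 : (n χ : ℝ) ≤ ∑ α ∈ R χ, ‖classInner v α‖ ^ 2 := by
    have := hA.1
    rwa [hn χ hχ, Complex.natCast_re] at this
  set P : ℝ := ∑ α ∈ R χ, ‖classInner v α‖ ^ 2 with hP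
  have hXX : classInner X X = (P : ℂ) := ci_proj_proj hR v
  have hvv : classInner v v = ((n χ + a ^ 2 * n χ₁ : ℝ) : ℂ) := by
    rw [hv, hS.isometry.2.2.1 _ hmv _ hmv, ci_sub_left, ci_sub_right, ci_sub_right,
      ci_nsmul_left, ci_nsmul_left, ci_nsmul_right, ci_nsmul_right, oχ' χ₁ hχ₁S, oχ χ₁ hχ₁S,
      hn χ hχ, hn χ₁ hχ₁']
    push_cast
    ring
  set Y := X - v with hY
  have hYY : classInner Y Y = ((n χ + a ^ 2 * n χ₁ - P : ℝ) : ℂ) := by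
    rw [hY, hX, ci_sub_proj hR, hvv, ← hP, ← Complex.ofReal_sub]
  -- orthogonality of `X` to the image of `S₁`
  have hτ₁c : ∀ ξ ∈ S₁, τ₁ (ξ - conjFun ξ) = τ (ξ - conjFun ξ) := fun ξ hξ =>
    hext _ (conj_sub_mem hS (hd ξ (hS₁ hξ)) hξ (hS₁c ξ hξ))
  have hort : ∀ ξ ∈ S₁, ∀ β ∈ R χ, classInner (τ₁ ξ) β = 0 := fun ξ hξ =>
    map_orthogonal hS (hS₁ hξ) hχ (oχ ξ hξ) (oχc ξ hξ) (T := (S₁ : Set (L → ℂ))) hξ (hS₁c ξ hξ)
      hτ₁ (hτ₁c ξ hξ)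
  have hXξ : ∀ ξ ∈ S₁, classInner X (τ₁ ξ) = 0 := by
    intro ξ hξ
    rw [hX, ci_proj_left]
    refine Finset.sum_eq_zero (fun α hα => ?_)
    rw [← ci_conj_symm (τ₁ ξ) α, hort ξ hξ α hα, map_zero, mul_zero]
  -- the integer lambda
  obtain ⟨b₁, hb₁⟩ : ∃ b : ℤ, classInner Y (τ₁ χ₁) = b := by
    have hg := ci_gen_int (hS.isometry.2.2.2 _ hmv) (hτ₁.2.2.2 _ (zs_mem hχ₁S))
    obtain ⟨m, hm⟩ := hg
    refine ⟨-m, ?_⟩
    rw [hY, ci_sub_left, hXξ χ₁ hχ₁S, zero_sub, hv, hm]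
    push_cast
    rfl
  set lam : ℤ := a * n χ₁ - b₁ with hlam
  have hb : ∀ ξ ∈ S₁, (d χ₁ : ℂ) * classInner Y (τ₁ ξ) =
      -(d ξ : ℂ) * lam + a * d χ₁ * classInner χ₁ ξ := by
    intro ξ hξ
    have hmem : d ξ • χ₁ - d χ₁ • ξ ∈ zspanOn (S₁ : Set (L → ℂ)) {1}ᶜ := by
      refine ⟨zs_sub (zs_nsmul _ (zs_mem hχ₁S)) (zs_nsmul _ (zs_mem hξ)), fun x hx => ?_⟩
      have hx1 : x = 1 := by simpa using hx
      subst hx1
      rw [Pi.sub_apply, Pi.smul_apply, Pi.smul_apply, hd χ₁ hχ₁', hd ξ (hS₁ hξ)]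
      simp [mul_comm]
    have hmem' : d ξ • χ₁ - d χ₁ • ξ ∈ zspanOn S {1}ᶜ := zo_mono hS₁ hmem
    have e1 : classInner v (τ₁ (d ξ • χ₁ - d χ₁ • ξ)) =
        -(a : ℂ) * d ξ * n χ₁ + a * d χ₁ * classInner χ₁ ξ := by
      rw [hext _ hmem, hv, hS.isometry.2.2.1 _ hmv _ hmem', ci_sub_left, ci_sub_right,
        ci_sub_right, ci_nsmul_left, ci_nsmul_left, ci_nsmul_right, ci_nsmul_right,
        ci_nsmul_right, ci_nsmul_right, oχ' χ₁ hχ₁S, oχ' ξ hξ, hn χ₁ hχ₁']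
      ring
    have e2 : τ₁ (d ξ • χ₁ - d χ₁ • ξ) = d ξ • τ₁ χ₁ - d χ₁ • τ₁ ξ := by
      rw [io_sub hτ₁ (fun a ha n => zs_zsmul n ha) (zs_nsmul _ (zs_mem hχ₁S))
        (zs_nsmul _ (zs_mem hξ)), io_nsmul hτ₁ (zs_mem hχ₁S), io_nsmul hτ₁ (zs_mem hξ)]
    rw [e2, ci_sub_right, ci_nsmul_right, ci_nsmul_right] at e1
    have e3 : classInner v (τ₁ ξ) = - classInner Y (τ₁ ξ) := by
      rw [hY, ci_sub_left, hXξ ξ hξ]; ring
    have e4 : classInner v (τ₁ χ₁) = - (b₁ : ℂ) := by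
      rw [← hb₁, hY, ci_sub_left, hXξ χ₁ hχ₁S]; ring
    rw [e3, e4] at e1
    rw [hlam]
    push_cast
    linear_combination e1
  -- the auxiliary vector T
  set D : ℝ := ∑ φ ∈ S₁, ((d φ : ℝ) ^ 2 / (n φ : ℝ)) with hD
  set T : G → ℂ := ∑ ξ ∈ S₁, ((d ξ : ℂ) / n ξ) • τ₁ ξ with hT
  have hττ : ∀ ξ ∈ S₁, ∀ η ∈ S₁, classInner (τ₁ ξ) (τ₁ η) = classInner ξ η := fun ξ hξ η hη =>
    hτ₁.2.2.1 _ (zs_mem hξ) _ (zs_mem hη)
  have hconjr : ∀ ξ : L → ℂ, conj ((d ξ : ℂ) / n ξ) = (d ξ : ℂ) / n ξ := fun ξ => by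
    rw [map_div₀, map_natCast, map_natCast]
  have hξT : ∀ ξ ∈ S₁, classInner (τ₁ ξ) T = d ξ := by
    intro ξ hξ
    rw [hT, ci_sum_right, Finset.sum_eq_single ξ]
    · rw [ci_smul_right, hconjr, hττ ξ hξ ξ hξ, hn ξ (hS₁ hξ),
        div_mul_cancel₀ _ (hnpos ξ (hS₁ hξ))]
    · intro η hη hne
      rw [ci_smul_right, hττ ξ hξ η hη, hS.orthogonal ξ (hS₁ hξ) η (hS₁ hη) hne.symm, mul_zero]
    · intro h; exact absurd hξ h
  have hDc : (D : ℂ) = ∑ ξ ∈ S₁, (d ξ : ℂ) ^ 2 / n ξ := by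
    rw [hD]; push_cast; rfl
  have hTT : classInner T T = (D : ℂ) := by
    conv_lhs => rw [hT]
    rw [← hT, ci_sum_left, hDc]
    refine Finset.sum_congr rfl (fun ξ hξ => ?_)
    rw [ci_smul_left, hξT ξ hξ]
    ring
  have hYT : (d χ₁ : ℂ) * classInner Y T = -(lam : ℂ) * D + a * d χ₁ * d χ₁ := by
    have e : ∀ ξ ∈ S₁, (d χ₁ : ℂ) * classInner Y (((d ξ : ℂ) / n ξ) • τ₁ ξ) =
        -(lam : ℂ) * ((d ξ : ℂ) ^ 2 / n ξ) + (a * d χ₁) * (((d ξ : ℂ) / n ξ) * classInner χ₁ ξ) := by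
      intro ξ hξ
      rw [ci_smul_right, hconjr]
      have := hb ξ hξ
      linear_combination ((d ξ : ℂ) / n ξ) * this
    rw [hT, ci_sum_right, Finset.mul_sum, Finset.sum_congr rfl e, Finset.sum_add_distrib,
      ← Finset.mul_sum, ← Finset.mul_sum, ← hDc]
    congr 1
    congr 1
    rw [Finset.sum_eq_single χ₁]
    · rw [hn χ₁ hχ₁', div_mul_cancel₀ _ (hnpos χ₁ hχ₁')]
    · intro ξ hξ hne
      rw [hS.orthogonal χ₁ hχ₁' ξ (hS₁ hξ) hne.symm, mul_zero]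
    · intro h; exact absurd hχ₁S h
  have hTY : (d χ₁ : ℂ) * classInner T Y = -(lam : ℂ) * D + a * d χ₁ * d χ₁ := by
    have := congrArg (starRingEnd ℂ) hYT
    rw [map_mul, ci_conj_symm, map_natCast] at this
    rw [this]
    simp
  have hTξ : classInner T (τ₁ χ₁) = d χ₁ := by
    rw [← ci_conj_symm, hξT χ₁ hχ₁S, map_natCast]
  have hY1 : classInner (τ₁ χ₁) Y = b₁ := by
    rw [← ci_conj_symm, hb₁]; simp
  -- the vector W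
  set W : G → ℂ := (d χ₁ : ℂ) • Y - ((a : ℂ) * d χ₁) • τ₁ χ₁ + (lam : ℂ) • T with hW
  have h11 : classInner (τ₁ χ₁) (τ₁ χ₁) = n χ₁ := by
    rw [hττ χ₁ hχ₁S χ₁ hχ₁S, hn χ₁ hχ₁']
  have hWW : classInner W W = (((d χ₁ : ℝ) ^ 2 * (n χ + a ^ 2 * n χ₁ - P) -
      a ^ 2 * d χ₁ ^ 2 * n χ₁ - lam ^ 2 * D + 2 * a * d χ₁ ^ 2 * lam : ℝ) : ℂ) := by
    have hbl : (b₁ : ℂ) = a * n χ₁ - lam := by
      rw [hlam]; push_cast; ring
    have hcc : ∀ z : ℤ, conj ((z : ℤ) : ℂ) = z := fun z => by simp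
    rw [hW]
    simp only [ci_add_left, ci_sub_left, ci_add_right, ci_sub_right, ci_smul_left, ci_smul_right,
      map_mul, map_natCast, hcc, hYY, hb₁, hY1, h11, hTξ, hξT χ₁ hχ₁S, hTT, hbl]
    push_cast
    linear_combination (lam : ℂ) * hYT + (lam : ℂ) * hTY
  have hWnn := ci_self_re_nonneg W
  rw [hWW, Complex.ofReal_re] at hWnn
  have hd1sq : (0 : ℝ) < (d χ₁ : ℝ) ^ 2 := by positivity
  have hlam0 : lam = 0 := by
    refine int_eq_zero (K := 2 * a * d χ₁ ^ 2) (D := D) (by positivity) ?_ ?_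
    · calc (2 * a * d χ₁ ^ 2 : ℝ) = 2 * d χ * d χ₁ := by rw [ha]; push_cast; ring
        _ < D := hineq
    · nlinarith [mul_nonneg hd1sq.le (sub_nonneg.mpr hA1)]
  rw [hlam0] at hWnn
  have hPn : P = n χ := by
    apply le_antisymm _ hA1
    have h : (0 : ℝ) ≤ (d χ₁ : ℝ) ^ 2 * (n χ - P) := by
      have := hWnn
      push_cast at this
      nlinarith
    by_contra hcon
    push Not at hcon
    nlinarith
  have hW0 : W = 0 := by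
    apply eq_zero_of_ci_self_re_le
    rw [hWW, Complex.ofReal_re, hlam0, hPn]
    push_cast
    nlinarith
  have hYeq : Y = a • τ₁ χ₁ := by
    have h1 : (d χ₁ : ℂ) • (Y - (a : ℂ) • τ₁ χ₁) = 0 := by
      rw [← hW0, hW, hlam0, smul_sub, smul_smul, mul_comm (a : ℂ)]
      simp
    have hd1c : (d χ₁ : ℂ) ≠ 0 := by exact_mod_cast hd1
    have h2 := (smul_eq_zero.mp h1).resolve_left hd1c
    rw [sub_eq_zero] at h2
    rw [h2]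
    ext g
    simp
  constructor
  · have : X = v + Y := by rw [hY]; abel
    rw [this, hYeq]
  · rw [hXX, hPn]
    simp

end Cfsg.Agent.OddOrderCharacters.CoherenceMain
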