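import Mathlib
import Cfsg.Agent.OddOrderCharacters.PFDefs
import Cfsg.Agent.Characters.Core
import Cfsg.Agent.OddOrderCharacters.PF3bBasic

/-!
# Peterfalvi §3: linear characters of `W = W₁ × W₂`, the index sets `lin₁`, `lin₂`, column sums
-/

set_option autoImplicit false
open Cfsg
open scoped ComplexConjugate
open Cfsg.Agent.OddOrderCharacters.PFDefs
open Cfsg.Agent.Characters.Core

namespace Cfsg.Agent.OddOrderCharacters.PF3bLin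

variable {G : Type*} [Group G] {W W₁ W₂ : Subgroup G}

section lin

theorem mem_lin₁ {φ : ↥W →* ℂˣ} : φ ∈ lin₁ W W₂ ↔ ∀ w : ↥W, (w : G) ∈ W₂ → φ w = 1 := Iff.rfl
theorem one_mem : (1 : ↥W →* ℂˣ) ∈ lin₁ W W₂ := PF3bBasic.one_mem_lin₁ W₂
theorem mul_mem {φ ψ : ↥W →* ℂˣ} (hφ : φ ∈ lin₁ W W₂) (hψ : ψ ∈ lin₁ W W₂) :
    φ * ψ ∈ lin₁ W W₂ := PF3bBasic.mul_mem_lin₁ hφ hψ
theorem inv_mem {φ : ↥W →* ℂˣ} (hφ : φ ∈ lin₁ W W₂) : φ⁻¹ ∈ lin₁ W W₂ :=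
  PF3bBasic.inv_mem_lin₁ hφ
theorem pow_mem {φ : ↥W →* ℂˣ} (hφ : φ ∈ lin₁ W W₂) (n : ℕ) : φ ^ n ∈ lin₁ W W₂ :=
  (PF3bBasic.lin₁Sub W W₂).pow_mem hφ n
theorem mul_mem_cancel_right {φ ψ : ↥W →* ℂˣ} (hψ : ψ ∈ lin₁ W W₂) :
    φ * ψ ∈ lin₁ W W₂ ↔ φ ∈ lin₁ W W₂ :=
  (PF3bBasic.lin₁Sub W W₂).mul_mem_cancel_right hψ
/-- "same index `j`": equal restrictions to `W₂` -/
theorem mul_inv_mem_iff {ω ω' : ↥W →* ℂˣ} :
    ω * ω'⁻¹ ∈ lin₁ W W₂ ↔ ∀ w : ↥W, (w : G) ∈ W₂ → ω w = ω' w :=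
  PF3bBasic.mul_inv_mem_lin₁_iff
theorem exists_mul_eq_of_congr {ω ω' : ↥W →* ℂˣ} (h : ∀ w : ↥W, (w : G) ∈ W₂ → ω w = ω' w) :
    ∃ φ ∈ lin₁ W W₂, φ * ω' = ω :=
  ⟨ω * ω'⁻¹, mul_inv_mem_iff.mpr h, inv_mul_cancel_right ω ω'⟩
theorem congr_of_mul {φ ω : ↥W →* ℂˣ} (hφ : φ ∈ lin₁ W W₂) :
    ∀ w : ↥W, (w : G) ∈ W₂ → (φ * ω) w = ω w := by
  intro w hw
  rw [MonoidHom.mul_apply, hφ w hw, one_mul]

variable (h : CyclicTIHyp W W₁ W₂)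
include h

theorem eq_one {φ : ↥W →* ℂˣ} (h1 : φ ∈ lin₁ W W₂) (h2 : φ ∈ lin₁ W W₁) : φ = 1 :=
  PF3bBasic.eq_one_of_mem_lin h h2 h1
theorem mul_eq_mul_iff {φ φ' ψ ψ' : ↥W →* ℂˣ} (hφ : φ ∈ lin₁ W W₂) (hφ' : φ' ∈ lin₁ W W₂)
    (hψ : ψ ∈ lin₁ W W₁) (hψ' : ψ' ∈ lin₁ W W₁) : φ * ψ = φ' * ψ' ↔ φ = φ' ∧ ψ = ψ' :=
  PF3bBasic.mul_eq_mul_iff h hφ hφ' hψ hψ'
/-- every linear character is `ω_ij` for some `i`, `j` -/
theorem exists_mul_eq (ω : ↥W →* ℂˣ) : ∃ φ ∈ lin₁ W W₂, ∃ ψ ∈ lin₁ W W₁, φ * ψ = ω :=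
  PF3bBasic.exists_mul_eq h ω
theorem finite_hom [Finite G] : Finite (↥W →* ℂˣ) := PF3bBasic.finite_hom h
theorem card_hom [Finite G] : Nat.card (↥W →* ℂˣ) = Nat.card W := PF3bBasic.card_hom h
theorem ncard_lin₁ [Finite G] : (lin₁ W W₂).ncard = Nat.card W₁ := PF3bBasic.ncard_lin₁ h
theorem ncard_lin₂ [Finite G] : (lin₁ W W₁).ncard = Nat.card W₂ :=
  PF3bBasic.ncard_lin₁ (PF3bBasic.hyp_symm h)
theorem pow_card₁ {φ : ↥W →* ℂˣ} [Finite G] (hφ : φ ∈ lin₁ W W₂) : φ ^ Nat.card W₁ = 1 := by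
  have h1 := pow_card_eq_one' (x := (⟨φ, hφ⟩ : PF3bBasic.lin₁Sub W W₂))
  rw [PF3bBasic.natCard_lin₁Sub h] at h1
  exact congrArg Subtype.val h1
theorem pow_card₂ {ψ : ↥W →* ℂˣ} [Finite G] (hψ : ψ ∈ lin₁ W W₁) : ψ ^ Nat.card W₂ = 1 :=
  pow_card₁ (PF3bBasic.hyp_symm h) hψ
theorem pow_card {ω : ↥W →* ℂˣ} [Finite G] : ω ^ Nat.card W = 1 := by
  have := finite_hom h
  rw [← card_hom h]
  exact pow_card_eq_one' (G := ↥W →* ℂˣ)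
theorem eq_one_on₁ [Finite G] {w : ↥W} (hw : ∀ φ ∈ lin₁ W W₂, φ w = 1) : (w : G) ∈ W₂ := by
  by_contra hcon
  obtain ⟨φ, hφ, hne⟩ := PF3bBasic.exists_lin₁_ne_one h W₂ hcon
  exact hne (hw φ hφ)
theorem exists_ne_one₁ [Finite G] : ∃ φ ∈ lin₁ W W₂, φ ≠ 1 := by
  obtain ⟨v, hv⟩ := PF3bBasic.cycTIset_nonempty h
  obtain ⟨φ, hφ, hne⟩ := PF3bBasic.exists_lin₁_ne_one h W₂ (w := (⟨v, hv.1⟩ : ↥W))
    (fun h2 => hv.2 (Or.inr h2))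
  refine ⟨φ, hφ, ?_⟩
  rintro rfl
  exact hne rfl
theorem exists_ne_one₂ [Finite G] : ∃ ψ ∈ lin₁ W W₁, ψ ≠ 1 := exists_ne_one₁ (PF3bBasic.hyp_symm h)
theorem exists_ne_ne₁ [Finite G] (a b : ↥W →* ℂˣ) : ∃ φ ∈ lin₁ W W₂, φ ≠ a ∧ φ ≠ b := by
  classical
  by_contra hcon
  push Not at hcon
  have h1 : lin₁ W W₂ ⊆ {a, b} := by
    intro φ hφ
    by_cases h1 : φ = a
    · exact Or.inl h1
    · exact Or.inr (hcon φ hφ h1)
  have h2 := Set.ncard_le_ncard h1 (Set.toFinite _)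
  have h3 : ({a, b} : Set (↥W →* ℂˣ)).ncard ≤ 2 := by
    have := Set.ncard_insert_le a {b}
    rw [Set.ncard_singleton] at this
    exact this
  have h4 := PF3bBasic.three_le₁ h
  rw [ncard_lin₁ h] at h2
  omega
theorem exists_ne_ne₂ [Finite G] (a b : ↥W →* ℂˣ) : ∃ ψ ∈ lin₁ W W₁, ψ ≠ a ∧ ψ ≠ b :=
  exists_ne_ne₁ (PF3bBasic.hyp_symm h) a b
/-- no nontrivial linear character of `W` is real -/
theorem inv_ne [Finite G] {ω : ↥W →* ℂˣ} (hω : ω ≠ 1) : ω⁻¹ ≠ ω := PF3bBasic.inv_ne_self h hω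
open Classical in
theorem finsum_lin₁ [Finite G] (w : ↥W) :
    ∑ᶠ φ ∈ lin₁ W W₂, (φ w : ℂ) = if (w : G) ∈ W₂ then (Nat.card W₁ : ℂ) else 0 :=
  PF3bBasic.finsum_lin₁_apply h w
/-- the pairs `(i, j)` -/
noncomputable def pairEquiv [Finite G] (h : CyclicTIHyp W W₁ W₂) :
    ↥(lin₁ W W₂) × ↥(lin₁ W W₁) ≃ (↥W →* ℂˣ) :=
  Equiv.ofBijective (fun p => (p.1 : ↥W →* ℂˣ) * p.2) (by
    constructor
    · rintro ⟨⟨φ, hφ⟩, ⟨ψ, hψ⟩⟩ ⟨⟨φ', hφ'⟩, ⟨ψ', hψ'⟩⟩ heq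
      obtain ⟨rfl, rfl⟩ := (mul_eq_mul_iff h hφ hφ' hψ hψ').mp heq
      rfl
    · intro ω
      obtain ⟨φ, hφ, ψ, hψ, rfl⟩ := exists_mul_eq h ω
      exact ⟨(⟨φ, hφ⟩, ⟨ψ, hψ⟩), rfl⟩)

omit h in
theorem pairEquiv_apply [Finite G] (h : CyclicTIHyp W W₁ W₂) (p : ↥(lin₁ W W₂) × ↥(lin₁ W W₁)) :
    pairEquiv h p = (p.1 : ↥W →* ℂˣ) * p.2 := rfl

theorem sum_prod [Finite G] [Fintype (↥W →* ℂˣ)] [Fintype ↥(lin₁ W W₂)] [Fintype ↥(lin₁ W W₁)]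
    {M : Type*} [AddCommMonoid M] (f : (↥W →* ℂˣ) → M) :
    ∑ ω, f ω = ∑ ψ : ↥(lin₁ W W₁), ∑ φ : ↥(lin₁ W W₂), f (φ * ψ) := by
  have h1 := Fintype.sum_equiv (pairEquiv h) (fun p => f ((p.1 : ↥W →* ℂˣ) * p.2)) f (fun p => rfl)
  rw [← h1, Fintype.sum_prod_type, Finset.sum_comm]

theorem finsum_prod [Finite G] {M : Type*} [AddCommMonoid M] (f : (↥W →* ℂˣ) → M) :
    ∑ᶠ ω, f ω = ∑ᶠ ψ ∈ lin₁ W W₁, ∑ᶠ φ ∈ lin₁ W W₂, f (φ * ψ) := by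
  classical
  have hf := finite_hom h
  let _ := Fintype.ofFinite (↥W →* ℂˣ)
  let _ : Fintype ↥(lin₁ W W₂) := Fintype.ofFinite _
  let _ : Fintype ↥(lin₁ W W₁) := Fintype.ofFinite _
  rw [finsum_eq_sum_of_fintype, sum_prod h, ← finsum_set_coe_eq_finsum_mem, finsum_eq_sum_of_fintype]
  refine Finset.sum_congr rfl fun ψ _ => ?_
  rw [← finsum_set_coe_eq_finsum_mem, finsum_eq_sum_of_fintype]

open Classical in
theorem sum_hom [Fintype (↥W →* ℂˣ)] [Finite G] (w : ↥W) :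
    ∑ ω : ↥W →* ℂˣ, (ω w : ℂ) = if w = 1 then (Nat.card W : ℂ) else 0 := by
  have h1 := finsum_prod h (fun ω : ↥W →* ℂˣ => (ω w : ℂ))
  rw [finsum_eq_sum_of_fintype] at h1
  rw [h1]
  have h2 : ∀ ψ ∈ lin₁ W W₁, ∑ᶠ φ ∈ lin₁ W W₂, ((φ * ψ) w : ℂ) =
      (if (w : G) ∈ W₂ then (Nat.card W₁ : ℂ) else 0) * (ψ w : ℂ) := by
    intro ψ _
    rw [← finsum_lin₁ h w, finsum_mem_mul]
    refine finsum_mem_congr rfl fun φ _ => ?_
    rw [MonoidHom.mul_apply, Units.val_mul]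
  rw [finsum_mem_congr rfl h2, ← mul_finsum_mem, finsum_lin₁ (PF3bBasic.hyp_symm h) w]
  by_cases hw1 : (w : G) ∈ W₁
  · by_cases hw2 : (w : G) ∈ W₂
    · have h3 : w = 1 := by
        have : (w : G) ∈ W₁ ⊓ W₂ := ⟨hw1, hw2⟩
        rw [PF3bBasic.inf_eq h, Subgroup.mem_bot] at this
        exact Subtype.ext this
      rw [if_pos hw2, if_pos hw1, if_pos h3, PF3bBasic.card_eq h, Nat.cast_mul]
    · have h3 : w ≠ 1 := by
        rintro rfl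
        exact hw2 W₂.one_mem
      rw [if_neg hw2, if_neg h3, zero_mul]
  · have h3 : w ≠ 1 := by
      rintro rfl
      exact hw1 W₁.one_mem
    rw [if_neg hw1, if_neg h3, mul_zero]

end lin

section colSum

variable {X : Type*}

theorem colSum_def (f : (↥W →* ℂˣ) → (X → ℂ)) (ω : ↥W →* ℂˣ) :
    colSum W W₂ f ω = ∑ᶠ φ ∈ lin₁ W W₂, f (φ * ω) := rfl

theorem colSum_mul_left (f : (↥W →* ℂˣ) → (X → ℂ)) {φ ω : ↥W →* ℂˣ} (hφ : φ ∈ lin₁ W W₂) :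
    colSum W W₂ f (φ * ω) = colSum W W₂ f ω := by
  show ∑ᶠ θ ∈ lin₁ W W₂, f (θ * (φ * ω)) = ∑ᶠ θ ∈ lin₁ W W₂, f (θ * ω)
  refine finsum_mem_eq_of_bijOn (fun θ => θ * φ) ?_ ?_
  · refine ⟨fun θ hθ => mul_mem hθ hφ, fun θ _ θ' _ h => mul_right_cancel h, fun θ hθ => ?_⟩
    exact ⟨θ * φ⁻¹, mul_mem hθ (inv_mem hφ), inv_mul_cancel_right θ φ⟩
  · intro θ _
    exact congrArg f (mul_assoc θ φ ω).symm

theorem colSum_congr (f : (↥W →* ℂˣ) → (X → ℂ)) {ω ω' : ↥W →* ℂˣ}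
    (hωω' : ∀ w : ↥W, (w : G) ∈ W₂ → ω w = ω' w) :
    colSum W W₂ f ω = colSum W W₂ f ω' := by
  obtain ⟨φ, hφ, rfl⟩ := exists_mul_eq_of_congr hωω'
  exact colSum_mul_left f hφ

variable (h : CyclicTIHyp W W₁ W₂) [Finite G]
include h

/-- the same column sum with a `Finset` sum -/
theorem colSum_eq_sum [Fintype ↥(lin₁ W W₂)] (f : (↥W →* ℂˣ) → (X → ℂ)) (ω : ↥W →* ℂˣ) :
    colSum W W₂ f ω = ∑ φ : ↥(lin₁ W W₂), f (φ * ω) := by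
  rw [colSum_def, ← finsum_set_coe_eq_finsum_mem, finsum_eq_sum_of_fintype]

theorem colSum_apply (f : (↥W →* ℂˣ) → (X → ℂ)) (ω : ↥W →* ℂˣ) (x : X) :
    colSum W W₂ f ω x = ∑ᶠ φ ∈ lin₁ W W₂, f (φ * ω) x := by
  have hf := finite_hom h
  let _ : Fintype ↥(lin₁ W W₂) := Fintype.ofFinite _
  rw [colSum_eq_sum h, Finset.sum_apply, ← finsum_set_coe_eq_finsum_mem, finsum_eq_sum_of_fintype]

/-- a column sum of a constant family -/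
theorem colSum_apply_const (f : (↥W →* ℂˣ) → (X → ℂ)) (ω : ↥W →* ℂˣ) (x : X) (c : ℂ)
    (hc : ∀ φ ∈ lin₁ W W₂, f (φ * ω) x = c) : colSum W W₂ f ω x = (Nat.card W₁ : ℂ) * c := by
  have hf := finite_hom h
  let _ : Fintype ↥(lin₁ W W₂) := Fintype.ofFinite _
  have hc' : ∀ φ : ↥(lin₁ W W₂), f ((φ : ↥W →* ℂˣ) * ω) x = c := fun φ => hc φ φ.2
  rw [colSum_eq_sum h, Finset.sum_apply, Finset.sum_congr rfl (fun φ _ => hc' φ),
    Finset.sum_const, Finset.card_univ, ← Nat.card_eq_fintype_card, Nat.card_coe_set_eq,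
    ncard_lin₁ h, nsmul_eq_mul]

theorem colSum_add (f f' : (↥W →* ℂˣ) → (X → ℂ)) (ω : ↥W →* ℂˣ) :
    colSum W W₂ (f + f') ω = colSum W W₂ f ω + colSum W W₂ f' ω := by
  have hf := finite_hom h
  let _ : Fintype ↥(lin₁ W W₂) := Fintype.ofFinite _
  rw [colSum_eq_sum h, colSum_eq_sum h, colSum_eq_sum h, ← Finset.sum_add_distrib]
  rfl

theorem colSum_smul (f : (↥W →* ℂˣ) → (X → ℂ)) (c : ℂ) (ω : ↥W →* ℂˣ) :
    colSum W W₂ (c • f) ω = c • colSum W W₂ f ω := by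
  have hf := finite_hom h
  let _ : Fintype ↥(lin₁ W W₂) := Fintype.ofFinite _
  rw [colSum_eq_sum h, colSum_eq_sum h, Finset.smul_sum]
  rfl

end colSum

section inner

variable {L : Type*} [Group L] [Fintype L] [Finite G] (h : CyclicTIHyp W W₁ W₂)
  {f : (↥W →* ℂˣ) → (L → ℂ)}
include h

theorem classInner_colSum_left (ω : ↥W →* ℂˣ) (ψ : L → ℂ) :
    classInner (colSum W W₂ f ω) ψ = ∑ᶠ φ ∈ lin₁ W W₂, classInner (f (φ * ω)) ψ := by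
  have hf := finite_hom h
  let _ : Fintype ↥(lin₁ W W₂) := Fintype.ofFinite _
  rw [colSum_eq_sum h, classInner_sum_left, ← finsum_set_coe_eq_finsum_mem,
    finsum_eq_sum_of_fintype]

theorem classInner_colSum_right (ω : ↥W →* ℂˣ) (ψ : L → ℂ) :
    classInner ψ (colSum W W₂ f ω) = ∑ᶠ φ ∈ lin₁ W W₂, classInner ψ (f (φ * ω)) := by
  have hf := finite_hom h
  let _ : Fintype ↥(lin₁ W W₂) := Fintype.ofFinite _
  rw [colSum_eq_sum h, classInner_sum_right, ← finsum_set_coe_eq_finsum_mem,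
    finsum_eq_sum_of_fintype]

variable (horth : ∀ ω ω', classInner (f ω) (f ω') =
    @ite ℂ (ω = ω') (Classical.propDecidable (ω = ω')) 1 0)
include horth

open Classical in
theorem classInner_colSum_single (ω ω' : ↥W →* ℂˣ) :
    classInner (colSum W W₂ f ω) (f ω') =
      if (∀ w : ↥W, (w : G) ∈ W₂ → ω w = ω' w) then 1 else 0 := by
  have hf := finite_hom h
  let _ : Fintype ↥(lin₁ W W₂) := Fintype.ofFinite _
  rw [colSum_eq_sum h, classInner_sum_left]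
  split_ifs with hc
  · have hc' : ∀ w : ↥W, (w : G) ∈ W₂ → ω' w = ω w := fun w hw => (hc w hw).symm
    rw [Finset.sum_eq_single (⟨ω' * ω⁻¹, mul_inv_mem_iff.mpr hc'⟩ : ↥(lin₁ W W₂))]
    · have e : (ω' * ω⁻¹) * ω = ω' := inv_mul_cancel_right ω' ω
      rw [horth]
      exact if_pos e
    · intro φ _ hne
      rw [horth, if_neg]
      intro heq
      apply hne
      apply Subtype.ext
      show (φ : ↥W →* ℂˣ) = ω' * ω⁻¹
      refine (mul_inv_cancel_right (φ : ↥W →* ℂˣ) ω).symm.trans ?_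
      exact congrArg (fun t => t * ω⁻¹) heq
    · intro hcon
      exact absurd (Finset.mem_univ _) hcon
  · refine Finset.sum_eq_zero fun φ _ => ?_
    rw [horth, if_neg]
    rintro rfl
    apply hc
    intro w hw
    exact (congr_of_mul φ.2 w hw).symm

open Classical in
theorem classInner_single_colSum (ω ω' : ↥W →* ℂˣ) :
    classInner (f ω') (colSum W W₂ f ω) =
      if (∀ w : ↥W, (w : G) ∈ W₂ → ω w = ω' w) then 1 else 0 := by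
  rw [← classInner_conj_symm, classInner_colSum_single h horth]
  split_ifs <;> simp

open Classical in
theorem classInner_colSum_colSum (ω ω' : ↥W →* ℂˣ) :
    classInner (colSum W W₂ f ω) (colSum W W₂ f ω') =
      if (∀ w : ↥W, (w : G) ∈ W₂ → ω w = ω' w) then (Nat.card W₁ : ℂ) else 0 := by
  have hf := finite_hom h
  let _ : Fintype ↥(lin₁ W W₂) := Fintype.ofFinite _
  rw [colSum_eq_sum h f ω', classInner_sum_right]
  have h1 : ∀ φ : ↥(lin₁ W W₂), classInner (colSum W W₂ f ω) (f (φ * ω')) =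
      if (∀ w : ↥W, (w : G) ∈ W₂ → ω w = ω' w) then 1 else 0 := by
    intro φ
    rw [classInner_colSum_single h horth]
    have : (∀ w : ↥W, (w : G) ∈ W₂ → ω w = ((φ : ↥W →* ℂˣ) * ω') w) ↔
        ∀ w : ↥W, (w : G) ∈ W₂ → ω w = ω' w := by
      refine forall_congr' fun w => ⟨fun h1 hw => ?_, fun h1 hw => ?_⟩
      · rw [h1 hw, congr_of_mul φ.2 w hw]
      · rw [h1 hw, congr_of_mul φ.2 w hw]
    simp only [this]
  rw [Finset.sum_congr rfl fun φ _ => h1 φ, Finset.sum_const, Finset.card_univ,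
    ← Nat.card_eq_fintype_card, Nat.card_coe_set_eq, ncard_lin₁ h, nsmul_eq_mul]
  split_ifs <;> simp

theorem classInner_colSum_self (ω : ↥W →* ℂˣ) :
    classInner (colSum W W₂ f ω) (colSum W W₂ f ω) = (Nat.card W₁ : ℂ) := by
  rw [classInner_colSum_colSum h horth, if_pos fun _ _ => rfl]

/-- a column sum against a row sum -/
theorem classInner_colSum_rowSum (ω ω' : ↥W →* ℂˣ) :
    classInner (colSum W W₂ f ω) (colSum W W₁ f ω') = 1 := by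
  classical
  have hf := finite_hom h
  let _ : Fintype ↥(lin₁ W W₁) := Fintype.ofFinite _
  rw [colSum_eq_sum (PF3bBasic.hyp_symm h) f ω', classInner_sum_right]
  -- `ω = φ₁ ψ₁`, `ω' = φ₂ ψ₂`; the common entry is `φ₂ ψ₁`
  obtain ⟨φ₁, hφ₁, ψ₁, hψ₁, rfl⟩ := exists_mul_eq h ω
  obtain ⟨φ₂, hφ₂, ψ₂, hψ₂, rfl⟩ := exists_mul_eq h ω'
  rw [Finset.sum_eq_single (⟨ψ₁ * ψ₂⁻¹, mul_mem hψ₁ (inv_mem hψ₂)⟩ : ↥(lin₁ W W₁))]
  · rw [classInner_colSum_single h horth, if_pos]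
    intro w hw
    simp only [MonoidHom.mul_apply, MonoidHom.inv_apply]
    rw [hφ₁ w hw, hφ₂ w hw]
    simp
  · rintro ⟨ψ, hψ⟩ _ hne
    rw [classInner_colSum_single h horth, if_neg]
    intro hc
    apply hne
    apply Subtype.ext
    show ψ = ψ₁ * ψ₂⁻¹
    refine (eq_mul_inv_iff_mul_eq (G := ↥W →* ℂˣ)).mpr ?_
    have h1 : (ψ * ψ₂) * ψ₁⁻¹ ∈ lin₁ W W₂ := by
      rw [mul_inv_mem_iff]
      intro w hw
      have h2 := hc w hw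
      simp only [MonoidHom.mul_apply] at h2 ⊢
      rw [hφ₁ w hw, hφ₂ w hw, one_mul, one_mul] at h2
      exact h2.symm
    have h2 : (ψ * ψ₂) * ψ₁⁻¹ ∈ lin₁ W W₁ := mul_mem (mul_mem hψ hψ₂) (inv_mem hψ₁)
    exact mul_inv_eq_one.mp (eq_one h h1 h2)
  · intro hcon
    exact absurd (Finset.mem_univ _) hcon

end inner

end Cfsg.Agent.OddOrderCharacters.PF3bLin
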