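import Mathlib
import Cfsg.Agent.OddOrderCharacters.PFDefs
import Cfsg.Agent.OddOrderCharacters.VChar
import Cfsg.Agent.OddOrderCharacters.PF3bBasic
import Cfsg.Agent.OddOrderCharacters.PF3bLin
import Cfsg.Agent.OddOrderCharacters.PF3b
import Cfsg.Agent.OddOrderCharacters.PF3bUnique
import Cfsg.Agent.S1507

/-!
# Peterfalvi (3.7), (3.8): the number of `η_ij` occurring in a class function
-/

set_option autoImplicit false
open Cfsg
open scoped ComplexConjugate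
open Cfsg.Agent.OddOrderCharacters.PFDefs
open Cfsg.Agent.Characters.Core

namespace Cfsg.Agent.OddOrderCharacters.PF3bNC

variable {G : Type*} [Group G] [Fintype G] {W W₁ W₂ : Subgroup G}
  {η : (↥W →* ℂˣ) → (G → ℂ)}

/-- Number of `η`'s occurring in `θ`. -/
noncomputable def NC (η : (↥W →* ℂˣ) → (G → ℂ)) (θ : G → ℂ) : ℕ :=
  Nat.card {ω : ↥W →* ℂˣ // classInner θ (η ω) ≠ 0}

theorem NC_eq_ncard (θ : G → ℂ) : NC η θ = {ω : ↥W →* ℂˣ | classInner θ (η ω) ≠ 0}.ncard := rfl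

theorem NC_congr {θ θ' : G → ℂ} (h : ∀ ω, classInner θ (η ω) = classInner θ' (η ω)) :
    NC η θ = NC η θ' := by
  rw [NC_eq_ncard, NC_eq_ncard]
  simp only [h]

theorem NC_neg (θ : G → ℂ) : NC η (-θ) = NC η θ := by
  rw [NC_eq_ncard, NC_eq_ncard]
  simp only [classInner_neg_left, ne_eq, neg_eq_zero]

theorem NC_smul (c : ℂ) (hc : c ≠ 0) (θ : G → ℂ) : NC η (c • θ) = NC η θ := by
  rw [NC_eq_ncard, NC_eq_ncard]
  simp only [classInner_smul_left, ne_eq, mul_eq_zero, hc, false_or]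

/-- The number of linear characters of `W` with a given restriction to `W₂`. -/
theorem card_coset (hW : CyclicTIHyp W W₁ W₂) (ψ₀ : ↥W →* ℂˣ) :
    {ω : ↥W →* ℂˣ | ∀ w : ↥W, (w : G) ∈ W₂ → ω w = ψ₀ w}.ncard = Nat.card W₁ := by
  rw [← PF3bBasic.ncard_lin₁ hW]
  refine Set.ncard_congr (fun ω _ => ω * ψ₀⁻¹) ?_ ?_ ?_
  · intro ω hω
    exact PF3bLin.mul_inv_mem_iff.mpr hω
  · intro ω ω' _ _ h
    exact mul_right_cancel h
  · intro φ hφ
    exact ⟨φ * ψ₀, PF3bLin.congr_of_mul hφ, mul_inv_cancel_right φ ψ₀⟩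

section

variable (hη : CyclicTIFam W W₁ W₂ η) (hW : CyclicTIHyp W W₁ W₂)

include hW in
theorem NC_add_le (θ θ' : G → ℂ) : NC η (θ + θ') ≤ NC η θ + NC η θ' := by
  have := PF3bBasic.finite_hom hW
  rw [NC_eq_ncard, NC_eq_ncard, NC_eq_ncard]
  refine le_trans (Set.ncard_le_ncard ?_ (Set.toFinite _)) (Set.ncard_union_le _ _)
  intro ω hω
  by_contra hcon
  rw [Set.mem_union, not_or] at hcon
  have h1 : classInner θ (η ω) = 0 := by
    by_contra h; exact hcon.1 h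
  have h2 : classInner θ' (η ω) = 0 := by
    by_contra h; exact hcon.2 h
  exact hω (by rw [classInner_add_left, h1, h2, add_zero])

include hW in
theorem NC_sub_le (θ θ' : G → ℂ) : NC η (θ - θ') ≤ NC η θ + NC η θ' := by
  rw [sub_eq_add_neg, ← NC_neg (η := η) θ']
  exact NC_add_le hW θ (-θ')

include hW in
theorem NC_eq_zero_iff {θ : G → ℂ} : NC η θ = 0 ↔ ∀ ω, classInner θ (η ω) = 0 := by
  have := PF3bBasic.finite_hom hW
  rw [NC_eq_ncard, Set.ncard_eq_zero (Set.toFinite _), Set.eq_empty_iff_forall_notMem]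
  simp only [Set.mem_setOf_eq, ne_eq, not_not]

include hη in
theorem NC_eta (ω : ↥W →* ℂˣ) : NC η (η ω) = 1 := by
  rw [NC_eq_ncard, Set.ncard_eq_one]
  refine ⟨ω, ?_⟩
  ext ω'
  rw [Set.mem_setOf_eq, Set.mem_singleton_iff]
  constructor
  · intro h
    by_contra hne
    exact h (PF3b.eta_orth hη (Ne.symm hne))
  · rintro rfl
    rw [PF3b.eta_norm hη]
    exact one_ne_zero

include hη hW in
theorem NC_colSum (ω : ↥W →* ℂˣ) : NC η (colSum W W₂ η ω) = Nat.card W₁ := by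
  classical
  rw [← card_coset hW ω, NC_eq_ncard]
  congr 1
  ext ω'
  rw [Set.mem_setOf_eq, Set.mem_setOf_eq, PF3bLin.classInner_colSum_single hW hη.orthonormal]
  split_ifs with h
  · exact ⟨fun _ w hw => (h w hw).symm, fun _ => one_ne_zero⟩
  · exact ⟨fun h1 => absurd rfl h1, fun h1 => absurd (fun w hw => (h1 w hw).symm) h⟩

include hη hW in
theorem NC_le_norm {θ : G → ℂ} (hθ : IsGeneralizedCharacter G θ) {n : ℕ}
    (hn : classInner θ θ = n) : NC η θ ≤ n := by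
  classical
  have := PF3bBasic.finite_hom hW
  let _ := Fintype.ofFinite (↥W →* ℂˣ)
  choose a ha using fun ω : ↥W →* ℂˣ => VChar.gen_inner hθ (PF3b.eta_gen hη ω)
  have h1 := PF3bUnique.bessel_int (Finset.univ : Finset (↥W →* ℂˣ)) η
    (fun i _ j _ => by rw [hη.orthonormal]) θ a (fun ω _ => ha ω) (n : ℤ)
    (by rw [hn]; simp)
  have h2 : ((NC η θ : ℕ) : ℤ) ≤ ∑ ω, (a ω) ^ 2 := by
    have h3 : NC η θ = (Finset.univ.filter fun ω : ↥W →* ℂˣ => a ω ≠ 0).card := by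
      rw [NC_eq_ncard, ← Set.ncard_coe_finset]
      congr 1
      ext ω
      simp [ha ω]
    rw [h3, Finset.card_filter, Nat.cast_sum]
    refine Finset.sum_le_sum fun ω _ => ?_
    split_ifs with h
    · have : 1 ≤ (a ω) ^ 2 := by
        have h4 : 0 < (a ω) ^ 2 := by positivity
        omega
      simpa using this
    · simpa using sq_nonneg (a ω)
  exact_mod_cast h2.trans h1

include hη hW in
theorem NC_irr_le {χ : G → ℂ} (hχ : IsIrrCharacter G χ) : NC η χ ≤ 1 :=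
  NC_le_norm hη hW (VChar.gen_of_irr hχ) (by rw [classInner_irr_self hχ]; simp)

include hη hW in
theorem NC_irr_or_neg_le {χ : G → ℂ} (hχ : IsIrrCharacter G χ ∨ IsIrrCharacter G (-χ)) :
    NC η χ ≤ 1 := by
  rcases hχ with h | h
  · exact NC_irr_le hη hW h
  · rw [← NC_neg]
    exact NC_irr_le hη hW h

open Classical in
include hη hW in
theorem small_NC_lt {θ : G → ℂ} (hθ : IsClassFunction G θ) (hV : ∀ v ∈ cycTIset W W₁ W₂, θ v = 0)
    (hlt : Nat.card W₁ < Nat.card W₂) (hNC : NC η θ < 2 * Nat.card W₁) :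
    (∀ ω, classInner θ (η ω) = 0) ∨
    (∃ (ψ₀ : ↥W →* ℂˣ) (a : ℂ), a ≠ 0 ∧ ∀ ω, classInner θ (η ω) =
      if (∀ w : ↥W, (w : G) ∈ W₂ → ω w = ψ₀ w) then a else 0) ∨
    (∃ (φ₀ : ↥W →* ℂˣ) (a : ℂ), a ≠ 0 ∧ ∀ ω, classInner θ (η ω) =
      if (∀ w : ↥W, (w : G) ∈ W₁ → ω w = φ₀ w) then a else 0) := by
  obtain ⟨hsup, hodd, hsn⟩ := hW
  subst hsup
  have hiff : ∀ (ω ψ : ↥(W₁ ⊔ W₂) →* ℂˣ) (X : Subgroup G),
      (∀ w : ↥(W₁ ⊔ W₂), (w : G) ∈ X → (ω * ψ⁻¹) w = 1) ↔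
      (∀ w : ↥(W₁ ⊔ W₂), (w : G) ∈ X → ω w = ψ w) := fun ω ψ X => PF3bLin.mul_inv_mem_iff
  rcases S1507.result W₁ W₂ hsn hodd η (cyclicTIFam_to hη) hlt θ hθ
    (fun w h1 h2 => hV w ⟨w.2, fun h => h.elim h1 h2⟩) hNC with h | ⟨ψ₀, a, h⟩ | ⟨φ₀, a, h⟩
  · exact Or.inl h
  · by_cases ha : a = 0
    · left
      intro ω
      rw [h ω, ha]
      simp
    · right; left
      refine ⟨ψ₀, a, ha, fun ω => ?_⟩
      rw [h ω]
      exact if_congr (hiff ω ψ₀ W₂) rfl rfl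
  · by_cases ha : a = 0
    · left
      intro ω
      rw [h ω, ha]
      simp
    · right; right
      refine ⟨φ₀, a, ha, fun ω => ?_⟩
      rw [h ω]
      exact if_congr (hiff ω φ₀ W₁) rfl rfl

open Classical in
include hη hW in
/-- (3.7) -/
theorem small_NC {θ : G → ℂ} (hθ : IsClassFunction G θ) (hV : ∀ v ∈ cycTIset W W₁ W₂, θ v = 0)
    (hNC : NC η θ < 2 * min (Nat.card W₁) (Nat.card W₂)) :
    (∀ ω, classInner θ (η ω) = 0) ∨
    (∃ (ψ₀ : ↥W →* ℂˣ) (a : ℂ), a ≠ 0 ∧ ∀ ω, classInner θ (η ω) =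
      if (∀ w : ↥W, (w : G) ∈ W₂ → ω w = ψ₀ w) then a else 0) ∨
    (∃ (φ₀ : ↥W →* ℂˣ) (a : ℂ), a ≠ 0 ∧ ∀ ω, classInner θ (η ω) =
      if (∀ w : ↥W, (w : G) ∈ W₁ → ω w = φ₀ w) then a else 0) := by
  rcases lt_or_gt_of_ne (PF3bBasic.card_ne hW) with hlt | hlt
  · exact small_NC_lt hη hW hθ hV hlt (by rwa [min_eq_left hlt.le] at hNC)
  · rcases small_NC_lt hη.symm (PF3bBasic.hyp_symm hW) hθ
      (fun v hv => hV v (by rw [PF3bBasic.cycTIset_symm] at hv; exact hv)) hlt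
      (by rwa [min_eq_right hlt.le] at hNC) with h | h | h
    · exact Or.inl h
    · exact Or.inr (Or.inr h)
    · exact Or.inr (Or.inl h)

include hη hW in
/-- (3.8) -/
theorem NC_minn {θ : G → ℂ} (hθ : IsClassFunction G θ) (hV : ∀ v ∈ cycTIset W W₁ W₂, θ v = 0)
    (hNC : NC η θ < 2 * min (Nat.card W₁) (Nat.card W₂)) (h0 : ∃ ω, classInner θ (η ω) ≠ 0) :
    min (Nat.card W₁) (Nat.card W₂) ≤ NC η θ := by
  classical
  rcases small_NC hη hW hθ hV hNC with h | ⟨ψ₀, a, ha, h⟩ | ⟨φ₀, a, ha, h⟩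
  · obtain ⟨ω, hω⟩ := h0
    exact absurd (h ω) hω
  · have : NC η θ = Nat.card W₁ := by
      rw [← card_coset hW ψ₀, NC_eq_ncard]
      congr 1
      ext ω
      rw [Set.mem_setOf_eq, Set.mem_setOf_eq, h ω]
      split_ifs with h1
      · exact ⟨fun _ => h1, fun _ => ha⟩
      · exact ⟨fun h2 => absurd rfl h2, fun h2 => absurd h2 h1⟩
    rw [this]
    exact min_le_left _ _
  · have : NC η θ = Nat.card W₂ := by
      rw [← card_coset (PF3bBasic.hyp_symm hW) φ₀, NC_eq_ncard]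
      congr 1
      ext ω
      rw [Set.mem_setOf_eq, Set.mem_setOf_eq, h ω]
      split_ifs with h1
      · exact ⟨fun _ => h1, fun _ => ha⟩
      · exact ⟨fun h2 => absurd rfl h2, fun h2 => absurd h2 h1⟩
    rw [this]
    exact min_le_right _ _

end

end Cfsg.Agent.OddOrderCharacters.PF3bNC
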