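import Cfsg.Agent.OddOrderCharacters.IndRes
import Cfsg.Agent.OddOrderCharacters.VChar

/-!
# Expansion of class functions supported on a normal subgroup in induced characters

`K` normal in `L`. `indAll K` = set of all functions induced from irreducible characters of `K`;
`inducedIrrAbove K ⊥` = those induced from non-principal ones.
-/

set_option autoImplicit false
set_option linter.unusedSectionVars false

open scoped ComplexConjugate

namespace Cfsg.Agent.OddOrderCharacters.InducedExpansion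

open Cfsg Cfsg.Agent.Characters.Core
open Cfsg.Agent.OddOrderCharacters.IndRes
open Cfsg.Agent.OddOrderCharacters.VChar

variable {L : Type*} [Group L] [Fintype L] (K : Subgroup L) [hK : K.Normal]

/-- All functions induced from irreducible characters of `K`. -/
def indAll : Set (L → ℂ) := {φ | ∃ θ : ↥K → ℂ, IsIrrCharacter ↥K θ ∧ φ = indFun K θ}

theorem mem_indAll_iff {φ : L → ℂ} :
    φ ∈ indAll K ↔ ∃ θ : ↥K → ℂ, IsIrrCharacter ↥K θ ∧ φ = indFun K θ := Iff.rfl

theorem mem_inducedIrrAbove_bot_iff {φ : L → ℂ} :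
    φ ∈ inducedIrrAbove K ⊥ ↔ ∃ θ : ↥K → ℂ, IsIrrCharacter ↥K θ ∧ θ ≠ (fun _ => 1) ∧
      φ = indFun K θ := by
  constructor
  · rintro ⟨θ, h1, h2, -, h3⟩
    exact ⟨θ, h1, h2, h3⟩
  · rintro ⟨θ, h1, h2, h3⟩
    refine ⟨θ, h1, h2, ?_, h3⟩
    intro a ha
    have ha' : (a : L) = 1 := Subgroup.mem_bot.1 ha
    have : a = 1 := Subtype.ext ha'
    rw [this]

theorem isIrr_one' : IsIrrCharacter ↥K (fun _ => 1) := isIrr_one

/-- The function induced from the principal character of `K`. -/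
noncomputable def ind1 : L → ℂ := indFun K (fun _ => 1)

theorem ind1_def : ind1 K = indFun K (fun _ => 1) := rfl

theorem ind1_mem : ind1 K ∈ indAll K := ⟨_, isIrr_one' K, rfl⟩

theorem subset_indAll : inducedIrrAbove K ⊥ ⊆ indAll K := by
  rintro φ ⟨θ, h1, -, -, h3⟩
  exact ⟨θ, h1, h3⟩

theorem indAll_eq : indAll K = insert (ind1 K) (inducedIrrAbove K ⊥) := by
  ext φ
  rw [Set.mem_insert_iff, mem_indAll_iff, mem_inducedIrrAbove_bot_iff]
  constructor
  · rintro ⟨θ, h1, h2⟩
    by_cases h : θ = fun _ => 1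
    · left; rw [h2, h]; rfl
    · right; exact ⟨θ, h1, h, h2⟩
  · rintro (h | ⟨θ, h1, -, h2⟩)
    · rw [h]; exact ind1_mem K
    · exact ⟨θ, h1, h2⟩

theorem orthogonal {φ ψ : L → ℂ} (hφ : φ ∈ indAll K) (hψ : ψ ∈ indAll K) (h : φ ≠ ψ) :
    classInner φ ψ = 0 := by
  obtain ⟨θ, hθ, rfl⟩ := hφ
  obtain ⟨η, hη, rfl⟩ := hψ
  rcases indFun_eq_or_classInner_eq_zero K hθ hη with h1 | h1
  · exact absurd h1 h
  · exact h1

theorem isCharacter_of_mem {φ : L → ℂ} (hφ : φ ∈ indAll K) : IsCharacter L φ := by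
  have := Fintype.ofFinite K
  obtain ⟨θ, hθ, rfl⟩ := hφ
  exact isCharacter_indFun K (isIrr_isCharacter hθ)

theorem vanish {φ : L → ℂ} (hφ : φ ∈ indAll K) {x : L} (hx : x ∉ K) : φ x = 0 := by
  obtain ⟨θ, hθ, rfl⟩ := hφ
  exact NormalInduced.indFun_of_notMem K θ hx

theorem degree_pos {φ : L → ℂ} (hφ : φ ∈ indAll K) : ∃ n : ℕ, 0 < n ∧ φ 1 = n := by
  obtain ⟨θ, hθ, rfl⟩ := hφ
  obtain ⟨n, hn, h⟩ := isIrr_apply_one hθ
  refine ⟨K.index * n, Nat.mul_pos (Nat.pos_of_ne_zero Subgroup.index_ne_zero_of_finite) hn, ?_⟩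
  rw [indFun_apply_one, h]
  push_cast
  ring

/-- The degree of an induced character is a multiple of the index. -/
theorem degree_index {φ : L → ℂ} (hφ : φ ∈ indAll K) :
    ∃ n : ℕ, 0 < n ∧ φ 1 = K.index * n := by
  obtain ⟨θ, hθ, rfl⟩ := hφ
  obtain ⟨n, hn, h⟩ := isIrr_apply_one hθ
  refine ⟨n, hn, ?_⟩
  rw [indFun_apply_one, h]

theorem ne_zero {φ : L → ℂ} (hφ : φ ∈ indAll K) : φ ≠ 0 := by
  obtain ⟨n, hn, h⟩ := degree_pos K hφ
  rintro rfl
  rw [Pi.zero_apply] at h
  exact hn.ne' (by exact_mod_cast h.symm)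

theorem norm_pos {φ : L → ℂ} (hφ : φ ∈ indAll K) : ∃ n : ℕ, 0 < n ∧ classInner φ φ = n := by
  obtain ⟨n, hn⟩ := classInner_isNat (isCharacter_of_mem K hφ) (isCharacter_of_mem K hφ)
  refine ⟨n, Nat.pos_of_ne_zero ?_, hn⟩
  rintro rfl
  exact ne_zero K hφ (classInner_self_eq_zero (by rw [hn]; simp))

theorem ind1_apply_mem {x : L} (hx : x ∈ K) : ind1 K x = K.index := by
  rw [ind1_def]
  have h : (1 : L → ℂ) * indFun K (fun _ => 1) = indFun K (fun _ => 1) := one_mul _
  have h2 := NormalInduced.indFun_coe K (fun _ => 1) ⟨x, hx⟩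
  rw [show ((⟨x, hx⟩ : K) : L) = x from rfl] at h2
  rw [h2]
  have : ∀ g : L, NormalInduced.conjFn K (fun _ => (1 : ℂ)) g = fun _ => 1 := fun g => rfl
  simp only [this, Finset.sum_const, Finset.card_univ, nsmul_eq_mul, mul_one]
  rw [← Nat.card_eq_fintype_card, ← K.card_mul_index]
  push_cast
  rw [← mul_assoc, inv_mul_cancel₀, one_mul]
  exact Nat.cast_ne_zero.2 Nat.card_pos.ne'

theorem ind1_apply_one : ind1 K 1 = K.index := ind1_apply_mem K K.one_mem

theorem ind1_not_mem : ind1 K ∉ inducedIrrAbove K ⊥ := by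
  intro h
  rw [mem_inducedIrrAbove_bot_iff] at h
  obtain ⟨θ, hθ, hne, he⟩ := h
  rw [ind1_def, indFun_eq_iff K (isIrr_one' K) hθ] at he
  obtain ⟨g, hg⟩ := he
  apply hne
  have : NormalInduced.conjFn K (fun _ => (1 : ℂ)) g = fun _ => 1 := rfl
  exact NormalInduced.conjFn_injective K g (hg.trans this.symm)

theorem norm_ind1 : classInner (ind1 K) (ind1 K) = K.index := by
  have := Fintype.ofFinite K
  rw [ind1_def, classInner_indFun_left K _ (isClassFunction_indFun K _)]
  have : res K (indFun K fun _ => 1) = (K.index : ℂ) • (1 : K → ℂ) := by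
    funext x
    rw [res_apply, ← ind1_def, ind1_apply_mem K x.2]
    simp
  rw [this, classInner_smul_right]
  have h1 := classInner_irr_self (isIrr_one' K)
  have h2 : classInner (fun _ : K => (1 : ℂ)) 1 = 1 := h1
  rw [h2]
  simp

/-- Completeness of the induced characters for class functions supported on `K`. -/
theorem eq_zero_of_orthogonal {f : L → ℂ} (hf : IsClassFunction L f) (hf0 : ∀ x, x ∉ K → f x = 0)
    (h : ∀ ξ ∈ indAll K, classInner f ξ = 0) : f = 0 := by
  have := Fintype.ofFinite K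
  have h1 : res K f = 0 := by
    apply classFunction_eq_zero (isClassFunction_res K hf)
    intro θ hθ
    rw [← classInner_indFun_right K θ hf]
    exact h _ ⟨θ, hθ, rfl⟩
  funext x
  by_cases hx : x ∈ K
  · exact congrFun h1 ⟨x, hx⟩
  · exact hf0 x hx

theorem finite_indAll : (indAll K).Finite :=
  finite_of_orthogonal (fun _ h => ne_zero K h) (fun _ h _ h' hne => orthogonal K h h' hne)

theorem classFunction_of_mem {φ : L → ℂ} (hφ : φ ∈ indAll K) : IsClassFunction L φ :=
  isCharacter_isClassFunction (isCharacter_of_mem K hφ)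

theorem isClassFunction_smul {f : L → ℂ} (c : ℂ) (hf : IsClassFunction L f) :
    IsClassFunction L (c • f) := fun g h => by
  rw [Pi.smul_apply, Pi.smul_apply, hf g h]

theorem isClassFunction_sub {f f' : L → ℂ} (hf : IsClassFunction L f) (hf' : IsClassFunction L f') :
    IsClassFunction L (f - f') := fun g h => by
  rw [Pi.sub_apply, Pi.sub_apply, hf g h, hf' g h]

theorem isClassFunction_add {f f' : L → ℂ} (hf : IsClassFunction L f) (hf' : IsClassFunction L f') :
    IsClassFunction L (f + f') := fun g h => by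
  rw [Pi.add_apply, Pi.add_apply, hf g h, hf' g h]

theorem isClassFunction_sum {ι : Type*} (s : Finset ι) (f : ι → L → ℂ)
    (hf : ∀ i ∈ s, IsClassFunction L (f i)) : IsClassFunction L (∑ i ∈ s, f i) := fun g h => by
  rw [Finset.sum_apply, Finset.sum_apply]
  exact Finset.sum_congr rfl fun i hi => hf i hi g h

/-- Expansion of class functions supported on `K`. -/
theorem expansion {T : Finset (L → ℂ)} (hT : (T : Set (L → ℂ)) = indAll K) {f : L → ℂ}
    (hf : IsClassFunction L f) (hf0 : ∀ x, x ∉ K → f x = 0) :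
    f = ∑ ξ ∈ T, (classInner f ξ / classInner ξ ξ) • ξ := by
  have hmem : ∀ ξ ∈ T, ξ ∈ indAll K := fun ξ h => by rw [← hT]; exact h
  rw [← sub_eq_zero]
  apply eq_zero_of_orthogonal K
  · refine isClassFunction_sub hf (isClassFunction_sum _ _ fun ξ hξ => ?_)
    exact isClassFunction_smul _ (classFunction_of_mem K (hmem ξ hξ))
  · intro x hx
    rw [Pi.sub_apply, hf0 x hx, Finset.sum_apply, Finset.sum_eq_zero, sub_zero]
    intro ξ hξ
    rw [Pi.smul_apply, vanish K (hmem ξ hξ) hx, smul_zero]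
  · intro ξ hξ
    have hξT : ξ ∈ T := by
      have : ξ ∈ (T : Set (L → ℂ)) := by rw [hT]; exact hξ
      exact this
    rw [classInner_sub_left, classInner_sum_left, Finset.sum_eq_single_of_mem ξ hξT]
    · rw [classInner_smul_left, div_mul_cancel₀, sub_self]
      obtain ⟨n, hn, h⟩ := norm_pos K hξ
      rw [h]
      exact_mod_cast hn.ne'
    · intro η hη hne
      rw [classInner_smul_left, orthogonal K (hmem η hη) hξ hne, mul_zero]

theorem inner_delta [DecidableEq L] (ξ : L → ℂ) :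
    classInner (fun x : L => if x = 1 then (1 : ℂ) else 0) ξ = (Nat.card L : ℂ)⁻¹ * conj (ξ 1) := by
  unfold classInner
  congr 1
  rw [Finset.sum_eq_single 1]
  · simp
  · intro b _ hb
    simp [hb]
  · intro h; exact absurd (Finset.mem_univ _) h

/-- `∑_{ξ} (ξ(1)/‖ξ‖²) ξ` is the regular character of `L`. -/
theorem sum_all [DecidableEq L] {T : Finset (L → ℂ)} (hT : (T : Set (L → ℂ)) = indAll K) (x : L) :
    ∑ ξ ∈ T, (ξ 1 / classInner ξ ξ) * ξ x = if x = 1 then (Nat.card L : ℂ) else 0 := by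
  have hmem : ∀ ξ ∈ T, ξ ∈ indAll K := fun ξ h => by rw [← hT]; exact h
  have h := expansion K hT (f := fun x : L => if x = 1 then (1 : ℂ) else 0) ?_ ?_
  · have h2 := congrFun h x
    rw [Finset.sum_apply] at h2
    have hL : (Nat.card L : ℂ) ≠ 0 := Nat.cast_ne_zero.2 Nat.card_pos.ne'
    have h3 : (if x = 1 then (Nat.card L : ℂ) else 0) =
        Nat.card L * (if x = 1 then (1 : ℂ) else 0) := by split_ifs <;> simp
    rw [h3]
    have h2' : (if x = 1 then (1 : ℂ) else 0) =
      ∑ c ∈ T, ((classInner (fun x : L => if x = 1 then (1 : ℂ) else 0) c / classInner c c) • c) x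
      := h2
    rw [h2', Finset.mul_sum]
    refine Finset.sum_congr rfl fun ξ hξ => ?_
    rw [inner_delta, Pi.smul_apply, smul_eq_mul]
    obtain ⟨n, hn, h1⟩ := degree_pos K (hmem ξ hξ)
    rw [h1, Complex.conj_natCast]
    field_simp
  · intro g h
    have : h * g * h⁻¹ = 1 ↔ g = 1 := by
      constructor
      · intro hh
        have : g = h⁻¹ * (h * g * h⁻¹) * h := by group
        rw [this, hh]; group
      · rintro rfl; group
    simp only [this]
  · intro x hx
    have : x ≠ 1 := fun h => hx (h ▸ K.one_mem)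
    simp [this]

theorem sum_family_eq {S T : Finset (L → ℂ)} (hS : (S : Set (L → ℂ)) = inducedIrrAbove K ⊥)
    (hT : (T : Set (L → ℂ)) = indAll K) {M : Type*} [AddCommMonoid M] (f : (L → ℂ) → M) :
    ∑ ξ ∈ T, f ξ = f (ind1 K) + ∑ ξ ∈ S, f ξ := by
  classical
  have h : T = insert (ind1 K) S := by
    apply Finset.coe_injective
    rw [hT, indAll_eq, Finset.coe_insert, hS]
  rw [h, Finset.sum_insert]
  intro h2
  apply ind1_not_mem K
  rw [← hS]
  exact h2

theorem exists_finset_all : ∃ T : Finset (L → ℂ), (T : Set (L → ℂ)) = indAll K :=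
  ⟨(finite_indAll K).toFinset, by simp⟩

theorem exists_finset : ∃ S : Finset (L → ℂ), (S : Set (L → ℂ)) = inducedIrrAbove K ⊥ :=
  ⟨((finite_indAll K).subset (subset_indAll K)).toFinset, by simp⟩

/-- `∑_{ξ ∈ S} (ξ(1)/‖ξ‖²) ξ(x) = - |L:K|` for `1 ≠ x ∈ K`. -/
theorem sum_family {S : Finset (L → ℂ)} (hS : (S : Set (L → ℂ)) = inducedIrrAbove K ⊥) {x : L}
    (hx : x ∈ K) (hx1 : x ≠ 1) :
    ∑ ξ ∈ S, (ξ 1 / classInner ξ ξ) * ξ x = - (K.index : ℂ) := by
  classical
  obtain ⟨T, hT⟩ := exists_finset_all K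
  have h := sum_all K hT x
  rw [if_neg hx1, sum_family_eq K hS hT, ind1_apply_one, norm_ind1, ind1_apply_mem K hx,
    div_self, one_mul] at h
  · linear_combination h
  · exact_mod_cast Subgroup.index_ne_zero_of_finite

/-- `∑_{ξ ∈ S} ξ(1)²/‖ξ‖² = |L:K| (|K| - 1)`. -/
theorem sum_family_one {S : Finset (L → ℂ)} (hS : (S : Set (L → ℂ)) = inducedIrrAbove K ⊥) :
    ∑ ξ ∈ S, (ξ 1 / classInner ξ ξ) * ξ 1 = (K.index : ℂ) * (Nat.card K - 1) := by
  classical
  obtain ⟨T, hT⟩ := exists_finset_all K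
  have h := sum_all K hT 1
  rw [if_pos rfl, sum_family_eq K hS hT, ind1_apply_one, norm_ind1, div_self, one_mul,
    ← K.card_mul_index] at h
  · push_cast at h
    linear_combination h
  · exact_mod_cast Subgroup.index_ne_zero_of_finite

/-- Members of `S` are orthogonal to `Ind 1`. -/
theorem inner_ind1 {ξ : L → ℂ} (hξ : ξ ∈ inducedIrrAbove K ⊥) : classInner (ind1 K) ξ = 0 :=
  orthogonal K (ind1_mem K) (subset_indAll K hξ) (fun h => ind1_not_mem K (h ▸ hξ))

/-- The sum over `K` of the values of a member of `S` is zero. -/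
theorem sum_eq_zero {ξ : L → ℂ} (hξ : ξ ∈ inducedIrrAbove K ⊥) : ∑ x : L, ξ x = 0 := by
  have h := classInner_comm_eq_zero (inner_ind1 K hξ)
  unfold classInner at h
  have hL : (Nat.card L : ℂ)⁻¹ ≠ 0 := inv_ne_zero (Nat.cast_ne_zero.2 Nat.card_pos.ne')
  rcases mul_eq_zero.1 h with h | h
  · exact absurd h hL
  have h2 : ∑ x : L, ξ x * conj (ind1 K x) = (K.index : ℂ) * ∑ x : L, ξ x := by
    rw [Finset.mul_sum]
    refine Finset.sum_congr rfl fun x _ => ?_
    by_cases hx : x ∈ K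
    · rw [ind1_apply_mem K hx, Complex.conj_natCast, mul_comm]
    · rw [vanish K (subset_indAll K hξ) hx, zero_mul, mul_zero]
  rw [h2] at h
  rcases mul_eq_zero.1 h with h | h
  · exact absurd (by exact_mod_cast h) (Subgroup.index_ne_zero_of_finite (H := K))
  · exact h

/-- Members of `S` are orthogonal to the principal character. -/
theorem inner_one {ξ : L → ℂ} (hξ : ξ ∈ inducedIrrAbove K ⊥) :
    classInner ξ (fun _ => 1) = 0 := by
  unfold classInner
  simp [sum_eq_zero K hξ]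

theorem inner_ind1_one : classInner (ind1 K) (fun _ => 1) = 1 := by
  have := Fintype.ofFinite K
  rw [ind1_def, classInner_indFun_left K _ (fun _ _ => rfl)]
  exact classInner_irr_self (isIrr_one' K)

/-- A difference `c ξ - d ξ'` with `ξ(1) c = ξ'(1) d` is supported on `K \ 1`. -/
theorem mem_zspanOn {α : L → ℂ} (h : α ∈ zspanOn (inducedIrrAbove K ⊥) {1}ᶜ) :
    ∀ x, ¬ (x ∈ K ∧ x ≠ 1) → α x = 0 := by
  intro x hx
  by_cases hx1 : x = 1
  · exact h.2 x (by simpa using hx1)
  · have hxK : x ∉ K := fun h' => hx ⟨h', hx1⟩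
    have h1 : α ∈ zspan (inducedIrrAbove K ⊥) := h.1
    refine zspan_induction (p := fun α : L → ℂ => α x = 0) rfl ?_ ?_ ?_ h1
    · intro χ hχ
      exact vanish K (subset_indAll K hχ) hxK
    · intro a _ b _ ha hb
      rw [Pi.add_apply, ha, hb, add_zero]
    · intro n a _ ha
      rw [Pi.smul_apply, ha, smul_zero]

theorem classFunction_of_zspan {α : L → ℂ} (h : α ∈ zspan (inducedIrrAbove K ⊥)) :
    IsClassFunction L α :=
  gen_isClassFunction (gen_of_mem_zspan
    (fun _ hχ => gen_of_char (isCharacter_of_mem K (subset_indAll K hχ))) h)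

end Cfsg.Agent.OddOrderCharacters.InducedExpansion
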