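import Mathlib
import Cfsg.Agent.Characters.Values

/-!
Traces of a product of two commuting endomorphisms of finite order over `ℂ`: decomposing the space
into eigenspaces of the first one, the trace of the product is a combination of algebraic integers.
In particular, if `f ^ p = 1`, then `tr (f g) - tr g` is `(1 - ε)` times an algebraic integer, `ε` a
primitive `p`-th root of unity.
-/

set_option autoImplicit false

namespace Cfsg.Agent.OddOrderCharacters.CommutingTrace

open Module

/-- The trace of an endomorphism of finite order is an algebraic integer. -/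
theorem isIntegral_trace {V : Type*} [AddCommGroup V] [Module ℂ V] [FiniteDimensional ℂ V]
    {g : Module.End ℂ V} {n : ℕ} (hn : 0 < n) (hg : g ^ n = 1) :
    IsIntegral ℤ (LinearMap.trace ℂ V g) := by
  rw [Cfsg.Agent.Characters.Values.trace_eq_sum_roots]
  apply IsIntegral.multiset_sum
  intro z hz
  refine IsIntegral.of_pow (n := n) hn ?_
  rw [Cfsg.Agent.Characters.Values.pow_eq_one_of_mem_roots hg hz]
  exact isIntegral_one

/-- An endomorphism of finite order over `ℂ` is semisimple. -/
theorem isSemisimple_of_pow_eq_one {V : Type*} [AddCommGroup V] [Module ℂ V]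
    [FiniteDimensional ℂ V] {f : Module.End ℂ V} {p : ℕ} (hp : 0 < p) (hf : f ^ p = 1) :
    f.IsSemisimple := by
  have hsep : (Polynomial.X ^ p - 1 : Polynomial ℂ).Separable := by
    have h := Polynomial.separable_X_pow_sub_C (1 : ℂ) (n := p) (by exact_mod_cast hp.ne')
      one_ne_zero
    simpa using h
  exact Module.End.isSemisimple_of_squarefree_aeval_eq_zero hsep.squarefree (by simp [hf])

/-- Simultaneous decomposition: for commuting `f`, `g` with `f ^ p = 1`, there are numbers
`t μ` (the trace of `g` on the eigenspace of `f` for `μ`) such that the trace of `f ^ k * g` is the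
sum of `μ ^ k * t μ` over the eigenvalues; all `t μ` are algebraic integers when `g` has finite
order. -/
theorem exists_trace_decomposition {V : Type*} [AddCommGroup V] [Module ℂ V]
    [FiniteDimensional ℂ V] {f g : Module.End ℂ V} (hfg : Commute f g) {p n : ℕ} (hp : 0 < p)
    (hn : 0 < n) (hf : f ^ p = 1) (hg : g ^ n = 1) :
    ∃ (s : Finset ℂ) (t : ℂ → ℂ), (∀ μ ∈ s, μ ^ p = 1) ∧ (∀ μ, IsIntegral ℤ (t μ)) ∧
      ∀ k : ℕ, LinearMap.trace ℂ V (f ^ k * g) = ∑ μ ∈ s, μ ^ k * t μ := by
  classical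
  have hss := isSemisimple_of_pow_eq_one hp hf
  have hds := DirectSum.isInternal_submodule_of_iSupIndep_of_iSup_eq_top
    f.eigenspaces_iSupIndep hss.iSup_eigenspace_eq_top
  have hfin : {μ | f.eigenspace μ ≠ ⊥}.Finite :=
    WellFoundedGT.finite_ne_bot_of_iSupIndep f.eigenspaces_iSupIndep
  have hmg : ∀ μ : ℂ, ∀ x ∈ f.eigenspace μ, g x ∈ f.eigenspace μ := fun μ x hx =>
    Module.End.mapsTo_genEigenspace_of_comm hfg μ 1 hx
  refine ⟨hfin.toFinset, fun μ => LinearMap.trace ℂ (f.eigenspace μ) (g.restrict (hmg μ)),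
    ?_, ?_, ?_⟩
  · intro μ hμ
    have hμ' : f.eigenspace μ ≠ ⊥ := by simpa using hμ
    obtain ⟨v, hv, hv0⟩ := (Submodule.ne_bot_iff _).1 hμ'
    have hv' : f.HasEigenvector μ v := ⟨hv, hv0⟩
    have h1 := hv'.pow_apply p
    rw [hf] at h1
    have h2 : (μ ^ p - 1) • v = 0 := by
      rw [sub_smul, one_smul, ← h1]
      simp
    rcases smul_eq_zero.1 h2 with h | h
    · exact sub_eq_zero.1 h
    · exact absurd h hv0
  · intro μ
    apply isIntegral_trace hn
    rw [Module.End.pow_restrict n]
    apply LinearMap.ext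
    intro v
    apply Subtype.ext
    change (g ^ n) (v : V) = v
    rw [hg]
    rfl
  · intro k
    have hmfg : ∀ μ : ℂ, ∀ x ∈ f.eigenspace μ, (f ^ k * g) x ∈ f.eigenspace μ := fun μ x hx =>
      Module.End.mapsTo_genEigenspace_of_comm
        ((Commute.refl f).pow_right k |>.mul_right hfg) μ 1 hx
    rw [LinearMap.trace_eq_sum_trace_restrict' hds hfin hmfg]
    refine Finset.sum_congr rfl fun μ _ => ?_
    have : (f ^ k * g).restrict (hmfg μ) = μ ^ k • (g.restrict (hmg μ)) := by
      apply LinearMap.ext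
      intro v
      apply Subtype.ext
      have h3 : g v ∈ f.eigenspace μ := hmg μ v v.2
      have h4 : ∀ j : ℕ, (f ^ j) (g v) = μ ^ j • g v := by
        intro j
        induction j with
        | zero => simp
        | succ j ih =>
          rw [pow_succ', Module.End.mul_apply, ih, map_smul, Module.End.mem_eigenspace_iff.1 h3,
            pow_succ, mul_smul]
      exact h4 k
    rw [this, map_smul, smul_eq_mul]

/-- `tr (f g) - tr g` is `(1 - ε)` times an algebraic integer, for commuting `f`, `g` with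
`f ^ p = 1`, `g ^ n = 1` and `ε` a primitive `p`-th root of unity. -/
theorem trace_mul_sub_trace {V : Type*} [AddCommGroup V] [Module ℂ V]
    [FiniteDimensional ℂ V] {f g : Module.End ℂ V} (hfg : Commute f g) {p n : ℕ} (hp : 0 < p)
    (hn : 0 < n) (hf : f ^ p = 1) (hg : g ^ n = 1) {ε : ℂ} (hε : IsPrimitiveRoot ε p) :
    ∃ ω : ℂ, IsIntegral ℤ ω ∧
      LinearMap.trace ℂ V (f * g) - LinearMap.trace ℂ V g = (1 - ε) * ω := by
  obtain ⟨s, t, hs, ht, htr⟩ := exists_trace_decomposition hfg hp hn hf hg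
  have hεint : IsIntegral ℤ ε := hε.isIntegral hp
  have key : ∀ μ ∈ s, ∃ ω : ℂ, IsIntegral ℤ ω ∧ μ - 1 = (1 - ε) * ω := by
    intro μ hμ
    have : NeZero p := ⟨hp.ne'⟩
    obtain ⟨i, -, hi⟩ := hε.eq_pow_of_pow_eq_one (hs μ hμ)
    refine ⟨-∑ j ∈ Finset.range i, ε ^ j, ?_, ?_⟩
    · exact (IsIntegral.sum _ fun j _ => hεint.pow j).neg
    · have := geom_sum_mul ε i
      rw [← hi, ← this]
      ring
  choose! w hw1 hw2 using key
  refine ⟨∑ μ ∈ s, w μ * t μ, IsIntegral.sum _ fun μ hμ => (hw1 μ hμ).mul (ht μ), ?_⟩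
  have h1 := htr 1
  have h0 := htr 0
  rw [pow_one] at h1
  rw [pow_zero, one_mul] at h0
  rw [h1, h0, ← Finset.sum_sub_distrib, Finset.mul_sum]
  refine Finset.sum_congr rfl fun μ hμ => ?_
  have := hw2 μ hμ
  calc μ ^ 1 * t μ - μ ^ 0 * t μ = (μ - 1) * t μ := by ring
    _ = (1 - ε) * (w μ * t μ) := by rw [this]; ring

/-- The character form: for a representation `ρ` of a group, `x ^ p = 1`, `x y = y x` and `y` of
finite order, `χ(x y) - χ(y)` is `(1 - ε)` times an algebraic integer. -/
theorem character_mul_sub {G : Type*} [Group G] {V : Type*} [AddCommGroup V] [Module ℂ V]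
    [FiniteDimensional ℂ V] (ρ : Representation ℂ G V) {x y : G} (hxy : x * y = y * x)
    {p n : ℕ} (hp : 0 < p) (hn : 0 < n) (hx : x ^ p = 1) (hy : y ^ n = 1)
    {ε : ℂ} (hε : IsPrimitiveRoot ε p) :
    ∃ ω : ℂ, IsIntegral ℤ ω ∧ ρ.character (x * y) - ρ.character y = (1 - ε) * ω := by
  have hc : Commute (ρ x) (ρ y) := by
    change ρ x * ρ y = ρ y * ρ x
    rw [← map_mul, ← map_mul, hxy]
  obtain ⟨ω, h1, h2⟩ := trace_mul_sub_trace hc hp hn (by rw [← map_pow, hx, map_one])
    (by rw [← map_pow, hy, map_one]) hε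
  refine ⟨ω, h1, ?_⟩
  rw [← h2, ← map_mul]
  rfl

end Cfsg.Agent.OddOrderCharacters.CommutingTrace
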