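import Cfsg.Agent.S0205
import Cfsg.Prelude.Def_OddOrder
import Mathlib.GroupTheory.Solvable

/-!
# There is no minimal simple group of odd order
-/

set_option autoImplicit false
open Cfsg

namespace Cfsg.Agent.OddOrderCharacters.FTFalse

/-- The odd order theorem in the form used for the statements about minimal simple groups of odd order. -/
theorem false_of_isMinSimpleOddOrder {G : Type*} [Group G] (hG : IsMinSimpleOddOrder G) : False := by
  obtain ⟨hodd, hsimple, hncomm, -⟩ := hG
  have hfin : Finite G := by
    refine Nat.finite_of_card_ne_zero ?_
    intro h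
    rw [h] at hodd
    exact absurd hodd (by decide)
  have hs : Group.IsSolvable G := Cfsg.Agent.S0205.result hodd
  have := hsimple
  have h2 := (IsSimpleGroup.comm_iff_isSolvable (G := G)).mpr hs
  exact hncomm ⟨⟨h2⟩⟩

end Cfsg.Agent.OddOrderCharacters.FTFalse
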