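import Mathlib

/-!
# Group laws for linear characters `A →* ℂˣ`, in a form usable with `rw`

`rw [mul_comm]`, `simp` and the like do not see through the instance on `A →* ℂˣ`
(`MonoidHom.mul` against the multiplication of `MonoidHom.commGroup`); these specialised copies
can be used with `rw`.
-/

set_option autoImplicit false

namespace Cfsg.Agent.OddOrderCharacters.HomAlg

variable {A : Type*} [Group A] (a b c : A →* ℂˣ)

theorem hom_mul_comm : a * b = b * a := mul_comm a b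
theorem hom_mul_assoc : a * b * c = a * (b * c) := mul_assoc a b c
theorem hom_one_mul : 1 * a = a := one_mul a
theorem hom_mul_one : a * 1 = a := mul_one a
theorem hom_mul_inv : a * a⁻¹ = 1 := mul_inv_cancel a
theorem hom_inv_mul : a⁻¹ * a = 1 := inv_mul_cancel a
theorem hom_mul_inv_cancel_right : a * b * b⁻¹ = a := mul_inv_cancel_right a b
theorem hom_inv_mul_cancel_right : a * b⁻¹ * b = a := inv_mul_cancel_right a b
theorem hom_mul_inv_cancel_left : a * (a⁻¹ * b) = b := mul_inv_cancel_left a b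
theorem hom_inv_mul_cancel_left : a⁻¹ * (a * b) = b := inv_mul_cancel_left a b
theorem hom_inv_inv : a⁻¹⁻¹ = a := inv_inv a
theorem hom_inv_one : (1 : A →* ℂˣ)⁻¹ = 1 := inv_one (G := A →* ℂˣ)
theorem hom_mul_inv_rev : (a * b)⁻¹ = a⁻¹ * b⁻¹ := mul_inv a b
theorem hom_pow_zero : a ^ 0 = 1 := pow_zero a
theorem hom_pow_one : a ^ 1 = a := pow_one a
theorem hom_pow_succ (n : ℕ) : a ^ (n + 1) = a ^ n * a := pow_succ a n
theorem hom_pow_add (m n : ℕ) : a ^ (m + n) = a ^ m * a ^ n := pow_add a m n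
theorem hom_pow_mul (m n : ℕ) : a ^ (m * n) = (a ^ m) ^ n := pow_mul a m n
theorem hom_mul_pow (n : ℕ) : (a * b) ^ n = a ^ n * b ^ n := mul_pow a b n
theorem hom_one_pow (n : ℕ) : (1 : A →* ℂˣ) ^ n = 1 := one_pow (M := A →* ℂˣ) n
theorem hom_mul_mul_mul_comm (d : A →* ℂˣ) : a * b * (c * d) = a * c * (b * d) :=
  mul_mul_mul_comm a b c d
theorem hom_mul_eq_one_iff : a * b = 1 ↔ a = b⁻¹ := mul_eq_one_iff_eq_inv (G := A →* ℂˣ)
theorem hom_mul_inv_eq_one : a * b⁻¹ = 1 ↔ a = b := mul_inv_eq_one (G := A →* ℂˣ)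
theorem hom_mul_left_inj : a * c = b * c ↔ a = b := mul_left_inj c
theorem hom_mul_right_inj : a * b = a * c ↔ b = c := mul_right_inj a
theorem hom_apply_mul (x : A) : ((a * b) x : ℂ) = (a x : ℂ) * (b x : ℂ) := by
  rw [MonoidHom.mul_apply, Units.val_mul]
theorem hom_apply_inv (x : A) : ((a⁻¹) x : ℂ) = (a x : ℂ)⁻¹ := by
  rw [MonoidHom.inv_apply, Units.val_inv_eq_inv_val]
theorem hom_apply_one (x : A) : ((1 : A →* ℂˣ) x : ℂ) = 1 := rfl
theorem hom_apply_pow (n : ℕ) (x : A) : ((a ^ n) x : ℂ) = (a x : ℂ) ^ n := by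
  rw [MonoidHom.pow_apply, Units.val_pow_eq_pow_val]

end Cfsg.Agent.OddOrderCharacters.HomAlg
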