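import Cfsg.Agent.OddOrderCharacters.PFDefs
import Cfsg.Agent.OddOrderCharacters.WeakTypes
import Cfsg.Agent.OddOrderCharacters.TypeEquivariance

/-!
# Equivariance of the weak notions `IsOfTypeI'`, `typeA'`, `typeA0'`, `Supports'` under isomorphisms
-/

set_option autoImplicit false

open Cfsg

namespace Cfsg.Agent.OddOrderCharacters.WeakEquivariance

open Cfsg.Agent.OddOrderCharacters.PFDefs Cfsg.Agent.OddOrderCharacters.TypeEquivariance

universe u

variable {G H : Type u} [Group G] [Group H] [Finite G] [Finite H]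

theorem isOfTypeP_map_of (e : G ≃* H) (M : Subgroup G) (h : IsOfTypeP M) :
    IsOfTypeP (M.map e.toMonoidHom) := by
  obtain ⟨W₁, U, W₂, h⟩ := h
  exact ⟨_, _, _, isTypePWith_map_of e M W₁ U W₂ h⟩

theorem isOfTypeP_map (e : G ≃* H) (M : Subgroup G) :
    IsOfTypeP (M.map e.toMonoidHom) ↔ IsOfTypeP M := by
  refine ⟨fun h => ?_, isOfTypeP_map_of e M⟩
  have := isOfTypeP_map_of e.symm _ h
  rwa [map_symm_map] at this

theorem isOfTypeI'_map_of (e : G ≃* H) (M : Subgroup G) (h : IsOfTypeI' M) :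
    IsOfTypeI' (M.map e.toMonoidHom) := by
  obtain ⟨hF, h⟩ := h
  refine ⟨(isOfTypeF_congr (subEquiv e M)).2 hF, ?_⟩
  rw [fittingHallOf_map]
  rcases h with h | ⟨h1, h2, h3⟩ | ⟨h1, h2⟩
  · left; exact (isTISubset_map e _).2 h
  · right; left
    refine ⟨(isMulCommutative_congr (subEquiv e _)).2 h1, (rankLE_congr _ (subEquiv e _)).2 h2, ?_⟩
    rw [rankLE_congr _ (subEquiv e _)]; exact h3
  · right; right
    rw [card_map_equiv]
    refine ⟨fun p hp hpd => ?_, ?_⟩
    · rw [exponent_quotient_congr (subEquiv e M) (fittingHall M) _ (fittingHall_map (subEquiv e M))]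
      exact h1 p hp hpd
    · obtain ⟨p, hp, hpd, hc⟩ := h2
      refine ⟨p, hp, hpd, ?_⟩
      rw [← pPrimeCore_map p (subEquiv e (fittingHallOf M)),
        isCyclic_congr (subEquiv (subEquiv e (fittingHallOf M)) _)]
      exact hc

theorem isOfTypeI'_map (e : G ≃* H) (M : Subgroup G) :
    IsOfTypeI' (M.map e.toMonoidHom) ↔ IsOfTypeI' M := by
  refine ⟨fun h => ?_, isOfTypeI'_map_of e M⟩
  have := isOfTypeI'_map_of e.symm _ h
  rwa [map_symm_map] at this

theorem typeA'_map (e : G ≃* H) (M : Subgroup G) :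
    typeA' (M.map e.toMonoidHom) = e '' (typeA' M) := by
  classical
  have key : ∀ (K L : Subgroup G), {a : H | a ∈ K.map e.toMonoidHom ∧ a ≠ 1 ∧
      ∃ x ∈ L.map e.toMonoidHom, x ≠ 1 ∧ a * x = x * a} =
      e '' {a | a ∈ K ∧ a ≠ 1 ∧ ∃ x ∈ L, x ≠ 1 ∧ a * x = x * a} := by
    intro K L
    ext a
    rw [mem_image_equiv']
    simp only [Set.mem_ofPred_eq]
    rw [mem_map_equiv']
    refine and_congr Iff.rfl (and_congr ?_ ?_)
    · simp
    · constructor
      · rintro ⟨x, hx, hx1, hax⟩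
        refine ⟨e.symm x, (mem_map_equiv' e L x).1 hx, by simpa using hx1, ?_⟩
        rw [← map_mul, ← map_mul, hax]
      · rintro ⟨x, hx, hx1, hax⟩
        refine ⟨e x, (mem_map_equiv e L x).2 hx, by simpa using hx1, ?_⟩
        have := congrArg e hax
        simpa using this
  unfold typeA'
  rw [isOfTypeP_map]
  split_ifs
  · rw [map_commutator', typeCore_map]; exact key _ _
  · rw [fittingHallOf_map]; exact key _ _

theorem typeA0'_map_subset (e : G ≃* H) (M : Subgroup G) :
    e '' (typeA0' M) ⊆ typeA0' (M.map e.toMonoidHom) := by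
  rintro _ ⟨v, hv, rfl⟩
  rcases hv with hv | ⟨W₁, U, W₂, hP, m, hm, w, hw, hw1, hw2, rfl⟩
  · left; rw [typeA'_map]; exact ⟨v, hv, rfl⟩
  · right
    refine ⟨_, _, _, isTypePWith_map_of e _ _ _ _ hP, e m,
      (mem_map_equiv e M m).2 hm, e w, ?_, ?_, ?_, by simp⟩
    · rw [← map_sup', mem_map_equiv]; exact hw
    · rw [mem_map_equiv]; exact hw1
    · rw [mem_map_equiv]; exact hw2

theorem typeA0'_map (e : G ≃* H) (M : Subgroup G) :
    typeA0' (M.map e.toMonoidHom) = e '' (typeA0' M) := by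
  refine Set.Subset.antisymm ?_ (typeA0'_map_subset e M)
  intro x hx
  rw [mem_image_equiv']
  have := typeA0'_map_subset e.symm (M.map e.toMonoidHom) ⟨x, hx, rfl⟩
  rwa [map_symm_map] at this

theorem supports'_map_of (e : G ≃* H) {L M : Subgroup G} (h : Supports' L M) :
    Supports' (L.map e.toMonoidHom) (M.map e.toMonoidHom) := by
  obtain ⟨hL, x, hx, h1, h2⟩ := h
  refine ⟨(isCoatom_map e L).2 hL, e x, ?_, ?_, ?_⟩
  · rw [typeA0'_map]; exact ⟨x, hx, rfl⟩
  · rw [centralizer_singleton', map_le_map_iff']; exact h1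
  · rw [centralizer_singleton', map_le_map_iff']; exact h2

theorem supports'_map (e : G ≃* H) {L M : Subgroup G} :
    Supports' (L.map e.toMonoidHom) (M.map e.toMonoidHom) ↔ Supports' L M := by
  refine ⟨fun h => ?_, supports'_map_of e⟩
  have := supports'_map_of e.symm h
  rwa [map_symm_map, map_symm_map] at this

end Cfsg.Agent.OddOrderCharacters.WeakEquivariance
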