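import Mathlib

/-!
# Peterfalvi (11.1): an elementary inequality
-/

set_option autoImplicit false

namespace Cfsg.Agent.OddOrderCharacters.PF11Arith

/-- Peterfalvi (11.1): `4 q² + 1 < p ^ q` for distinct odd primes. -/
theorem lbound_expn_odd_prime {p q : ℕ} (hp : p.Prime) (hq : q.Prime) (hp2 : p ≠ 2) (hq2 : q ≠ 2)
    (hpq : p ≠ q) : 4 * q ^ 2 + 1 < p ^ q := by
  have hp3 : 3 ≤ p := by have := hp.two_le; omega
  have hq3 : 3 ≤ q := by have := hq.two_le; omega
  rcases lt_or_ge q 5 with hq5 | hq5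
  · have h3 : q = 3 := by
      interval_cases q
      · rfl
      · exact absurd hq (by norm_num)
    subst h3
    have hp5 : 5 ≤ p := by
      by_contra hcon
      have : p = 4 := by omega
      subst this
      exact absurd hp (by norm_num)
    calc 4 * 3 ^ 2 + 1 < 5 ^ 3 := by norm_num
      _ ≤ p ^ 3 := Nat.pow_le_pow_left hp5 3
  · have key : ∀ n : ℕ, 5 ≤ n → 4 * n ^ 2 + 1 < 3 ^ n := by
      intro n hn
      induction n, hn using Nat.le_induction with
      | base => norm_num
      | succ n hn ih =>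
        have h1 : 3 ^ (n + 1) = 3 ^ n * 3 := pow_succ 3 n
        rw [h1]
        nlinarith
    calc 4 * q ^ 2 + 1 < 3 ^ q := key q hq5
      _ ≤ p ^ q := Nat.pow_le_pow_left hp3 q

end Cfsg.Agent.OddOrderCharacters.PF11Arith
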