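import Mathlib
import Cfsg.Agent.OddOrderCharacters.PFDefs
import Cfsg.Agent.OddOrderCharacters.PF3bBasic
import Cfsg.Agent.OddOrderCharacters.PF3bLin
import Cfsg.Agent.OddOrderCharacters.PF3b
import Cfsg.Agent.OddOrderCharacters.PF3bGal

/-!
# Parity of sums of the `η_ij`

For `g` of order prime to `|W₁|`, the row sum `Σ_i η_i0(g)` is an odd rational integer.
-/

set_option autoImplicit false
open Cfsg
open scoped ComplexConjugate
open Cfsg.Agent.OddOrderCharacters.PFDefs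

namespace Cfsg.Agent.OddOrderCharacters.PF3bParity

/-- A sum of integers `f ω` over a finite set closed under inversion in which only `1` is its own inverse,
with `f ω⁻¹ = f ω`, has the parity of `f 1`. -/
theorem sum_parity {A : Type*} [Group A] (s : Finset A) (h1 : (1 : A) ∈ s)
    (hs : ∀ a ∈ s, a⁻¹ ∈ s) (hne : ∀ a ∈ s, a ≠ 1 → a⁻¹ ≠ a) (f : A → ℤ)
    (hf : ∀ a ∈ s, f a⁻¹ = f a) : ∃ k : ℤ, ∑ a ∈ s, f a = f 1 + 2 * k := by
  classical
  have key : ((∑ a ∈ s.erase 1, f a : ℤ) : ZMod 2) = 0 := by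
    rw [Int.cast_sum]
    refine Finset.sum_involution (fun a _ => a⁻¹) ?_ ?_ ?_ ?_
    · intro a ha
      rw [hf a (Finset.mem_of_mem_erase ha)]
      exact CharTwo.add_self_eq_zero _
    · intro a ha _
      exact hne a (Finset.mem_of_mem_erase ha) (Finset.ne_of_mem_erase ha)
    · intro a ha
      rw [Finset.mem_erase]
      refine ⟨fun h => Finset.ne_of_mem_erase ha (inv_eq_one.mp h), hs a (Finset.mem_of_mem_erase ha)⟩
    · intro a _
      exact inv_inv a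
  rw [← Finset.add_sum_erase s f h1]
  have h2 : (2 : ℤ) ∣ ∑ a ∈ s.erase 1, f a := by
    have := (ZMod.intCast_zmod_eq_zero_iff_dvd _ 2).mp key
    exact_mod_cast this
  obtain ⟨k, hk⟩ := h2
  exact ⟨k, by rw [hk]⟩

variable {G : Type*} [Group G] [Fintype G] {W W₁ W₂ : Subgroup G}
  {η : (↥W →* ℂˣ) → (G → ℂ)}

section

variable (hη : CyclicTIFam W W₁ W₂ η) (hW : CyclicTIHyp W W₁ W₂)
include hη hW

/-- `η_i0(g)` is an integer if the order of `g` is prime to `|W₁|`. -/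
theorem eta_int₁ {g : G} (hg : (orderOf g).Coprime (Nat.card W₁)) {φ : ↥W →* ℂˣ}
    (hφ : φ ∈ lin₁ W W₂) : ∃ n : ℤ, η φ g = n := by
  refine PF3bGal.eta_int hη hW ?_
  exact Nat.Coprime.coprime_dvd_right (orderOf_dvd_of_pow_eq_one (PF3bLin.pow_card₁ hW hφ)) hg

/-- `η_ij(g)` is an integer if the order of `g` is prime to `|W|`. -/
theorem eta_int_W {g : G} (hg : (orderOf g).Coprime (Nat.card W)) (ω : ↥W →* ℂˣ) :
    ∃ n : ℤ, η ω g = n := by
  refine PF3bGal.eta_int hη hW ?_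
  exact Nat.Coprime.coprime_dvd_right (orderOf_dvd_of_pow_eq_one (PF3bLin.pow_card hW)) hg

/-- (10.6), parity: the sum `Σ_i η_i0(g)` is an odd integer if the order of `g` is prime to `|W₁|`. -/
theorem colSum_one_odd {g : G} (hg : (orderOf g).Coprime (Nat.card W₁)) :
    ∃ k : ℤ, colSum W W₂ η 1 g = 1 + 2 * (k : ℂ) := by
  classical
  have hfin := PF3bBasic.finite_lin₁ hW W₂
  have hint : ∀ φ : ↥W →* ℂˣ, ∃ n : ℤ, φ ∈ lin₁ W W₂ → η φ g = n := by
    intro φ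
    by_cases hφ : φ ∈ lin₁ W W₂
    · obtain ⟨n, hn⟩ := eta_int₁ hη hW hg hφ
      exact ⟨n, fun _ => hn⟩
    · exact ⟨0, fun h => absurd h hφ⟩
  choose f hf using hint
  have hmem : ∀ φ, φ ∈ hfin.toFinset ↔ φ ∈ lin₁ W W₂ := fun φ => hfin.mem_toFinset
  obtain ⟨k, hk⟩ := sum_parity hfin.toFinset ((hmem 1).mpr (PF3bBasic.one_mem_lin₁ W₂))
    (fun a ha => (hmem _).mpr (PF3bBasic.inv_mem_lin₁ ((hmem a).mp ha)))
    (fun a _ ha1 => PF3bLin.inv_ne hW ha1) f (fun a ha => by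
      have ha' := (hmem a).mp ha
      have h1 := hf a⁻¹ (PF3bBasic.inv_mem_lin₁ ha')
      have h2 := hf a ha'
      have h3 : η a⁻¹ g = conj (η a g) := PF3bGal.eta_inv_apply hη hW a g
      rw [h1, h2] at h3
      have h4 : ((f a⁻¹ : ℤ) : ℂ) = (f a : ℤ) := by rw [h3]; simp
      exact_mod_cast h4)
  refine ⟨k, ?_⟩
  have h1 : f 1 = 1 := by
    have h2 := hf 1 (PF3bBasic.one_mem_lin₁ W₂)
    rw [hη.map_one] at h2
    have h4 : (1 : ℂ) = ((f 1 : ℤ) : ℂ) := h2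
    exact_mod_cast h4.symm
  have h3 : colSum W W₂ η 1 g = ∑ φ ∈ hfin.toFinset, (f φ : ℂ) := by
    rw [PF3bLin.colSum_apply hW, finsum_mem_eq_finite_toFinset_sum _ hfin]
    refine Finset.sum_congr rfl fun φ hφ => ?_
    have e : φ * (1 : ↥W →* ℂˣ) = φ := mul_one φ
    rw [e]
    exact hf φ ((hmem φ).mp hφ)
  rw [h3, ← Int.cast_sum, hk, h1]
  push_cast
  ring

/-- The sum of all `η_i0(g)`, `i ≠ 0`, is an even integer for `g` of order prime to `|W₁|`, and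
`|Σ_i η_i0(g)| ≥ 1`. -/
theorem one_le_norm_colSum_one {g : G} (hg : (orderOf g).Coprime (Nat.card W₁)) :
    1 ≤ ‖colSum W W₂ η 1 g‖ := by
  obtain ⟨k, hk⟩ := colSum_one_odd hη hW hg
  rw [hk]
  have h1 : (1 + 2 * (k : ℂ)) = ((1 + 2 * k : ℤ) : ℂ) := by push_cast; ring
  rw [h1, Complex.norm_intCast]
  have h2 : 1 ≤ |1 + 2 * k| := Int.one_le_abs (by omega)
  exact_mod_cast h2

/-- General form: an odd-size set `s` of linear characters closed under inversion and containing `1`, all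
of whose members are integer valued at `g`. -/
theorem sum_odd {g : G} (s : Finset (↥W →* ℂˣ)) (h1 : (1 : ↥W →* ℂˣ) ∈ s)
    (hs : ∀ ω ∈ s, ω⁻¹ ∈ s) (hint : ∀ ω ∈ s, ∃ n : ℤ, η ω g = n) :
    ∃ k : ℤ, ∑ ω ∈ s, η ω g = 1 + 2 * (k : ℂ) := by
  classical
  have hint' : ∀ φ : ↥W →* ℂˣ, ∃ n : ℤ, φ ∈ s → η φ g = n := by
    intro φ
    by_cases hφ : φ ∈ s
    · obtain ⟨n, hn⟩ := hint φ hφ
      exact ⟨n, fun _ => hn⟩
    · exact ⟨0, fun h => absurd h hφ⟩
  choose f hf using hint'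
  obtain ⟨k, hk⟩ := sum_parity s h1 hs (fun a _ ha1 => PF3bLin.inv_ne hW ha1) f (fun a ha => by
      have h1 := hf a⁻¹ (hs a ha)
      have h2 := hf a ha
      have h3 : η a⁻¹ g = conj (η a g) := PF3bGal.eta_inv_apply hη hW a g
      rw [h1, h2] at h3
      have h4 : ((f a⁻¹ : ℤ) : ℂ) = (f a : ℤ) := by rw [h3]; simp
      exact_mod_cast h4)
  refine ⟨k, ?_⟩
  have h11 : f 1 = 1 := by
    have h2 := hf 1 h1
    rw [hη.map_one] at h2
    have h4 : (1 : ℂ) = ((f 1 : ℤ) : ℂ) := h2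
    exact_mod_cast h4.symm
  rw [Finset.sum_congr rfl fun ω hω => hf ω hω, ← Int.cast_sum, hk, h11]
  push_cast
  ring

end

end Cfsg.Agent.OddOrderCharacters.PF3bParity
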