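import Cfsg.Agent.OddOrderCharacters.PF7Pair
import Cfsg.Agent.Characters.Values

/-!
# Peterfalvi (7.10)
-/

set_option autoImplicit false

open scoped ComplexConjugate
open Cfsg Cfsg.Agent.OddOrderCharacters.PFDefs Cfsg.Agent.OddOrderCharacters.PF7IndBasic
  Cfsg.Agent.OddOrderCharacters.PF7Ind

namespace Cfsg.Agent.OddOrderCharacters.PF7Count

open Cfsg.Agent.Characters.Core Cfsg.Agent.OddOrderCharacters.VChar

variable {G : Type*} [Group G] [Fintype G]

omit [Fintype G] in
theorem card_sharp [Finite G] (H : Subgroup G) : Nat.card (sharp H) = Nat.card H - 1 := by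
  classical
  rw [Nat.card_coe_set_eq]
  show ((H : Set G) \ {1}).ncard = _
  rw [Set.ncard_sdiff_singleton_of_mem H.one_mem]
  rfl

/-- A generalized character of norm one whose value at `1` has absolute value at most one has all its
values of absolute value at most one. -/
theorem norm_le_one {χ : G → ℂ} (hχ : IsGeneralizedCharacter G χ) (h1 : classInner χ χ = 1)
    (h : ‖χ 1‖ ≤ 1) (g : G) : ‖χ g‖ ≤ 1 := by
  have key : ∀ ψ : G → ℂ, IsIrrCharacter G ψ → ‖ψ g‖ ≤ ‖ψ 1‖ := by
    intro ψ hψ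
    obtain ⟨n, ρ, hρ⟩ := isCharacter_def.1 (isIrr_isCharacter hψ)
    have h2 := Cfsg.Agent.Characters.Values.norm_character_le ρ g
    have h3 : ψ 1 = (Module.finrank ℂ (Fin n → ℂ) : ℂ) := by
      rw [← hρ]
      exact ρ.char_one
    rw [h3, ← hρ, Complex.norm_natCast]
    exact h2
  rcases isIrr_of_generalized hχ h1 with h2 | h2
  · exact (key _ h2).trans h
  · have := key _ h2
    rw [Pi.neg_apply, Pi.neg_apply, norm_neg, norm_neg] at this
    exact this.trans h

section one

variable {L H : Subgroup G} [Fintype ↥L] {R : G → Subgroup G} {ν : (↥L → ℂ) → (G → ℂ)}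
  {ζ : ↥L → ℂ}

theorem nu_norm (hC : CohHyp L H R ν ζ) : classInner (ν ζ) (ν ζ) = 1 := by
  rw [lin_inner hC.isom (zspan_subset hC.mem) (zspan_subset hC.mem), classInner_irr_self hC.irr]

omit [Fintype G] in
theorem card_L_real (hI : IndHyp L H R) : (Nat.card L : ℝ) = (H.relIndex L : ℝ) * Nat.card H := by
  have := card_L hI.le
  exact_mod_cast this

omit [Fintype ↥L] in
theorem relIndex_pos : 0 < (H.relIndex L : ℝ) := by
  have : H.relIndex L ≠ 0 := Subgroup.index_ne_zero_of_finite (H := H.subgroupOf L)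
  exact_mod_cast Nat.pos_of_ne_zero this

/-- the value `(ν ζ) 1` is not `±1` when `1 < e` -/
theorem one_lt_norm_nu (hC : CohHyp L H R ν ζ) (he : 2 * H.relIndex L ≤ Nat.card H - 1)
    (hlt : H ≠ L) : 1 < ‖ν ζ 1‖ := by
  classical
  by_contra hcon
  push Not at hcon
  have hg := nu_gen hC hC.mem
  have h1 := nu_norm hC
  have hle := norm_le_one hg h1 hcon
  have h2 := PF7Rho.norm_rho_le hC.dade (gen_isClassFunction hg)
  have h3 := norm_rho_nu_zeta hC he
  have h4 : (Nat.card G : ℝ)⁻¹ * ∑ᶠ g ∈ dadeSupport (sharp H) R, ‖ν ζ g‖ ^ 2 ≤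
      (Nat.card (sharp H) : ℝ) / Nat.card L := by
    rw [← PF7Rho.card_dadeSupport hC.dade, div_eq_inv_mul]
    refine mul_le_mul_of_nonneg_left ?_ (by positivity)
    rw [DadeBasic.finsum_mem_eq_sum_ite, ← Finset.sum_filter, Nat.card_eq_fintype_card,
      Fintype.card_subtype]
    calc ∑ g ∈ Finset.univ.filter (· ∈ dadeSupport (sharp H) R), ‖ν ζ g‖ ^ 2
        ≤ ∑ g ∈ Finset.univ.filter (· ∈ dadeSupport (sharp H) R), (1 : ℝ) := by
          refine Finset.sum_le_sum fun g _ => ?_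
          have := hle g
          have h0 := norm_nonneg (ν ζ g)
          nlinarith
      _ = _ := by
          rw [Finset.sum_const, nsmul_eq_mul, mul_one]
  have h5 := h3.trans (h2.trans h4)
  have hcard : (Nat.card (sharp H) : ℝ) = (Nat.card H : ℝ) - 1 := by
    rw [card_sharp, Nat.cast_sub Nat.card_pos]
    simp
  rw [hcard, card_L_real hC.toIndHyp] at h5
  have hepos : 0 < (H.relIndex L : ℝ) := relIndex_pos
  have hhpos : 0 < (Nat.card H : ℝ) := by exact_mod_cast Nat.card_pos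
  have he1 : 2 ≤ H.relIndex L := by
    have h6 : H.relIndex L ≠ 0 := by
      intro h
      rw [h] at hepos
      simp at hepos
    have h7 : H.relIndex L ≠ 1 := by
      intro h
      exact hlt (le_antisymm hC.le (Subgroup.relIndex_eq_one.1 h))
    omega
  have he1' : (2 : ℝ) ≤ H.relIndex L := by exact_mod_cast he1
  have hh : 2 * (H.relIndex L : ℝ) + 1 ≤ Nat.card H := by
    have : 2 * H.relIndex L + 1 ≤ Nat.card H := by omega
    exact_mod_cast this
  have hE : (H.relIndex L : ℝ) * (Nat.card H) ≠ 0 := by positivity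
  rw [sub_le_iff_le_add, div_add_div _ _ hE hhpos.ne', le_div_iff₀ (by positivity), one_mul] at h5
  have h8 : (Nat.card H : ℝ) * ((H.relIndex L - 1) * (Nat.card H - (H.relIndex L + 1))) ≤ 0 := by
    nlinarith
  have h9 : 0 < (Nat.card H : ℝ) * ((H.relIndex L - 1) * (Nat.card H - (H.relIndex L + 1))) := by
    apply mul_pos hhpos
    apply mul_pos <;> linarith
  linarith

end one

/-- (7.10): no partition of `G#` into the Dade supports of at least two coherent Frobenius subgroups. -/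
theorem no_coherent_Frobenius_partition (hodd : Odd (Nat.card G)) {ι : Type*} [Fintype ι]
    (hι : 2 ≤ Fintype.card ι) (L H : ι → Subgroup G) [∀ i, Fintype ↥(L i)]
    (R : ι → G → Subgroup G) (ν : ∀ i, (↥(L i) → ℂ) → (G → ℂ)) (ζ : ∀ i, ↥(L i) → ℂ)
    (hC : ∀ i, CohHyp (L i) (H i) (R i) (ν i) (ζ i))
    (hirr : ∀ i, ∀ ξ ∈ indS (L i) (H i), IsIrrCharacter ↥(L i) ξ)
    (hlt : ∀ i, H i ≠ L i) (he : ∀ i, 2 * (H i).relIndex (L i) ≤ Nat.card (H i) - 1)
    (hdisj : ∀ i j, i ≠ j →
      Disjoint (dadeSupport (sharp (H i)) (R i)) (dadeSupport (sharp (H j)) (R j)))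
    (hcover : ∀ g : G, g ≠ 1 → ∃ i, g ∈ dadeSupport (sharp (H i)) (R i)) : False := by
  classical
  have : Nonempty ι := Fintype.card_pos_iff.1 (by omega)
  obtain ⟨i, hi⟩ := Finite.exists_min (fun i => Nat.card (H i))
  -- notation
  set χ := ν i (ζ i) with hχdef
  have hχg : IsGeneralizedCharacter G χ := nu_gen (hC i) (hC i).mem
  have hχc := gen_isClassFunction hχg
  have hχ1 : classInner χ χ = 1 := nu_norm (hC i)
  have hne : ∀ j, ∀ ξ ∈ indS (L j) (H j), conjFun ξ ≠ ξ := fun j ξ hξ =>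
    PF7Pair.conj_ne hodd (hC j).toIndHyp hξ (hirr j ξ hξ)
  have horth : ∀ j k, j ≠ k → ∀ ξ ∈ indS (L j) (H j), ∀ ξ' ∈ indS (L k) (H k),
      classInner (ν j ξ) (ν k ξ') = 0 := fun j k hjk ξ hξ ξ' hξ' =>
    PF7Pair.nu_orthogonal (hC j) (hC k) (hdisj j k hjk) hξ hξ' (hirr j ξ hξ) (hirr k ξ' hξ')
      (hne j ξ hξ) (hne k ξ' hξ')
  have hiso : ∀ j, ∀ ξ ∈ indS (L j) (H j), ∀ ξ' ∈ indS (L j) (H j),
      classInner (ν j ξ) (ν j ξ') = classInner ξ ξ' := fun j ξ hξ ξ' hξ' =>
    lin_inner (hC j).isom (zspan_subset hξ) (zspan_subset hξ')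
  have hepos : ∀ j, 0 < ((H j).relIndex (L j) : ℝ) := fun j => relIndex_pos
  have hhpos : ∀ j, 0 < (Nat.card (H j) : ℝ) := fun j => by exact_mod_cast Nat.card_pos
  have hh : ∀ j, 2 * ((H j).relIndex (L j) : ℝ) + 1 ≤ Nat.card (H j) := by
    intro j
    have h1 := he j
    have h2 := hepos j
    have h3 : 0 < (H j).relIndex (L j) := by exact_mod_cast h2
    have : 2 * (H j).relIndex (L j) + 1 ≤ Nat.card (H j) := by omega
    exact_mod_cast this
  -- (7.5)
  have h75 := PF7Rho.cover_inequality (fun j => sharp (H j)) L R (fun j => (hC j).dade) hdisj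
    hχc hχ1
  have hcompl : (⋃ j, dadeSupport (sharp (H j)) (R j))ᶜ = {1} := by
    ext g
    simp only [Set.mem_compl_iff, Set.mem_iUnion, Set.mem_singleton_iff]
    constructor
    · intro h
      by_contra hg
      exact h (hcover g hg)
    · rintro rfl ⟨j, hj⟩
      exact DadeBasic.one_notMem_supp (hC j).dade hj
  rw [hcompl, finsum_mem_singleton] at h75
  have hcard1 : (Nat.card ↥({1} : Set G) : ℝ) = 1 := by simp
  rw [hcard1] at h75
  have hfirst : 0 < (Nat.card G : ℝ)⁻¹ * (‖χ 1‖ ^ 2 - 1) := by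
    have h1 := one_lt_norm_nu (hC i) (he i) (hlt i)
    have h2 : (0 : ℝ) < Nat.card G := by exact_mod_cast Nat.card_pos
    apply mul_pos (inv_pos.2 h2)
    nlinarith
  -- the set of the bad indices
  let J : Finset ι := Finset.univ.filter fun j =>
    j ≠ i ∧ classInner χ (dbeta (L j) (H j) (R j) (ζ j)) = 0
  have hcs : ∀ j, (Nat.card (sharp (H j)) : ℝ) = (Nat.card (H j) : ℝ) - 1 := by
    intro j
    rw [card_sharp, Nat.cast_sub Nat.card_pos]
    simp
  have hcL : ∀ j, (Nat.card (L j) : ℝ) = ((H j).relIndex (L j) : ℝ) * Nat.card (H j) :=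
    fun j => card_L_real (hC j).toIndHyp
  -- term at i
  have hti : 1 - ((H i).relIndex (L i) : ℝ) / Nat.card (H i) -
      ((Nat.card (H i) : ℝ) - 1) / (((H i).relIndex (L i) : ℝ) * Nat.card (H i)) ≤
      (classInner (rho (sharp (H i)) (L i) (R i) χ) (rho (sharp (H i)) (L i) (R i) χ)).re -
        (Nat.card (sharp (H i)) : ℝ) / Nat.card (L i) := by
    have h1 := norm_rho_nu_zeta (hC i) (he i)
    rw [hcs, hcL]
    linarith
  -- term at the others
  have htj : ∀ j, j ≠ i → (if j ∈ J then -(((Nat.card (H j) : ℝ) - 1) /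
      (((H j).relIndex (L j) : ℝ) * Nat.card (H j))) else 0) ≤
      (classInner (rho (sharp (H j)) (L j) (R j) χ) (rho (sharp (H j)) (L j) (R j) χ)).re -
        (Nat.card (sharp (H j)) : ℝ) / Nat.card (L j) := by
    intro j hj
    rw [norm_rho_of_orthogonal (hC j) hχc
      (fun ξ hξ => horth i j (Ne.symm hj) _ (hC i).mem ξ hξ), hcs, ← hcL]
    obtain ⟨n, hn⟩ := gen_inner hχg (dbeta_gen (hC j))
    have hpos : 0 ≤ ((Nat.card (H j) : ℝ) - 1) / Nat.card (L j) := by
      have := hh j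
      have := hepos j
      apply div_nonneg <;> [linarith; positivity]
    split_ifs with h
    · have h0 : classInner χ (dbeta (L j) (H j) (R j) (ζ j)) = 0 := (Finset.mem_filter.1 h).2.2
      rw [h0]
      simp
    · have h0 : classInner χ (dbeta (L j) (H j) (R j) (ζ j)) ≠ 0 := by
        intro h0
        exact h (Finset.mem_filter.2 ⟨Finset.mem_univ _, hj, h0⟩)
      rw [hn] at h0 ⊢
      have hn0 : n ≠ 0 := by
        rintro rfl
        simp at h0
      have h1 : (1 : ℝ) ≤ ‖(n : ℂ)‖ ^ 2 := by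
        rw [Complex.norm_intCast, sq_abs]
        have : 1 ≤ n ^ 2 := by
          have := Int.one_le_abs hn0
          nlinarith [sq_abs n]
        exact_mod_cast this
      nlinarith
  -- (7.9) and Bessel
  have hJsum : ∑ j ∈ J, ((Nat.card (H j) : ℝ) - 1) / (H j).relIndex (L j) ≤
      ((H i).relIndex (L i) : ℝ) - 1 := by
    have hfin : ∀ j, (indS (L j) (H j)).Finite := fun j => indS_finite
    let S : ∀ j, Finset (↥(L j) → ℂ) := fun j => (hfin j).toFinset
    let D : Finset (Σ j, (↥(L j) → ℂ)) := J.sigma S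
    have hDmem : ∀ p ∈ D, p.1 ∈ J ∧ p.2 ∈ indS (L p.1) (H p.1) := by
      intro p hp
      obtain ⟨h1, h2⟩ := Finset.mem_sigma.1 hp
      exact ⟨h1, (hfin p.1).mem_toFinset.1 h2⟩
    let F : (Σ j, (↥(L j) → ℂ)) → (G → ℂ) := fun p => ν p.1 p.2
    have hFin : ∀ p ∈ D, ∀ q ∈ D, p ≠ q → classInner (F p) (F q) = 0 := by
      rintro ⟨j, ξ⟩ hp ⟨k, ξ'⟩ hq hpq
      by_cases hjk : j = k
      · subst hjk
        have hne' : ξ ≠ ξ' := fun h => hpq (by rw [h])
        show classInner (ν j ξ) (ν j ξ') = 0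
        rw [hiso j _ (hDmem _ hp).2 _ (hDmem _ hq).2]
        exact classInner_irr_ne (hirr j _ (hDmem _ hp).2) (hirr j _ (hDmem _ hq).2) hne'
      · exact horth j k hjk _ (hDmem _ hp).2 _ (hDmem _ hq).2
    have hFself : ∀ p ∈ D, classInner (F p) (F p) = 1 := by
      rintro ⟨j, ξ⟩ hp
      show classInner (ν j ξ) (ν j ξ) = 1
      rw [hiso j _ (hDmem _ hp).2 _ (hDmem _ hp).2]
      exact classInner_irr_self (hirr j _ (hDmem _ hp).2)
    have hinj : Set.InjOn F (D : Set (Σ j, (↥(L j) → ℂ))) := by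
      intro p hp q hq hpq
      by_contra hne'
      have h1 := hFin p hp q hq hne'
      rw [← hpq, hFself p hp] at h1
      norm_num at h1
    have hB := sum_inner_beta_le (hC i) (hne i _ (hC i).mem) (he i) (D.image F) ?_ ?_ ?_ ?_
    · rw [Finset.sum_image (fun p hp q hq h => hinj hp hq h), Finset.sum_sigma] at hB
      refine le_trans (Finset.sum_le_sum fun j hj => ?_) hB
      have hji : j ≠ i := (Finset.mem_filter.1 hj).2.1
      have hj0 : classInner χ (dbeta (L j) (H j) (R j) (ζ j)) = 0 := (Finset.mem_filter.1 hj).2.2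
      have h79 : classInner (dbeta (L i) (H i) (R i) (ζ i)) (ν j (ζ j)) ≠ 0 := by
        rcases PF7Pair.inner_beta_ne_zero hodd (hC i) (hC j) (hdisj i j (Ne.symm hji)) with h | h
        · exact h
        · exact absurd (classInner_comm_eq_zero hj0) h
      obtain ⟨n, hn⟩ := gen_inner (dbeta_gen (hC i)) (nu_gen (hC j) (hC j).mem)
      rw [hn] at h79
      have hn0 : n ≠ 0 := by
        rintro rfl
        simp at h79
      have hn1 : (1 : ℝ) ≤ ‖(n : ℂ)‖ ^ 2 := by
        rw [Complex.norm_intCast, sq_abs]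
        have : 1 ≤ n ^ 2 := by
          have := Int.one_le_abs hn0
          nlinarith [sq_abs n]
        exact_mod_cast this
      -- sum of the squares of the degrees
      have hsq := sum_indS_sq (hC j).le (hC j).normal
      rw [finsum_mem_eq_finite_toFinset_sum _ (hfin j)] at hsq
      have hdeg : ∀ ξ ∈ S j, ∃ d : ℕ, ξ 1 = (d : ℂ) := fun ξ hξ =>
        isCharacter_apply_one (isIrr_isCharacter (hirr j ξ ((hfin j).mem_toFinset.1 hξ)))
      have hsq' : ∑ ξ ∈ S j, ‖ξ 1‖ ^ 2 = ((H j).relIndex (L j) : ℝ) * (Nat.card (H j) - 1) := by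
        have h1 : ((∑ ξ ∈ S j, ‖ξ 1‖ ^ 2 : ℝ) : ℂ) =
            (((H j).relIndex (L j) : ℝ) * (Nat.card (H j) - 1) : ℝ) := by
          push_cast
          rw [← hsq]
          refine Finset.sum_congr rfl fun ξ hξ => ?_
          obtain ⟨d, hd⟩ := hdeg ξ hξ
          rw [classInner_irr_self (hirr j ξ ((hfin j).mem_toFinset.1 hξ)), hd]
          simp
        exact_mod_cast h1
      calc ((Nat.card (H j) : ℝ) - 1) / (H j).relIndex (L j)
          = ∑ ξ ∈ S j, ‖ξ 1‖ ^ 2 / ((H j).relIndex (L j) : ℝ) ^ 2 := by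
            rw [← Finset.sum_div, hsq']
            have := (hepos j).ne'
            field_simp
        _ ≤ ∑ ξ ∈ S j, ‖classInner (dbeta (L i) (H i) (R i) (ζ i)) (F ⟨j, ξ⟩)‖ ^ 2 := by
            refine Finset.sum_le_sum fun ξ hξ => ?_
            show _ ≤ ‖classInner (dbeta (L i) (H i) (R i) (ζ i)) (ν j ξ)‖ ^ 2
            rw [PF7Pair.inner_beta_nu (hC i) (hC j) (hdisj i j (Ne.symm hji))
              ((hfin j).mem_toFinset.1 hξ), hn, norm_mul, norm_div, Complex.norm_natCast, mul_pow,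
              div_pow]
            have : 0 ≤ ‖ξ 1‖ ^ 2 / ((H j).relIndex (L j) : ℝ) ^ 2 := by positivity
            nlinarith
    · intro ψ hψ
      obtain ⟨p, hp, rfl⟩ := Finset.mem_image.1 hψ
      exact gen_isClassFunction (nu_gen (hC p.1) (hDmem p hp).2)
    · intro ψ hψ ψ' hψ'
      obtain ⟨p, hp, rfl⟩ := Finset.mem_image.1 hψ
      obtain ⟨q, hq, rfl⟩ := Finset.mem_image.1 hψ'
      by_cases hpq : p = q
      · subst hpq
        rw [if_pos rfl]
        exact hFself p hp
      · rw [if_neg (fun h => hpq (hinj hp hq h))]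
        exact hFin p hp q hq hpq
    · intro ψ hψ
      obtain ⟨p, hp, rfl⟩ := Finset.mem_image.1 hψ
      exact nu_one (hC p.1) (hne p.1 _ (hC p.1).mem) (hDmem p hp).2
    · intro ψ hψ ξ hξ
      obtain ⟨p, hp, rfl⟩ := Finset.mem_image.1 hψ
      have hpi : p.1 ≠ i := (Finset.mem_filter.1 (hDmem p hp).1).2.1
      exact horth p.1 i hpi _ (hDmem p hp).2 ξ hξ
  -- conclusion
  have hJsum' : ∑ j ∈ J, ((Nat.card (H j) : ℝ) - 1) /
      (((H j).relIndex (L j) : ℝ) * Nat.card (H j)) ≤
      (((H i).relIndex (L i) : ℝ) - 1) / Nat.card (H i) := by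
    rw [le_div_iff₀ (hhpos i), Finset.sum_mul]
    refine le_trans (Finset.sum_le_sum fun j _ => ?_) hJsum
    have h1 : (Nat.card (H i) : ℝ) ≤ Nat.card (H j) := by exact_mod_cast hi j
    have h2 := hepos j
    have h3 := hhpos j
    have h4 := hh j
    rw [div_mul_eq_mul_div, div_le_div_iff₀ (by positivity) h2]
    have h5 : 0 ≤ ((Nat.card (H j) : ℝ) - 1) * (H j).relIndex (L j) := by
      apply mul_nonneg <;> linarith
    nlinarith
  have hsum : 1 - ((H i).relIndex (L i) : ℝ) / Nat.card (H i) -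
      ((Nat.card (H i) : ℝ) - 1) / (((H i).relIndex (L i) : ℝ) * Nat.card (H i)) -
      ∑ j ∈ J, ((Nat.card (H j) : ℝ) - 1) / (((H j).relIndex (L j) : ℝ) * Nat.card (H j)) ≤
      ∑ j, ((classInner (rho (sharp (H j)) (L j) (R j) χ)
        (rho (sharp (H j)) (L j) (R j) χ)).re -
        (Nat.card (sharp (H j)) : ℝ) / Nat.card (L j)) := by
    rw [← Finset.add_sum_erase _ _ (Finset.mem_univ i), sub_eq_add_neg _ (∑ j ∈ J, _)]
    refine add_le_add hti ?_
    have hJsub : J ⊆ Finset.univ.erase i := fun j hj =>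
      Finset.mem_erase.2 ⟨(Finset.mem_filter.1 hj).2.1, Finset.mem_univ _⟩
    have e1 : -(∑ j ∈ J, ((Nat.card (H j) : ℝ) - 1) /
        (((H j).relIndex (L j) : ℝ) * Nat.card (H j))) = ∑ j ∈ Finset.univ.erase i,
          (if j ∈ J then -(((Nat.card (H j) : ℝ) - 1) /
            (((H j).relIndex (L j) : ℝ) * Nat.card (H j))) else 0) := by
      rw [← Finset.sum_neg_distrib, ← Finset.sum_subset hJsub]
      · exact Finset.sum_congr rfl fun j hj => (if_pos hj).symm
      · intro j _ hj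
        exact if_neg hj
    rw [e1]
    exact Finset.sum_le_sum fun j hj => htj j (Finset.ne_of_mem_erase hj)
  have hei := hepos i
  have hhi := hhpos i
  have hhhi := hh i
  have hei2 : (2 : ℝ) ≤ (H i).relIndex (L i) := by
    have h6 : (H i).relIndex (L i) ≠ 0 := by
      intro h
      rw [h] at hei
      simp at hei
    have h7 : (H i).relIndex (L i) ≠ 1 := by
      intro h
      exact hlt i (le_antisymm (hC i).le (Subgroup.relIndex_eq_one.1 h))
    have : 2 ≤ (H i).relIndex (L i) := by omega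
    exact_mod_cast this
  have hfinal : 1 - ((H i).relIndex (L i) : ℝ) / Nat.card (H i) -
      ((Nat.card (H i) : ℝ) - 1) / (((H i).relIndex (L i) : ℝ) * Nat.card (H i)) -
      (((H i).relIndex (L i) : ℝ) - 1) / Nat.card (H i) < 0 := by linarith
  have hcalc : 1 - ((H i).relIndex (L i) : ℝ) / Nat.card (H i) -
      ((Nat.card (H i) : ℝ) - 1) / (((H i).relIndex (L i) : ℝ) * Nat.card (H i)) -
      (((H i).relIndex (L i) : ℝ) - 1) / Nat.card (H i) =
      (((H i).relIndex (L i) : ℝ) - 1) * ((Nat.card (H i) : ℝ) - 2 * (H i).relIndex (L i) - 1) /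
        (((H i).relIndex (L i) : ℝ) * Nat.card (H i)) := by
    field_simp
    ring
  rw [hcalc] at hfinal
  have : 0 ≤ (((H i).relIndex (L i) : ℝ) - 1) *
      ((Nat.card (H i) : ℝ) - 2 * (H i).relIndex (L i) - 1) /
        (((H i).relIndex (L i) : ℝ) * Nat.card (H i)) := by
    apply div_nonneg
    · apply mul_nonneg <;> linarith
    · positivity
  linarith

end Cfsg.Agent.OddOrderCharacters.PF7Count
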