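import Cfsg.Agent.OddOrderCharacters.PF8.TypeF
import Cfsg.Agent.OddOrderCharacters.PF8.TypeP
import Cfsg.Agent.OddOrderCharacters.PF8.DataConj
import Cfsg.Agent.OddOrderCharacters.PF8.Core
import Cfsg.Agent.OddOrderCharacters.PF8.Types
import Cfsg.Agent.OddOrderCharacters.PF8.TypeOne
import Cfsg.Agent.OddOrderCharacters.PF8.DadeHyp
import Cfsg.Agent.OddOrderCharacters.PF8.Unique
import Cfsg.Agent.OddOrderCharacters.PF8.Partition
import Cfsg.Agent.OddOrderCharacters.PF8.Tilde
import Cfsg.Agent.OddOrderCharacters.PF8.Pair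

/-!
# Peterfalvi, Section 8: umbrella module
-/
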