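import Mathlib

/-!
# The field structure on an irreducible module of an abelian group (Peterfalvi (9.7)(b), "Galois case")

`U` acts on the finite additive group `V` (of order `p ^ n`, exponent `p`) irreducibly and with
commutative image; `W` acts on `V` compatibly and fixes some `v₀ ≠ 0`.  Then `V` can be identified
with the field with `p ^ n` elements in such a way that `U` acts by multiplications, `W` acts by field
automorphisms and `v₀` goes to `1`.
-/

set_option autoImplicit false

namespace Cfsg.Agent.OddOrderCharacters.PF9Field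

open Function

section Ring

variable {V : Type*} [AddCommGroup V] {U : Type*} [Group U]

/-- The subring of `End V` generated by the image of `ρ`. -/
def enveloping (ρ : U →* AddMonoid.End V) : Subring (AddMonoid.End V) :=
  Subring.closure (Set.range ρ)

theorem mem_enveloping (ρ : U →* AddMonoid.End V) (u : U) : ρ u ∈ enveloping ρ :=
  Subring.subset_closure ⟨u, rfl⟩

theorem enveloping_comm (ρ : U →* AddMonoid.End V) (hcomm : ∀ u u', ρ u * ρ u' = ρ u' * ρ u)
    (a b : enveloping ρ) : a * b = b * a := by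
  have h : ∀ x ∈ Set.range ρ, ∀ y ∈ Set.range ρ, x * y = y * x := by
    rintro x ⟨u, rfl⟩ y ⟨u', rfl⟩
    exact hcomm u u'
  exact (Subring.isMulCommutative_closure h).is_comm.comm a b

/-- The orbit map `a ↦ a v₀` of the enveloping ring. -/
def orbitMap (ρ : U →* AddMonoid.End V) (v₀ : V) : enveloping ρ →+ V where
  toFun a := (a : AddMonoid.End V) v₀
  map_zero' := rfl
  map_add' _ _ := rfl

theorem orbitMap_apply (ρ : U →* AddMonoid.End V) (v₀ : V) (a : enveloping ρ) :
    orbitMap ρ v₀ a = (a : AddMonoid.End V) v₀ := rfl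

theorem orbitMap_mul (ρ : U →* AddMonoid.End V) (v₀ : V) (a b : enveloping ρ) :
    orbitMap ρ v₀ (a * b) = (a : AddMonoid.End V) (orbitMap ρ v₀ b) := rfl

theorem orbitMap_one (ρ : U →* AddMonoid.End V) (v₀ : V) : orbitMap ρ v₀ 1 = v₀ := rfl

/-- `V` is an irreducible `U`-module. -/
def Irr (ρ : U →* AddMonoid.End V) : Prop :=
  ∀ Y : AddSubgroup V, (∀ u, ∀ y ∈ Y, ρ u y ∈ Y) → Y = ⊥ ∨ Y = ⊤

theorem orbitMap_surjective (ρ : U →* AddMonoid.End V) (hirr : Irr ρ) {v₀ : V} (h0 : v₀ ≠ 0) :
    Surjective (orbitMap ρ v₀) := by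
  have hinv : ∀ u, ∀ y ∈ (orbitMap ρ v₀).range, ρ u y ∈ (orbitMap ρ v₀).range := by
    rintro u y ⟨a, rfl⟩
    exact ⟨⟨ρ u, mem_enveloping ρ u⟩ * a, rfl⟩
  rcases hirr (orbitMap ρ v₀).range hinv with h | h
  · exfalso
    have h1 : v₀ ∈ (orbitMap ρ v₀).range := ⟨1, orbitMap_one ρ v₀⟩
    rw [h] at h1
    exact h0 (AddSubgroup.mem_bot.1 h1)
  · exact AddMonoidHom.range_eq_top.1 h

theorem orbitMap_injective (ρ : U →* AddMonoid.End V) (hcomm : ∀ u u', ρ u * ρ u' = ρ u' * ρ u)
    (hirr : Irr ρ) {v₀ : V} (h0 : v₀ ≠ 0) : Injective (orbitMap ρ v₀) := by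
  rw [injective_iff_map_eq_zero]
  intro a ha
  apply Subtype.ext
  refine DFunLike.ext _ _ fun v => ?_
  obtain ⟨b, rfl⟩ := orbitMap_surjective ρ hirr h0 v
  rw [← orbitMap_mul, enveloping_comm ρ hcomm, orbitMap_mul, ha, map_zero]
  rfl

/-- The enveloping ring of an irreducible commutative action is a field. -/
noncomputable abbrev fieldEnveloping (ρ : U →* AddMonoid.End V)
    (hcomm : ∀ u u', ρ u * ρ u' = ρ u' * ρ u) (hirr : Irr ρ) [Nontrivial V] :
    Field (enveloping ρ) :=
  IsField.toField (R := enveloping ρ)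
    { exists_pair_ne := ⟨0, 1, fun h => by
        obtain ⟨v, hv⟩ := exists_ne (0 : V)
        apply hv
        have : ((0 : enveloping ρ) : AddMonoid.End V) v = ((1 : enveloping ρ) : AddMonoid.End V) v := by
          rw [h]
        exact this.symm⟩
      mul_comm := enveloping_comm ρ hcomm
      mul_inv_cancel := by
        intro a ha
        obtain ⟨v₀, h0⟩ := exists_ne (0 : V)
        have h1 : orbitMap ρ v₀ a ≠ 0 := by
          intro h
          apply ha
          apply orbitMap_injective ρ hcomm hirr h0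
          rw [h, map_zero]
        obtain ⟨b, hb⟩ := orbitMap_surjective ρ hirr h1 v₀
        refine ⟨b, ?_⟩
        apply orbitMap_injective ρ hcomm hirr h0
        rw [enveloping_comm ρ hcomm, orbitMap_mul, orbitMap_one]
        exact hb }

end Ring

/-- Conjugation by an additive automorphism, as a ring automorphism of the endomorphism ring. -/
def conjEnd {V : Type*} [AddCommGroup V] (t : V ≃+ V) : AddMonoid.End V ≃+* AddMonoid.End V where
  toFun a := (t : V →+ V).comp (AddMonoidHom.comp a (t.symm : V →+ V))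
  invFun a := (t.symm : V →+ V).comp (AddMonoidHom.comp a (t : V →+ V))
  left_inv a := by
    refine DFunLike.ext _ _ fun v => ?_
    show t.symm (t (a (t.symm (t v)))) = a v
    rw [AddEquiv.symm_apply_apply, AddEquiv.symm_apply_apply]
  right_inv a := by
    refine DFunLike.ext _ _ fun v => ?_
    show t (t.symm (a (t (t.symm v)))) = a v
    rw [AddEquiv.apply_symm_apply, AddEquiv.apply_symm_apply]
  map_mul' a b := by
    refine DFunLike.ext _ _ fun v => ?_
    show t (a (b (t.symm v))) = t (a (t.symm (t (b (t.symm v)))))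
    rw [AddEquiv.symm_apply_apply]
  map_add' a b := by
    refine DFunLike.ext _ _ fun v => ?_
    show t (a (t.symm v) + b (t.symm v)) = t (a (t.symm v)) + t (b (t.symm v))
    rw [map_add]

theorem conjEnd_apply {V : Type*} [AddCommGroup V] (t : V ≃+ V) (a : AddMonoid.End V) (v : V) :
    conjEnd t a v = t (a (t.symm v)) := rfl

theorem conjEnd_mem {V : Type*} [AddCommGroup V] {U : Type*} [Group U]
    (ρ : U →* AddMonoid.End V) (t : V ≃+ V) (c : U → U) (hc : ∀ u v, t (ρ u v) = ρ (c u) (t v))
    {a : AddMonoid.End V} (ha : a ∈ enveloping ρ) : conjEnd t a ∈ enveloping ρ := by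
  have h : enveloping ρ ≤ (enveloping ρ).comap (conjEnd t : AddMonoid.End V →+* AddMonoid.End V) := by
    unfold enveloping
    rw [Subring.closure_le]
    rintro x ⟨u, rfl⟩
    show conjEnd t (ρ u) ∈ Subring.closure (Set.range ρ)
    have : conjEnd t (ρ u) = ρ (c u) := by
      refine DFunLike.ext _ _ fun v => ?_
      rw [conjEnd_apply, hc, AddEquiv.apply_symm_apply]
    rw [this]
    exact Subring.subset_closure ⟨c u, rfl⟩
  exact h ha

/-- **Galois case.**  `U` acts irreducibly and with commutative image on `V` with `p ^ n` elements, `W`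
acts compatibly (normalizing the image of `U`) and fixes `v₀ ≠ 0`. -/
theorem exists_field {V : Type*} [AddCommGroup V] [Nontrivial V] {U W : Type*} [Group U] [Group W]
    (p n : ℕ) [Fact p.Prime] (hV : Nat.card V = p ^ n) (hpV : ∀ v : V, p • v = 0)
    (ρ : U →* AddMonoid.End V) (hcomm : ∀ u u', ρ u * ρ u' = ρ u' * ρ u) (hirr : Irr ρ)
    (τ : W → (V ≃+ V)) (hτ : ∀ w w' v, τ (w * w') v = τ w (τ w' v))
    (c : W → U → U) (hc : ∀ w u v, τ w (ρ u v) = ρ (c w u) (τ w v))
    (v₀ : V) (h0 : v₀ ≠ 0) (hfix : ∀ w, τ w v₀ = v₀) :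
    ∃ (f : V ≃+ GaloisField p n) (ψ : U →* (GaloisField p n)ˣ)
      (σ : W →* (GaloisField p n ≃+* GaloisField p n)),
      (∀ u v, f (ρ u v) = (ψ u : GaloisField p n) * f v) ∧ (∀ w v, f (τ w v) = σ w (f v)) ∧
      (∀ w u, (ψ (c w u) : GaloisField p n) = σ w (ψ u)) ∧ f v₀ = 1 := by
  classical
  let _ := fieldEnveloping ρ hcomm hirr
  let g : enveloping ρ ≃+ V := AddEquiv.ofBijective (orbitMap ρ v₀)
    ⟨orbitMap_injective ρ hcomm hirr h0, orbitMap_surjective ρ hirr h0⟩
  have hg : ∀ a, g a = (a : AddMonoid.End V) v₀ := fun a => rfl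
  have hgm : ∀ a b, g (a * b) = (a : AddMonoid.End V) (g b) := fun a b => rfl
  have hcharp : CharP (enveloping ρ) p := by
    rw [CharP.charP_iff_prime_eq_zero (Fact.out : p.Prime)]
    apply g.injective
    rw [map_zero, ← nsmul_one, map_nsmul, hpV]
  let _ : Algebra (ZMod p) (enveloping ρ) := ZMod.algebra _ p
  have hcard : Nat.card (enveloping ρ) = p ^ n := by rw [← hV]; exact Nat.card_congr g.toEquiv
  let e : enveloping ρ ≃+* GaloisField p n :=
    (GaloisField.algEquivGaloisField p n hcard).toRingEquiv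
  let f : V ≃+ GaloisField p n := g.symm.trans e.toAddEquiv
  have hf : ∀ a, f (g a) = e a := fun a => by
    show e (g.symm (g a)) = e a
    rw [AddEquiv.symm_apply_apply]
  -- the action of `U`
  let ψ₀ : U →* enveloping ρ :=
    { toFun := fun u => ⟨ρ u, mem_enveloping ρ u⟩
      map_one' := Subtype.ext (map_one ρ)
      map_mul' := fun u u' => Subtype.ext (map_mul ρ u u') }
  let ψ : U →* (GaloisField p n)ˣ := ((e : enveloping ρ →* GaloisField p n).comp ψ₀).toHomUnits
  have hψ : ∀ u, (ψ u : GaloisField p n) = e (ψ₀ u) := fun u => rfl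
  -- the action of `W`
  let s₀ : W → (enveloping ρ →+* enveloping ρ) := fun w =>
    ((conjEnd (τ w) : AddMonoid.End V →+* AddMonoid.End V).comp (enveloping ρ).subtype).codRestrict
      (enveloping ρ) (fun a => conjEnd_mem ρ (τ w) (c w) (hc w) a.2)
  have hs₀ : ∀ w a, g (s₀ w a) = τ w (g a) := by
    intro w a
    show τ w ((a : AddMonoid.End V) ((τ w).symm v₀)) = τ w ((a : AddMonoid.End V) v₀)
    have : (τ w).symm v₀ = v₀ := by rw [AddEquiv.symm_apply_eq, hfix]
    rw [this]
  have hs₀bij : ∀ w, Bijective (s₀ w) := by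
    intro w
    have h1 : (s₀ w : enveloping ρ → enveloping ρ) = g.symm ∘ (τ w) ∘ g := by
      funext a
      apply g.injective
      rw [hs₀]
      simp
    rw [h1]
    exact g.symm.bijective.comp ((τ w).bijective.comp g.bijective)
  let s : W → (enveloping ρ ≃+* enveloping ρ) := fun w => RingEquiv.ofBijective (s₀ w) (hs₀bij w)
  have hs : ∀ w a, g (s w a) = τ w (g a) := hs₀
  let σ : W →* (GaloisField p n ≃+* GaloisField p n) := MonoidHom.mk'
    (fun w => e.symm.trans ((s w).trans e)) (by
      intro w w'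
      refine RingEquiv.ext fun x => ?_
      show e (s (w * w') (e.symm x)) = e (s w (e.symm (e (s w' (e.symm x)))))
      rw [RingEquiv.symm_apply_apply]
      congr 1
      apply g.injective
      rw [hs, hs, hs, hτ])
  have hσ : ∀ w a, σ w (e a) = e (s w a) := by
    intro w a
    show e (s w (e.symm (e a))) = e (s w a)
    rw [RingEquiv.symm_apply_apply]
  refine ⟨f, ψ, σ, ?_, ?_, ?_, ?_⟩
  · intro u v
    obtain ⟨a, rfl⟩ := g.surjective v
    rw [hf, hψ, ← map_mul, ← hf, hgm]
    rfl
  · intro w v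
    obtain ⟨a, rfl⟩ := g.surjective v
    rw [hf, hσ, ← hf, hs]
  · intro w u
    rw [hψ, hψ, hσ, ← hf, ← hf, hs, hg, hg]
    show f (ρ (c w u) v₀) = f (τ w (ρ u v₀))
    rw [hc, hfix]
  · have : v₀ = g 1 := rfl
    rw [this, hf, map_one]

end Cfsg.Agent.OddOrderCharacters.PF9Field
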