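import Cfsg.Agent.S0139
import Cfsg.Agent.S0193
import Cfsg.Agent.S0148
import Cfsg.Agent.S1521
import Cfsg.Agent.Lib.CoprimeCommutator
import Cfsg.Agent.OddOrderCharacters.ClassSum
import Cfsg.Agent.OddOrderCharacters.OutsideCentral
import Mathlib.Tactic

/-!
# The coprime action of the complement in Sibley's coherence theorem

`L = K ⋊ W₁` with `|K|` and `|W₁|` coprime and `C_K(w) ≤ W₂` for all `w ∈ W₁#`.

* `fpf_mod`, `frob_mod` : `W₁` acts fixed point freely on the sections `M/N` of `K` covering nothing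
  of `W₂`; `L/N` is Frobenius-like there.
* `inertia_le`, `isIrr_indFun` : an irreducible character of `K` trivial on `N` and nontrivial on
  `M`, `M/N` central in `K/N`, is fixed only by the elements of `K`, and induces irreducibly.
* `card_dvd`, `two_mul_lt` : `|M : N| ≡ 1` modulo `|W₁|`.
-/

set_option autoImplicit false

open scoped ComplexConjugate
open Cfsg

namespace Cfsg.Agent.OddOrderCharacters.SibleyAction

open Cfsg.Agent.Characters.Core

/-- If all stabilizers of an action of a finite group are contained in `K`, the index of `K` divides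
the number of points. -/
theorem index_dvd_card {L α : Type*} [Group L] [Finite L] [Finite α] [MulAction L α]
    (K : Subgroup L) (h : ∀ a : α, MulAction.stabilizer L a ≤ K) : K.index ∣ Nat.card α := by
  classical
  rw [Nat.card_congr (MulAction.selfEquivSigmaOrbits L α)]
  haveI : Finite (MulAction.orbitRel.Quotient L α) := Quotient.finite _
  haveI : Fintype (MulAction.orbitRel.Quotient L α) := Fintype.ofFinite _
  rw [Nat.card_sigma]
  apply Finset.dvd_sum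
  intro ω _
  have h1 : Nat.card (MulAction.orbit L (Quotient.out ω)) =
      (MulAction.stabilizer L (Quotient.out ω)).index :=
    (Subgroup.index_eq_card _).trans
      (Nat.card_congr (MulAction.orbitEquivQuotientStabilizer L (Quotient.out ω))).symm |>.symm
  rw [h1]
  exact Subgroup.index_dvd_of_le (h _)

section group

variable {L : Type*} [Group L]

theorem exists_decomp {K W₁ : Subgroup L} [hK : K.Normal] (hsup : K ⊔ W₁ = ⊤) (x : L) :
    ∃ k ∈ K, ∃ w ∈ W₁, k * w = x := by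
  have h1 := Subgroup.normal_mul K W₁
  have h2 : x ∈ ((K ⊔ W₁ : Subgroup L) : Set L) := by
    rw [hsup]
    trivial
  rw [h1] at h2
  exact h2

theorem index_eq_card [Finite L] {K W₁ : Subgroup L} [hK : K.Normal] (hinf : K ⊓ W₁ = ⊥)
    (hsup : K ⊔ W₁ = ⊤) : K.index = Nat.card W₁ := by
  have h1 : Subgroup.IsComplement' W₁ K := by
    refine Subgroup.IsComplement'.symm ?_
    apply Subgroup.isComplement'_of_disjoint_and_mul_eq_univ
    · rw [disjoint_iff]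
      exact hinf
    · rw [← Subgroup.normal_mul, hsup, Subgroup.coe_top]
  exact h1.index_eq_card

theorem exists_prime_order_pow [Finite L] {w : L} (hw1 : w ≠ 1) :
    ∃ q m : ℕ, q.Prime ∧ orderOf (w ^ m) = q := by
  have ho : orderOf w ≠ 1 := fun h => hw1 (orderOf_eq_one_iff.1 h)
  obtain ⟨q, hq, hqd⟩ := Nat.exists_prime_and_dvd ho
  exact ⟨q, orderOf w / q, hq, orderOf_pow_orderOf_div (orderOf_pos w).ne' hqd⟩

/-- The centraliser of `m` modulo `N`. -/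
def centMod (N : Subgroup L) [N.Normal] (m : L) : Subgroup L :=
  (Subgroup.centralizer ({(m : L ⧸ N)} : Set (L ⧸ N))).comap (QuotientGroup.mk' N)

theorem mem_centMod (N : Subgroup L) [N.Normal] (m x : L) :
    x ∈ centMod N m ↔ x * m * x⁻¹ * m⁻¹ ∈ N := by
  rw [centMod, Subgroup.mem_comap, Subgroup.mem_centralizer_singleton_iff,
    ← QuotientGroup.eq_one_iff (N := N) (x * m * x⁻¹ * m⁻¹)]
  show (x : L ⧸ N) * (m : L ⧸ N) = (m : L ⧸ N) * (x : L ⧸ N) ↔
    (x : L ⧸ N) * (m : L ⧸ N) * (x : L ⧸ N)⁻¹ * (m : L ⧸ N)⁻¹ = 1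
  constructor
  · intro h
    rw [h]
    group
  · intro h
    have h1 := mul_inv_eq_one.1 h
    exact mul_inv_eq_iff_eq_mul.1 h1

variable [Finite L] {K W₁ W₂ : Subgroup L}

/-- `W₁` acts fixed point freely on `M/N`. -/
theorem fpf_mod (hcop : Nat.Coprime (Nat.card K) (Nat.card W₁))
    (hC : ∀ w ∈ W₁, w ≠ 1 → K ⊓ Subgroup.centralizer ({w} : Set L) ≤ W₂)
    {M N : Subgroup L} [hN : N.Normal] (hMK : M ≤ K) (hNM : N ≤ M)
    (hW : ∀ m ∈ M, m ∈ W₂ → m ∈ N) {w : L} (hw : w ∈ W₁) (hw1 : w ≠ 1) {m : L} (hm : m ∈ M)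
    (hwm : w * m * w⁻¹ * m⁻¹ ∈ N) : m ∈ N := by
  obtain ⟨q, j, hq, ho⟩ := exists_prime_order_pow hw1
  have hqf : Fact q.Prime := ⟨hq⟩
  have hP : IsPGroup q (Subgroup.zpowers (w ^ j)) :=
    IsPGroup.of_card (n := 1) (by rw [Nat.card_zpowers, ho, pow_one])
  have hwj : w ^ j ∈ W₁ := W₁.pow_mem hw j
  have hwj1 : w ^ j ≠ 1 := fun h => by
    rw [h, orderOf_one] at ho
    exact hq.one_lt.ne ho
  have hqN : ¬ q ∣ Nat.card N := by
    intro h
    have h1 : q ∣ Nat.card K := h.trans (Subgroup.card_dvd_of_le (hNM.trans hMK))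
    have h2 : q ∣ Nat.card W₁ := by
      rw [← ho, ← Nat.card_zpowers]
      exact Subgroup.card_dvd_of_le (by rw [Subgroup.zpowers_le]; exact hwj)
    have h3 := Nat.dvd_gcd h1 h2
    rw [hcop.gcd_eq_one] at h3
    exact hq.one_lt.ne' (Nat.dvd_one.1 h3)
  have hle : Subgroup.zpowers (w ^ j) ≤ centMod N m := by
    rw [Subgroup.zpowers_le]
    exact (centMod N m).pow_mem ((mem_centMod N m w).2 hwm) j
  obtain ⟨c, hc, hmc⟩ := Lib.CoprimeCommutator.exists_fixed_in_coset q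
    (Subgroup.zpowers (w ^ j)) N hP (fun x _ => by
      rw [Subgroup.normalizer_eq_top]; trivial) hqN m (by
    intro a ha
    have h1 := (mem_centMod N m a).1 (hle ha)
    have h2 := hN.conj_mem _ h1 m⁻¹
    have e : m⁻¹ * (a * m * a⁻¹ * m⁻¹) * m⁻¹⁻¹ = m⁻¹ * (a * m * a⁻¹) := by group
    rwa [e] at h2)
  have hcM : c ∈ M := by
    have e : c = m * (m⁻¹ * c) := by group
    rw [e]
    exact M.mul_mem hm (hNM hmc)
  have hcW : c ∈ W₂ := by
    refine hC (w ^ j) hwj hwj1 (Subgroup.mem_inf.2 ⟨hMK hcM, ?_⟩)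
    rw [Subgroup.mem_centralizer_singleton_iff]
    exact ((Subgroup.mem_centralizer_iff.1 hc) (w ^ j) (Subgroup.mem_zpowers _)).symm
  have hcN := hW c hcM hcW
  have e : m = c * (m⁻¹ * c)⁻¹ := by group
  rw [e]
  exact N.mul_mem hcN (N.inv_mem hmc)

/-- `L/N` is Frobenius-like on a section `M/N` central in `K/N`. -/
theorem frob_mod [hK : K.Normal] (hsup : K ⊔ W₁ = ⊤)
    (hcop : Nat.Coprime (Nat.card K) (Nat.card W₁))
    (hC : ∀ w ∈ W₁, w ≠ 1 → K ⊓ Subgroup.centralizer ({w} : Set L) ≤ W₂)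
    {M N : Subgroup L} [hN : N.Normal] (hMK : M ≤ K) (hNM : N ≤ M)
    (hcent : ∀ k ∈ K, ∀ m ∈ M, k * m * k⁻¹ * m⁻¹ ∈ N) (hW : ∀ m ∈ M, m ∈ W₂ → m ∈ N) {m : L}
    (hm : m ∈ M) (hmN : m ∉ N) {x : L} (hx : x * m * x⁻¹ * m⁻¹ ∈ N) : x ∈ K := by
  obtain ⟨k, hk, w, hw, rfl⟩ := exists_decomp hsup x
  have hkc : k ∈ centMod N m := (mem_centMod N m k).2 (hcent k hk m hm)
  have hwc : w ∈ centMod N m := by
    have h1 : k * w ∈ centMod N m := (mem_centMod N m (k * w)).2 hx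
    exact ((centMod N m).mul_mem_cancel_left hkc).1 h1
  by_cases hw1 : w = 1
  · rw [hw1, mul_one]; exact hk
  · exact absurd (fpf_mod hcop hC hMK hNM hW hw hw1 hm ((mem_centMod N m w).1 hwc)) hmN

/-- `|M : N| ≡ 1` modulo `|W₁|`. -/
theorem card_dvd {M N : Subgroup L} [hM : M.Normal] [hN : N.Normal]
    (hfpf : ∀ w ∈ W₁, w ≠ 1 → ∀ m ∈ M, w * m * w⁻¹ * m⁻¹ ∈ N → m ∈ N) :
    Nat.card W₁ ∣ N.relIndex M - 1 := by
  classical
  let f := QuotientGroup.mk' N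
  let X := {c : L ⧸ N // c ∈ M.map f ∧ c ≠ 1}
  have hMn : (M.map f).Normal := Subgroup.Normal.map inferInstance f (QuotientGroup.mk'_surjective N)
  let act : MulAction W₁ X :=
    { smul := fun x c => ⟨f x * c.1 * (f x)⁻¹, hMn.conj_mem _ c.2.1 _, by
        intro hc
        apply c.2.2
        have := congrArg (fun y => (f x)⁻¹ * y * f x) hc
        simpa [mul_assoc] using this⟩
      one_smul := fun c => by
        apply Subtype.ext
        change f ((1 : W₁) : L) * c.1 * (f ((1 : W₁) : L))⁻¹ = c.1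
        simp
      mul_smul := fun x y c => by
        apply Subtype.ext
        change f ((x * y : W₁) : L) * c.1 * (f ((x * y : W₁) : L))⁻¹ =
          f x * (f y * c.1 * (f y)⁻¹) * (f x)⁻¹
        simp [mul_assoc] }
  have hstab : ∀ c : X, MulAction.stabilizer W₁ c ≤ ⊥ := by
    rintro ⟨c, ⟨n, hn, rfl⟩, hc⟩ x hx
    rw [MulAction.mem_stabilizer_iff] at hx
    have key : f x * f n * (f x)⁻¹ = f n := congrArg Subtype.val hx
    rw [Subgroup.mem_bot]
    by_contra hx1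
    have h1 : (x : L) * n * (x : L)⁻¹ * n⁻¹ ∈ N := by
      rw [← QuotientGroup.eq_one_iff]
      show f x * f n * (f x)⁻¹ * (f n)⁻¹ = 1
      rw [key, mul_inv_cancel]
    exact hc ((QuotientGroup.eq_one_iff _).mpr
      (hfpf x x.2 (fun h => hx1 (Subtype.ext h)) n hn h1))
  have h1 := index_dvd_card (L := W₁) (α := X) ⊥ hstab
  rw [Subgroup.index_bot] at h1
  have h2 : Nat.card X = N.relIndex M - 1 := by
    have h3 : Nat.card (M.map f) = N.relIndex M := by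
      rw [← Subgroup.relIndex_ker, QuotientGroup.ker_mk']
    rw [← h3]
    have h4 : Nat.card X = ({c : L ⧸ N | c ∈ M.map f ∧ c ≠ 1} : Set (L ⧸ N)).ncard :=
      Nat.card_coe_set_eq _
    have h5 : ({c : L ⧸ N | c ∈ M.map f ∧ c ≠ 1} : Set (L ⧸ N)) =
        (↑(M.map f) : Set (L ⧸ N)) \ {1} := by
      ext c; simp
    rw [h4, h5, Set.ncard_sdiff_singleton_of_mem (one_mem (M.map f))]
    rfl
  rwa [h2] at h1

/-- `|M : N| ≥ 2 |W₁| + 1` when `N < M` and the order of `L` is odd. -/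
theorem two_mul_lt (hodd : Odd (Nat.card L)) {M N : Subgroup L} [hM : M.Normal] [hN : N.Normal]
    (hfpf : ∀ w ∈ W₁, w ≠ 1 → ∀ m ∈ M, w * m * w⁻¹ * m⁻¹ ∈ N → m ∈ N) (hlt : N < M) :
    2 * Nat.card W₁ < N.relIndex M := by
  have h1 := card_dvd (W₁ := W₁) hfpf
  have hoddN : Odd (N.relIndex M) := by
    refine Odd.of_dvd_nat hodd ?_
    exact dvd_trans (Subgroup.relIndex_dvd_card _ _) (Subgroup.card_subgroup_dvd_card M)
  have hoddK : Odd (Nat.card W₁) := Odd.of_dvd_nat hodd (Subgroup.card_subgroup_dvd_card W₁)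
  have hne : N.relIndex M ≠ 1 := by
    rw [Ne, Subgroup.relIndex_eq_one]
    exact not_le_of_gt hlt
  obtain ⟨m, hm⟩ := hoddN
  have h2 : 2 ∣ N.relIndex M - 1 := ⟨m, by omega⟩
  have hcop : Nat.Coprime 2 (Nat.card W₁) := (Nat.coprime_two_left).mpr hoddK
  have h3 : 2 * Nat.card W₁ ∣ N.relIndex M - 1 := hcop.mul_dvd_of_dvd_of_dvd h2 h1
  have h4 := Nat.le_of_dvd (by omega) h3
  omega

end group

section characters

variable {L : Type*} [Group L] [Fintype L] {K W₁ W₂ : Subgroup L} [hK : K.Normal]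

/-- The inertia group of a character of `K` trivial on `N` and nontrivial on `M`. -/
theorem inertia_le (hsup : K ⊔ W₁ = ⊤) (hcop : Nat.Coprime (Nat.card K) (Nat.card W₁))
    (hC : ∀ w ∈ W₁, w ≠ 1 → K ⊓ Subgroup.centralizer ({w} : Set L) ≤ W₂)
    {M N : Subgroup L} [hM : M.Normal] [hN : N.Normal] (hMK : M ≤ K) (hNM : N ≤ M)
    (hcent : ∀ k ∈ K, ∀ m ∈ M, k * m * k⁻¹ * m⁻¹ ∈ N) (hW : ∀ m ∈ M, m ∈ W₂ → m ∈ N)
    {θ : K → ℂ} (hθ : IsIrrCharacter K θ) (hθN : ∀ a : K, (a : L) ∈ N → θ a = θ 1)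
    (hθM : ∃ a : K, (a : L) ∈ M ∧ θ a ≠ θ 1) {g : L}
    (hg : ∀ h : K, θ ⟨g * h * g⁻¹, hK.conj_mem h h.2 g⟩ = θ h) : g ∈ K := by
  by_contra hgK
  obtain ⟨k, hk, w, hw, rfl⟩ := exists_decomp hsup g
  have hw1 : w ≠ 1 := by
    rintro rfl
    apply hgK
    rw [mul_one]; exact hk
  have hcl := isIrr_isClassFunction hθ
  -- `θ` is fixed by `w`
  have hwθ : ∀ h : K, θ ⟨w * h * w⁻¹, hK.conj_mem h h.2 w⟩ = θ h := by
    intro h
    rw [← hg h]
    have h1 := hcl ⟨w * h * w⁻¹, hK.conj_mem h h.2 w⟩ ⟨k, hk⟩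
    rw [← h1]
    congr 1
    apply Subtype.ext
    show k * (w * h * w⁻¹) * k⁻¹ = k * w * h * (k * w)⁻¹
    group
  -- the set of elements of `L` fixing `θ` is a subgroup
  let T : Subgroup L :=
    { carrier := {x | ∀ h : K, θ ⟨x * h * x⁻¹, hK.conj_mem h h.2 x⟩ = θ h}
      one_mem' := by
        intro h
        congr 1
        apply Subtype.ext
        simp
      mul_mem' := by
        intro x y hx hy h
        rw [← hy h, ← hx ⟨y * h * y⁻¹, hK.conj_mem h h.2 y⟩]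
        congr 1
        apply Subtype.ext
        show x * y * h * (x * y)⁻¹ = x * (y * h * y⁻¹) * x⁻¹
        group
      inv_mem' := by
        intro x hx h
        rw [← hx ⟨x⁻¹ * h * x⁻¹⁻¹, hK.conj_mem h h.2 x⁻¹⟩]
        congr 1
        apply Subtype.ext
        show x * (x⁻¹ * h * x⁻¹⁻¹) * x⁻¹ = h
        group }
  obtain ⟨q, j, hq, ho⟩ := exists_prime_order_pow hw1
  have hqf : Fact q.Prime := ⟨hq⟩
  have hP : IsPGroup q (Subgroup.zpowers (w ^ j)) :=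
    IsPGroup.of_card (n := 1) (by rw [Nat.card_zpowers, ho, pow_one])
  have hwj : w ^ j ∈ W₁ := W₁.pow_mem hw j
  have hwj1 : w ^ j ≠ 1 := fun h => by
    rw [h, orderOf_one] at ho
    exact hq.one_lt.ne ho
  have hPT : Subgroup.zpowers (w ^ j) ≤ T := by
    rw [Subgroup.zpowers_le]
    exact T.pow_mem (show w ∈ T from hwθ) j
  obtain ⟨n, ρ, hρ, rfl⟩ := hθ
  have hn0 : (n : ℂ) ≠ 0 := by
    have h1 := isIrr_apply_one_ne_zero (⟨n, ρ, hρ, rfl⟩ : IsIrrCharacter K ρ.character)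
    rwa [Representation.char_one, Module.finrank_fin_fun] at h1
  have hchar1 : ρ.character 1 = (n : ℂ) := by
    rw [Representation.char_one, Module.finrank_fin_fun]
  have hker : ∀ a : K, ρ.character a = ρ.character 1 → ρ a = 1 := by
    intro a ha
    exact (Cfsg.Agent.S0139.result ρ a).1 (by rw [ha, hchar1, Module.finrank_fin_fun])
  -- elements of `M` act as scalars
  have hscal : ∀ a : K, (a : L) ∈ M → ∃ c : ℂ, ρ a = c • LinearMap.id := by
    intro a ha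
    refine ClassSum.schur_scalar ρ hρ (ρ a) fun b => ?_
    have h1 : ρ (b * a * b⁻¹ * a⁻¹) = 1 :=
      hker _ (hθN _ (by
        have := hcent b b.2 a ha
        simpa using this))
    have h2 : ρ (b * a) = ρ (a * b) := by
      have e : b * a = (b * a * b⁻¹ * a⁻¹) * (a * b) := by group
      rw [e, map_mul, h1, one_mul]
    rw [map_mul, map_mul] at h2
    exact h2.symm
  have hval : ∀ a : K, ∀ c : ℂ, ρ a = c • LinearMap.id → ρ.character a = c * n := by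
    intro a c hc
    show LinearMap.trace ℂ _ (ρ a) = _
    rw [hc, map_smul, LinearMap.trace_id, Module.finrank_fin_fun, smul_eq_mul]
  -- the kernel inside `M`
  let M₀ : Subgroup L := (M.subgroupOf K ⊓ ρ.ker).map K.subtype
  have hM₀ : ∀ x : L, x ∈ M₀ ↔ ∃ hx : x ∈ K, x ∈ M ∧ ρ ⟨x, hx⟩ = 1 := by
    intro x
    constructor
    · rintro ⟨y, ⟨hy1, hy2⟩, rfl⟩
      exact ⟨y.2, Subgroup.mem_subgroupOf.1 hy1, hy2⟩
    · rintro ⟨hx, hxM, h1⟩
      exact ⟨⟨x, hx⟩, ⟨Subgroup.mem_subgroupOf.2 hxM, h1⟩, rfl⟩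
  have hM₀K : M₀ ≤ K := fun x hx => ((hM₀ x).1 hx).1
  have hqM₀ : ¬ q ∣ Nat.card M₀ := by
    intro h
    have h1 : q ∣ Nat.card K := h.trans (Subgroup.card_dvd_of_le hM₀K)
    have h2 : q ∣ Nat.card W₁ := by
      rw [← ho, ← Nat.card_zpowers]
      exact Subgroup.card_dvd_of_le (by rw [Subgroup.zpowers_le]; exact hwj)
    have h3 := Nat.dvd_gcd h1 h2
    rw [hcop.gcd_eq_one] at h3
    exact hq.one_lt.ne' (Nat.dvd_one.1 h3)
  -- for `x ∈ T` and `m ∈ M` the scalars of `m` and `x m x⁻¹` agree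
  have hfix : ∀ x ∈ T, ∀ m : K, (m : L) ∈ M →
      ρ ⟨x * m * x⁻¹, hK.conj_mem m m.2 x⟩ = ρ m := by
    intro x hx m hm
    obtain ⟨c, hc⟩ := hscal m hm
    obtain ⟨c', hc'⟩ := hscal ⟨x * m * x⁻¹, hK.conj_mem m m.2 x⟩ (hM.conj_mem m hm x)
    have h1 : ρ.character ⟨x * m * x⁻¹, hK.conj_mem m m.2 x⟩ = ρ.character m := hx m
    rw [hval _ _ hc, hval _ _ hc'] at h1
    rw [hc, hc', mul_right_cancel₀ hn0 h1]
  obtain ⟨a, haM, ha⟩ := hθM
  apply ha
  obtain ⟨c, hc, hmc⟩ := Lib.CoprimeCommutator.exists_fixed_in_coset q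
    (Subgroup.zpowers (w ^ j)) M₀ hP (fun x hx => by
      have hx' : ∀ y ∈ T, ∀ u ∈ M₀, y * u * y⁻¹ ∈ M₀ := by
        intro y hy u hu
        obtain ⟨huK, huM, hu1⟩ := (hM₀ u).1 hu
        refine (hM₀ _).2 ⟨hK.conj_mem u huK y, hM.conj_mem u huM y, ?_⟩
        rw [← hu1]
        exact hfix y hy ⟨u, huK⟩ huM
      rw [Subgroup.mem_normalizer_iff]
      intro u
      refine ⟨fun hu => hx' x (hPT hx) u hu, fun hu => ?_⟩
      have h1 := hx' x⁻¹ (T.inv_mem (hPT hx)) _ hu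
      have e : x⁻¹ * (x * u * x⁻¹) * x⁻¹⁻¹ = u := by group
      rwa [e] at h1) hqM₀ (a : L) (by
    intro x hx
    have h1 := hfix x (hPT hx) a haM
    refine (hM₀ _).2 ⟨K.mul_mem (K.inv_mem a.2) (hK.conj_mem a a.2 x),
      M.mul_mem (M.inv_mem haM) (hM.conj_mem a haM x), ?_⟩
    have e : (⟨(a : L)⁻¹ * (x * a * x⁻¹), K.mul_mem (K.inv_mem a.2) (hK.conj_mem a a.2 x)⟩ : K) =
        a⁻¹ * ⟨x * a * x⁻¹, hK.conj_mem a a.2 x⟩ := rfl
    rw [e, map_mul, h1, ← map_mul, inv_mul_cancel, map_one])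
  obtain ⟨hacK, hacM, hac⟩ := (hM₀ _).1 hmc
  have hcM : c ∈ M := by
    have e : c = a * ((a : L)⁻¹ * c) := by group
    rw [e]
    exact M.mul_mem haM hacM
  have hcW : c ∈ W₂ := by
    refine hC (w ^ j) hwj hwj1 (Subgroup.mem_inf.2 ⟨hMK hcM, ?_⟩)
    rw [Subgroup.mem_centralizer_singleton_iff]
    exact ((Subgroup.mem_centralizer_iff.1 hc) (w ^ j) (Subgroup.mem_zpowers _)).symm
  have hcN := hW c hcM hcW
  have h1 : ρ ⟨c, hMK hcM⟩ = 1 := hker _ (hθN _ hcN)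
  have h2 : ρ a = 1 := by
    have e : a = (⟨c, hMK hcM⟩ : K) * (⟨(a : L)⁻¹ * c, hacK⟩ : K)⁻¹ := by
      apply Subtype.ext
      show (a : L) = c * ((a : L)⁻¹ * c)⁻¹
      group
    have h3 : ρ (⟨(a : L)⁻¹ * c, hacK⟩ : K)⁻¹ = 1 := by
      have h4 : ρ (⟨(a : L)⁻¹ * c, hacK⟩ : K) * ρ (⟨(a : L)⁻¹ * c, hacK⟩ : K)⁻¹ = 1 := by
        rw [← map_mul, mul_inv_cancel, map_one]
      rwa [hac, one_mul] at h4
    rw [e, map_mul, h1, h3, one_mul]
  show LinearMap.trace ℂ _ (ρ a) = LinearMap.trace ℂ _ (ρ 1)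
  rw [h2, map_one ρ]

/-- Such characters induce irreducibly. -/
theorem isIrr_indFun (hsup : K ⊔ W₁ = ⊤) (hcop : Nat.Coprime (Nat.card K) (Nat.card W₁))
    (hC : ∀ w ∈ W₁, w ≠ 1 → K ⊓ Subgroup.centralizer ({w} : Set L) ≤ W₂)
    {M N : Subgroup L} [hM : M.Normal] [hN : N.Normal] (hMK : M ≤ K) (hNM : N ≤ M)
    (hcent : ∀ k ∈ K, ∀ m ∈ M, k * m * k⁻¹ * m⁻¹ ∈ N) (hW : ∀ m ∈ M, m ∈ W₂ → m ∈ N)
    {θ : K → ℂ} (hθ : IsIrrCharacter K θ) (hθN : ∀ a : K, (a : L) ∈ N → θ a = θ 1)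
    (hθM : ∃ a : K, (a : L) ∈ M ∧ θ a ≠ θ 1) : IsIrrCharacter L (indFun K θ) := by
  classical
  rw [isIrr_iff_classInner_self (Cfsg.Agent.S0148.result K θ (isIrr_isCharacter hθ))]
  have h2 := Cfsg.Agent.S0193.result K θ hθ
  have h3 : Nat.card {g : L // ∀ h : K, θ ⟨g * h * g⁻¹, hK.conj_mem h h.2 g⟩ = θ h} =
      Nat.card K := by
    refine Nat.card_congr (Equiv.subtypeEquivRight fun g => ?_)
    constructor
    · intro hg
      exact inertia_le hsup hcop hC hMK hNM hcent hW hθ hθN hθM hg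
    · intro hg h
      exact isIrr_isClassFunction hθ h ⟨g, hg⟩
  rw [h3] at h2
  have h4 : (Nat.card K : ℂ) ≠ 0 := card_ne_zero_complex
  exact mul_left_cancel₀ h4 (h2.trans (mul_one _).symm)

/-- The members of `S(K')` are irreducible of degree `[L : K]`. -/
theorem irr_of_mem_commutator (hsup : K ⊔ W₁ = ⊤)
    (hcop : Nat.Coprime (Nat.card K) (Nat.card W₁))
    (hC : ∀ w ∈ W₁, w ≠ 1 → K ⊓ Subgroup.centralizer ({w} : Set L) ≤ W₂)
    (hW₂ : W₂ ≤ ⁅K, K⁆) {φ : L → ℂ} (hφ : φ ∈ inducedIrrAbove K ⁅K, K⁆) :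
    IsIrrCharacter L φ ∧ φ 1 = (K.index : ℂ) := by
  refine ⟨?_, Cfsg.Agent.S1521.degree_eq_index le_rfl hφ⟩
  have hle : ⁅K, K⁆ ≤ K := Subgroup.commutator_le_left K K
  obtain ⟨θ, hθ, hθ1, hθK, rfl⟩ := hφ
  refine isIrr_indFun hsup hcop hC le_rfl hle ?_ (fun m _ h => hW₂ h) hθ hθK ?_
  · intro k hk m hm
    exact Subgroup.commutator_mem_commutator hk hm
  · by_contra hcon
    push Not at hcon
    apply hθ1
    have h1 : θ 1 = 1 := by
      refine Cfsg.Agent.S1521.apply_one_eq_one hθ fun a _ => hcon a a.2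
    funext a
    rw [hcon a a.2, h1]

/-- The members of `S ∖ S(Z)` are irreducible when `Z` is central in `K` and meets `W₂`
trivially. -/
theorem irr_of_mem_diff (hsup : K ⊔ W₁ = ⊤)
    (hcop : Nat.Coprime (Nat.card K) (Nat.card W₁))
    (hC : ∀ w ∈ W₁, w ≠ 1 → K ⊓ Subgroup.centralizer ({w} : Set L) ≤ W₂)
    {Z : Subgroup L} [hZ : Z.Normal] (hZK : Z ≤ K) (hZc : ∀ z ∈ Z, ∀ k ∈ K, z * k = k * z)
    (hZW : Z ⊓ W₂ = ⊥) {χ : L → ℂ}
    (hχ : χ ∈ inducedIrrAbove K ⊥ \ inducedIrrAbove K Z) : IsIrrCharacter L χ := by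
  obtain ⟨⟨θ, hθ, hθ1, -, rfl⟩, hn⟩ := hχ
  refine isIrr_indFun hsup hcop hC hZK bot_le ?_ ?_ hθ ?_ ?_
  · intro k hk m hm
    rw [Subgroup.mem_bot, ← hZc m hm k hk]
    group
  · intro m hm hmW
    rw [← hZW]
    exact ⟨hm, hmW⟩
  · intro a ha
    have : a = 1 := Subtype.ext (Subgroup.mem_bot.1 ha)
    rw [this]
  · by_contra hcon
    push Not at hcon
    exact hn ⟨θ, hθ, hθ1, hcon, rfl⟩

end characters

end Cfsg.Agent.OddOrderCharacters.SibleyAction
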