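import Cfsg.Agent.OddOrderCharacters.SibleyPivot
import Cfsg.Agent.OddOrderCharacters.OutsideCentral
import Mathlib.Tactic

/-!
# The union step of Sibley's coherence theorem for induced characters

`coherent_union` : in a coherence system on `S = S(1)` for `K ⊴ L`, with `Y = S(H₁)` coherent and
consisting of irreducible characters of degree `[L:K]`, the union `Y ∪ (S ∖ S(Z))` is coherent as
soon as for every coherent extension `τ₁` on `Y` the value differences at `1` and at `z ∈ Z#` of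
the restriction of `τ₁ φ` are one and the same integer multiple of the order of `K`.
-/

set_option autoImplicit false

open scoped ComplexConjugate
open Cfsg

namespace Cfsg.Agent.OddOrderCharacters.SibleyUnion

open Cfsg.Agent.Characters.Core Cfsg.Agent.OddOrderCharacters.VChar
open Cfsg.Agent.OddOrderCharacters.InducedNormal (frobenius indFun_one indFun_isClassFunction)
open Cfsg.Agent.OddOrderCharacters.InducedSum (ker_or_sum_eq_zero sum_above)
open Cfsg.Agent.OddOrderCharacters.SibleyPivot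

section counting

variable {K : Type*} [Group K] [Fintype K] [Fintype (IrrCharacter K)]

open scoped Classical in
/-- The sum of the squares of the degrees of the irreducible characters without `N` in the
kernel. -/
theorem sum_nonker_sq (N : Subgroup K) [hN : N.Normal] :
    (Nat.card N : ℂ) * ∑ θ : {θ : IrrCharacter K // ¬ ∀ a ∈ N, θ.1 a = θ.1 1}, (θ.1.1 1) ^ 2 =
      ((Nat.card N : ℂ) - 1) * Nat.card K := by
  have h1 := sum_above (K := K) (⊥ : Subgroup K) (1 : K)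
  have h2 := sum_above (K := K) N (1 : K)
  rw [if_pos (Subgroup.one_mem _), Subgroup.index_bot] at h1
  rw [if_pos (Subgroup.one_mem _)] at h2
  have h3 : ∀ χ : IrrCharacter K,
      (if ∀ a ∈ (⊥ : Subgroup K), χ.1 a = χ.1 1 then χ.1 1 * χ.1 1 else 0) =
      (if ∀ a ∈ N, χ.1 a = χ.1 1 then χ.1 1 * χ.1 1 else 0) +
      (if ¬ ∀ a ∈ N, χ.1 a = χ.1 1 then (χ.1 1) ^ 2 else 0) := by
    intro χ
    have h0 : ∀ a ∈ (⊥ : Subgroup K), χ.1 a = χ.1 1 := by
      intro a ha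
      rw [Subgroup.mem_bot.1 ha]
    rw [if_pos h0]
    by_cases h : ∀ a ∈ N, χ.1 a = χ.1 1
    · rw [if_pos h, if_neg (not_not.2 h), add_zero]
    · rw [if_neg h, if_pos h, zero_add, sq]
  rw [Finset.sum_congr rfl fun χ _ => h3 χ, Finset.sum_add_distrib, h2, ← Finset.sum_filter] at h1
  have h4 : ∑ θ : {θ : IrrCharacter K // ¬ ∀ a ∈ N, θ.1 a = θ.1 1}, (θ.1.1 1) ^ 2 =
      ∑ χ ∈ Finset.univ.filter (fun χ : IrrCharacter K => ¬ ∀ a ∈ N, χ.1 a = χ.1 1),
        (χ.1 1) ^ 2 := by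
    rw [Finset.sum_subtype (p := fun χ : IrrCharacter K => ¬ ∀ a ∈ N, χ.1 a = χ.1 1)
      (Finset.univ.filter (fun χ : IrrCharacter K => ¬ ∀ a ∈ N, χ.1 a = χ.1 1))
      (fun χ => by simp only [Finset.mem_filter, Finset.mem_univ, true_and])
      (fun χ : IrrCharacter K => (χ.1 1) ^ 2)]
  have h5 : (Nat.card N : ℂ) * (N.index : ℂ) = (Nat.card K : ℂ) := by
    rw [← N.card_mul_index]; push_cast; ring
  rw [h4]
  linear_combination (Nat.card N : ℂ) * h1 - h5

open scoped Classical in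
/-- If the values of a generalized character `ρ` of `K` at `1` and at the non-identity elements of
the normal subgroup `N` differ by `|K| t`, then `∑ ⟨θ, ρ⟩ θ(1) = t ∑ θ(1)²` over the irreducible
characters `θ` without `N` in the kernel. -/
theorem sum_nonker_coeff (N : Subgroup K) [hN : N.Normal] {ρ : K → ℂ}
    (hρ : IsGeneralizedCharacter K ρ) (t : ℂ)
    (ht : ∀ z ∈ N, z ≠ 1 → ρ 1 - ρ z = (Nat.card K : ℂ) * t) :
    ∑ θ : {θ : IrrCharacter K // ¬ ∀ a ∈ N, θ.1 a = θ.1 1}, classInner θ.1.1 ρ * θ.1.1 1 =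
      t * ∑ θ : {θ : IrrCharacter K // ¬ ∀ a ∈ N, θ.1 a = θ.1 1}, (θ.1.1 1) ^ 2 := by
  have hN0 : (Nat.card N : ℂ) ≠ 0 := Nat.cast_ne_zero.mpr Nat.card_pos.ne'
  have hexp := gen_eq_sum hρ
  have hsymm : ∀ θ : IrrCharacter K, classInner ρ θ.1 = classInner θ.1 ρ :=
    fun θ => gen_inner_comm hρ (gen_of_irr θ.2)
  have hval : ∀ k : K, ρ k = ∑ θ : IrrCharacter K, classInner θ.1 ρ * θ.1 k := by
    intro k
    conv_lhs => rw [hexp]
    rw [Finset.sum_apply]
    refine Finset.sum_congr rfl fun θ _ => ?_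
    rw [Pi.smul_apply, smul_eq_mul, hsymm]
  set NS : Finset K := Finset.univ.filter (· ∈ N) with hNS
  have hmem : ∀ x, x ∈ NS ↔ x ∈ N := by intro x; simp [hNS]
  have hcardNS : (NS.card : ℂ) = Nat.card N := by
    rw [Nat.card_eq_fintype_card, Fintype.card_subtype]
  -- the sum over `N` of `ρ 1 - ρ z`, computed in two ways
  have hL : ∑ z ∈ NS, (ρ 1 - ρ z) = ((Nat.card N : ℂ) - 1) * ((Nat.card K : ℂ) * t) := by
    have h1N : (1 : K) ∈ NS := (hmem 1).2 N.one_mem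
    rw [← Finset.add_sum_erase _ _ h1N, sub_self, zero_add]
    have : ∀ z ∈ NS.erase 1, ρ 1 - ρ z = (Nat.card K : ℂ) * t := by
      intro z hz
      exact ht z ((hmem z).1 (Finset.mem_of_mem_erase hz)) (Finset.ne_of_mem_erase hz)
    rw [Finset.sum_congr rfl this, Finset.sum_const, nsmul_eq_mul, Finset.card_erase_of_mem h1N,
      Nat.cast_sub (Finset.card_pos.2 ⟨1, h1N⟩), hcardNS]
    simp
  have hR : ∑ z ∈ NS, (ρ 1 - ρ z) = (Nat.card N : ℂ) *
      ∑ θ : {θ : IrrCharacter K // ¬ ∀ a ∈ N, θ.1 a = θ.1 1}, classInner θ.1.1 ρ * θ.1.1 1 := by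
    have e1 : ∑ z ∈ NS, (ρ 1 - ρ z) =
        ∑ θ : IrrCharacter K, classInner θ.1 ρ * ∑ z ∈ NS, (θ.1 1 - θ.1 z) := by
      have : ∀ z ∈ NS, ρ 1 - ρ z = ∑ θ : IrrCharacter K, classInner θ.1 ρ * (θ.1 1 - θ.1 z) := by
        intro z _
        rw [hval 1, hval z, ← Finset.sum_sub_distrib]
        exact Finset.sum_congr rfl fun θ _ => by ring
      rw [Finset.sum_congr rfl this, Finset.sum_comm]
      exact Finset.sum_congr rfl fun θ _ => by rw [Finset.mul_sum]
    have e2 : ∀ θ : IrrCharacter K, classInner θ.1 ρ * ∑ z ∈ NS, (θ.1 1 - θ.1 z) =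
        if ¬ ∀ a ∈ N, θ.1 a = θ.1 1 then (Nat.card N : ℂ) * (classInner θ.1 ρ * θ.1 1) else 0 := by
      intro θ
      split_ifs with h
      · rw [Finset.sum_eq_zero, mul_zero]
        intro z hz
        rw [h z ((hmem z).1 hz), sub_self]
      · rcases ker_or_sum_eq_zero θ.2 N NS hmem with h1 | h1
        · exact absurd h1 h
        · rw [Finset.sum_sub_distrib, h1, sub_zero, Finset.sum_const, nsmul_eq_mul, hcardNS]
          ring
    rw [e1, Finset.sum_congr rfl fun θ _ => e2 θ, ← Finset.sum_filter,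
      Finset.sum_subtype (p := fun χ : IrrCharacter K => ¬ ∀ a ∈ N, χ.1 a = χ.1 1)
        (Finset.univ.filter (fun χ : IrrCharacter K => ¬ ∀ a ∈ N, χ.1 a = χ.1 1))
        (fun χ => by simp only [Finset.mem_filter, Finset.mem_univ, true_and])
        (fun χ : IrrCharacter K => (Nat.card N : ℂ) * (classInner χ.1 ρ * χ.1 1)), Finset.mul_sum]
  have hsq := sum_nonker_sq (K := K) N
  have h6 : (Nat.card N : ℂ) *
      ∑ θ : {θ : IrrCharacter K // ¬ ∀ a ∈ N, θ.1 a = θ.1 1}, classInner θ.1.1 ρ * θ.1.1 1 =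
      (Nat.card N : ℂ) *
        (t * ∑ θ : {θ : IrrCharacter K // ¬ ∀ a ∈ N, θ.1 a = θ.1 1}, (θ.1.1 1) ^ 2) := by
    rw [← hR, hL]
    linear_combination (-t) * hsq
  exact mul_left_cancel₀ hN0 h6

end counting

variable {L : Type*} [Group L] [Fintype L] {G : Type*} [Group G] [Fintype G]

/-- The union step: `S(H₁) ∪ (S ∖ S(Z))` is coherent. -/
theorem coherent_union {K H₁ Z : Subgroup L} [hK : K.Normal] [hZ : Z.Normal]
    {τ : (L → ℂ) → (G → ℂ)} {R : (L → ℂ) → Finset (G → ℂ)}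
    (hS : IsCoherenceSystem (inducedIrrAbove K ⊥) τ R) (hZK : Z ≤ K) (hZH : Z ≤ H₁)
    (hYne : (inducedIrrAbove K H₁).Nonempty)
    (hYirr : ∀ φ ∈ inducedIrrAbove K H₁, IsIrrCharacter L φ ∧ φ 1 = (K.index : ℂ))
    (hYcoh : IsCoherent (inducedIrrAbove K H₁) {1}ᶜ τ)
    (hrat : ∀ τ₁ : (L → ℂ) → (G → ℂ), IsLinearIsometryOn (zspan (inducedIrrAbove K H₁)) τ₁ →
      (∀ α ∈ zspanOn (inducedIrrAbove K H₁) {1}ᶜ, τ₁ α = τ α) →
      ∀ φ ∈ inducedIrrAbove K H₁, ∃ r : L → ℂ, IsGeneralizedCharacter L r ∧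
        (∀ β ∈ zspanOn (inducedIrrAbove K ⊥) {1}ᶜ, classInner (τ β) (τ₁ φ) = classInner β r) ∧
        ∃ t : ℤ, ∀ z ∈ Z, z ≠ 1 → r 1 - r z = (Nat.card K : ℂ) * t) :
    IsCoherent (inducedIrrAbove K H₁ ∪ (inducedIrrAbove K ⊥ \ inducedIrrAbove K Z)) {1}ᶜ τ := by
  classical
  have _ : Fintype K := Fintype.ofFinite K
  have _ : Finite (IrrCharacter K) := finite_irr
  have _ : Fintype (IrrCharacter K) := Fintype.ofFinite _
  obtain ⟨Y, hY⟩ := (OutsideCentral.finite_inducedIrrAbove K H₁).exists_finset_coe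
  have hmono : inducedIrrAbove K H₁ ⊆ inducedIrrAbove K ⊥ := by
    rintro φ ⟨θ, h1, h2, -, h4⟩
    refine ⟨θ, h1, h2, ?_, h4⟩
    intro a ha
    rw [Subgroup.mem_bot] at ha
    have : a = 1 := Subtype.ext ha
    rw [this]
  have hYZ : inducedIrrAbove K H₁ ⊆ inducedIrrAbove K Z := by
    rintro φ ⟨θ, h1, h2, h3, h4⟩
    exact ⟨θ, h1, h2, fun a ha => h3 a (hZH ha), h4⟩
  have hYS : (Y : Set (L → ℂ)) ⊆ inducedIrrAbove K ⊥ := by rw [hY]; exact hmono
  obtain ⟨-, τ₁, hτ₁, hag⟩ := hYcoh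
  rw [← hY] at hτ₁ hag hYne hYirr
  obtain ⟨φ, hφ⟩ := hYne
  have hφ' : conjFun φ ∈ Y := by
    have h1 : conjFun φ ∈ inducedIrrAbove K H₁ :=
      SystemRestrict.conjFun_mem_inducedIrrAbove (hY ▸ hφ)
    rw [← hY] at h1
    exact h1
  have hYc : ∀ ψ ∈ Y, conjFun ψ ∈ Y := by
    intro ψ hψ
    have hψ' : ψ ∈ (Y : Set (L → ℂ)) := hψ
    have h1 : conjFun ψ ∈ inducedIrrAbove K H₁ :=
      SystemRestrict.conjFun_mem_inducedIrrAbove (hY ▸ hψ')
    rw [← hY] at h1
    exact h1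
  have he : (K.index : ℂ) ≠ 0 := Nat.cast_ne_zero.mpr Subgroup.FiniteIndex.index_ne_zero
  obtain ⟨r, hrgen, hrin, t, ht⟩ := hrat τ₁ (hY ▸ hτ₁) (hY ▸ hag) φ (hY ▸ hφ)
  set N : Subgroup K := Z.subgroupOf K with hN
  have hNn : N.Normal := hZ.subgroupOf K
  -- the degrees
  have hbex : ∀ θ : IrrCharacter K, ∃ n : ℕ, 0 < n ∧ θ.1 1 = n := fun θ => isIrr_apply_one θ.2
  choose b hb0 hb using hbex
  set f : {θ : IrrCharacter K // ¬ ∀ a ∈ N, θ.1 a = θ.1 1} → L → ℂ :=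
    fun θ => indFun K θ.1.1 with hf
  have hfdiff : ∀ θ, f θ ∈ inducedIrrAbove K ⊥ \ inducedIrrAbove K Z := by
    rintro ⟨θ, hθ⟩
    push Not at hθ
    obtain ⟨a, ha, hne⟩ := hθ
    exact OutsideCentral.indFun_mem_diff hZK θ.2 (Subgroup.mem_subgroupOf.1 ha) hne
  have hrange : Set.range f = inducedIrrAbove K ⊥ \ inducedIrrAbove K Z := by
    ext χ
    constructor
    · rintro ⟨θ, rfl⟩
      exact hfdiff θ
    · rintro ⟨⟨θ, h1, h2, h3, rfl⟩, h4⟩
      refine ⟨⟨⟨θ, h1⟩, ?_⟩, rfl⟩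
      intro h5
      exact h4 ⟨θ, h1, h2, fun a ha => h5 a (Subgroup.mem_subgroupOf.2 ha), rfl⟩
  have hrK : IsGeneralizedCharacter K (fun k : K => r k) := gen_restrict K hrgen
  have htK : ∀ z ∈ N, z ≠ 1 → (fun k : K => r k) 1 - (fun k : K => r k) z =
      (Nat.card K : ℂ) * (t : ℂ) := by
    intro z hz hz1
    exact ht z (Subgroup.mem_subgroupOf.1 hz) (fun h => hz1 (Subtype.ext h))
  have hcoeff := sum_nonker_coeff N hrK (t : ℂ) htK
  -- the inner product of the conjugate of `φ` with `r`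
  obtain ⟨a', ha'⟩ := gen_inner (gen_of_irr (hYirr _ hφ').1) hrgen
  have hne : φ ≠ conjFun φ := fun h => hS.conj_ne φ (hYS hφ) h.symm
  have key := coherent_XY hS Y hYS hYc
    (fun ψ hψ => classInner_irr_self (hYirr ψ hψ).1) (K.index : ℂ) he
    (fun ψ hψ => (hYirr ψ hψ).2) hτ₁ hag hφ hφ' hne f (fun θ => b θ.1)
    (fun θ => (hfdiff θ).1) (fun θ => hb0 _)
    (by
      intro θ
      show indFun K θ.1.1 1 = _
      rw [indFun_one, hb]; ring)
    (by
      intro θ hθ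
      have h1 : f θ ∈ (Y : Set (L → ℂ)) := hθ
      rw [hY] at h1
      exact (hfdiff θ).2 (hYZ h1)) (t - a')
    (by
      have h1 : ∀ θ : {θ : IrrCharacter K // ¬ ∀ a ∈ N, θ.1 a = θ.1 1},
          classInner (τ (f θ - (b θ.1 : ℤ) • conjFun φ)) (τ₁ φ) * (b θ.1 : ℂ) =
          classInner θ.1.1 (fun k : K => r k) * θ.1.1 1 - (a' : ℂ) * (θ.1.1 1) ^ 2 := by
        intro θ
        have hmem : f θ - (b θ.1 : ℤ) • conjFun φ ∈ zspanOn (inducedIrrAbove K ⊥) {1}ᶜ := by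
          rw [mem_zspanOn_one_iff]
          refine ⟨zspan_sub (zspan_subset (hfdiff θ).1)
            (zspan_zsmul _ (zspan_subset (hYS hφ'))), ?_⟩
          rw [Pi.sub_apply, Pi.smul_apply, (hYirr _ hφ').2]
          show indFun K θ.1.1 1 - _ = 0
          rw [indFun_one, hb, zsmul_eq_mul]
          push_cast; ring
        rw [hrin _ hmem, classInner_sub_left, classInner_zsmul_left, ha']
        have h2 : classInner (f θ) r = classInner θ.1.1 (fun k : K => r k) :=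
          frobenius K θ.1.1 r (gen_isClassFunction hrgen)
        rw [h2, hb θ.1]
        push_cast; ring
      rw [Finset.sum_congr rfl fun θ _ => h1 θ, Finset.sum_sub_distrib, hcoeff,
        ← Finset.mul_sum]
      have h3 : ∑ θ : {θ : IrrCharacter K // ¬ ∀ a ∈ N, θ.1 a = θ.1 1}, (b θ.1 : ℂ) ^ 2 =
          ∑ θ : {θ : IrrCharacter K // ¬ ∀ a ∈ N, θ.1 a = θ.1 1}, (θ.1.1 1) ^ 2 :=
        Finset.sum_congr rfl fun θ _ => by rw [hb θ.1]
      rw [h3]
      push_cast; ring)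
  rw [hY, hrange] at key
  exact key

end Cfsg.Agent.OddOrderCharacters.SibleyUnion
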