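import Cfsg.Agent.S1523
import Cfsg.Agent.OddOrderCharacters.Galois
import Cfsg.Agent.OddOrderCharacters.SibleyPivot
import Cfsg.Agent.OddOrderCharacters.InducedSum
import Cfsg.Agent.OddOrderCharacters.OutsideCentral
import Cfsg.Agent.OddOrderCharacters.InducedNormal
import Mathlib.Tactic

/-!
# Values of coherent extensions on a central subgroup

* `value_congr` : for `P` a Sylow `p`-subgroup which is a TI-set with normaliser of odd order and `Z`
  central in `P` and normal in the normaliser, a generalized character `χ` of norm one that is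
  constant on `Z#` satisfies `χ 1 - χ z = |P| t` with an integer `t`.
* `ext_in_span`, `ext_orth_ext` : the image `τ₁ φ` under a coherent extension is in the span of
  `R φ`, and images under two coherent extensions are orthogonal.
* `const_of_orth`, `const_of_gal` : two criteria for being constant on `Z#`.
-/

set_option autoImplicit false

open scoped ComplexConjugate
open Cfsg

namespace Cfsg.Agent.OddOrderCharacters.SibleyValue

open Cfsg.Agent.Characters.Core Cfsg.Agent.OddOrderCharacters.VChar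
open Cfsg.Agent.OddOrderCharacters.ClassSum

/-- The congruence of S1523 without the hypothesis on the orders of centralisers. -/
theorem value_congr_irr {G : Type*} [Group G] [Fintype G] {p : ℕ} [Fact p.Prime] {P : Sylow p G}
    (hTI : IsTISubset ((P : Subgroup G) : Set G))
    (hodd : Odd (Nat.card (Subgroup.normalizer ((P : Subgroup G) : Set G))))
    {Z : Subgroup G} (hZ1 : Z ≠ ⊥) (hZP : Z ≤ P)
    (hZn : ∀ x ∈ Subgroup.normalizer ((P : Subgroup G) : Set G), ∀ z ∈ Z, x * z * x⁻¹ ∈ Z)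
    (hZc : ∀ z ∈ Z, ∀ y ∈ (P : Subgroup G), z * y = y * z) {ψ : G → ℂ} (hψ : IsIrrCharacter G ψ)
    (hconst : ∀ z ∈ Z, ∀ z' ∈ Z, z ≠ 1 → z' ≠ 1 → ψ z = ψ z') {z : G} (hz : z ∈ Z)
    (hz1 : z ≠ 1) : ∃ k : ℤ, ψ 1 - ψ z = (Nat.card (P : Subgroup G) : ℂ) * k := by
  classical
  obtain ⟨n, ρ, hρ, rfl⟩ := hψ
  set c := ρ.character z with hc
  have hcint : IsIntegral ℤ c := character_isIntegral ρ z
  have hconst' : ∀ v ∈ Z, v ≠ 1 → ρ.character v = c :=
    fun v hv hv1 => hconst v hv z hz hv1 hz1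
  have hzP : z ∈ (P : Subgroup G) := hZP hz
  have hzi : z⁻¹ ∈ Z := inv_mem hz
  have hzi1 : z⁻¹ ≠ 1 := inv_ne_one.2 hz1
  obtain ⟨α, hα, hα'⟩ := S1523.key hTI Z hZP hZn ρ c hcint hconst' z z hz hz hz1 hz1
  obtain ⟨β, hβ, hβ'⟩ := S1523.key hTI Z hZP hZn ρ c hcint hconst' z z⁻¹ hz hzi hz1 hzi1
  rw [S1523.cls_pairs_self z (S1523.not_isConj_inv hTI hodd hzP hz1)] at hα'
  rw [S1523.cls_pairs_inv z, S1523.cls_card_inv z] at hβ'
  have hcls : ∀ w ∈ Z, w ≠ 1 → ∑ x ∈ S1523.cls w, ρ.character x =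
      ((S1523.cls w).card : ℂ) * c := by
    intro w hw hw1
    have h1 : ∀ x ∈ S1523.cls w, ρ.character x = c := by
      intro x hx
      obtain ⟨g, hg⟩ := isConj_iff.1 ((S1523.mem_cls _ _).1 hx)
      rw [← hg, Representation.char_conj, hconst' w hw hw1]
    rw [Finset.sum_congr rfl h1, Finset.sum_const, nsmul_eq_mul]
  have hA := character_class_sum_mul ρ hρ (S1523.cls z) (S1523.cls z)
    (fun g x hx => S1523.cls_conj z g x hx) (fun g x hx => S1523.cls_conj z g x hx)
  have hB := character_class_sum_mul ρ hρ (S1523.cls z) (S1523.cls z⁻¹)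
    (fun g x hx => S1523.cls_conj z g x hx) (fun g x hx => S1523.cls_conj z⁻¹ g x hx)
  rw [hα', hcls z hz hz1] at hA
  rw [hβ', hcls z hz hz1, hcls z⁻¹ hzi hzi1, S1523.cls_card_inv] at hB
  have hd0 : ρ.character 1 ≠ 0 := S1523.char_one_ne_zero ρ hρ
  set d : ℂ := ρ.character 1 with hd
  set N : ℂ := ((S1523.cls z).card : ℂ) with hN
  set m : ℂ := (Nat.card (P : Subgroup G) : ℂ) with hm
  have hmain : N * (d - c) = m * (α - β) := by
    have h1 : d * (N * N * c + m * α + ((0 : ℕ) : ℂ) * (d - c)) =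
        d * (N * N * c + m * β + N * (d - c)) := by
      rw [hA, hB]
    have h2 := mul_left_cancel₀ hd0 h1
    simp only [Nat.cast_zero, zero_mul, add_zero] at h2
    linear_combination -h2
  -- Bezout
  have hcop := S1523.coprime_cls (P := P) (z := z) (hZc z hz)
  have hbez := Nat.gcd_eq_gcd_ab (S1523.cls z).card (Nat.card (P : Subgroup G))
  rw [hcop.gcd_eq_one] at hbez
  set a : ℤ := (S1523.cls z).card.gcdA (Nat.card (P : Subgroup G)) with ha
  set b : ℤ := (S1523.cls z).card.gcdB (Nat.card (P : Subgroup G)) with hb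
  have hbez' : (1 : ℂ) = N * a + m * b := by
    have := congrArg (fun t : ℤ => (t : ℂ)) hbez
    push_cast at this
    exact this
  have hdint : IsIntegral ℤ d := character_isIntegral ρ 1
  have hγ : ∃ γ : ℂ, IsIntegral ℤ γ ∧ d - c = m * γ := by
    refine ⟨a * (α - β) + b * (d - c), ?_, ?_⟩
    · exact ((isIntegral_algebraMap (R := ℤ) (A := ℂ) (x := a)).mul (hα.sub hβ)).add
        ((isIntegral_algebraMap (R := ℤ) (A := ℂ) (x := b)).mul (hdint.sub hcint))
    · calc d - c = (N * a + m * b) * (d - c) := by rw [← hbez']; ring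
        _ = a * (N * (d - c)) + m * b * (d - c) := by ring
        _ = m * (a * (α - β) + b * (d - c)) := by rw [hmain]; ring
  obtain ⟨γ, hγint, hγ'⟩ := hγ
  have hm0 : m ≠ 0 := by
    rw [hm]
    exact_mod_cast (Nat.card_pos (α := (P : Subgroup G))).ne'
  -- rationality
  have hdn : d = (n : ℂ) := by
    rw [hd, Representation.char_one]
    simp
  have hrat : ∃ q : ℚ, c = (q : ℂ) := by
    have hinv : Invertible (Nat.card Z : ℂ) :=
      invertibleOfNonzero (by exact_mod_cast (Nat.card_pos (α := Z)).ne')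
    let σ : Representation ℂ Z (Fin n → ℂ) := MonoidHom.comp ρ Z.subtype
    have h1 := Representation.card_inv_mul_sum_char_eq_finrank (k := ℂ) (G := Z) σ
    set r : ℕ := Module.finrank ℂ (Representation.invariants σ) with hr
    have h2 : ∑ g : Z, σ.character g = d + ((Nat.card Z : ℂ) - 1) * c := by
      rw [← Finset.add_sum_erase _ _ (Finset.mem_univ (1 : Z))]
      have h3 : ∀ g ∈ (Finset.univ : Finset Z).erase 1, σ.character g = c := by
        intro g hg
        have hg1 : (g : G) ≠ 1 := by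
          intro h
          exact (Finset.ne_of_mem_erase hg) (Subtype.ext h)
        exact hconst' g g.2 hg1
      rw [Finset.sum_congr rfl h3, Finset.sum_const, Finset.card_erase_of_mem (Finset.mem_univ _),
        Finset.card_univ, nsmul_eq_mul, ← Nat.card_eq_fintype_card,
        Nat.cast_sub (Nat.one_le_iff_ne_zero.2 (Nat.card_pos (α := Z)).ne')]
      have h4 : σ.character 1 = d := by
        show LinearMap.trace ℂ _ (ρ (Z.subtype 1)) = d
        rw [map_one]
        rfl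
      rw [h4]
      simp
    rw [h2] at h1
    have hZ2 : (1 : ℕ) < Nat.card Z := by
      have := Subgroup.one_lt_card_iff_ne_bot Z
      exact this.2 hZ1
    have hZne : ((Nat.card Z : ℂ) - 1) ≠ 0 := by
      intro h
      have h5 : (Nat.card Z : ℂ) = ((1 : ℕ) : ℂ) := by
        rw [Nat.cast_one]; exact sub_eq_zero.1 h
      have h6 := Nat.cast_injective h5
      omega
    have hZ0 : (Nat.card Z : ℂ) ≠ 0 := by exact_mod_cast (Nat.card_pos (α := Z)).ne'
    refine ⟨((Nat.card Z : ℚ) * r - n) / ((Nat.card Z : ℚ) - 1), ?_⟩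
    push_cast
    rw [eq_div_iff hZne]
    have h7 : d + ((Nat.card Z : ℂ) - 1) * c = (Nat.card Z : ℂ) * r := by
      rw [← h1, ← mul_assoc, mul_inv_cancel₀ hZ0, one_mul]
    rw [hdn] at h7
    linear_combination h7
  obtain ⟨q, hq⟩ := hrat
  obtain ⟨k, hk⟩ := S1523.exists_int_of_rat (x := γ)
    (((n : ℚ) - q) / (Nat.card (P : Subgroup G) : ℚ))
    (by
      push_cast
      rw [eq_div_iff hm0, ← hq, ← hdn, hγ']
      ring) hγint
  exact ⟨k, by rw [hγ', hk]⟩

/-- For a generalized character of norm one constant on `Z#`, the difference of the values at `1`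
and on `Z#` is divisible by the order of the Sylow subgroup. -/
theorem value_congr {G : Type*} [Group G] [Fintype G] {p : ℕ} [Fact p.Prime] {P : Sylow p G}
    (hTI : IsTISubset ((P : Subgroup G) : Set G))
    (hodd : Odd (Nat.card (Subgroup.normalizer ((P : Subgroup G) : Set G))))
    {Z : Subgroup G} (hZ1 : Z ≠ ⊥) (hZP : Z ≤ P)
    (hZn : ∀ x ∈ Subgroup.normalizer ((P : Subgroup G) : Set G), ∀ z ∈ Z, x * z * x⁻¹ ∈ Z)
    (hZc : ∀ z ∈ Z, ∀ y ∈ (P : Subgroup G), z * y = y * z) {χ : G → ℂ}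
    (hχ : IsGeneralizedCharacter G χ) (hχn : classInner χ χ = 1)
    (hconst : ∀ z ∈ Z, ∀ z' ∈ Z, z ≠ 1 → z' ≠ 1 → χ z = χ z') :
    ∃ t : ℤ, ∀ z ∈ Z, z ≠ 1 → χ 1 - χ z = (Nat.card (P : Subgroup G) : ℂ) * t := by
  obtain ⟨⟨z₀, hz₀⟩, hz₀1⟩ : ∃ z : Z, z ≠ 1 := by
    by_contra hcon
    push Not at hcon
    apply hZ1
    rw [eq_bot_iff]
    intro z hz
    rw [Subgroup.mem_bot]
    exact congrArg Subtype.val (hcon ⟨z, hz⟩)
  have hz₀1' : z₀ ≠ 1 := fun h => hz₀1 (Subtype.ext h)
  have key : ∃ t : ℤ, χ 1 - χ z₀ = (Nat.card (P : Subgroup G) : ℂ) * t := by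
    rcases isIrr_of_generalized hχ hχn with h | h
    · exact value_congr_irr hTI hodd hZ1 hZP hZn hZc h hconst hz₀ hz₀1'
    · obtain ⟨k, hk⟩ := value_congr_irr hTI hodd hZ1 hZP hZn hZc h
        (fun z hz z' hz' h1 h1' => by
          rw [Pi.neg_apply, Pi.neg_apply, hconst z hz z' hz' h1 h1']) hz₀ hz₀1'
      refine ⟨-k, ?_⟩
      rw [Pi.neg_apply, Pi.neg_apply] at hk
      push_cast
      linear_combination -hk
  obtain ⟨t, ht⟩ := key
  refine ⟨t, fun z hz hz1 => ?_⟩
  rw [hconst z hz z₀ hz₀ hz1 hz₀1', ht]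

section span

variable {L : Type*} [Group L] [Fintype L] {G : Type*} [Group G] [Fintype G]

/-- The image under a coherent extension is in the span of `R φ`. -/
theorem ext_in_span {S : Set (L → ℂ)} {τ : (L → ℂ) → (G → ℂ)} {R : (L → ℂ) → Finset (G → ℂ)}
    (hS : IsCoherenceSystem S τ R) {T : Set (L → ℂ)} (hTS : T ⊆ S)
    {τ₁ : (L → ℂ) → (G → ℂ)} (hτ₁ : IsLinearIsometryOn (zspan T) τ₁)
    (hag : ∀ α ∈ zspanOn T {1}ᶜ, τ₁ α = τ α) {φ : L → ℂ} (hφ : φ ∈ T) (hφc : conjFun φ ∈ T) :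
    τ₁ φ = ∑ α ∈ R φ, classInner (τ₁ φ) α • α := by
  classical
  have hφS := hTS hφ
  have hφφc : φ - conjFun φ ∈ zspanOn T {1}ᶜ := by
    rw [mem_zspanOn_one_iff]
    refine ⟨zspan_sub (zspan_subset hφ) (zspan_subset hφc), ?_⟩
    obtain ⟨n, hn⟩ := isCharacter_apply_one (hS.isCharacter φ hφS)
    rw [Pi.sub_apply, conjFun_apply, hn]
    simp
  have key := (Cfsg.Agent.S1515.result S τ R hS φ hφS 0 zspan_zero
    (classInner_zero_right _) (classInner_zero_right _) τ₁
    (by
      refine lin_mono hτ₁ ?_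
      intro α hα
      rw [sub_zero] at hα
      obtain ⟨n, m, rfl⟩ := mem_zspan_pair hα
      exact zspan_add (zspan_zsmul n (zspan_subset hφ)) (zspan_zsmul m hφφc.1))
    (by
      intro n
      exact hag _ (zspanOn_zsmul n hφφc))).1
  rw [sub_zero] at key
  have hnorm : classInner (τ₁ φ) (τ₁ φ) = classInner φ φ :=
    lin_inner hτ₁ (zspan_subset hφ) (zspan_subset hφ)
  set w : G → ℂ := ∑ α ∈ R φ, classInner (τ₁ φ) α • α with hw
  have hvw : classInner (τ₁ φ) w = ((∑ α ∈ R φ, ‖classInner (τ₁ φ) α‖ ^ 2 : ℝ) : ℂ) := by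
    rw [hw, classInner_sum_right, Complex.ofReal_sum]
    refine Finset.sum_congr rfl fun α _ => ?_
    rw [classInner_smul_right, mul_comm, Complex.mul_conj, Complex.normSq_eq_norm_sq]
  have hwα : ∀ α ∈ R φ, classInner w α = classInner (τ₁ φ) α := by
    intro α hα
    rw [hw, classInner_sum_left, Finset.sum_eq_single α]
    · rw [classInner_smul_left, hS.orthonormal φ hφS α hα α hα, if_pos rfl, mul_one]
    · intro β hβ hne
      rw [classInner_smul_left, hS.orthonormal φ hφS β hβ α hα, if_neg hne, mul_zero]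
    · intro h; exact absurd hα h
  have hww : classInner w w = ((∑ α ∈ R φ, ‖classInner (τ₁ φ) α‖ ^ 2 : ℝ) : ℂ) := by
    conv_lhs => rw [hw]
    rw [← hw, classInner_sum_left, Complex.ofReal_sum]
    refine Finset.sum_congr rfl fun α hα => ?_
    rw [classInner_smul_left, ← classInner_conj_symm w α, hwα α hα, Complex.mul_conj,
      Complex.normSq_eq_norm_sq]
  have hwv : classInner w (τ₁ φ) = ((∑ α ∈ R φ, ‖classInner (τ₁ φ) α‖ ^ 2 : ℝ) : ℂ) := by
    rw [← classInner_conj_symm, hvw, Complex.conj_ofReal]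
  have hre : (classInner (τ₁ φ - w) (τ₁ φ - w)).re = (classInner φ φ).re -
      ∑ α ∈ R φ, ‖classInner (τ₁ φ) α‖ ^ 2 := by
    rw [classInner_sub_left, classInner_sub_right, classInner_sub_right, hvw, hwv, hww, hnorm]
    simp only [Complex.sub_re, Complex.ofReal_re]
    ring
  have h0 : classInner (τ₁ φ - w) (τ₁ φ - w) = 0 := by
    have h1 := classInner_self_re_nonneg (τ₁ φ - w)
    apply Complex.ext
    · rw [Complex.zero_re]
      rw [hre] at h1 ⊢
      linarith
    · exact classInner_self_im _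
  exact sub_eq_zero.1 (classInner_self_eq_zero h0)

/-- Images under two coherent extensions are orthogonal. -/
theorem ext_orth_ext {S : Set (L → ℂ)} {τ : (L → ℂ) → (G → ℂ)} {R : (L → ℂ) → Finset (G → ℂ)}
    (hS : IsCoherenceSystem S τ R) {T T' : Set (L → ℂ)} (hTS : T ⊆ S) (hTS' : T' ⊆ S)
    {τ₁ τ₂ : (L → ℂ) → (G → ℂ)} (hτ₁ : IsLinearIsometryOn (zspan T) τ₁)
    (hag₁ : ∀ α ∈ zspanOn T {1}ᶜ, τ₁ α = τ α) (hτ₂ : IsLinearIsometryOn (zspan T') τ₂)
    (hag₂ : ∀ α ∈ zspanOn T' {1}ᶜ, τ₂ α = τ α) {φ ψ : L → ℂ} (hφ : φ ∈ T)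
    (hφc : conjFun φ ∈ T) (hψ : ψ ∈ T') (hψc : conjFun ψ ∈ T') (h1 : classInner ψ φ = 0)
    (h2 : classInner ψ (conjFun φ) = 0) : classInner (τ₂ ψ) (τ₁ φ) = 0 := by
  rw [ext_in_span hS hTS hτ₁ hag₁ hφ hφc, classInner_sum_right]
  refine Finset.sum_eq_zero fun α hα => ?_
  rw [classInner_smul_right, SibleyPivot.ext_orth hS hTS' hτ₂ hag₂ hψ hψc (hTS hφ) h1 h2 α hα,
    mul_zero]

end span

section const

variable {L : Type*} [Group L] [Fintype L]

open scoped Classical in
/-- If the multiplicities in `ρ` of the irreducible characters of `K` nontrivial on the normal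
subgroup `N` are proportional to the degrees, then `ρ` is constant on `N#`. -/
theorem const_of_prop {K : Type*} [Group K] [Fintype K] (N : Subgroup K) [hN : N.Normal]
    {ρ : K → ℂ} (hρ : IsClassFunction K ρ)
    (hprop : ∀ θ θ' : K → ℂ, IsIrrCharacter K θ → IsIrrCharacter K θ' →
      (∃ z ∈ N, θ z ≠ θ 1) → (∃ z ∈ N, θ' z ≠ θ' 1) →
      θ' 1 * classInner ρ θ = θ 1 * classInner ρ θ') {z z' : K} (hz : z ∈ N) (hz' : z' ∈ N)
    (hz1 : z ≠ 1) (hz1' : z' ≠ 1) : ρ z = ρ z' := by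
  have _ : Finite (IrrCharacter K) := finite_irr
  have _ : Fintype (IrrCharacter K) := Fintype.ofFinite _
  -- the proportionality factor
  obtain ⟨c, hc⟩ : ∃ c : ℂ, ∀ θ : K → ℂ, IsIrrCharacter K θ → (∃ z ∈ N, θ z ≠ θ 1) →
      classInner ρ θ = c * θ 1 := by
    by_cases hex : ∃ θ : K → ℂ, IsIrrCharacter K θ ∧ ∃ z ∈ N, θ z ≠ θ 1
    · obtain ⟨θ₀, hθ₀, hn⟩ := hex
      refine ⟨classInner ρ θ₀ / θ₀ 1, fun θ hθ hθn => ?_⟩
      have h0 : θ₀ 1 ≠ 0 := isIrr_apply_one_ne_zero hθ₀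
      have h1 := hprop θ θ₀ hθ hθ₀ hθn hn
      field_simp
      linear_combination h1
    · refine ⟨0, fun θ hθ hθn => absurd ⟨θ, hθ, hθn⟩ hex⟩
  have hval : ∀ k : K, ρ k = ∑ θ : IrrCharacter K, classInner ρ θ.1 * θ.1 k := by
    intro k
    conv_lhs => rw [classFunction_eq_sum hρ]
    rw [Finset.sum_apply]
    exact Finset.sum_congr rfl fun θ _ => by rw [Pi.smul_apply, smul_eq_mul]
  have hgen : ∀ k ∈ N, k ≠ 1 → ρ k = ∑ θ : IrrCharacter K,
      (if ∀ a ∈ N, θ.1 a = θ.1 1 then (classInner ρ θ.1 - c * θ.1 1) * θ.1 1 else 0) := by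
    intro k hk hk1
    have h1 := InducedSum.sum_above (K := K) (⊥ : Subgroup K) k
    rw [if_neg (by rwa [Subgroup.mem_bot])] at h1
    have h2 : ∑ θ : IrrCharacter K, c * (θ.1 1 * θ.1 k) = 0 := by
      rw [← Finset.mul_sum]
      have : ∑ χ : IrrCharacter K, χ.1 1 * χ.1 k = 0 := by
        rw [← h1]
        refine Finset.sum_congr rfl fun χ _ => ?_
        rw [if_pos]
        intro a ha
        rw [Subgroup.mem_bot.1 ha]
      rw [this, mul_zero]
    have h3 : ρ k = ∑ θ : IrrCharacter K, classInner ρ θ.1 * θ.1 k -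
        ∑ θ : IrrCharacter K, c * (θ.1 1 * θ.1 k) := by
      rw [h2, sub_zero, hval k]
    rw [h3, ← Finset.sum_sub_distrib]
    refine Finset.sum_congr rfl fun θ _ => ?_
    by_cases h : ∀ a ∈ N, θ.1 a = θ.1 1
    · rw [if_pos h, h k hk]; ring
    · rw [if_neg h]
      push Not at h
      rw [hc θ.1 θ.2 h]; ring
  rw [hgen z hz hz1, hgen z' hz' hz1']

/-- Constancy on `Z#` from orthogonality to the degree-zero combinations of `S ∖ S(Z)`. -/
theorem const_of_orth (K Z : Subgroup L) [hK : K.Normal] [hZ : Z.Normal] (hZK : Z ≤ K)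
    {r : L → ℂ} (hr : IsClassFunction L r)
    (horth : ∀ β ∈ zspanOn (inducedIrrAbove K ⊥ \ inducedIrrAbove K Z) {1}ᶜ,
      classInner β r = 0) {z z' : L} (hz : z ∈ Z) (hz' : z' ∈ Z) (hz1 : z ≠ 1) (hz1' : z' ≠ 1) :
    r z = r z' := by
  classical
  have _ : Fintype K := Fintype.ofFinite K
  have hNn : (Z.subgroupOf K).Normal := hZ.subgroupOf K
  have key := const_of_prop (K := K) (Z.subgroupOf K) (ρ := fun k : K => r k)
    (fun g h => hr g h)
    (by
      intro θ θ' hθ hθ' ⟨a, ha, hane⟩ ⟨b, hb, hbne⟩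
      have h1 := OutsideCentral.indFun_mem_diff hZK hθ (Subgroup.mem_subgroupOf.1 ha) hane
      have h2 := OutsideCentral.indFun_mem_diff hZK hθ' (Subgroup.mem_subgroupOf.1 hb) hbne
      obtain ⟨n, hn0, hn⟩ := isIrr_apply_one hθ
      obtain ⟨m, hm0, hm⟩ := isIrr_apply_one hθ'
      have hβ : (m : ℤ) • indFun K θ - (n : ℤ) • indFun K θ' ∈
          zspanOn (inducedIrrAbove K ⊥ \ inducedIrrAbove K Z) {1}ᶜ := by
        rw [mem_zspanOn_one_iff]
        refine ⟨zspan_sub (zspan_zsmul _ (zspan_subset h1)) (zspan_zsmul _ (zspan_subset h2)), ?_⟩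
        rw [Pi.sub_apply, Pi.smul_apply, Pi.smul_apply, InducedNormal.indFun_one,
          InducedNormal.indFun_one, hn, hm, zsmul_eq_mul, zsmul_eq_mul]
        push_cast; ring
      have h3 := horth _ hβ
      rw [classInner_sub_left, classInner_zsmul_left, classInner_zsmul_left,
        InducedNormal.frobenius K θ r hr, InducedNormal.frobenius K θ' r hr] at h3
      rw [hn, hm, ← classInner_conj_symm θ (fun k : K => r k),
        ← classInner_conj_symm θ' (fun k : K => r k)]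
      have h4 := congrArg conj h3
      simp only [map_sub, map_mul, map_zero, Complex.conj_natCast, Int.cast_natCast] at h4
      linear_combination h4)
    (z := ⟨z, hZK hz⟩) (z' := ⟨z', hZK hz'⟩) hz hz' (fun h => hz1 (congrArg Subtype.val h))
    (fun h => hz1' (congrArg Subtype.val h))
  exact key

/-- Constancy on `Z#` for `Z` of prime order, from invariance of the values under all field
automorphisms. -/
theorem const_of_gal {G : Type*} [Group G] [Finite G] (Z : Subgroup G)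
    (hZp : (Nat.card Z).Prime) {χ : G → ℂ} (hχ : IsGeneralizedCharacter G χ)
    (hgal : ∀ σ : ℂ ≃+* ℂ, ∀ z ∈ Z, z ≠ 1 → Galois.gal σ χ z = χ z) {z z' : G} (hz : z ∈ Z)
    (hz' : z' ∈ Z) (hz1 : z ≠ 1) (hz1' : z' ≠ 1) : χ z = χ z' := by
  have hfact : Fact (Nat.card Z).Prime := ⟨hZp⟩
  have hord : orderOf z = Nat.card Z := by
    have h1 : orderOf (⟨z, hz⟩ : Z) ∣ Nat.card Z := orderOf_dvd_natCard _
    rw [Subgroup.orderOf_mk] at h1
    rcases (Nat.dvd_prime hZp).1 h1 with h | h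
    · exact absurd (orderOf_eq_one_iff.1 h) hz1
    · exact h
  have hgen : Subgroup.zpowers (⟨z, hz⟩ : Z) = ⊤ :=
    zpowers_eq_top_of_prime_card (p := Nat.card Z) rfl (fun h => hz1 (congrArg Subtype.val h))
  have hmem : (⟨z', hz'⟩ : Z) ∈ Subgroup.zpowers (⟨z, hz⟩ : Z) := by rw [hgen]; trivial
  obtain ⟨k, hk⟩ := (mem_powers_iff_mem_zpowers.2 hmem)
  have hk' : z ^ k = z' := congrArg Subtype.val hk
  have hcop : k.Coprime (Nat.card Z) := by
    rw [Nat.coprime_comm, hZp.coprime_iff_not_dvd]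
    intro hdvd
    apply hz1'
    rw [← hk', ← orderOf_dvd_iff_pow_eq_one, hord]
    exact hdvd
  obtain ⟨σ, hσ⟩ := Cfsg.Agent.Characters.Galois.exists_ringEquiv_complex hZp.ne_zero hcop
  have h1 := Galois.gal_apply_pow σ hZp.ne_zero hσ hχ z (by rw [← hord]; exact pow_orderOf_eq_one z)
  rw [← hk', ← h1, hgal σ z hz hz1]

end const

end Cfsg.Agent.OddOrderCharacters.SibleyValue
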