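import Mathlib
import Cfsg.Agent.S1350
import Cfsg.Agent.S1351
import Cfsg.Agent.S1352
import Cfsg.Agent.S1355
import Cfsg.Agent.S1357
import Cfsg.Agent.S1365
import Cfsg.Agent.S1378
import Cfsg.Agent.S1379
import Cfsg.Agent.S1380
import Cfsg.Agent.S1381
import Cfsg.Agent.S1382
import Cfsg.Agent.OddOrderLocal.MinSimpleBasic
import Cfsg.Agent.OddOrderCharacters.TypeEquivariance

/-!
`M_s = M_σ` for the maximal subgroups of a minimal simple group of odd order, and first consequences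
for non-conjugate maximal subgroups.  (Rests on the listed statements of the local analysis.)
-/

set_option autoImplicit false

namespace Cfsg.Agent.OddOrderCharacters.TypeCore

open Cfsg Cfsg.Agent.OddOrderCharacters.TypeEquivariance

variable {G : Type*} [Group G] [Finite G]

theorem exists_decomposition (hG : IsMinSimpleOddOrder G) (M : Subgroup G) (hM : IsCoatom M) :
    ∃ K U : Subgroup G, IsSigmaDecomposition M K U := by
  obtain ⟨⟨K, hK⟩, hc⟩ := S1351.result hG M hM
  obtain ⟨⟨U, hU⟩, -⟩ := S1352.result hG M hM K (hc K hK) hK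
  exact ⟨K, U, hU⟩

theorem sigmaCore_lt (hG : IsMinSimpleOddOrder G) (M : Subgroup G) (hM : IsCoatom M) :
    sigmaCore M < M := by
  obtain ⟨-, -, h3, h4, -⟩ := S1355.result hG M hM
  exact lt_of_le_of_lt h3 h4

/-- In a standard factorisation with trivial `K` the factor `U` is nontrivial. -/
theorem U_ne_bot_of_K_eq_bot (hG : IsMinSimpleOddOrder G) (M : Subgroup G) (hM : IsCoatom M)
    {K U : Subgroup G} (h : IsSigmaDecomposition M K U) (hK : K = ⊥) : U ≠ ⊥ := by
  rintro rfl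
  have h1 := sigmaCore_lt hG M hM
  apply h1.not_ge
  intro m hm
  obtain ⟨a, ha, b, hb, rfl⟩ := h.compl.2.2.2 m hm
  rw [Subgroup.mem_bot] at ha
  rw [hK, bot_sup_eq] at hb
  rw [ha, one_mul]; exact hb

theorem isOfTypeI_iff_K_eq_bot (hG : IsMinSimpleOddOrder G) (M : Subgroup G) (hM : IsCoatom M)
    {K U : Subgroup G} (h : IsSigmaDecomposition M K U) : IsOfTypeI M ↔ K = ⊥ := by
  rw [S1380.result hG M hM K U h]
  exact ⟨fun h => h.1, fun h' => ⟨h', U_ne_bot_of_K_eq_bot hG M hM h h'⟩⟩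

theorem not_III_IV_of_typeI (hG : IsMinSimpleOddOrder G) (M : Subgroup G) (hM : IsCoatom M)
    (hI : IsOfTypeI M) : ¬ (IsOfTypeIII M ∨ IsOfTypeIV M) := by
  obtain ⟨K, U, h⟩ := exists_decomposition hG M hM
  rw [S1382.result hG M hM K U h]
  rw [isOfTypeI_iff_K_eq_bot hG M hM h] at hI
  rintro ⟨h1, -⟩
  exact h1 hI

theorem not_III_IV_of_typeII (hG : IsMinSimpleOddOrder G) (M : Subgroup G) (hM : IsCoatom M)
    (hII : IsOfTypeII M) : ¬ (IsOfTypeIII M ∨ IsOfTypeIV M) := by
  obtain ⟨K, U, h⟩ := exists_decomposition hG M hM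
  rw [S1382.result hG M hM K U h]
  rw [S1381.result hG M hM K U h] at hII
  rintro ⟨-, h1, -⟩
  exact hII.2 h1

theorem typeCore_eq_sigmaCore (hG : IsMinSimpleOddOrder G) (M : Subgroup G) (hM : IsCoatom M) :
    typeCore M = sigmaCore M := by
  classical
  obtain ⟨K, U, h⟩ := exists_decomposition hG M hM
  have h3 := S1382.result hG M hM K U h
  unfold typeCore
  split_ifs with h1
  · obtain ⟨hK, hU, -⟩ := h3.1 h1
    have := (S1365.result hG M hM K U h hK).1
    rw [this, hU, bot_sup_eq]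
  · by_contra h2
    obtain ⟨hU, -, hK⟩ := S1357.result hG M hM K U h h2
    apply h1
    rw [h3]
    refine ⟨?_, hU, h2⟩
    rintro rfl
    rw [Subgroup.card_bot] at hK
    exact Nat.not_prime_one hK

theorem typeCore_eq_of_not (M : Subgroup G) (h : ¬ (IsOfTypeIII M ∨ IsOfTypeIV M)) :
    typeCore M = fittingHallOf M := by
  classical
  unfold typeCore
  rw [if_neg h]

theorem typeCore_eq_of_typeI (hG : IsMinSimpleOddOrder G) (M : Subgroup G) (hM : IsCoatom M)
    (hI : IsOfTypeI M) : typeCore M = fittingHallOf M :=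
  typeCore_eq_of_not M (not_III_IV_of_typeI hG M hM hI)

theorem typeCore_eq_of_typeII (hG : IsMinSimpleOddOrder G) (M : Subgroup G) (hM : IsCoatom M)
    (hII : IsOfTypeII M) : typeCore M = fittingHallOf M :=
  typeCore_eq_of_not M (not_III_IV_of_typeII hG M hM hII)

theorem typeCore_le_commutator (hG : IsMinSimpleOddOrder G) (M : Subgroup G) (hM : IsCoatom M) :
    typeCore M ≤ ⁅M, M⁆ := by
  rw [typeCore_eq_sigmaCore hG M hM]
  exact (S1355.result hG M hM).2.2.1

theorem typeCore_le (hG : IsMinSimpleOddOrder G) (M : Subgroup G) (hM : IsCoatom M) :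
    typeCore M ≤ M :=
  (typeCore_le_commutator hG M hM).trans (S1355.result hG M hM).2.2.2.1.le

/-- `A(M)` lies in `M`. -/
theorem typeA_subset (M : Subgroup G) : typeA M ⊆ (M : Set G) := by
  classical
  intro x hx
  unfold typeA at hx
  split_ifs at hx
  · exact hx.1
  · exact Subgroup.commutator_le_self M hx.1

theorem ne_one_of_mem_typeA {M : Subgroup G} {x : G} (hx : x ∈ typeA M) : x ≠ 1 := by
  classical
  unfold typeA at hx
  split_ifs at hx
  · exact hx.2.1
  · exact hx.2.1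

/-- Every element of `A(M)` commutes with a nonidentity element of `M_s`. -/
theorem exists_commute_of_mem_typeA (hG : IsMinSimpleOddOrder G) {M : Subgroup G} (hM : IsCoatom M)
    {x : G} (hx : x ∈ typeA M) : ∃ y ∈ typeCore M, y ≠ 1 ∧ x * y = y * x := by
  classical
  unfold typeA at hx
  split_ifs at hx with h
  · rw [typeCore_eq_of_typeI hG M hM h]; exact hx.2.2
  · exact hx.2.2

/-- `A(M)` is closed under nontrivial powers. -/
theorem pow_mem_typeA {M : Subgroup G} {x : G} (hx : x ∈ typeA M) (n : ℕ) (h1 : x ^ n ≠ 1) :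
    x ^ n ∈ typeA M := by
  classical
  unfold typeA at hx ⊢
  split_ifs at hx ⊢
  · obtain ⟨h2, -, y, hy, hy1, hxy⟩ := hx
    exact ⟨M.pow_mem h2 n, h1, y, hy, hy1, (Commute.pow_left hxy n)⟩
  · obtain ⟨h2, -, y, hy, hy1, hxy⟩ := hx
    exact ⟨Subgroup.pow_mem _ h2 n, h1, y, hy, hy1, (Commute.pow_left hxy n)⟩

theorem typeA1_subset_typeA (hG : IsMinSimpleOddOrder G) (M : Subgroup G) (hM : IsCoatom M) :
    typeA1 M ⊆ typeA M := by
  classical
  rintro x ⟨hx, hx1⟩
  have hx1' : x ≠ 1 := hx1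
  unfold typeA
  split_ifs with h
  · refine ⟨typeCore_le hG M hM hx, hx1', x, ?_, hx1', rfl⟩
    rw [← typeCore_eq_of_typeI hG M hM h]; exact hx
  · exact ⟨typeCore_le_commutator hG M hM hx, hx1', x, hx, hx1', rfl⟩

theorem typeA_subset_typeA0 (M : Subgroup G) : typeA M ⊆ typeA0 M := fun _ h => Or.inl h

/-- If `A(M)` contains an element outside `M_s` then `M` is of Type I or II. -/
theorem typeI_or_typeII_of_mem_typeA (hG : IsMinSimpleOddOrder G) {M : Subgroup G}
    (hM : IsCoatom M) {x : G} (hx : x ∈ typeA M) (hx1 : x ∉ typeCore M) :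
    IsOfTypeI M ∨ IsOfTypeII M := by
  classical
  by_cases hI : IsOfTypeI M
  · exact Or.inl hI
  right
  obtain ⟨K, U, h⟩ := exists_decomposition hG M hM
  rw [S1381.result hG M hM K U h]
  rw [isOfTypeI_iff_K_eq_bot hG M hM h] at hI
  refine ⟨hI, ?_⟩
  rintro rfl
  apply hx1
  have h1 := (S1365.result hG M hM K ⊥ h hI).1
  rw [bot_sup_eq, ← typeCore_eq_sigmaCore hG M hM] at h1
  rw [← h1]
  unfold typeA at hx
  rw [if_neg (by rwa [isOfTypeI_iff_K_eq_bot hG M hM h])] at hx
  exact hx.1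

/-- The prime divisors of the order of `M_σ` lie in `σ(M)`. -/
theorem mem_sigma_of_dvd (hG : IsMinSimpleOddOrder G) {M : Subgroup G} (hM : IsCoatom M) {p : ℕ}
    (hp : p.Prime) (hpd : p ∣ Nat.card (sigmaCore M)) : p ∈ sigma M :=
  (S1350.result hG M hM).1.2.1 p hp hpd

theorem coprime_sigmaCore (hG : IsMinSimpleOddOrder G) {M N : Subgroup G} (hM : IsCoatom M)
    (hN : IsCoatom N) (hnc : ∀ g : G, N ≠ M.map (MulAut.conj g).toMonoidHom) :
    (Nat.card (sigmaCore M)).Coprime (Nat.card (sigmaCore N)) := by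
  by_contra hc
  obtain ⟨p, hp, hp1, hp2⟩ := Nat.Prime.not_coprime_iff_dvd.1 hc
  obtain ⟨g, hg⟩ := (S1378.result hG).2 M N hM hN
    ⟨p, mem_sigma_of_dvd hG hM hp hp1, mem_sigma_of_dvd hG hN hp hp2⟩
  exact hnc g hg

theorem coprime_typeCore (hG : IsMinSimpleOddOrder G) {M N : Subgroup G} (hM : IsCoatom M)
    (hN : IsCoatom N) (hnc : ∀ g : G, N ≠ M.map (MulAut.conj g).toMonoidHom) :
    (Nat.card (typeCore M)).Coprime (Nat.card (typeCore N)) := by
  rw [typeCore_eq_sigmaCore hG M hM, typeCore_eq_sigmaCore hG N hN]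
  exact coprime_sigmaCore hG hM hN hnc

theorem typeA1_eq (hG : IsMinSimpleOddOrder G) (M : Subgroup G) (hM : IsCoatom M) :
    typeA1 M = (sigmaCore M : Set G) \ {1} := by
  unfold typeA1; rw [typeCore_eq_sigmaCore hG M hM]

theorem disjoint_tilde_typeA1 (hG : IsMinSimpleOddOrder G) {M N : Subgroup G} (hM : IsCoatom M)
    (hN : IsCoatom N) (hnc : ∀ g : G, N ≠ M.map (MulAut.conj g).toMonoidHom) :
    tildeOf M (typeA1 M) ∩ tildeOf N (typeA1 N) = ∅ := by
  rw [typeA1_eq hG M hM, typeA1_eq hG N hN]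
  exact (S1379.result hG).1 M N hM hN hnc

end Cfsg.Agent.OddOrderCharacters.TypeCore
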