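import Cfsg.Prelude.Def_OddOrderChar
import Cfsg.Prelude.Def_OddOrderLocal
import Cfsg.Agent.Characters.Core
import Cfsg.Agent.OddOrderLocal.FitAux
import Cfsg.Agent.OddOrderCharacters.PFDefs
import Cfsg.Agent.S0040
import Cfsg.Agent.S0148
import Cfsg.Agent.S0150
import Cfsg.Agent.S0171
import Cfsg.Agent.S0194
import Cfsg.Agent.S1500
import Cfsg.Agent.S1501
import Cfsg.Agent.S1514
import Cfsg.Agent.S1521
import Cfsg.Agent.S1524

/-!
# Coherence for a Frobenius maximal subgroup of (weak) type I (Peterfalvi (12.6))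

`core` : the characters induced from the Frobenius kernel `H = L_F` of a maximal subgroup `L` of (weak) Type I are
irreducible and form a coherent set for the Dade map of `(A, L)`, `A = H \ {1}`.
-/

set_option autoImplicit false
open Cfsg

namespace Cfsg.Agent.OddOrderCharacters.TypeOneCoherence

open scoped ComplexConjugate
open Cfsg.Agent Cfsg.Agent.Characters Cfsg.Agent.OddOrderCharacters.PFDefs

/-! ### The Dade map is additive, and vanishes at the identity -/

section dade

variable {G : Type*} [Group G] (A : Set G) (L : Subgroup G) (H : G → Subgroup G)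

theorem dadeIsometry_add (α β : L → ℂ) :
    dadeIsometry A L H (α + β) = dadeIsometry A L H α + dadeIsometry A L H β := by
  classical
  funext g
  simp only [Pi.add_apply]
  by_cases h : ∃ a : ↥L, (a : G) ∈ A ∧ ∃ x : G, ∃ u ∈ H (a : G), x * g * x⁻¹ = (a : G) * u
  · simp only [dadeIsometry, dif_pos h, Pi.add_apply]
  · simp only [dadeIsometry, dif_neg h, add_zero]

theorem dadeIsometry_zsmul (n : ℤ) (α : L → ℂ) :
    dadeIsometry A L H (n • α) = n • dadeIsometry A L H α := by
  classical
  funext g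
  simp only [Pi.smul_apply]
  by_cases h : ∃ a : ↥L, (a : G) ∈ A ∧ ∃ x : G, ∃ u ∈ H (a : G), x * g * x⁻¹ = (a : G) * u
  · simp only [dadeIsometry, dif_pos h, Pi.smul_apply]
  · simp only [dadeIsometry, dif_neg h, smul_zero]

theorem dadeIsometry_one (hD : DadeHypothesis A L H) (α : L → ℂ) :
    dadeIsometry A L H α 1 = 0 := by
  classical
  have h : ¬ ∃ a : ↥L, (a : G) ∈ A ∧ ∃ x : G, ∃ u ∈ H (a : G), x * 1 * x⁻¹ = (a : G) * u := by
    rintro ⟨a, ha, x, u, hu, hx⟩
    have h1 : (a : G) * u = 1 := by rw [← hx]; group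
    have h2 : (a : G) ∈ H (a : G) := by
      have : (a : G) = u⁻¹ := eq_inv_of_mul_eq_one_left h1
      have h3 := inv_mem hu
      rwa [← this] at h3
    have h3 : (a : G) ∈ H (a : G) ⊓ (L ⊓ Subgroup.centralizer ({(a : G)} : Set G)) := by
      refine Subgroup.mem_inf.2 ⟨h2, Subgroup.mem_inf.2 ⟨a.2, ?_⟩⟩
      rw [Subgroup.mem_centralizer_iff]
      intro y hy
      rw [Set.mem_singleton_iff] at hy
      rw [hy]
    rw [hD.inf_eq_bot a ha, Subgroup.mem_bot] at h3
    apply hD.one_not_mem
    rw [← h3]; exact ha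
  simp only [dadeIsometry, dif_neg h]

end dade

/-! ### Integer spans -/

theorem isGen_isClassFunction {G : Type*} [Group G] {α : G → ℂ} (h : IsGeneralizedCharacter G α) :
    IsClassFunction G α := by
  obtain ⟨χ, ψ, hχ, hψ, rfl⟩ := h
  intro g h
  simp only [Pi.sub_apply]
  rw [Core.isCharacter_isClassFunction hχ g h, Core.isCharacter_isClassFunction hψ g h]

theorem isGen_of_mem_zspan {G : Type*} [Group G] {S : Set (G → ℂ)}
    (hS : ∀ χ ∈ S, IsCharacter G χ) {α : G → ℂ} (hα : α ∈ zspan S) :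
    IsGeneralizedCharacter G α := by
  have hα' : α ∈ Submodule.span ℤ S := hα
  have hadd : ∀ β γ : G → ℂ, IsGeneralizedCharacter G β → IsGeneralizedCharacter G γ →
      IsGeneralizedCharacter G (β + γ) := by
    rintro β γ ⟨χ, ψ, hχ, hψ, rfl⟩ ⟨χ', ψ', hχ', hψ', rfl⟩
    exact ⟨χ + χ', ψ + ψ', Core.isCharacter_add hχ hχ', Core.isCharacter_add hψ hψ', by abel⟩
  have hneg : ∀ β : G → ℂ, IsGeneralizedCharacter G β → IsGeneralizedCharacter G (-β) := by
    rintro β ⟨χ, ψ, hχ, hψ, rfl⟩
    exact ⟨ψ, χ, hψ, hχ, by abel⟩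
  have hzero : IsGeneralizedCharacter G (0 : G → ℂ) :=
    ⟨0, 0, Core.isCharacter_zero, Core.isCharacter_zero, by simp⟩
  let T : AddSubgroup (G → ℂ) :=
    { carrier := {β | IsGeneralizedCharacter G β}
      add_mem' := fun {a b} ha hb => hadd a b ha hb
      zero_mem' := hzero
      neg_mem' := fun {a} ha => hneg a ha }
  induction hα' using Submodule.span_induction with
  | mem x hx => exact ⟨x, 0, hS x hx, Core.isCharacter_zero, by simp⟩
  | zero => exact hzero
  | add x y _ _ hx hy => exact hadd x y (hx (by assumption)) (hy (by assumption))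
  | smul a x _ hx => exact T.zsmul_mem (hx (by assumption)) a

theorem zspan_vanish {X : Type*} {S : Set (X → ℂ)} {x : X} (hS : ∀ χ ∈ S, χ x = 0) {α : X → ℂ}
    (hα : α ∈ zspan S) : α x = 0 := by
  have hα' : α ∈ Submodule.span ℤ S := hα
  induction hα' using Submodule.span_induction with
  | mem y hy => exact hS y hy
  | zero => rfl
  | add y z _ _ hy hz => rw [Pi.add_apply, hy (by assumption), hz (by assumption), add_zero]
  | smul a y _ hy => rw [Pi.smul_apply, hy (by assumption), smul_zero]

/-! ### The Dade map for a TI-set is induction -/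

theorem indFun_eq_dade {G : Type*} [Group G] [Fintype G] (L : Subgroup G)
    (A : Set G) (R : G → Subgroup G) (hA : ∀ a ∈ A, R a = ⊥)
    (hN : ∀ a ∈ A, ∀ g : G, g * a * g⁻¹ ∈ A → g ∈ L) (α : L → ℂ) (hα : IsClassFunction L α)
    (hαA : ∀ x : L, (x : G) ∉ A → α x = 0) : indFun L α = dadeIsometry A L R α := by
  classical
  funext g
  by_cases h : ∃ a : ↥L, (a : G) ∈ A ∧ ∃ x : G, ∃ u ∈ R (a : G), x * g * x⁻¹ = (a : G) * u
  · simp only [dadeIsometry, dif_pos h]
    obtain ⟨ha, x, u, hu, hx⟩ := Classical.choose_spec h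
    generalize Classical.choose h = a at *
    rw [hA _ ha, Subgroup.mem_bot] at hu
    rw [hu, mul_one] at hx
    rw [← S0150.indFun_isClassFunction L α g x, hx, S0150.indFun_apply]
    have key : ∀ y : G, extendByZero L α (y⁻¹ * (a : G) * y) = if y ∈ L then α a else 0 := by
      intro y
      split_ifs with hy
      · have h1 : y⁻¹ * (a : G) * y = (((⟨y, hy⟩ : L)⁻¹ * a * ((⟨y, hy⟩ : L)⁻¹)⁻¹ : L) : G) := by
          simp
        rw [h1, S0150.extendByZero_coe, hα]
      · by_cases hyL : y⁻¹ * (a : G) * y ∈ L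
        · have h1 : y⁻¹ * (a : G) * y = ((⟨_, hyL⟩ : L) : G) := rfl
          rw [h1, S0150.extendByZero_coe]
          apply hαA
          intro h2
          have h3 := hN _ ha y⁻¹ (by simpa using h2)
          exact hy (by simpa using inv_mem h3)
        · exact S0150.extendByZero_of_notMem L α hyL
    simp only [key]
    rw [← Finset.sum_filter, Finset.sum_const, nsmul_eq_mul]
    have hcard : (Finset.univ.filter (fun y : G => y ∈ L)).card = Nat.card L := by
      rw [Nat.card_eq_fintype_card, Fintype.card_subtype]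
    rw [hcard, ← mul_assoc, inv_mul_cancel₀, one_mul]
    exact_mod_cast Nat.card_pos.ne'
  · simp only [dadeIsometry, dif_neg h]
    rw [S0150.indFun_apply, Finset.sum_eq_zero, mul_zero]
    intro y _
    by_cases hyL : y⁻¹ * g * y ∈ L
    · have h1 : y⁻¹ * g * y = ((⟨_, hyL⟩ : L) : G) := rfl
      rw [h1, S0150.extendByZero_coe]
      apply hαA
      intro h2
      exact h ⟨⟨_, hyL⟩, h2, y⁻¹, 1, one_mem _, by simp⟩
    · exact S0150.extendByZero_of_notMem L α hyL

/-- induced functions vanish off a normal subgroup -/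
theorem indFun_of_notMem {G : Type*} [Group G] [Fintype G] (N : Subgroup G) [hN : N.Normal]
    (θ : N → ℂ) {g : G} (hg : g ∉ N) : indFun N θ g = 0 := by
  rw [S0150.indFun_apply, Finset.sum_eq_zero, mul_zero]
  intro y _
  apply S0150.extendByZero_of_notMem
  intro h
  apply hg
  have := hN.conj_mem _ h y
  simpa [mul_assoc] using this

theorem mem_fittingHallOf_coe {G : Type*} [Group G] {L : Subgroup G} {x : L} :
    (x : G) ∈ fittingHallOf L ↔ x ∈ fittingHall L := by
  constructor
  · rintro ⟨y, hy, hxy⟩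
    have : y = x := Subtype.ext hxy
    rwa [← this]
  · intro hx
    exact ⟨x, hx, rfl⟩

/-- conjugation commutes with induction -/
theorem conjFun_indFun {G : Type*} [Group G] [Fintype G] (N : Subgroup G) (θ : N → ℂ) :
    conjFun (indFun N θ) = indFun N (conjFun θ) := by
  funext g
  show conj (indFun N θ g) = indFun N (conjFun θ) g
  rw [S0150.indFun_apply, S0150.indFun_apply, map_mul, map_sum, map_inv₀, Complex.conj_natCast]
  congr 1
  refine Finset.sum_congr rfl fun x _ => ?_
  by_cases hx : x⁻¹ * g * x ∈ N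
  · have h1 : x⁻¹ * g * x = ((⟨_, hx⟩ : N) : G) := rfl
    rw [h1, S0150.extendByZero_coe, S0150.extendByZero_coe]
    rfl
  · rw [S0150.extendByZero_of_notMem N θ hx, S0150.extendByZero_of_notMem N (conjFun θ) hx,
      map_zero]

/-- a nontrivial finite group has a nonprincipal irreducible character -/
theorem exists_irr_ne_one {G : Type*} [Group G] [Finite G] [Nontrivial G] :
    ∃ θ : G → ℂ, IsIrrCharacter G θ ∧ θ ≠ (fun _ => 1) := by
  by_contra hcon
  have h1 : ∀ θ : IrrCharacter G, θ = ⟨1, Core.isIrr_one⟩ := by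
    intro θ
    by_contra h
    exact hcon ⟨θ.1, θ.2, fun h' => h (Subtype.ext h')⟩
  have h2 : Nat.card (IrrCharacter G) = 1 := by
    rw [Nat.card_eq_one_iff_unique]
    exact ⟨⟨fun a b => by rw [h1 a, h1 b]⟩, ⟨⟨1, Core.isIrr_one⟩⟩⟩
  rw [Core.card_irr, Nat.card_eq_one_iff_unique] at h2
  obtain ⟨g, hg⟩ := exists_ne (1 : G)
  have h3 := h2.1.elim (ConjClasses.mk g) (ConjClasses.mk 1)
  rw [ConjClasses.mk_eq_mk_iff_isConj, isConj_one_left] at h3
  exact hg h3

/-- Peterfalvi (12.6), with the Dade hypothesis for `A = H \ {1}` as an assumption. -/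
theorem core {G : Type*} [Group G] [Fintype G] (hsimple : IsSimpleGroup G) (L : Subgroup G)
    [Fintype L] (hL : IsCoatom L) (hI : IsOfTypeI' L)
    (hfrob : ∀ x ∈ fittingHallOf L, x ≠ 1 →
      L ⊓ Subgroup.centralizer ({x} : Set G) ≤ fittingHallOf L)
    (A : Set G) (hAeq : ∀ x : L, (x : G) ∈ A ↔ x ∈ fittingHall L ∧ x ≠ 1)
    (hD : DadeHypothesis A L (supportR L)) :
    (∀ χ ∈ inducedIrrAbove (fittingHall L) ⊥, IsIrrCharacter L χ) ∧
      IsCoherent (inducedIrrAbove (fittingHall L) ⊥) {1}ᶜ (dadeIsometry A L (supportR L)) := by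
  classical
  obtain ⟨⟨hsolv, hodd, hKbot, hKtop, U, hUbot, hcompl, -, -⟩, hcases⟩ := hI
  set K : Subgroup L := fittingHall L with hKdef
  have hKn : K.Normal := fittingHall_normal L
  -- the Frobenius condition inside `L`
  have hC : ∀ k ∈ K, k ≠ 1 → ∀ y : L, y * k = k * y → y ∈ K := by
    intro k hk hk1 y hy
    have h1 : (k : G) ∈ fittingHallOf L := mem_fittingHallOf_coe.2 hk
    have h2 : (k : G) ≠ 1 := by simpa using hk1
    rw [← mem_fittingHallOf_coe]
    refine hfrob k h1 h2 (Subgroup.mem_inf.2 ⟨y.2, ?_⟩)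
    rw [Subgroup.mem_centralizer_iff]
    intro z hz
    rw [Set.mem_singleton_iff] at hz
    subst hz
    exact_mod_cast hy.symm
  have hfpf : ∀ u ∈ U, u ≠ 1 → ∀ k ∈ K, u * k = k * u → k = 1 := by
    intro u hu hu1 k hk huk
    by_contra hk1
    have h1 := hC k hk hk1 u huk
    have h2 : u ∈ K ⊓ U := Subgroup.mem_inf.2 ⟨h1, hu⟩
    rw [hcompl.disjoint.eq_bot] at h2
    exact hu1 (Subgroup.mem_bot.1 h2)
  have hsup : K ⊔ U = ⊤ := hcompl.sup_eq_top
  have hinf : K ⊓ U = ⊥ := hcompl.disjoint.eq_bot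
  -- irreducibility
  have hirr : ∀ χ ∈ inducedIrrAbove K ⊥, IsIrrCharacter L χ := by
    rintro _ ⟨θ, hθ, hθ1, -, rfl⟩
    exact S0171.result K U hinf hsup hfpf θ hθ hθ1
  refine ⟨hirr, ?_⟩
  set S : Set (L → ℂ) := inducedIrrAbove K ⊥ with hSdef
  set τ : (L → ℂ) → (G → ℂ) := dadeIsometry A L (supportR L) with hτdef
  have hgen : ∀ α ∈ zspan S, IsGeneralizedCharacter L α := fun α hα =>
    isGen_of_mem_zspan (fun χ hχ => Core.isIrr_isCharacter (hirr χ hχ)) hα
  have hvan : ∀ α ∈ zspanOn S {1}ᶜ, ∀ x : L, (x : G) ∉ A → α x = 0 := by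
    intro α hα x hx
    rw [hAeq] at hx
    by_cases hxK : x ∈ K
    · have hx1 : x = 1 := by
        by_contra h; exact hx ⟨hxK, h⟩
      exact hα.2 x (by simp [hx1])
    · refine zspan_vanish ?_ hα.1
      rintro _ ⟨θ, hθ, hθ1, -, rfl⟩
      exact indFun_of_notMem K θ hxK
  have hadd : ∀ α ∈ zspanOn S {1}ᶜ, ∀ β ∈ zspanOn S {1}ᶜ, τ (α + β) = τ α + τ β := fun α _ β _ =>
    dadeIsometry_add _ _ _ α β
  have hiso : IsLinearIsometryOn (zspanOn S {1}ᶜ) τ := by
    refine ⟨hadd, fun α _ n => dadeIsometry_zsmul _ _ _ n α, ?_, ?_⟩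
    · intro α hα β hβ
      exact (S1500.result A L (supportR L) hD α (isGen_isClassFunction (hgen α hα.1))
        (hvan α hα)).1 β (isGen_isClassFunction (hgen β hβ.1)) (hvan β hβ)
    · intro α hα
      exact S1501.result A L (supportR L) hD α (hgen α hα.1) (hvan α hα)
  have hτ1 : ∀ α ∈ zspanOn S {1}ᶜ, τ α 1 = 0 := fun α _ => dadeIsometry_one _ _ _ hD α
  -- conjugation
  have hconj : ∀ χ ∈ S, conjFun χ ∈ S ∧ conjFun χ ≠ χ := by
    rintro χ hχ
    obtain ⟨θ, hθ, hθ1, -, hχθ⟩ := id hχ
    constructor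
    · refine ⟨conjFun θ, Core.isIrr_conj hθ, ?_, ?_, ?_⟩
      · intro h
        apply hθ1
        funext x
        have := congrFun h x
        simp only [conjFun] at this
        have h2 := congrArg (starRingEnd ℂ) this
        simpa using h2
      · intro a ha
        have : a = 1 := by
          have h1 := Subgroup.mem_bot.1 ha
          exact_mod_cast h1
        rw [this]
      · rw [hχθ]; exact conjFun_indFun K θ
    · intro h
      have h1 := S0194.result hodd K θ hθ hθ1
      rw [← hχθ] at h1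
      change classInner (conjFun χ) χ = 0 at h1
      rw [h, Core.classInner_irr_self (hirr χ hχ)] at h1
      exact one_ne_zero h1
  have hKnt : Nontrivial K := (Subgroup.nontrivial_iff_ne_bot K).2 hKbot
  have hne : S.Nonempty := by
    obtain ⟨θ, hθ, hθ1⟩ := exists_irr_ne_one (G := K)
    refine ⟨indFun K θ, θ, hθ, hθ1, ?_, rfl⟩
    intro a ha
    have : a = 1 := by
      have h1 := Subgroup.mem_bot.1 ha
      exact_mod_cast h1
    rw [this]
  obtain ⟨R, hR⟩ := S1514.result S hne hirr hconj τ hiso hτ1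
  have heK : K ≃* fittingHallOf L := K.equivMapOfInjective L.subtype L.subtype_injective
  have hKnil : Group.IsNilpotent K :=
    (Group.isNilpotent_congr heK).2 (OddOrderLocal.FitAux.isNilpotent_fittingHallOf L)
  have hcardK : Nat.card (fittingHallOf L) = Nat.card K := (Nat.card_congr heK.toEquiv).symm
  -- the coherence criterion `S1521`
  have hcoh : ((∃ N : Subgroup L, N.Normal ∧ ⁅K, K⁆ ⊔ ⊥ < N ∧ N < K) ∨
      4 * K.index ^ 2 + 1 < (⁅K, K⁆ ⊔ ⊥).relIndex K ∨
      (¬ ∃ p m : ℕ, p.Prime ∧ (⊥ : Subgroup L).relIndex K = p ^ m) ∨ ⁅K, K⁆ ≤ ⊥ ∨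
      (∃ p m : ℕ, p.Prime ∧ (⊥ : Subgroup L).relIndex K = p ^ m ∧ K.index ∣ p - 1)) →
      IsCoherent S {1}ᶜ τ := by
    intro hgood
    refine S1521.result K ?_ τ R hR hodd ⊥ bot_le ?_ (⁅K, K⁆ ⊔ ⊥) rfl ?_ ?_ ?_ hgood
    · infer_instance
    · infer_instance
    · rw [sup_bot_eq]
      exact Group.IsSolvable.commutator_lt_of_ne_bot hKbot
    · exact lt_top_iff_ne_top.2 hKtop
    · intro k hk hk1 x hx
      rw [sup_bot_eq] at hk1 hx
      by_contra hxK
      have hDK : ⁅K, K⁆ ≤ K := Subgroup.commutator_le_left K K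
      have hDn : (⁅K, K⁆ : Subgroup L).Normal := Subgroup.commutator_normal K K
      have hinj : ∀ a ∈ K, ∀ b ∈ K, x * a * x⁻¹ * a⁻¹ = x * b * x⁻¹ * b⁻¹ → a = b := by
        intro a ha b hb hab
        by_contra hne
        have h1 : b⁻¹ * a ∈ K := mul_mem (inv_mem hb) ha
        have h2 : b⁻¹ * a ≠ 1 := fun h => hne (by
          have := congrArg (fun z => b * z) h
          simpa using this)
        have h3 : x * (b⁻¹ * a) = (b⁻¹ * a) * x := by
          have h4 : a * x⁻¹ * a⁻¹ = b * x⁻¹ * b⁻¹ := by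
            have := congrArg (fun z => x⁻¹ * z) hab
            simpa [mul_assoc] using this
          have h5 : a * x * a⁻¹ = b * x * b⁻¹ := by
            have := congrArg (fun z => z⁻¹) h4
            simpa [mul_assoc] using this
          calc x * (b⁻¹ * a) = b⁻¹ * (b * x * b⁻¹) * a := by group
            _ = b⁻¹ * (a * x * a⁻¹) * a := by rw [h5]
            _ = (b⁻¹ * a) * x := by group
        exact hxK (hC _ h1 h2 x h3)
      let f : (⁅K, K⁆ : Subgroup L) → (⁅K, K⁆ : Subgroup L) := fun d =>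
        ⟨x * d * x⁻¹ * (d : L)⁻¹, mul_mem (hDn.conj_mem d d.2 x) (inv_mem d.2)⟩
      have hf : Function.Injective f := by
        intro a b hab
        have h1 := congrArg Subtype.val hab
        exact Subtype.ext (hinj a (hDK a.2) b (hDK b.2) h1)
      obtain ⟨d, hd⟩ := (Finite.injective_iff_surjective.1 hf) ⟨_, hx⟩
      have h1 := congrArg Subtype.val hd
      have h2 := hinj d (hDK d.2) k hk h1
      exact hk1 (h2 ▸ d.2)
  rcases hcases with hTI | hab | ⟨hexp, -⟩
  · -- the trivial intersection case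
    have hHbot : fittingHallOf L ≠ ⊥ := by
      intro h
      apply hKbot
      rw [← Subgroup.card_eq_one, ← hcardK, h, Subgroup.card_bot]
    have hLnorm : L ≤ Subgroup.normalizer (fittingHallOf L : Set G) :=
      OddOrderLocal.FitAux.le_normalizer_fittingHallOf L
    have hN : Subgroup.normalizer (fittingHallOf L : Set G) = L := by
      rcases hL.le_iff.1 hLnorm with h | h
      · exfalso
        have hnor : (fittingHallOf L).Normal := by
          rw [← Subgroup.normalizer_eq_top_iff]; exact h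
        rcases hnor.eq_bot_or_eq_top with h' | h'
        · exact hHbot h'
        · have h1 := OddOrderLocal.FitAux.fittingHallOf_le L
          rw [h', top_le_iff] at h1
          exact hL.1 h1
      · exact h
    have hinf' : fittingHallOf L ⊓ U.map L.subtype = ⊥ := by
      show K.map L.subtype ⊓ U.map L.subtype = ⊥
      rw [← Subgroup.map_inf_eq _ _ _ L.subtype_injective, hinf, Subgroup.map_bot]
    have hsup' : fittingHallOf L ⊔ U.map L.subtype = L := by
      show K.map L.subtype ⊔ U.map L.subtype = L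
      rw [← Subgroup.map_sup, hsup, ← MonoidHom.range_eq_map, Subgroup.range_subtype]
    have hcohTI := S1524.result (fittingHallOf L) L (U.map L.subtype) hodd
      (OddOrderLocal.FitAux.fittingHallOf_le L) (Subgroup.map_subtype_le U) hHbot
      (by
        intro h
        exact hUbot ((Subgroup.map_eq_bot_iff_of_injective U L.subtype_injective).1 h))
      (OddOrderLocal.FitAux.isNilpotent_fittingHallOf L)
      (fun x hx h hh => (Subgroup.mem_normalizer_iff.1 (hLnorm hx) h).1 hh) hinf' hsup'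
      (by
        rintro _ ⟨w, hw, rfl⟩ hw1 h hh hwh
        obtain ⟨k, hk, rfl⟩ := hh
        have h1 := hfpf w hw (fun h => hw1 (by rw [h]; rfl)) k hk (Subtype.ext hwh)
        rw [h1]; rfl)
      hTI hN
    have hsub : (fittingHallOf L).subgroupOf L = K :=
      Subgroup.comap_map_eq_self_of_injective L.subtype_injective K
    rw [hsub] at hcohTI
    have hmemA : ∀ a ∈ A, a ∈ fittingHallOf L ∧ a ≠ 1 := by
      intro a ha
      have haL : a ∈ L := hD.subset ha
      obtain ⟨h1, h2⟩ := (hAeq ⟨a, haL⟩).1 ha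
      exact ⟨⟨_, h1, rfl⟩, fun h => h2 (Subtype.ext h)⟩
    have hNL : ∀ a ∈ A, ∀ g : G, g * a * g⁻¹ ∈ A → g ∈ L := by
      intro a ha g hg
      by_contra hgL
      rw [← hN] at hgL
      exact (hmemA a ha).2 (hTI g hgL a (hmemA a ha).1 (hmemA _ hg).1)
    have hR' : ∀ a ∈ A, supportR L a = ⊥ := by
      intro a ha
      unfold supportR
      rw [dif_neg]
      rintro ⟨h, -⟩
      apply h
      intro c hc
      apply hNL a ha c
      have : c * a * c⁻¹ = a := by
        rw [Subgroup.mem_centralizer_iff] at hc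
        rw [← hc a rfl]; group
      rw [this]; exact ha
    have hind : ∀ α ∈ zspanOn S {1}ᶜ, indFun L α = τ α := by
      intro α hα
      exact indFun_eq_dade L (A) (supportR L) hR' hNL α
        (isGen_isClassFunction (hgen α hα.1)) (hvan α hα)
    obtain ⟨h1, τ₁, h2, h3⟩ := hcohTI
    exact ⟨h1, τ₁, h2, fun α hα => (h3 α hα).trans (hind α hα)⟩
  · apply hcoh
    right; right; right; left
    obtain ⟨hab, -, -⟩ := hab
    rw [le_bot_iff, Subgroup.commutator_eq_bot_iff_le_centralizer]
    intro a ha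
    rw [Subgroup.mem_centralizer_iff]
    intro b hb
    have h1 := hab.is_comm.comm (heK ⟨b, hb⟩) (heK ⟨a, ha⟩)
    rw [← map_mul, ← map_mul] at h1
    have h2 := congrArg Subtype.val (heK.injective h1)
    exact h2
  · apply hcoh
    right; right
    by_cases hpp : ∃ p m : ℕ, p.Prime ∧ (⊥ : Subgroup L).relIndex K = p ^ m
    · right; right
      obtain ⟨p, m, hp, hpm⟩ := hpp
      refine ⟨p, m, hp, hpm, ?_⟩
      rw [Subgroup.relIndex_bot_left] at hpm
      have hm : m ≠ 0 := by
        rintro rfl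
        rw [pow_zero, Subgroup.card_eq_one] at hpm
        exact hKbot hpm
      have hdvd : p ∣ Nat.card (fittingHallOf L) := by
        rw [hcardK, hpm]; exact dvd_pow_self p hm
      have hexp' := hexp p hp hdvd
      have hZ : IsZGroup U := by
        rw [isZGroup_iff]
        intro q hq P
        have : Fact q.Prime := ⟨hq⟩
        have hfpf' : ∀ h ∈ U, h ≠ 1 → K ⊓ Subgroup.centralizer {h} = ⊥ := by
          intro h hh hh1
          rw [eq_bot_iff]
          intro k hk
          obtain ⟨hk1, hk2⟩ := Subgroup.mem_inf.1 hk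
          rw [Subgroup.mem_centralizer_iff] at hk2
          exact Subgroup.mem_bot.2 (hfpf h hh hh1 k hk1 (hk2 h rfl))
        rcases S0040.result K U hcompl hKbot hfpf' q P with h | ⟨n, ⟨e⟩⟩
        · exact h
        · exfalso
          have h1 : Nat.card P = 4 * 2 ^ n := by
            have : NeZero (2 ^ n) := ⟨by positivity⟩
            rw [Nat.card_congr e.toEquiv, Nat.card_eq_fintype_card, QuaternionGroup.card]
          have h2 : Nat.card P ∣ Nat.card L :=
            (Subgroup.card_subgroup_dvd_card (P : Subgroup U)).trans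
              (Subgroup.card_subgroup_dvd_card U)
          rw [h1] at h2
          have h3 : 2 ∣ Nat.card L := ((by norm_num : 2 ∣ 4).mul_right _).trans h2
          exact (Nat.not_even_iff_odd.2 hodd) (even_iff_two_dvd.2 h3)
      have hZ' : IsZGroup (L ⧸ K) :=
        IsZGroup.of_injective (f := (hcompl.symm.QuotientMulEquiv).toMonoidHom)
          (hcompl.symm.QuotientMulEquiv).injective
      have h1 : Monoid.exponent (L ⧸ K) = K.index := by
        rw [IsZGroup.exponent_eq_card, Subgroup.index_eq_card]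
      rw [← h1]
      exact hexp'
    · left; exact hpp

end Cfsg.Agent.OddOrderCharacters.TypeOneCoherence
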